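import Groth.Agent.DCohLib.TwoThree

/-!
# Direct summands of pseudo-coherent objects
-/

set_option autoImplicit false
set_option linter.style.haveILetI false

universe u

open CategoryTheory CategoryTheory.Limits AlgebraicGeometry TopologicalSpace Opposite
open CategoryTheory.Pretriangulated

attribute [local instance] HasDerivedCategory.standard

noncomputable section

namespace Groth.Agent.DCohLib

variable {X : Scheme.{u}}

theorem pcOn_of_aboveZero {m : ℤ} {K : DCoh.D X} (h : AboveZero m K) : PCOn m K := by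
  let Z : CochainComplex X.Modules ℤ := HomologicalComplex.zero
  have hZ0 : IsZero Z := HomologicalComplex.isZero_zero
  have hZ : IsZero (DerivedCategory.Q.obj Z) := DerivedCategory.Q.map_isZero hZ0
  refine ⟨Z, 0, isStrictlyPerfect_zero _ fun i =>
    (HomologicalComplex.eval X.Modules _ i).map_isZero hZ0, (mIso_iff m _).2 ⟨fun i hi => ?_, ?_⟩⟩
  · exact ((aboveZero_zero m hZ) i hi.le).isIso (h i hi.le) _
  · haveI := ((aboveZero_zero m hZ) m le_rfl).isIso (h m le_rfl)
      ((DerivedCategory.homologyFunctor X.Modules m).map (0 : _ ⟶ K))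
    infer_instance

theorem exists_open_aboveZero {m : ℤ} {K : DCoh.D X} (h : DCoh.IsPseudoCoherentD m K) (x : X) :
    ∃ (V : X.Opens) (n : ℤ), x ∈ V ∧ AboveZero n ((DCoh.restrictD V.ι).obj K) := by
  obtain ⟨V, hx, E, α, ⟨⟨a, b, hab⟩, -⟩, hα⟩ := (isPseudoCoherentD_iff m K).1 h x
  refine ⟨V, max (b + 1) m, hx, aboveZero_of_mIso_zero α (hα.mono (le_max_right _ _)) fun i hi => ?_⟩
  exact ((HomologicalComplex.exactAt_iff_isZero_homology _ _).1
    (ShortComplex.exact_of_isZero_X₂ _ (hab i (Or.inr (by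
      have := le_max_left (b + 1) m
      omega))))).of_iso ((DerivedCategory.homologyFunctorFactors _ i).app E)

theorem aboveZero_of_retract {n : ℤ} {K L : DCoh.D X} (i : K ⟶ L) (p : L ⟶ K) (h : i ≫ p = 𝟙 K)
    (hL : AboveZero n L) : AboveZero n K := fun j hj => by
  rw [IsZero.iff_id_eq_zero, ← CategoryTheory.Functor.map_id, ← h, Functor.map_comp,
    (hL j hj).eq_of_tgt ((DerivedCategory.homologyFunctor _ j).map i) 0, zero_comp]

theorem isPseudoCoherentD_summands_aux {K L : DCoh.D X} {n m : ℤ} [HasBinaryBiproduct K L]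
    (hKL : DCoh.IsPseudoCoherentD m (K ⊞ L)) (hn : AboveZero n (K ⊞ L)) :
    ∀ (d : ℕ) (k : ℤ), m ≤ k → n ≤ k + d →
      DCoh.IsPseudoCoherentD k K ∧ DCoh.IsPseudoCoherentD k L := by
  intro d
  induction d with
  | zero =>
    intro k _ hk
    have base : ∀ M : DCoh.D X, AboveZero n M → DCoh.IsPseudoCoherentD k M := fun M hM =>
      (isPseudoCoherentD_iff k M).2 fun x => ⟨⊤, trivial,
        pcOn_of_aboveZero ((hM.mono (by simpa using hk)).restrict _)⟩
    exact ⟨base K (aboveZero_of_retract biprod.inl biprod.fst biprod.inl_fst hn),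
      base L (aboveZero_of_retract biprod.inr biprod.snd biprod.inr_snd hn)⟩
  | succ d ih =>
    intro k hmk hk
    obtain ⟨hK, hL⟩ := ih (k + 1) (by omega) (by omega)
    have hKL' := isPseudoCoherentD_mono hmk hKL
    refine ⟨?_, isPseudoCoherentD_obj₃ _ (binaryBiproductTriangle_distinguished K L) hK hKL'⟩
    haveI : HasBinaryBiproduct L K := inferInstance
    exact isPseudoCoherentD_obj₃ _ (binaryBiproductTriangle_distinguished L K) hL
      (isPseudoCoherentD_iso (biprod.braiding K L) hKL')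

/-- Direct summands of pseudo-coherent objects are pseudo-coherent. -/
theorem isPseudoCoherentD_summands {K L : DCoh.D X} {m : ℤ} [HasBinaryBiproduct K L]
    (h : DCoh.IsPseudoCoherentD m (K ⊞ L)) :
    DCoh.IsPseudoCoherentD m K ∧ DCoh.IsPseudoCoherentD m L := by
  have key : ∀ x : X, ∃ (U : Scheme.{u}) (j : U ⟶ X) (_ : IsOpenImmersion j) (y : U), j y = x ∧
      DCoh.IsPseudoCoherentD m ((DCoh.restrictD j).obj K) ∧
        DCoh.IsPseudoCoherentD m ((DCoh.restrictD j).obj L) := fun x => by
    obtain ⟨V, n, hx, hn⟩ := exists_open_aboveZero h x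
    let R := DCoh.restrictD V.ι
    haveI : PreservesBinaryBiproducts R := preservesBinaryBiproducts_of_preservesBiproducts R
    have e : R.obj (K ⊞ L) ≅ R.obj K ⊞ R.obj L := R.mapBiprod K L
    exact ⟨V, V.ι, inferInstance, ⟨x, hx⟩, rfl,
      isPseudoCoherentD_summands_aux (isPseudoCoherentD_iso e (isPseudoCoherentD_restrict V.ι h))
        (hn.of_iso e.symm) (n - m).toNat m le_rfl (by omega)⟩
  constructor <;> refine isPseudoCoherentD_of_local fun x => ?_
  · obtain ⟨U, j, hj, y, hy, h1, -⟩ := key x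
    exact ⟨U, j, hj, y, hy, h1⟩
  · obtain ⟨U, j, hj, y, hy, -, h2⟩ := key x
    exact ⟨U, j, hj, y, hy, h2⟩

end Groth.Agent.DCohLib
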