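import Groth.Agent.DCohLib.FlatPerf
import Groth.Agent.DCohLib.Summand
import Groth.Prelude.Def_DTor2

/-!
# Perfect = pseudo-coherent of locally finite tor dimension
-/

set_option autoImplicit false
set_option linter.style.haveILetI false

universe u

open CategoryTheory CategoryTheory.Limits AlgebraicGeometry TopologicalSpace Opposite

attribute [local instance] HasDerivedCategory.standard

noncomputable section

namespace Groth.Agent.DCohLib

variable {X U : Scheme.{u}}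

theorem isFlat_restrict (j : U ⟶ X) [IsOpenImmersion j] {M : X.Modules} (h : FlatMod.IsFlat M) :
    FlatMod.IsFlat ((Scheme.Modules.restrictFunctor j).obj M) :=
  isFlat_congr ((Scheme.Modules.restrictFunctorIsoPullback j).app M).symm (isFlat_pullback j M h)

theorem hasFlatAmplitudeIn_restrict (j : U ⟶ X) [IsOpenImmersion j] {a b : ℤ} {K : DCoh.D X}
    (h : DCoh.HasFlatAmplitudeIn a b K) : DCoh.HasFlatAmplitudeIn a b ((DCoh.restrictD j).obj K) := by
  obtain ⟨E, hE, hfl, ⟨e⟩⟩ := h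
  exact ⟨(resCx j).obj E, fun i hi => isZero_resCx j (hE i hi), fun i => isFlat_restrict j (hfl i),
    ⟨(restrictDQ j E).symm ≪≫ (DCoh.restrictD j).mapIso e⟩⟩

theorem hasFlatAmplitudeIn_mono {a b b' : ℤ} (hb : b ≤ b') {K : DCoh.D X}
    (h : DCoh.HasFlatAmplitudeIn a b K) : DCoh.HasFlatAmplitudeIn a b' K := by
  obtain ⟨E, hE, hfl, he⟩ := h
  exact ⟨E, fun i hi => hE i (by omega), hfl, he⟩

theorem isPerfect_of_perfOn {K : DCoh.D X} (h : PerfOn K) : DCoh.IsPerfect K :=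
  (isPerfect_iff K).2 fun _ => ⟨⊤, trivial, h.restrict _⟩

/-- Pseudo-coherent and of finite flat amplitude implies perfect. -/
theorem isPerfect_of_flatAmplitude {K : DCoh.D X} (a b : ℤ) (h1 : DCoh.HasFlatAmplitudeIn a b K)
    (h2 : DCoh.IsPseudoCoherentD (a - 1) K) : DCoh.IsPerfect K := by
  refine isPerfect_of_local fun x => ?_
  obtain ⟨V, hx, hV⟩ := (isPseudoCoherentD_iff _ _).1 h2 x
  obtain ⟨E, hE, hfl, ⟨e⟩⟩ := hasFlatAmplitudeIn_restrict V.ι h1
  obtain ⟨G, α, hG, hG0, hα⟩ := hV.exists_brutal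
  obtain ⟨W, hW, β, hβ⟩ := exists_open_represent hG (α ≫ e.inv) (⟨x, hx⟩ : V)
  refine ⟨W, W.ι ≫ V.ι, inferInstance, ⟨⟨x, hx⟩, hW⟩, rfl, isPerfect_of_perfOn ?_⟩
  have hQ : DerivedCategory.Q.map β = (restrictDQ W.ι G).inv ≫
      (DCoh.restrictD W.ι).map (α ≫ e.inv) ≫ (restrictDQ W.ι E).hom := by
    rw [hβ]
    simp [restrictDQ]
  have hm : MIso (a - 1) (DerivedCategory.Q.map β) := by
    rw [hQ]
    exact (mIso_of_isIso _ _).comp
      (((hα.comp (mIso_of_isIso _ e.inv)).restrict W.ι).comp (mIso_of_isIso _ _))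
  exact (perfOn_of_approx β (isStrictlyPerfect_restrict W.ι hG) a b
    (fun i hi => isZero_resCx W.ι (hG0 i hi)) (fun i hi => isZero_resCx W.ι (hE i hi))
    (fun i => isFlat_restrict W.ι (hfl i)) hm).of_iso
    ((restrictDQ W.ι E).symm ≪≫ (DCoh.restrictD W.ι).mapIso e ≪≫
      ((restrictDComp W.ι V.ι).app K).symm)

theorem locHasFiniteTorDim_iff (K : DCoh.D X) : DCoh.LocHasFiniteTorDim K ↔
    ∀ x : X, ∃ (V : X.Opens) (a b : ℤ), x ∈ V ∧
      DCoh.HasFlatAmplitudeIn a b ((DCoh.restrictD V.ι).obj K) := by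
  refine forall_congr' fun x => exists_congr fun V => exists_congr fun a => exists_congr fun b =>
    and_congr_right fun _ => ?_
  constructor
  · intro h
    obtain ⟨E, hE, hfl, ⟨e⟩⟩ := h _ ⟨DerivedCategory.Q.objObjPreimageIso K⟩
    exact ⟨E, hE, hfl, ⟨e ≪≫ (restrictDQ V.ι _).symm ≪≫
      (DCoh.restrictD V.ι).mapIso (DerivedCategory.Q.objObjPreimageIso K)⟩⟩
  · rintro ⟨E, hE, hfl, ⟨e⟩⟩ F ⟨i⟩
    exact ⟨E, hE, hfl, ⟨e ≪≫ (DCoh.restrictD V.ι).mapIso i.symm ≪≫ restrictDQ V.ι F⟩⟩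

theorem isPerfect_iff_pc (K : DCoh.D X) : DCoh.IsPerfect K ↔
    (∀ m : ℤ, DCoh.IsPseudoCoherentD m K) ∧ DCoh.LocHasFiniteTorDim K := by
  constructor
  · intro h
    rw [isPerfect_iff] at h
    refine ⟨fun m => (isPseudoCoherentD_iff m K).2 fun x => ?_, (locHasFiniteTorDim_iff K).2 fun x => ?_⟩
    · obtain ⟨V, hx, hV⟩ := h x
      exact ⟨V, hx, hV.pcOn m⟩
    · obtain ⟨V, hx, E, ⟨⟨a, b, hab⟩, hEf⟩, he⟩ := h x
      exact ⟨V, a, b, hx, E, hab, fun i => PullbackMod.isFlat_of_isFinLocFree _ (hEf i), he⟩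
  · rintro ⟨hpc, htd⟩
    refine isPerfect_of_local fun x => ?_
    obtain ⟨V, a, b, hx, hV⟩ := (locHasFiniteTorDim_iff K).1 htd x
    exact ⟨V, V.ι, inferInstance, ⟨x, hx⟩, rfl,
      isPerfect_of_flatAmplitude a b hV (isPseudoCoherentD_restrict V.ι (hpc _))⟩

theorem locHasFiniteTorDim_of_retract {K L : DCoh.D X} (i : K ⟶ L) (p : L ⟶ K) (h : i ≫ p = 𝟙 K)
    (hL : DCoh.LocHasFiniteTorDim L) : DCoh.LocHasFiniteTorDim K := by
  rw [locHasFiniteTorDim_iff] at hL ⊢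
  intro x
  obtain ⟨V, a, b, hx, hV⟩ := hL x
  have hT := hasTorAmplitudeIn_of_hasFlatAmplitudeIn (hasFlatAmplitudeIn_mono (le_max_right a b) hV)
  refine ⟨V, a, max a b, hx, hasFlatAmplitudeIn_of_hasTorAmplitudeIn (le_max_left a b) ?_⟩
  intro F _ n hn
  let R := DCoh.restrictD V.ι
  let T := DCoh.LTensorMod F
  have h1 : T.map (R.map i) ≫ T.map (R.map p) = 𝟙 _ := by
    rw [← T.map_comp, ← R.map_comp, h, R.map_id, T.map_id]
  rw [IsZero.iff_id_eq_zero, ← CategoryTheory.Functor.map_id, ← h1, Functor.map_comp,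
    (hT F n hn).eq_of_tgt ((DerivedCategory.homologyFunctor _ n).map (T.map (R.map i))) 0, zero_comp]

theorem isPerfect_summands {K L : DCoh.D X} [HasBinaryBiproduct K L] (h : DCoh.IsPerfect (K ⊞ L)) :
    DCoh.IsPerfect K ∧ DCoh.IsPerfect L := by
  obtain ⟨hpc, htd⟩ := (isPerfect_iff_pc _).1 h
  exact ⟨(isPerfect_iff_pc K).2 ⟨fun m => (isPseudoCoherentD_summands (hpc m)).1,
      locHasFiniteTorDim_of_retract biprod.inl biprod.fst biprod.inl_fst htd⟩,
    (isPerfect_iff_pc L).2 ⟨fun m => (isPseudoCoherentD_summands (hpc m)).2,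
      locHasFiniteTorDim_of_retract biprod.inr biprod.snd biprod.inr_snd htd⟩⟩

end Groth.Agent.DCohLib
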