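import Groth.Agent.DCohLib.FlatCycles
import Groth.Agent.KFlat.BddResolution

/-!
# Flat cokernels detected by tensor products
-/

set_option linter.style.haveILetI false
set_option linter.unusedSectionVars false

universe u

open CategoryTheory Limits

noncomputable section

namespace Groth.Agent.DCohLib

open Groth.Agent.ModTensor

variable {C : Type u} [SmallCategory C] {J : GrothendieckTopology C} (O : Sheaf J CommRingCat.{u})

theorem isFlat_cokernel_of_exact (E : CochainComplex (ModSite.Mod O) ℤ) (a : ℤ)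
    (hfl : ModSite.IsFlat (E.X a))
    (h : ∀ G : ModSite.Mod O,
      ((((ModSite.tensorBi O).flip.obj G).mapHomologicalComplex (ComplexShape.up ℤ)).obj E).ExactAt (a - 1)) :
    ModSite.IsFlat (cokernel (E.d (a - 1) a)) := by
  refine (isFlat_iff_preservesMono O _).2 fun {A B} f _ => ?_
  let t : ModSite.Mod O → ModSite.Mod O ⥤ ModSite.Mod O := fun M => (ModSite.tensorBi O).obj M
  let m : ∀ (N : ModSite.Mod O) {A B : ModSite.Mod O}, (A ⟶ B) → (tens O A N ⟶ tens O B N) :=
    fun N _ _ f => ((ModSite.tensorBi O).map f).app N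
  let g : B ⟶ cokernel f := cokernel.π f
  let C' := cokernel f
  let p : E.X a ⟶ cokernel (E.d (a - 1) a) := cokernel.π _
  let d := E.d (a - 1) a
  let d' := E.d (a - 2) (a - 1)
  have hex : ((E.sc' (a - 2) (a - 1) a).map (t C')).Exact :=
    ShortComplex.exact_of_iso ((E.sc' (a - 2) (a - 1) a).mapNatIso (tensorSymm O C'))
      ((HomologicalComplex.exactAt_iff' _ (a - 2) (a - 1) a (by simp; omega) (by simp)).1 (h C'))
  let S : ShortComplex (ModSite.Mod O) := ShortComplex.mk f g (cokernel.condition f)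
  have hS : S.Exact := ShortComplex.exact_of_g_is_cokernel _ (cokernelIsCokernel f)
  have hcol : (S.map ((ModSite.tensorBi O).flip.obj (E.X (a - 1)))).Exact :=
    hS.map_of_epi_of_preservesCokernel _ (inferInstanceAs (Epi (cokernel.π f))) inferInstance
  haveI : Epi (m (E.X (a - 2)) g) :=
    inferInstanceAs (Epi (((ModSite.tensorBi O).flip.obj (E.X (a - 2))).map (cokernel.π f)))
  haveI hmono : Mono (m (E.X a) f) := (isFlat_iff_preservesMono O _).1 hfl f
  haveI : PreservesFiniteColimits (t A) := preservesFiniteColimits_of_natIso (tensorSymm O A)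
  haveI : Epi ((t A).map p) := inferInstanceAs (Epi ((t A).map (cokernel.π _)))
  have hrow : ((ShortComplex.mk d p (cokernel.condition d)).map (t B)).Exact := by
    haveI : PreservesFiniteColimits (t B) := preservesFiniteColimits_of_natIso (tensorSymm O B)
    exact (ShortComplex.exact_of_g_is_cokernel _ (cokernelIsCokernel d)).map_of_epi_of_preservesCokernel
      (t B) (inferInstanceAs (Epi (cokernel.π d))) inferInstance
  show Mono (m (cokernel (E.d (a - 1) a)) f)
  refine Preadditive.mono_of_cancel_zero _ fun {W} x hx => ?_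
  obtain ⟨W₁, π₁, _, y, hy⟩ := surjective_up_to_refinements_of_epi ((t A).map p) x
  obtain ⟨W₂, π₂, _, n, hn⟩ := hrow.exact_up_to_refinements (y ≫ m (E.X a) f) (by
    show (y ≫ m (E.X a) f) ≫ (t B).map p = 0
    rw [Category.assoc, show m (E.X a) f ≫ (t B).map p = (t A).map p ≫ m _ f from tensor_exchange O f p,
      ← reassoc_of% hy, hx, comp_zero])
  change W₂ ⟶ tens O B (E.X (a - 1)) at n
  change π₂ ≫ y ≫ m (E.X a) f = n ≫ (t B).map d at hn
  have hfg : m (E.X a) f ≫ m (E.X a) g = 0 := by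
    show (((ModSite.tensorBi O).flip.obj (E.X a))).map f ≫ ((ModSite.tensorBi O).flip.obj (E.X a)).map g = 0
    rw [← Functor.map_comp, cokernel.condition, Functor.map_zero]
  obtain ⟨W₃, π₃, _, k, hk⟩ := hex.exact_up_to_refinements (n ≫ m (E.X (a - 1)) g) (by
    show (n ≫ m (E.X (a - 1)) g) ≫ (t C').map d = 0
    rw [Category.assoc, show m (E.X (a - 1)) g ≫ (t C').map d = (t B).map d ≫ m (E.X a) g from
      tensor_exchange O g d, ← reassoc_of% hn, hfg, comp_zero, comp_zero])
  change W₃ ⟶ tens O C' (E.X (a - 2)) at k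
  change π₃ ≫ n ≫ m (E.X (a - 1)) g = k ≫ (t C').map d' at hk
  obtain ⟨W₄, π₄, _, k', hk'⟩ := surjective_up_to_refinements_of_epi (m (E.X (a - 2)) g) k
  obtain ⟨W₅, π₅, _, n', hn'⟩ := hcol.exact_up_to_refinements (π₄ ≫ π₃ ≫ n - k' ≫ (t B).map d') (by
    show (π₄ ≫ π₃ ≫ n - k' ≫ (t B).map d') ≫ m (E.X (a - 1)) g = 0
    rw [Preadditive.sub_comp, Category.assoc, Category.assoc, Category.assoc, hk,
      show (t B).map d' ≫ m (E.X (a - 1)) g = m (E.X (a - 2)) g ≫ (t C').map d' from
        (tensor_exchange O g d').symm, reassoc_of% hk', sub_self])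
  change W₅ ⟶ tens O A (E.X (a - 1)) at n'
  change π₅ ≫ (π₄ ≫ π₃ ≫ n - k' ≫ (t B).map d') = n' ≫ m (E.X (a - 1)) f at hn'
  have hdd : (t B).map d' ≫ (t B).map d = 0 := by
    rw [← Functor.map_comp, E.d_comp_d, Functor.map_zero]
  have hyn : n' ≫ (t A).map d = π₅ ≫ π₄ ≫ π₃ ≫ π₂ ≫ y := by
    rw [← cancel_mono (m (E.X a) f), Category.assoc,
      show (t A).map d ≫ m (E.X a) f = m (E.X (a - 1)) f ≫ (t B).map d from (tensor_exchange O f d).symm,
      ← reassoc_of% hn']
    simp only [Preadditive.sub_comp, Preadditive.comp_sub, Category.assoc, hdd, comp_zero, sub_zero, ← hn]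
  rw [← cancel_epi π₁, ← cancel_epi π₂, ← cancel_epi π₃, ← cancel_epi π₄, ← cancel_epi π₅, hy,
    ← reassoc_of% hyn, ← Functor.map_comp, cokernel.condition, Functor.map_zero]
  simp

/-- Flat modules form a class from which bounded above resolutions can be built. -/
theorem resClassFlat : Groth.Agent.KFlat.ResClass (fun M : ModSite.Mod O => ModSite.IsFlat M) where
  iso e hM := (Groth.Agent.KFlat.flatClassMod O).iso e hM
  zero hM := (Groth.Agent.KFlat.flatClassMod O).zero hM
  biprod hM hM' := (Groth.Agent.KFlat.flatClassMod O).biprod hM hM'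
  sum Y hY := by
    haveI : HasFiniteBiproducts (ModSite.Mod O) := Abelian.hasFiniteBiproducts
    exact isFlat_of_isColimit O (Discrete.functor Y) (fun i => hY i.as) _ (colimit.isColimit _)
  cover X := exists_flat_cover O X

theorem exists_bdd_flat_resolution (G : CochainComplex (ModSite.Mod O) ℤ) (b : ℤ)
    (hG : ∀ n, b < n → IsZero (G.X n)) :
    ∃ (N : CochainComplex (ModSite.Mod O) ℤ) (c : N ⟶ G), QuasiIso c ∧ (∀ n, ModSite.IsFlat (N.X n)) ∧
      ∀ n, b < n → IsZero (N.X n) := by
  obtain ⟨Z, hZ⟩ : ∃ Z : CochainComplex (ModSite.Mod O) ℤ, IsZero Z := HasZeroObject.zero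
  have hZX : ∀ i, IsZero (Z.X i) := fun i =>
    (HomologicalComplex.eval (ModSite.Mod O) (ComplexShape.up ℤ) i).map_isZero hZ
  obtain ⟨N, β, c, hc, -, hβ, hN⟩ := Groth.Agent.KFlat.exists_split_factor (resClassFlat O) (0 : Z ⟶ G) b
    (fun i _ => hZX i) hG
  exact ⟨N, c, hc, fun n => Groth.Agent.KFlat.SplitInj.source (resClassFlat O).iso (resClassFlat O).biprod
    (hβ n) ((resClassFlat O).zero (hZX n)), hN⟩

end Groth.Agent.DCohLib
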