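import Groth.Agent.DCohLib.TriRes
import Groth.Agent.DCohLib.FlatCoker

/-!
# Tor amplitude and flat amplitude
-/

set_option autoImplicit false
set_option linter.style.haveILetI false

universe u

open CategoryTheory Limits AlgebraicGeometry

attribute [local instance] HasDerivedCategory.standard

noncomputable section

namespace Groth.Agent.DCohLib

variable {X : Scheme.{u}}

theorem isFlat_congr {M N : X.Modules} (e : M ≅ N) (h : FlatMod.IsFlat M) : FlatMod.IsFlat N :=
  (isFlat_iff N).2 ((Groth.Agent.KFlat.flatClassMod X.sheaf).iso e ((isFlat_iff M).1 h))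

theorem exactAt_tensor_of_torAmplitude {E : CochainComplex X.Modules ℤ} (hE : DCoh.IsKFlat E) {a b : ℤ}
    (h : DCoh.HasTorAmplitudeIn a b (DCoh.toD X E)) (G : X.Modules) (i : ℤ) (hi : i < a ∨ b < i) :
    (((DCoh.tensorRightMod G).mapHomologicalComplex (ComplexShape.up ℤ)).obj E).ExactAt i := by
  rw [HomologicalComplex.exactAt_iff_isZero_homology]
  exact (h G i hi).of_iso (((DerivedCategory.homologyFunctorFactors X.Modules i).app _).symm ≪≫
    (DerivedCategory.homologyFunctor X.Modules i).mapIso (lTensorModIso G E hE).symm)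

theorem exactAt_of_torAmplitude {E : CochainComplex X.Modules ℤ} (hE : DCoh.IsKFlat E) {a b : ℤ}
    (h : DCoh.HasTorAmplitudeIn a b (DCoh.toD X E)) (i : ℤ) (hi : i < a ∨ b < i) : E.ExactAt i := by
  refine (exactAt_tensor_of_torAmplitude hE h (ModSite.unit X.sheaf : X.Modules) i hi).of_iso ?_
  exact HomologicalComplex.Hom.isoOfComponents
    (fun n => (Groth.Agent.ModTensor.tensorUnitRight X.sheaf).app (E.X n))
    (fun n n' _ => ((Groth.Agent.ModTensor.tensorUnitRight X.sheaf).hom.naturality (E.d n n')).symm)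

theorem isFlat_cokernel_of_torAmplitude {E : CochainComplex X.Modules ℤ} (hE : DCoh.IsKFlat E)
    (hfl : ∀ i, FlatMod.IsFlat (E.X i)) {a b : ℤ} (h : DCoh.HasTorAmplitudeIn a b (DCoh.toD X E)) :
    FlatMod.IsFlat (cokernel (E.d (a - 1) a)) :=
  (isFlat_iff _).2 (isFlat_cokernel_of_exact X.sheaf E a ((isFlat_iff _).1 (hfl a))
    fun G => exactAt_tensor_of_torAmplitude hE h G (a - 1) (Or.inl (by omega)))

theorem hasTorAmplitudeIn_congr {K L : DCoh.D X} (e : K ≅ L) {a b : ℤ}
    (h : DCoh.HasTorAmplitudeIn a b K) : DCoh.HasTorAmplitudeIn a b L := fun F _ i hi =>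
  (h F i hi).of_iso ((DerivedCategory.homologyFunctor X.Modules i).mapIso ((DCoh.LTensorMod F).mapIso e.symm))

theorem hasFlatAmplitudeIn_of_hasTorAmplitudeIn {K : DCoh.D X} {a b : ℤ} (hab : a ≤ b)
    (h : DCoh.HasTorAmplitudeIn a b K) : DCoh.HasFlatAmplitudeIn a b K := by
  have h0 : DCoh.HasTorAmplitudeIn a b (DCoh.toD X ((resX X).obj (DerivedCategory.Q.objPreimage K))) :=
    hasTorAmplitudeIn_congr (resXIso K).symm h
  let P := (resX X).obj (DerivedCategory.Q.objPreimage K)
  haveI : P.IsLE b := (CochainComplex.isLE_iff _ _).2 fun i hi =>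
    exactAt_of_torAmplitude (isKFlat_resX _) h0 i (Or.inr hi)
  obtain ⟨N, c, hc, hN, hNb⟩ : ∃ (N : CochainComplex X.Modules ℤ) (c : N ⟶ P.truncLE b), QuasiIso c ∧
      (∀ n, ModSite.IsFlat (O := X.sheaf) (N.X n)) ∧ ∀ n, b < n → IsZero (N.X n) :=
    exists_bdd_flat_resolution X.sheaf (P.truncLE b) b
      (fun n hn => CochainComplex.isZero_of_isStrictlyLE (P.truncLE b) b n hn)
  haveI := hc
  haveI : IsIso (DerivedCategory.Q.map (P.ιTruncLE b)) :=
    Localization.inverts DerivedCategory.Q (HomologicalComplex.quasiIso X.Modules (ComplexShape.up ℤ)) _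
      ((HomologicalComplex.mem_quasiIso_iff _).2 inferInstance)
  haveI : IsIso (DerivedCategory.Q.map c) :=
    Localization.inverts DerivedCategory.Q (HomologicalComplex.quasiIso X.Modules (ComplexShape.up ℤ)) _
      ((HomologicalComplex.mem_quasiIso_iff _).2 hc)
  let e : DCoh.toD X N ≅ K :=
    asIso (DerivedCategory.Q.map c) ≪≫ asIso (DerivedCategory.Q.map (P.ιTruncLE b)) ≪≫ resXIso K
  have hN' : ∀ n, FlatMod.IsFlat (N.X n) := fun n => (isFlat_iff _).2 (hN n)
  have hK := isKFlat_of_flat_bddAbove N b hNb hN'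
  have hT : DCoh.HasTorAmplitudeIn a b (DCoh.toD X N) := hasTorAmplitudeIn_congr e.symm h
  haveI : CochainComplex.IsGE N a := (CochainComplex.isGE_iff _ _).2 fun i hi =>
    exactAt_of_torAmplitude hK hT i (Or.inl hi)
  haveI : IsIso (DerivedCategory.Q.map (CochainComplex.πTruncGE N a)) :=
    Localization.inverts DerivedCategory.Q (HomologicalComplex.quasiIso X.Modules (ComplexShape.up ℤ)) _
      ((HomologicalComplex.mem_quasiIso_iff _).2 inferInstance)
  refine ⟨CochainComplex.truncGE N a, fun i hi => ?_, fun i => ?_,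
    ⟨(asIso (DerivedCategory.Q.map (CochainComplex.πTruncGE N a))).symm ≪≫ e⟩⟩
  · rcases hi with hi | hi
    · exact CochainComplex.isZero_of_isStrictlyGE _ a i hi
    · exact (hNb i hi).of_iso (CochainComplex.truncGEXIso N a i (by omega))
  · rcases lt_trichotomy i a with hi | hi | hi
    · have hz : IsZero ((CochainComplex.truncGE N a).X i) :=
        CochainComplex.isZero_of_isStrictlyGE (CochainComplex.truncGE N a) a i hi
      exact (isFlat_iff _).2 ((Groth.Agent.KFlat.flatClassMod X.sheaf).zero hz)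
    · subst hi
      refine isFlat_congr ?_ (isFlat_cokernel_of_torAmplitude hK hN' hT)
      exact ((colimit.isColimit _).coconePointUniqueUpToIso
        (N.opcyclesIsCokernel (i - 1) i (by simp))) ≪≫ (CochainComplex.truncGEXIsoOpcycles N i).symm
    · exact isFlat_congr (CochainComplex.truncGEXIso N a i hi).symm (hN' i)

theorem isFlat_of_hasTorAmplitudeIn_zero (F : X.Modules)
    (h : DCoh.HasTorAmplitudeIn 0 0 (DCoh.inD X F)) : FlatMod.IsFlat F := by
  obtain ⟨E, hE, hfl, ⟨e⟩⟩ := hasFlatAmplitudeIn_of_hasTorAmplitudeIn le_rfl h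
  haveI : E.IsStrictlyGE 0 := (CochainComplex.isStrictlyGE_iff _ _).2 fun i hi => hE i (Or.inl hi)
  haveI : E.IsStrictlyLE 0 := (CochainComplex.isStrictlyLE_iff _ _).2 fun i hi => hE i (Or.inr hi)
  obtain ⟨M, ⟨eM⟩⟩ := E.exists_iso_single 0
  have eX : E.X 0 ≅ M := (HomologicalComplex.eval _ _ 0).mapIso eM ≪≫
    HomologicalComplex.singleObjXSelf (ComplexShape.up ℤ) 0 M
  exact isFlat_congr (eX ≪≫ (DerivedCategory.singleFunctor X.Modules 0).preimageIso
    (((DerivedCategory.singleFunctorIsoCompQ X.Modules 0).app M) ≪≫ DerivedCategory.Q.mapIso eM.symm ≪≫ e))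
    (hfl 0)

end Groth.Agent.DCohLib
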