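import Groth.Agent.DCohLib.TensorMod

/-!
# Inverse images of the resolutions; composition of derived inverse images
-/

set_option autoImplicit false
set_option linter.style.haveILetI false

universe u

open CategoryTheory Limits AlgebraicGeometry

attribute [local instance] HasDerivedCategory.standard

noncomputable section

namespace Groth.Agent.DCohLib

open Groth.Agent.KFlat

variable {X Y Z : Scheme.{u}}

/-- The image of a zero differential complex. -/
def mapZeroDiffIso (f : Y ⟶ X) (P : ℤ → X.Modules) :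
    ((Scheme.Modules.pullback f).mapHomologicalComplex (ComplexShape.up ℤ)).obj (zeroDiff P) ≅
      zeroDiff fun n => (Scheme.Modules.pullback f).obj (P n) :=
  HomologicalComplex.Hom.isoOfComponents (fun n => Iso.refl _) fun i j _ => by
    show 𝟙 _ ≫ 0 = (Scheme.Modules.pullback f).map 0 ≫ 𝟙 _
    rw [Functor.map_zero, comp_zero, zero_comp]

theorem isKFlat_zeroDiff_X (P : ℤ → X.Modules) (hP : ∀ n, FlatMod.IsFlat (P n)) :
    DCoh.IsKFlat (zeroDiff P) :=
  (isKFlat_iff _).2 ((Groth.Agent.KFlat.isKFlat_iff X.sheaf _).2 (isKFlatFor_zeroDiff (ModSite.tensorBi X.sheaf)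
    (fun n => (P n : ModSite.Mod X.sheaf)) fun n => goodObj_of_isFlat X.sheaf ((isFlat_iff _).1 (hP n))))

theorem isKFlat_of_iso {K L : CochainComplex X.Modules ℤ} (e : K ≅ L) (h : DCoh.IsKFlat K) :
    DCoh.IsKFlat L :=
  (isKFlat_iff _).2 ((Groth.Agent.KFlat.isKFlat_iff X.sheaf _).2 (isKFlatFor_of_iso (ModSite.tensorBi X.sheaf)
    (e : (K : CochainComplex (ModSite.Mod X.sheaf) ℤ) ≅ L)
    ((Groth.Agent.KFlat.isKFlat_iff X.sheaf _).1 ((isKFlat_iff _).1 h))))

/-- The inverse image of the functorial resolution is K-flat. -/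
theorem isKFlat_pullback_resX (f : Y ⟶ X) (G : CochainComplex X.Modules ℤ) :
    DCoh.IsKFlat (((Scheme.Modules.pullback f).mapHomologicalComplex (ComplexShape.up ℤ)).obj ((resX X).obj G)) := by
  let T := (Scheme.Modules.pullback f).mapHomologicalComplex (ComplexShape.up ℤ)
  let seq : ℕ ⥤ CochainComplex X.Modules ℤ :=
    stageSeq (covO (cov X.sheaf)) (covπ (cov X.sheaf) (covNat X.sheaf)) (stage₀ G)
  haveI : PreservesColimitsOfSize.{0, 0} (Scheme.Modules.pullback f) :=
    (Scheme.Modules.pullbackPushforwardAdjunction f).leftAdjoint_preservesColimits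
  haveI : HasColimitsOfShape ℕ X.Modules :=
    Groth.Agent.KFlat.hasColimitsOfShape_nat X.sheaf
  haveI : HasColimitsOfShape ℕ Y.Modules :=
    Groth.Agent.KFlat.hasColimitsOfShape_nat Y.sheaf
  haveI : PreservesColimitsOfShape ℕ T := HomologicalComplex.preservesColimitsOfShape_of_eval _ fun n =>
    preservesColimitsOfShape_of_natIso
      (show HomologicalComplex.eval X.Modules (ComplexShape.up ℤ) n ⋙ Scheme.Modules.pullback f ≅
        T ⋙ HomologicalComplex.eval Y.Modules (ComplexShape.up ℤ) n from Iso.refl _)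
  have hst : ∀ i, DCoh.IsKFlat (T.obj (seq.obj i)) := fun i => by
    induction i with
    | zero =>
      exact isKFlat_of_iso (mapZeroDiffIso f _).symm (isKFlat_zeroDiff_X _ fun n => isFlat_pullback f _
        ((isFlat_iff _).2 ((flatClassMod X.sheaf).zero (isZero_zero (ModSite.Mod X.sheaf)))))
    | succ i ih =>
      refine isKFlat_of_iso (CochainComplex.mappingCone.mapHomologicalComplexIso _ (Scheme.Modules.pullback f)).symm ?_
      refine (isKFlat_iff _).2 ((twoOfThree_cone Y.sheaf _).1 ((isKFlat_iff _).1 ?_) ((isKFlat_iff _).1 ih))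
      exact isKFlat_of_iso (mapZeroDiffIso f _).symm (isKFlat_zeroDiff_X _ fun n => isFlat_pullback f _
        ((isFlat_iff _).2 (isFlat_cov X.sheaf _)))
  have hc : IsColimit (T.mapCocone (colimit.cocone seq)) := isColimitOfPreserves T (colimit.isColimit seq)
  let K' : ℕ ⥤ CochainComplex (ModSite.Mod Y.sheaf) ℤ := seq ⋙ T
  let c' : Cocone K' := T.mapCocone (colimit.cocone seq)
  have hc' : IsColimit c' := hc
  have h : IsKFlatFor (ModSite.tensorBi Y.sheaf) c'.pt :=
    isKFlatFor_of_isColimit (ModSite.tensorBi Y.sheaf) K' c' hc'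
      fun i => (Groth.Agent.KFlat.isKFlat_iff Y.sheaf _).1 ((isKFlat_iff _).1 (hst i))
  have e : (resX X).obj G = colimit seq := rfl
  rw [e]
  exact (isKFlat_iff _).2 ((Groth.Agent.KFlat.isKFlat_iff Y.sheaf _).2 h)

variable (f : X ⟶ Y) (g : Y ⟶ Z)

/-- The comparison of a composite of derived inverse images. -/
def lpullCompCounit [DCoh.HasLpull f] [DCoh.HasLpull g] :
    DerivedCategory.Qh ⋙ DCoh.Lpull g ⋙ DCoh.Lpull f ⟶ DCoh.pullKh (f ≫ g) :=
  (Functor.associator _ _ _).inv ≫ Functor.whiskerRight (lpullCounit g) (DCoh.Lpull f) ≫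
    (Functor.associator _ _ _).hom ≫
      Functor.whiskerLeft ((Scheme.Modules.pullback g).mapHomotopyCategory (ComplexShape.up ℤ)) (lpullCounit f) ≫
        (Functor.associator _ _ _).inv ≫
          Functor.whiskerRight
            (Functor.mapHomotopyCategoryCompIso (Scheme.Modules.pullbackComp f g) (ComplexShape.up ℤ)).hom
            DerivedCategory.Qh

/-- Derived inverse images compose. -/
theorem nonempty_lpullCompIso [DCoh.HasLpull f] [DCoh.HasLpull g] [DCoh.HasLpull (f ≫ g)] :
    Nonempty (DCoh.Lpull g ⋙ DCoh.Lpull f ≅ DCoh.Lpull (f ≫ g)) := by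
  haveI : (DCoh.Lpull g ⋙ DCoh.Lpull f).IsLeftDerivedFunctor (lpullCompCounit f g)
      (HomotopyCategory.quasiIso Z.Modules (ComplexShape.up ℤ)) := by
    refine (pullAdapted (f ≫ g)).isLeftDerivedFunctor_of_comp
      (HomotopyCategory.quotient Z.Modules (ComplexShape.up ℤ)) DerivedCategory.Qh _ _ fun K => ?_
    simp only [lpullCompCounit, NatTrans.comp_app, Functor.associator_inv_app, Functor.associator_hom_app,
      Functor.whiskerRight_app, Functor.whiskerLeft_app]
    haveI h1 := isIso_lpullCounit_app g _ (isKFlat_resX K) (isFlat_resX K)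
    haveI h2 : IsIso ((lpullCounit f).app (((Scheme.Modules.pullback g).mapHomotopyCategory (ComplexShape.up ℤ)).obj
        ((HomotopyCategory.quotient Z.Modules (ComplexShape.up ℤ)).obj ((resX Z).obj K)))) :=
      isIso_lpullCounit_app f _ (isKFlat_pullback_resX g K) (fun i => isFlat_pullback g _ (isFlat_resX K i))
    refine IsIso.comp_isIso' (inferInstance : IsIso (𝟙 _)) (IsIso.comp_isIso' (@Functor.map_isIso _ _ _ _ _ _ (DCoh.Lpull f) _ h1)
      (IsIso.comp_isIso' (inferInstance : IsIso (𝟙 _)) (IsIso.comp_isIso' h2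
        (IsIso.comp_isIso' (inferInstance : IsIso (𝟙 _)) (DerivedCategory.Qh.map_isIso _)))))
  exact ⟨Functor.leftDerivedUnique (DCoh.Lpull (f ≫ g)) (DCoh.Lpull g ⋙ DCoh.Lpull f)
    (lpullCompCounit f g) (lpullCounit (f ≫ g)) (HomotopyCategory.quasiIso Z.Modules (ComplexShape.up ℤ))⟩

end Groth.Agent.DCohLib
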