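import Groth.Agent.DCohLib.TwoThree
import Groth.Agent.DCohLib.PullComp
import Groth.Agent.DCohLib.FlatCoker
import Groth.Agent.DCohLib.FlatAmp

/-!
# Derived inverse images of perfect and pseudo-coherent objects
-/

set_option autoImplicit false
set_option linter.style.haveILetI false

universe u

open CategoryTheory CategoryTheory.Limits AlgebraicGeometry TopologicalSpace Opposite

attribute [local instance] HasDerivedCategory.standard

noncomputable section

namespace Groth.Agent.DCohLib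

variable {X Y U V : Scheme.{u}}

/-- Inverse image of complexes. -/
abbrev pullCx (f : X ⟶ Y) : CochainComplex Y.Modules ℤ ⥤ CochainComplex X.Modules ℤ :=
  (Scheme.Modules.pullback f).mapHomologicalComplex (ComplexShape.up ℤ)

theorem isFlat_of_flf {M : X.Modules} (h : FlatMod.IsFinLocFree M) : FlatMod.IsFlat M :=
  fun x => PullbackMod.isFlat_of_isFinLocFree M h x

theorem isKFlat_of_strictlyPerfect {E : CochainComplex X.Modules ℤ} (hE : DCoh.IsStrictlyPerfect E) :
    DCoh.IsKFlat E := by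
  obtain ⟨⟨a, b, hab⟩, hf⟩ := hE
  exact isKFlat_of_flat_bddAbove E b (fun n hn => hab n (Or.inr hn)) fun i => isFlat_of_flf (hf i)

theorem isStrictlyPerfect_pullback (f : X ⟶ Y) {E : CochainComplex Y.Modules ℤ}
    (hE : DCoh.IsStrictlyPerfect E) : DCoh.IsStrictlyPerfect ((pullCx f).obj E) := by
  obtain ⟨⟨a, b, hab⟩, h⟩ := hE
  exact ⟨⟨a, b, fun i hi => (Scheme.Modules.pullback f).map_isZero (hab i hi)⟩,
    fun i => PullbackMod.isFinLocFree_pullback f _ (h i)⟩

theorem perfOn_pullback (g : U ⟶ V) {R : CochainComplex V.Modules ℤ} (hR : DCoh.IsKFlat R)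
    (hRfl : ∀ i, FlatMod.IsFlat (R.X i)) (h : PerfOn (DerivedCategory.Q.obj R)) :
    PerfOn (DerivedCategory.Q.obj ((pullCx g).obj R)) := by
  obtain ⟨E, hE, ⟨e⟩⟩ := h
  exact ⟨_, isStrictlyPerfect_pullback g hE,
    ⟨(lpullIso g E (isKFlat_of_strictlyPerfect hE) fun i => isFlat_of_flf (hE.2 i)).symm ≪≫
      (DCoh.Lpull g).mapIso e ≪≫ lpullIso g R hR hRfl⟩⟩

/-- Inverse image preserves exactness above a degree for K-flat complexes with flat terms. -/
theorem exactAt_pullback (g : U ⟶ V) {C : CochainComplex V.Modules ℤ} (hC : DCoh.IsKFlat C)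
    (hCfl : ∀ i, FlatMod.IsFlat (C.X i)) (m : ℤ) (h : ∀ i, m ≤ i → C.ExactAt i) (i : ℤ) (hi : m ≤ i) :
    ((pullCx g).obj C).ExactAt i := by
  haveI : C.IsLE (m - 1) := (CochainComplex.isLE_iff _ _).2 fun j hj => h j (by omega)
  obtain ⟨N, c, hc, hN, hNb⟩ : ∃ (N : CochainComplex V.Modules ℤ) (c : N ⟶ C.truncLE (m - 1)),
      QuasiIso c ∧ (∀ n, ModSite.IsFlat (O := V.sheaf) (N.X n)) ∧ ∀ n, m - 1 < n → IsZero (N.X n) :=
    exists_bdd_flat_resolution V.sheaf (C.truncLE (m - 1)) (m - 1)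
      (fun n hn => CochainComplex.isZero_of_isStrictlyLE (C.truncLE (m - 1)) (m - 1) n hn)
  haveI := hc
  have hN' : ∀ n, FlatMod.IsFlat (N.X n) := fun n => (isFlat_iff _).2 (hN n)
  haveI := quasiIso_pullback_map g (c ≫ C.ιTruncLE (m - 1)) inferInstance
    (isKFlat_of_flat_bddAbove N (m - 1) hNb hN') hC hN' hCfl
  refine (HomologicalComplex.exactAt_iff_isZero_homology _ _).2 (IsZero.of_iso ?_
    (isoOfQuasiIsoAt ((pullCx g).map (c ≫ C.ιTruncLE (m - 1))) i).symm)
  exact ShortComplex.isZero_homology_of_isZero_X₂ _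
    ((Scheme.Modules.pullback g).map_isZero (hNb i (by omega)))

theorem pcOn_pullback (g : U ⟶ V) {R G : CochainComplex V.Modules ℤ} {m : ℤ} (β : G ⟶ R)
    (hG : DCoh.IsStrictlyPerfect G) (hR : DCoh.IsKFlat R) (hRfl : ∀ i, FlatMod.IsFlat (R.X i))
    (hβ : MIso m (DerivedCategory.Q.map β)) :
    PCOn m (DerivedCategory.Q.obj ((pullCx g).obj R)) := by
  let C := CochainComplex.mappingCone β
  have hC : DCoh.IsKFlat C := (isKFlat_iff _).2 ((Groth.Agent.KFlat.twoOfThree_cone V.sheaf β).1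
    ((isKFlat_iff _).1 (isKFlat_of_strictlyPerfect hG)) ((isKFlat_iff _).1 hR))
  have hCfl : ∀ i, FlatMod.IsFlat (C.X i) := fun i => (isFlat_iff _).2
    ((Groth.Agent.KFlat.flatClassMod V.sheaf).cone β
      (fun k => (isFlat_iff _).1 (isFlat_of_flf (hG.2 k))) (fun k => (isFlat_iff _).1 (hRfl k)) i)
  have hC0 : ∀ i, m ≤ i → C.ExactAt i := fun i hi => by
    rw [HomologicalComplex.exactAt_iff_isZero_homology]
    exact (MIso.cone (DerivedCategory.Q.mapTriangle.obj (CochainComplex.mappingCone.triangle β))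
      (DerivedCategory.mappingCone_triangle_distinguished β) hβ i hi).of_iso
        ((DerivedCategory.homologyFunctorFactors _ i).app C).symm
  refine ⟨_, DerivedCategory.Q.map ((pullCx g).map β), isStrictlyPerfect_pullback g hG,
    _, _, _, DerivedCategory.mappingCone_triangle_distinguished ((pullCx g).map β), fun i hi => ?_⟩
  exact ((HomologicalComplex.exactAt_iff_isZero_homology _ _).1
    (HomologicalComplex.ExactAt.of_iso (exactAt_pullback g hC hCfl m hC0 i hi)
      (CochainComplex.mappingCone.mapHomologicalComplexIso β (Scheme.Modules.pullback g)))).of_iso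
    ((DerivedCategory.homologyFunctorFactors _ i).app _)

/-- Inverse image commutes with restriction. -/
def pullRestrictIso (f : X ⟶ Y) (W : X.Opens) (j : V ⟶ Y) [IsOpenImmersion j]
    (g : (W : Scheme.{u}) ⟶ V) (h : g ≫ j = W.ι ≫ f) :
    pullCx f ⋙ resCx W.ι ≅ resCx j ⋙ pullCx g :=
  NatIso.mapHomologicalComplex
    (Functor.isoWhiskerLeft _ (Scheme.Modules.restrictFunctorIsoPullback W.ι) ≪≫
      Scheme.Modules.pullbackComp W.ι f ≪≫ Scheme.Modules.pullbackCongr h.symm ≪≫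
      (Scheme.Modules.pullbackComp g j).symm ≪≫
      Functor.isoWhiskerRight (Scheme.Modules.restrictFunctorIsoPullback j).symm _)
    (ComplexShape.up ℤ)

theorem exists_lift_open (f : X ⟶ Y) (j : V ⟶ Y) [IsOpenImmersion j] :
    ∃ g : ((f ⁻¹ᵁ j.opensRange : X.Opens) : Scheme.{u}) ⟶ V,
      g ≫ j = (f ⁻¹ᵁ j.opensRange).ι ≫ f := by
  refine ⟨IsOpenImmersion.lift j ((f ⁻¹ᵁ j.opensRange).ι ≫ f) ?_, IsOpenImmersion.lift_fac _ _ _⟩
  rintro _ ⟨z, rfl⟩
  exact z.2

theorem isKFlat_resCx_resX (j : U ⟶ Y) [IsOpenImmersion j] (G : CochainComplex Y.Modules ℤ) :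
    DCoh.IsKFlat ((resCx j).obj ((resX Y).obj G)) ∧
      ∀ i, FlatMod.IsFlat (((resCx j).obj ((resX Y).obj G)).X i) :=
  ⟨isKFlat_of_iso ((NatIso.mapHomologicalComplex
      (Scheme.Modules.restrictFunctorIsoPullback j) (ComplexShape.up ℤ)).app _).symm
    (isKFlat_pullback_resX j G),
    fun i => isFlat_congr ((Scheme.Modules.restrictFunctorIsoPullback j).app _).symm
      (isFlat_pullback j _ (isFlat_resX G i))⟩

variable (f : X ⟶ Y) [DCoh.HasLpull f]

/-- A representative computing the restriction of the derived inverse image. -/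
def lpullRestrictIso (E : DCoh.D Y) (W : X.Opens) (j : V ⟶ Y) [IsOpenImmersion j]
    (g : (W : Scheme.{u}) ⟶ V) (h : g ≫ j = W.ι ≫ f) :
    DerivedCategory.Q.obj ((pullCx g).obj ((resCx j).obj ((resX Y).obj (DerivedCategory.Q.objPreimage E)))) ≅
      (DCoh.restrictD W.ι).obj ((DCoh.Lpull f).obj E) :=
  DerivedCategory.Q.mapIso ((pullRestrictIso f W j g h).app _).symm ≪≫
    (restrictDQ W.ι _).symm ≪≫
    (DCoh.restrictD W.ι).mapIso
      ((lpullIso f _ (isKFlat_resX _) (isFlat_resX _)).symm ≪≫ (DCoh.Lpull f).mapIso (resXIso E))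

theorem isPerfect_lpull (E : DCoh.D Y) (hE : DCoh.IsPerfect E) :
    DCoh.IsPerfect ((DCoh.Lpull f).obj E) := by
  rw [isPerfect_iff] at hE ⊢
  intro x
  obtain ⟨V, hy, hV⟩ := hE (f x)
  obtain ⟨g, hg⟩ := exists_lift_open f V.ι
  refine ⟨f ⁻¹ᵁ V.ι.opensRange, by
    show f x ∈ V.ι.opensRange
    rwa [Scheme.Opens.opensRange_ι], ?_⟩
  refine PerfOn.of_iso (perfOn_pullback g (isKFlat_resCx_resX V.ι _).1 (isKFlat_resCx_resX V.ι _).2
    (hV.of_iso ?_)) (lpullRestrictIso f E _ V.ι g hg)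
  exact ((DCoh.restrictD V.ι).mapIso (resXIso E)).symm ≪≫ restrictDQ V.ι _

theorem isPseudoCoherentD_lpull (m : ℤ) (E : DCoh.D Y) (hE : DCoh.IsPseudoCoherentD m E) :
    DCoh.IsPseudoCoherentD m ((DCoh.Lpull f).obj E) := by
  rw [isPseudoCoherentD_iff] at hE ⊢
  intro x
  obtain ⟨V, hy, A, α, hA, hα⟩ := hE (f x)
  let R := (resX Y).obj (DerivedCategory.Q.objPreimage E)
  let α' : DerivedCategory.Q.obj A ⟶ DerivedCategory.Q.obj ((resCx V.ι).obj R) :=
    α ≫ (((DCoh.restrictD V.ι).mapIso (resXIso E)).symm ≪≫ restrictDQ V.ι _).hom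
  obtain ⟨W, hW, β, hβ⟩ := exists_open_represent hA α' (⟨f x, hy⟩ : V)
  let j : (W : Scheme.{u}) ⟶ Y := W.ι ≫ V.ι
  let β' : (resCx W.ι).obj A ⟶ (resCx j).obj R := β ≫ (resCxComp W.ι V.ι).inv.app R
  have hβ' : MIso m (DerivedCategory.Q.map β') := by
    have h1 : DerivedCategory.Q.map β = (restrictDQ W.ι A).inv ≫
        (DCoh.restrictD W.ι).map α' ≫ (restrictDQ W.ι _).hom := by
      rw [hβ]
      simp [restrictDQ]
    rw [Functor.map_comp, h1]
    exact ((mIso_of_isIso _ _).comp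
      (((hα.comp (mIso_of_isIso _ _)).restrict W.ι).comp (mIso_of_isIso _ _))).comp (mIso_of_isIso _ _)
  obtain ⟨g, hg⟩ := exists_lift_open f j
  exact ⟨f ⁻¹ᵁ j.opensRange, ⟨⟨⟨f x, hy⟩, hW⟩, rfl⟩,
    (pcOn_pullback g β' (isStrictlyPerfect_restrict W.ι hA) (isKFlat_resCx_resX j _).1
      (isKFlat_resCx_resX j _).2 hβ').of_iso (lpullRestrictIso f E _ j g hg)⟩

end Groth.Agent.DCohLib
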