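import Groth.Agent.DCohLib.LpullTensor
import Groth.Agent.DCohLib.PullPerf
import Groth.Agent.DCohLib.PerfCrit

/-!
# Tensor products of perfect complexes
-/

set_option autoImplicit false
set_option linter.style.haveILetI false

universe u

open CategoryTheory CategoryTheory.Limits AlgebraicGeometry TopologicalSpace HomologicalComplex

attribute [local instance] HasDerivedCategory.standard

noncomputable section

namespace Groth.Agent.DCohLib

variable {X U : Scheme.{u}}

/-- A finite coproduct of finite locally free modules is finite locally free. -/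
theorem isFinLocFree_sigma : ∀ (n : ℕ) (f : Fin n → X.Modules),
    (∀ i, FlatMod.IsFinLocFree (f i)) → FlatMod.IsFinLocFree (∐ f)
  | 0, f, _ => isFinLocFree_of_isZero ((IsZero.iff_id_eq_zero _).2 (Sigma.hom_ext _ _ fun i => i.elim0))
  | n + 1, f, hf => by
    refine isFinLocFree_of_retract
      (Sigma.desc (Fin.cases (motive := fun i => f i ⟶ f 0 ⊞ ∐ fun i : Fin n => f i.succ)
        biprod.inl fun i => Sigma.ι (fun i : Fin n => f i.succ) i ≫ biprod.inr))
      (biprod.desc (Sigma.ι f 0) (Sigma.desc fun i => Sigma.ι f i.succ)) ?_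
      (isFinLocFree_biprod (hf 0) (isFinLocFree_sigma n _ fun i => hf i.succ))
    refine Sigma.hom_ext _ _ fun i => ?_
    induction i using Fin.cases with
    | zero => simp
    | succ i => simp

/-- The tensor product with the structure sheaf. -/
def tensorStructureIso (M : X.Modules) :
    ((DCoh.tensorBi (X := X)).obj M).obj (Coh.structureModule X) ≅ M :=
  (Groth.Agent.ModTensor.tensorUnitRight X.sheaf).app M

theorem isFinLocFree_tensor_freeMod (n m : ℕ) :
    FlatMod.IsFinLocFree (((DCoh.tensorBi (X := X)).obj (FlatMod.freeMod X n)).obj (FlatMod.freeMod X m)) := by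
  let T := (DCoh.tensorBi (X := X)).obj (FlatMod.freeMod X n)
  haveI : PreservesColimitsOfShape (Discrete (Fin m)) T :=
    inferInstanceAs (PreservesColimitsOfShape (Discrete (Fin m))
      ((ModSite.tensorBi X.sheaf).obj (FlatMod.freeMod X n)))
  exact isFinLocFree_iso (PreservesCoproduct.iso T _ ≪≫
      Sigma.mapIso fun _ => tensorStructureIso (FlatMod.freeMod X n)).symm
    (isFinLocFree_sigma m _ fun _ => isFinLocFree_freeMod n)

/-- Restriction commutes with tensor products. -/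
def restrictTensorIso (j : U ⟶ X) [IsOpenImmersion j] (M N : X.Modules) :
    (Scheme.Modules.restrictFunctor j).obj (((DCoh.tensorBi (X := X)).obj M).obj N) ≅
      ((DCoh.tensorBi (X := U)).obj ((Scheme.Modules.restrictFunctor j).obj M)).obj
        ((Scheme.Modules.restrictFunctor j).obj N) :=
  (Scheme.Modules.restrictFunctorIsoPullback j).app _ ≪≫ ((pullTensorBiIsoSch j).app M).app N ≪≫
    ((DCoh.tensorBi (X := U)).mapIso ((Scheme.Modules.restrictFunctorIsoPullback j).app M).symm).app _ ≪≫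
    ((DCoh.tensorBi (X := U)).obj _).mapIso ((Scheme.Modules.restrictFunctorIsoPullback j).app N).symm

theorem isFinLocFree_tensor {M N : X.Modules} (hM : FlatMod.IsFinLocFree M) (hN : FlatMod.IsFinLocFree N) :
    FlatMod.IsFinLocFree (((DCoh.tensorBi (X := X)).obj M).obj N) := by
  refine isFinLocFree_of_local fun x => ?_
  obtain ⟨U, n, hx, ⟨e⟩⟩ := hM x
  obtain ⟨V, m, hy, ⟨e'⟩⟩ := isFinLocFree_restrict U.ι hN ⟨x, hx⟩
  refine ⟨V, V.ι ≫ U.ι, inferInstance, ⟨⟨x, hx⟩, hy⟩, rfl, ?_⟩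
  exact isFinLocFree_iso
    (restrictTensorIso (V.ι ≫ U.ι) M N ≪≫
      ((DCoh.tensorBi (X := (V : Scheme.{u}))).mapIso ((Scheme.Modules.restrictFunctorComp V.ι U.ι).app M ≪≫
        (Scheme.Modules.restrictFunctor V.ι).mapIso e ≪≫ restrictFreeMod _ n)).app _ ≪≫
      ((DCoh.tensorBi (X := (V : Scheme.{u}))).obj _).mapIso
        ((Scheme.Modules.restrictFunctorComp V.ι U.ι).app N ≪≫ e')).symm
    (isFinLocFree_tensor_freeMod n m)

theorem eqToHom_ιMapBifunctor (E F : CochainComplex X.Modules ℤ) (n p q p' q' : ℤ) (hp : p = p') (hq : q = q')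
    (e : ((DCoh.tensorBi (X := X)).obj (E.X p)).obj (F.X q) =
      ((DCoh.tensorBi (X := X)).obj (E.X p')).obj (F.X q'))
    (h : ComplexShape.π (ComplexShape.up ℤ) (ComplexShape.up ℤ) (ComplexShape.up ℤ) (p, q) = n)
    (h' : ComplexShape.π (ComplexShape.up ℤ) (ComplexShape.up ℤ) (ComplexShape.up ℤ) (p', q') = n) :
    eqToHom e ≫ ιMapBifunctor E F (DCoh.tensorBi (X := X)) (ComplexShape.up ℤ) p' q' n h' =
      ιMapBifunctor E F (DCoh.tensorBi (X := X)) (ComplexShape.up ℤ) p q n h := by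
  subst hp hq
  simp

/-- The tensor product of strictly perfect complexes is strictly perfect. -/
theorem isStrictlyPerfect_tensorCx {E F : CochainComplex X.Modules ℤ} (hE : DCoh.IsStrictlyPerfect E)
    (hF : DCoh.IsStrictlyPerfect F) : DCoh.IsStrictlyPerfect ((DCoh.tensorCx.obj E).obj F) := by
  obtain ⟨⟨a, b, hab⟩, hE⟩ := hE
  obtain ⟨⟨c, d, hcd⟩, hF⟩ := hF
  refine ⟨⟨a + c, b + d, fun n hn => (IsZero.iff_id_eq_zero _).2 (mapBifunctor.hom_ext fun p q h => ?_)⟩,
    fun n => ?_⟩
  · have h' : p + q = n := h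
    by_cases hp : p < a ∨ b < p
    · exact (Functor.map_isZero _ (hab p hp) |>.obj (F.X q)).eq_of_src _ _
    · exact (((DCoh.tensorBi (X := X)).obj (E.X p)).map_isZero (hcd q (by omega))).eq_of_src _ _
  · let G : Fin (b + 1 - a).toNat → X.Modules := fun k =>
      ((DCoh.tensorBi (X := X)).obj (E.X (a + (k : ℕ)))).obj (F.X (n - (a + (k : ℕ))))
    refine isFinLocFree_of_retract
      (mapBifunctorDesc (A := ∐ G) fun p q (h : p + q = n) =>
        if hp : a ≤ p ∧ p ≤ b then
          eqToHom (by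
            have e1 : p = a + (((p - a).toNat : ℕ) : ℤ) := by omega
            simp only [G]
            rw [← e1, show n - p = q by omega]) ≫
            Sigma.ι G ⟨(p - a).toNat, by omega⟩
        else 0)
      (Sigma.desc fun k => ιMapBifunctor E F (DCoh.tensorBi (X := X)) (ComplexShape.up ℤ)
        (a + (k : ℕ)) (n - (a + (k : ℕ))) n (by
          show a + (k : ℕ) + (n - (a + (k : ℕ))) = n
          omega)) ?_
      (isFinLocFree_sigma _ _ fun k => isFinLocFree_tensor (hE _) (hF _))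
    refine mapBifunctor.hom_ext fun p q h => ?_
    have h' : p + q = n := h
    erw [ι_mapBifunctorDesc_assoc, Category.comp_id]
    split_ifs with hp
    · rw [Category.assoc, Sigma.ι_desc]
      exact eqToHom_ιMapBifunctor E F n _ _ _ _ (by simp only []; omega) (by simp only []; omega) _ _ _
    · rw [zero_comp]
      exact (Functor.map_isZero _ (hab p (by omega)) |>.obj (F.X q)).eq_of_src _ _

theorem quasiIso_tensorCxSite_obj_map {C : Type u} [SmallCategory C] {J : GrothendieckTopology C}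
    (O : Sheaf J CommRingCat.{u}) {E : CochainComplex (ModSite.Mod O) ℤ} (hE : ModSite.IsKFlat E)
    {P Q : CochainComplex (ModSite.Mod O) ℤ} (α : P ⟶ Q) [QuasiIso α] :
    QuasiIso (((ModSite.tensorCx O).obj E).map α) :=
  ((HomologicalComplex.quasiIso (ModSite.Mod O) (ComplexShape.up ℤ)).arrow_mk_iso_iff
    (((Functor.mapArrowFunctor _ _).mapIso
      (Groth.Agent.KFlat.totRIso (ModSite.tensorBi O).flip E)).app (Arrow.mk α))).2
    (Groth.Agent.KFlat.quasiIso_totR_map (ModSite.tensorBi O).flip (isKFlatFor_flip_of_isKFlat O hE) α)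

theorem quasiIso_tensorCx_obj_map {E : CochainComplex X.Modules ℤ} (hE : DCoh.IsKFlat E)
    {P Q : CochainComplex X.Modules ℤ} (α : P ⟶ Q) (hα : QuasiIso α) :
    QuasiIso ((DCoh.tensorCx.obj E).map α) :=
  @quasiIso_tensorCxSite_obj_map _ _ _ X.sheaf E ((isKFlat_iff E).1 hE) P Q α hα

/-- Tensoring with a K-flat complex respects isomorphisms in the derived category. -/
theorem nonempty_tensorCx_congr {E : CochainComplex X.Modules ℤ} (hE : DCoh.IsKFlat E)
    {F G : CochainComplex X.Modules ℤ} (e : DerivedCategory.Q.obj F ≅ DerivedCategory.Q.obj G) :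
    Nonempty (DerivedCategory.Q.obj ((DCoh.tensorCx.obj E).obj F) ≅
      DerivedCategory.Q.obj ((DCoh.tensorCx.obj E).obj G)) := by
  have h : (HomologicalComplex.quasiIso X.Modules (ComplexShape.up ℤ)).IsInvertedBy
      (DCoh.tensorCx.obj E ⋙ DerivedCategory.Q) := fun P Q α hα =>
    Localization.inverts DerivedCategory.Q (HomologicalComplex.quasiIso X.Modules (ComplexShape.up ℤ)) _
      ((HomologicalComplex.mem_quasiIso_iff _).2
        (quasiIso_tensorCx_obj_map hE α ((HomologicalComplex.mem_quasiIso_iff _).1 hα)))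
  let L := Localization.lift _ h DerivedCategory.Q
  let φ := Localization.fac _ h DerivedCategory.Q
  exact ⟨(φ.app F).symm ≪≫ L.mapIso e ≪≫ φ.app G⟩

/-- Restriction is computed by the derived inverse image. -/
theorem nonempty_restrictD_lpull (j : U ⟶ X) [IsOpenImmersion j] [DCoh.HasLpull j] (K : DCoh.D X) :
    Nonempty ((DCoh.restrictD j).obj K ≅ (DCoh.Lpull j).obj K) := by
  let P := (resX X).obj (DerivedCategory.Q.objPreimage K)
  exact ⟨(DCoh.restrictD j).mapIso (resXIso K).symm ≪≫ restrictDQ j P ≪≫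
    DerivedCategory.Q.mapIso ((NatIso.mapHomologicalComplex
      (Scheme.Modules.restrictFunctorIsoPullback j) (ComplexShape.up ℤ)).app P) ≪≫
    (lpullIsoK j P (isKFlat_resX _)).symm ≪≫ (DCoh.Lpull j).mapIso (resXIso K)⟩

/-- The derived tensor product of perfect objects is perfect. -/
theorem isPerfect_lTensor (L : CochainComplex X.Modules ℤ) (hL : DCoh.IsKFlat L)
    (hLp : DCoh.IsPerfect (DerivedCategory.Q.obj L)) [DCoh.HasLTensorCx L] (K : DCoh.D X)
    (hK : DCoh.IsPerfect K) : DCoh.IsPerfect ((DCoh.LTensorCx L).obj K) := by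
  rw [isPerfect_iff] at hLp hK ⊢
  intro x
  obtain ⟨V₁, hx₁, h₁⟩ := hLp x
  obtain ⟨V₂, hx₂, h₂⟩ := hK x
  refine ⟨V₁ ⊓ V₂, ⟨hx₁, hx₂⟩, ?_⟩
  let j := (V₁ ⊓ V₂).ι
  obtain ⟨E₁, hE₁, ⟨e₁⟩⟩ := perfOn_mono_open (inf_le_left : V₁ ⊓ V₂ ≤ V₁) h₁
  obtain ⟨E₂, hE₂, ⟨e₂⟩⟩ := perfOn_mono_open (inf_le_right : V₁ ⊓ V₂ ≤ V₂) h₂
  let L' := (pullCx j).obj L
  let eL : DerivedCategory.Q.obj E₁ ≅ DerivedCategory.Q.obj L' := e₁ ≪≫ restrictDQ j L ≪≫
    DerivedCategory.Q.mapIso ((NatIso.mapHomologicalComplex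
      (Scheme.Modules.restrictFunctorIsoPullback j) (ComplexShape.up ℤ)).app L)
  have hE₂' := isKFlat_of_strictlyPerfect hE₂
  obtain ⟨r⟩ := nonempty_restrictD_lpull j ((DCoh.LTensorCx L).obj K)
  obtain ⟨rK⟩ := nonempty_restrictD_lpull j K
  obtain ⟨t⟩ := nonempty_lpull_lTensor j L hL K
  obtain ⟨c⟩ := nonempty_tensorCx_congr hE₂' eL
  exact ⟨_, isStrictlyPerfect_tensorCx hE₂ hE₁,
    ⟨c ≪≫ (lTensorIso L' E₂ hE₂').symm ≪≫ (DCoh.LTensorCx L').mapIso (e₂ ≪≫ rK) ≪≫ t.symm ≪≫ r.symm⟩⟩

end Groth.Agent.DCohLib
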