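import Groth.Agent.DCohLib.Flip
import Mathlib.Algebra.Homology.BifunctorAssociator

/-!
# Associativity of the tensor product of complexes of sheaves of modules
-/

set_option linter.style.haveILetI false
set_option linter.unusedSectionVars false

universe u

open CategoryTheory Limits MonoidalCategory Opposite

noncomputable section

namespace Groth.Agent.DCohLib

open Groth.Agent.ModTensor

variable {C : Type u} [SmallCategory C] {J : GrothendieckTopology C} (O : Sheaf J CommRingCat.{u})

/-- The associator of the tensor product at three modules. -/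
def assocApp (M N P : ModSite.Mod O) : tens O (tens O M N) P ≅ tens O M (tens O N P) :=
  (sheafifyTensorRightIso O (pre O M ⊗ pre O N) (pre O P)).symm ≪≫
    (shF O).mapIso (α_ (pre O M) (pre O N) (pre O P)) ≪≫
      sheafifyTensorLeftIso O (pre O M) (pre O N ⊗ pre O P)

theorem assocApp_left {M M' : ModSite.Mod O} (f : M ⟶ M') (N P : ModSite.Mod O) :
    ((ModSite.tensorBi O).map (((ModSite.tensorBi O).map f).app N)).app P ≫ (assocApp O M' N P).hom =
      (assocApp O M N P).hom ≫ ((ModSite.tensorBi O).map f).app (tens O N P) :=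
  (tensorAssoc O N P).hom.naturality f

theorem assocApp_middle (M : ModSite.Mod O) {N N' : ModSite.Mod O} (h : N ⟶ N') (P : ModSite.Mod O) :
    ((ModSite.tensorBi O).map (((ModSite.tensorBi O).obj M).map h)).app P ≫ (assocApp O M N' P).hom =
      (assocApp O M N P).hom ≫ ((ModSite.tensorBi O).obj M).map (((ModSite.tensorBi O).map h).app P) := by
  let S := shF O
  let a := (preFunctor O).map h
  have h1 : S.map ((preFunctor O).map (S.map (pre O M ◁ a)) ▷ pre O P) ≫
      inv (S.map (shUnit O (pre O M ⊗ pre O N') ▷ pre O P)) =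
      inv (S.map (shUnit O (pre O M ⊗ pre O N) ▷ pre O P)) ≫ S.map ((pre O M ◁ a) ▷ pre O P) := by
    rw [IsIso.comp_inv_eq, Category.assoc, IsIso.eq_inv_comp, ← S.map_comp, ← S.map_comp,
      ← comp_whiskerRight, ← comp_whiskerRight, shUnit_naturality]
  have h2 : S.map ((pre O M ◁ a) ▷ pre O P) ≫ S.map (α_ _ _ _).hom =
      S.map (α_ _ _ _).hom ≫ S.map (pre O M ◁ (a ▷ pre O P)) :=
    (S.map_comp _ _).symm.trans ((congr_arg S.map (associator_naturality_middle _ a _)).trans
      (S.map_comp _ _))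
  have h3 : S.map (pre O M ◁ (a ▷ pre O P)) ≫ S.map (pre O M ◁ shUnit O (pre O N' ⊗ pre O P)) =
      S.map (pre O M ◁ shUnit O (pre O N ⊗ pre O P)) ≫
        S.map (pre O M ◁ (preFunctor O).map (S.map (a ▷ pre O P))) := by
    rw [← S.map_comp, ← S.map_comp, ← MonoidalCategory.whiskerLeft_comp,
      ← MonoidalCategory.whiskerLeft_comp, shUnit_naturality]
  show S.map ((preFunctor O).map (S.map (pre O M ◁ a)) ▷ pre O P) ≫ inv _ ≫ S.map _ ≫ S.map _ =
    (inv _ ≫ S.map _ ≫ S.map _) ≫ S.map (pre O M ◁ (preFunctor O).map (S.map (a ▷ pre O P)))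
  rw [reassoc_of% h1, reassoc_of% h2, h3]
  simp only [Category.assoc]
  rfl

theorem assocApp_right (M N : ModSite.Mod O) {P P' : ModSite.Mod O} (g : P ⟶ P') :
    ((ModSite.tensorBi O).obj (tens O M N)).map g ≫ (assocApp O M N P').hom =
      (assocApp O M N P).hom ≫ ((ModSite.tensorBi O).obj M).map (((ModSite.tensorBi O).obj N).map g) := by
  let S := shF O
  let a := (preFunctor O).map g
  let Q := pre O M ⊗ pre O N
  have h1 : S.map (pre O (S.obj Q) ◁ a) ≫ inv (S.map (shUnit O Q ▷ pre O P')) =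
      inv (S.map (shUnit O Q ▷ pre O P)) ≫ S.map (Q ◁ a) := by
    rw [IsIso.comp_inv_eq, Category.assoc, IsIso.eq_inv_comp, ← S.map_comp, ← S.map_comp, whisker_exchange]
  have h2 : S.map (Q ◁ a) ≫ S.map (α_ (pre O M) (pre O N) (pre O P')).hom =
      S.map (α_ _ _ _).hom ≫ S.map (pre O M ◁ (pre O N ◁ a)) :=
    (S.map_comp _ _).symm.trans ((congr_arg S.map (associator_naturality_right _ _ a)).trans
      (S.map_comp _ _))
  have h3 : S.map (pre O M ◁ (pre O N ◁ a)) ≫ S.map (pre O M ◁ shUnit O (pre O N ⊗ pre O P')) =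
      S.map (pre O M ◁ shUnit O (pre O N ⊗ pre O P)) ≫
        S.map (pre O M ◁ (preFunctor O).map (S.map (pre O N ◁ a))) := by
    rw [← S.map_comp, ← S.map_comp, ← MonoidalCategory.whiskerLeft_comp,
      ← MonoidalCategory.whiskerLeft_comp, shUnit_naturality]
  show S.map (pre O (S.obj Q) ◁ a) ≫ inv _ ≫ S.map _ ≫ S.map _ =
    (inv _ ≫ S.map _ ≫ S.map _) ≫ S.map (pre O M ◁ (preFunctor O).map (S.map (pre O N ◁ a)))
  rw [reassoc_of% h1, reassoc_of% h2, h3]
  simp only [Category.assoc]
  rfl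

/-- The associator as an isomorphism of trifunctors. -/
def assocTri : bifunctorComp₁₂ (ModSite.tensorBi O) (ModSite.tensorBi O) ≅
    bifunctorComp₂₃ (ModSite.tensorBi O) (ModSite.tensorBi O) :=
  NatIso.ofComponents
    (fun M => NatIso.ofComponents
      (fun N => NatIso.ofComponents (fun P => assocApp O M N P) fun g => assocApp_right O M N g)
      fun h => by
        ext P : 2
        exact assocApp_middle O M h P)
    fun f => by
      ext N P : 4
      exact assocApp_left O f N P

section Complexes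

variable (A K L : CochainComplex (ModSite.Mod O) ℤ)

instance goodTrifunctor₁₂ :
    HomologicalComplex.HasGoodTrifunctor₁₂Obj (ModSite.tensorBi O) (ModSite.tensorBi O) A K L
      (ComplexShape.up ℤ) (ComplexShape.up ℤ) := fun i₁₂ i₃ => by
  haveI : PreservesColimitsOfShape
      (Discrete ↥((ComplexShape.ρ₁₂ (ComplexShape.up ℤ) (ComplexShape.up ℤ) (ComplexShape.up ℤ)
        (ComplexShape.up ℤ) (ComplexShape.up ℤ)).p ⁻¹' {i₁₂}))
      ((ModSite.tensorBi O).flip.obj (L.X i₃)) :=
    Groth.Agent.KFlat.preservesColimitsOfShape_tensorBi_flip O _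
  exact inferInstance

instance goodTrifunctor₂₃ :
    HomologicalComplex.HasGoodTrifunctor₂₃Obj (ModSite.tensorBi O) (ModSite.tensorBi O) A K L
      (ComplexShape.up ℤ) (ComplexShape.up ℤ) (ComplexShape.up ℤ) := fun i₁ i₂₃ => inferInstance

/-- Associativity of the tensor product of complexes. -/
def assocCx : ((ModSite.tensorCx O).obj (((ModSite.tensorCx O).obj A).obj K)).obj L ≅
    ((ModSite.tensorCx O).obj A).obj (((ModSite.tensorCx O).obj K).obj L) :=
  HomologicalComplex.mapBifunctorAssociator (assocTri O) A K L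
    (ComplexShape.up ℤ) (ComplexShape.up ℤ) (ComplexShape.up ℤ)

theorem assocCx_natural {A A' : CochainComplex (ModSite.Mod O) ℤ} (φ : A ⟶ A') :
    ((ModSite.tensorCx O).map (((ModSite.tensorCx O).map φ).app K)).app L ≫ (assocCx O A' K L).hom =
      (assocCx O A K L).hom ≫ ((ModSite.tensorCx O).map φ).app (((ModSite.tensorCx O).obj K).obj L) := by
  let F := ModSite.tensorBi O
  let c := ComplexShape.up ℤ
  ext j : 1
  refine HomologicalComplex.mapBifunctor₁₂.hom_ext fun i₁ i₂ i₃ h => ?_
  let i₁₂ := i₁ + i₂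
  let i₂₃ := i₂ + i₃
  have h' : i₁₂ + i₃ = j := h
  have h'' : i₁ + i₂₃ = j := (add_assoc i₁ i₂ i₃).symm.trans h'
  have hL : ∀ (B : CochainComplex (ModSite.Mod O) ℤ),
      HomologicalComplex.mapBifunctor₁₂.ι F F B K L c c i₁ i₂ i₃ j h =
        (F.map (HomologicalComplex.ιMapBifunctor B K F c i₁ i₂ i₁₂ rfl)).app (L.X i₃) ≫
          HomologicalComplex.ιMapBifunctor (HomologicalComplex.mapBifunctor B K F c) L F c i₁₂ i₃ j h' :=
    fun B => rfl
  have hR : ∀ (B : CochainComplex (ModSite.Mod O) ℤ),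
      HomologicalComplex.mapBifunctor₂₃.ι F F B K L c c c i₁ i₂ i₃ j h =
        (F.obj (B.X i₁)).map (HomologicalComplex.ιMapBifunctor K L F c i₂ i₃ i₂₃ rfl) ≫
          HomologicalComplex.ιMapBifunctor B (HomologicalComplex.mapBifunctor K L F c) F c i₁ i₂₃ j h'' :=
    fun B => rfl
  let ψ := HomologicalComplex.mapBifunctorMap φ (𝟙 K) F c
  have e1 : HomologicalComplex.mapBifunctor₁₂.ι F F A K L c c i₁ i₂ i₃ j h ≫
      (HomologicalComplex.mapBifunctorMap ψ (𝟙 L) F c).f j =
      (F.map ((F.map (φ.f i₁)).app (K.X i₂))).app (L.X i₃) ≫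
        HomologicalComplex.mapBifunctor₁₂.ι F F A' K L c c i₁ i₂ i₃ j h := by
    rw [hL A, hL A', Category.assoc, HomologicalComplex.ι_mapBifunctorMap]
    erw [CategoryTheory.Functor.map_id, Category.id_comp]
    rw [← NatTrans.comp_app_assoc, ← F.map_comp, ← NatTrans.comp_app_assoc, ← F.map_comp]
    refine congr_arg (fun k => (F.map k).app (L.X i₃) ≫ _) ?_
    refine (HomologicalComplex.ι_mapBifunctorMap φ (𝟙 K) F c i₁ i₂ i₁₂ rfl).trans ?_
    erw [CategoryTheory.Functor.map_id, Category.id_comp]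
  have e2 : HomologicalComplex.mapBifunctor₂₃.ι F F A K L c c c i₁ i₂ i₃ j h ≫
      (HomologicalComplex.mapBifunctorMap φ (𝟙 (HomologicalComplex.mapBifunctor K L F c)) F c).f j =
      (F.map (φ.f i₁)).app ((F.obj (K.X i₂)).obj (L.X i₃)) ≫
        HomologicalComplex.mapBifunctor₂₃.ι F F A' K L c c c i₁ i₂ i₃ j h := by
    rw [hR A, hR A', Category.assoc, HomologicalComplex.ι_mapBifunctorMap]
    erw [CategoryTheory.Functor.map_id, Category.id_comp]
    exact ((reassoc_of% ((F.map (φ.f i₁)).naturality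
      (HomologicalComplex.ιMapBifunctor K L F c i₂ i₃ i₂₃ rfl))) _)
  show HomologicalComplex.mapBifunctor₁₂.ι F F A K L c c i₁ i₂ i₃ j h ≫
      (HomologicalComplex.mapBifunctorMap ψ (𝟙 L) F c).f j ≫
        (HomologicalComplex.mapBifunctorAssociatorX (assocTri O) A' K L c c c j).hom =
    HomologicalComplex.mapBifunctor₁₂.ι F F A K L c c i₁ i₂ i₃ j h ≫
      (HomologicalComplex.mapBifunctorAssociatorX (assocTri O) A K L c c c j).hom ≫
        (HomologicalComplex.mapBifunctorMap φ (𝟙 _) F c).f j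
  rw [reassoc_of% e1, HomologicalComplex.ι_mapBifunctorAssociatorX_hom,
    HomologicalComplex.ι_mapBifunctorAssociatorX_hom_assoc]
  refine Eq.trans ?_ (congr_arg ((assocApp O (A.X i₁) (K.X i₂) (L.X i₃)).hom ≫ ·) e2).symm
  exact (Category.assoc _ _ _).symm.trans
    ((congr_arg (· ≫ HomologicalComplex.mapBifunctor₂₃.ι F F A' K L c c c i₁ i₂ i₃ j h)
      (assocApp_left O (φ.f i₁) (K.X i₂) (L.X i₃))).trans (Category.assoc _ _ _))

end Complexes

end Groth.Agent.DCohLib
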