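import Groth.Agent.PullbackMod.LocFree
import Groth.Agent.KInj.Restrict
import Groth.Prelude.Def_DCoh2

/-!
# Restriction of modules to open subschemes: exactness, maps from the structure sheaf
-/

set_option autoImplicit false
set_option linter.style.haveILetI false

universe u

open CategoryTheory CategoryTheory.Limits AlgebraicGeometry TopologicalSpace Opposite

attribute [local instance] HasDerivedCategory.standard

noncomputable section

namespace Groth.Agent.DCohLib

variable {X Y Z : Scheme.{u}}

instance preservesMonomorphisms_restrictFunctor (j : X ⟶ Y) [IsOpenImmersion j] :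
    (Scheme.Modules.restrictFunctor j).PreservesMonomorphisms where
  preserves {M N} φ hφ := by
    have h : Mono φ.mapPresheaf := inferInstanceAs (Mono ((Scheme.Modules.toPresheaf Y).map φ))
    rw [NatTrans.mono_iff_mono_app] at h
    have h' : Mono ((Scheme.Modules.restrictFunctor j).map φ).mapPresheaf := by
      rw [NatTrans.mono_iff_mono_app]
      exact fun U => h (op (j ''ᵁ U.unop))
    exact (Scheme.Modules.toPresheaf X).mono_of_mono_map h'

instance preservesFiniteLimits_restrictFunctor (j : X ⟶ Y) [IsOpenImmersion j] :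
    PreservesFiniteLimits (Scheme.Modules.restrictFunctor j) :=
  Groth.Agent.KInj.preservesFiniteLimits_of_preservesMonomorphisms
    (Scheme.Modules.restrictAdjunction j)

instance preservesFiniteColimits_restrictFunctor (j : X ⟶ Y) [IsOpenImmersion j] :
    PreservesFiniteColimits (Scheme.Modules.restrictFunctor j) :=
  haveI : PreservesColimitsOfSize.{0, 0} (Scheme.Modules.restrictFunctor j) :=
    (Scheme.Modules.restrictAdjunction j).leftAdjoint_preservesColimits
  inferInstance

/-! ### Maps out of the structure sheaf -/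

/-- The map `O_Y ⟶ M` given by a global section. -/
def secHom (M : Y.Modules) (s : Γ(M, ⊤)) : Coh.structureModule Y ⟶ M :=
  (SheafOfModules.unitHomEquiv (R := Y.ringCatSheaf) M).symm
    ⟨fun U => M.presheaf.map (homOfLE (le_top : U.unop ≤ ⊤)).op s, by
      intro U V g
      change M.presheaf.map g (M.presheaf.map _ s) = _
      rw [← ConcreteCategory.comp_apply, ← M.presheaf.map_comp]
      rfl⟩

theorem secHom_app_one (M : Y.Modules) (s : Γ(M, ⊤)) (U : Y.Opens) :
    (secHom M s).app U (1 : Γ(Y, U)) = M.presheaf.map (homOfLE (le_top : U ≤ ⊤)).op s :=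
  congrArg (fun t => t.val (op U))
    ((SheafOfModules.unitHomEquiv (R := Y.ringCatSheaf) M).apply_symm_apply
      ⟨fun U => M.presheaf.map (homOfLE (le_top : U.unop ≤ ⊤)).op s, _⟩)

theorem app_one_natural {M : Y.Modules} (f : Coh.structureModule Y ⟶ M) {U V : Y.Opens} (h : V ≤ U) :
    M.presheaf.map (homOfLE h).op (f.app U (1 : Γ(Y, U))) = f.app V (1 : Γ(Y, V)) :=
  (SheafOfModules.unitHomEquiv (R := Y.ringCatSheaf) M f).property (homOfLE h).op

theorem hom_unit_ext {M : Y.Modules} {f g : Coh.structureModule Y ⟶ M}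
    (h : f.app ⊤ (1 : Γ(Y, ⊤)) = g.app ⊤ (1 : Γ(Y, ⊤))) : f = g := by
  refine (SheafOfModules.unitHomEquiv (R := Y.ringCatSheaf) M).injective (Subtype.ext (funext fun U => ?_))
  show f.app U.unop (1 : Γ(Y, U.unop)) = g.app U.unop (1 : Γ(Y, U.unop))
  rw [← app_one_natural f le_top, h, app_one_natural g le_top]

theorem app_natural {M N : Y.Modules} (f : M ⟶ N) {U V : Y.Opens} (h : V ≤ U) (s : Γ(M, U)) :
    f.app V (M.presheaf.map (homOfLE h).op s) = N.presheaf.map (homOfLE h).op (f.app U s) :=
  ConcreteCategory.congr_hom (f.mapPresheaf.naturality (homOfLE h).op) s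

/-! ### Finite locally free modules -/

/-- The restriction of the structure sheaf of modules. -/
def restrictUnit (j : X ⟶ Y) [IsOpenImmersion j] :
    (Scheme.Modules.restrictFunctor j).obj (Coh.structureModule Y) ≅ Coh.structureModule X :=
  Scheme.Modules.restrictUnitIso j

theorem isFinLocFree_iso {M N : Y.Modules} (e : M ≅ N) (h : FlatMod.IsFinLocFree M) :
    FlatMod.IsFinLocFree N := fun x => by
  obtain ⟨U, n, hx, ⟨i⟩⟩ := h x
  exact ⟨U, n, hx, ⟨((Scheme.Modules.restrictFunctor U.ι).mapIso e).symm ≪≫ i⟩⟩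

theorem isFinLocFree_restrict (j : X ⟶ Y) [IsOpenImmersion j] {M : Y.Modules}
    (h : FlatMod.IsFinLocFree M) :
    FlatMod.IsFinLocFree ((Scheme.Modules.restrictFunctor j).obj M) :=
  isFinLocFree_iso ((Scheme.Modules.restrictFunctorIsoPullback j).app M).symm
    (Groth.Agent.PullbackMod.isFinLocFree_pullback j M h)

/-- `O_Y^n` restricts to `O_X^n`. -/
def restrictFreeMod (j : X ⟶ Y) [IsOpenImmersion j] (n : ℕ) :
    (Scheme.Modules.restrictFunctor j).obj (FlatMod.freeMod Y n) ≅ FlatMod.freeMod X n :=
  haveI : PreservesColimitsOfSize.{0, 0} (Scheme.Modules.restrictFunctor j) :=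
    (Scheme.Modules.restrictAdjunction j).leftAdjoint_preservesColimits
  PreservesCoproduct.iso (Scheme.Modules.restrictFunctor j) _ ≪≫
    Sigma.mapIso fun _ => restrictUnit j

theorem isFinLocFree_freeMod (n : ℕ) : FlatMod.IsFinLocFree (FlatMod.freeMod Y n) := fun _ =>
  ⟨⊤, n, trivial, ⟨restrictFreeMod _ n⟩⟩

/-! ### Complexes -/

/-- Restriction of complexes along an open immersion. -/
abbrev resCx (j : X ⟶ Y) [IsOpenImmersion j] :
    CochainComplex Y.Modules ℤ ⥤ CochainComplex X.Modules ℤ :=
  (Scheme.Modules.restrictFunctor j).mapHomologicalComplex (ComplexShape.up ℤ)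

/-- Restriction of complexes is compatible with composition. -/
def resCxComp (i : X ⟶ Y) (j : Y ⟶ Z) [IsOpenImmersion i] [IsOpenImmersion j] :
    resCx (i ≫ j) ≅ resCx j ⋙ resCx i :=
  NatIso.mapHomologicalComplex (Scheme.Modules.restrictFunctorComp i j) (ComplexShape.up ℤ)

/-- Restriction of complexes only depends on the morphism. -/
def resCxCongr {i j : X ⟶ Y} (h : i = j) [IsOpenImmersion i] [IsOpenImmersion j] :
    resCx i ≅ resCx j :=
  NatIso.mapHomologicalComplex (Scheme.Modules.restrictFunctorCongr h) (ComplexShape.up ℤ)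

theorem exactAt_resCx (j : X ⟶ Y) [IsOpenImmersion j] {F : CochainComplex Y.Modules ℤ} {i : ℤ}
    (h : F.ExactAt i) : ((resCx j).obj F).ExactAt i := by
  rw [HomologicalComplex.exactAt_iff] at h ⊢
  exact h.map (Scheme.Modules.restrictFunctor j)

theorem isZero_resCx (j : X ⟶ Y) [IsOpenImmersion j] {F : CochainComplex Y.Modules ℤ} {i : ℤ}
    (h : IsZero (F.X i)) : IsZero (((resCx j).obj F).X i) :=
  (Scheme.Modules.restrictFunctor j).map_isZero h

theorem isStrictlyPerfect_restrict (j : X ⟶ Y) [IsOpenImmersion j] {E : CochainComplex Y.Modules ℤ}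
    (h : DCoh.IsStrictlyPerfect E) : DCoh.IsStrictlyPerfect ((resCx j).obj E) := by
  obtain ⟨⟨a, b, hab⟩, hE⟩ := h
  exact ⟨⟨a, b, fun i hi => isZero_resCx j (hab i hi)⟩, fun i => isFinLocFree_restrict j (hE i)⟩

end Groth.Agent.DCohLib
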