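import Groth.Agent.DCohLib.PullKFlat
import Groth.Agent.PullbackMod.Hom

/-!
# Direct images along closed immersions
-/

set_option autoImplicit false
set_option linter.style.haveILetI false

universe u

open CategoryTheory CategoryTheory.Limits AlgebraicGeometry TopologicalSpace Opposite MonoidalCategory
open Groth.Agent.PullbackMod
open scoped TensorProduct

noncomputable section

namespace Groth.Agent.DCohLib

variable {X Y : Scheme.{u}} (i : X ⟶ Y)

/-- The stalk of a direct image maps to the stalk. -/
def pushStalk (M : X.Modules) (x : X) :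
    ((Scheme.Modules.pushforward i).obj M).presheaf.stalk (i x) →+ M.presheaf.stalk x :=
  (TopCat.Presheaf.stalkPushforward Ab i.base M.presheaf x).hom

theorem pushStalk_germ (M : X.Modules) (x : X) {W : Y.Opens} (hx : i x ∈ W)
    (s : Γ((Scheme.Modules.pushforward i).obj M, W)) :
    pushStalk i M x (((Scheme.Modules.pushforward i).obj M).presheaf.germ W (i x) hx s) =
      M.presheaf.germ (i ⁻¹ᵁ W) x hx s :=
  congr($(TopCat.Presheaf.stalkPushforward_germ Ab i.base M.presheaf W x hx) s)

theorem pushStalk_smul (M : X.Modules) (x : X) (a : Y.presheaf.stalk (i x))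
    (z : ((Scheme.Modules.pushforward i).obj M).presheaf.stalk (i x)) :
    pushStalk i M x (a • z) = i.stalkMap x a • pushStalk i M x z := by
  let N := (Scheme.Modules.pushforward i).obj M
  obtain ⟨V, hV, a, rfl⟩ := TopCat.Presheaf.exists_germ_eq Y.presheaf a
  obtain ⟨U, hU, z, rfl⟩ := TopCat.Presheaf.exists_germ_eq N.presheaf z
  have hx : i x ∈ V ⊓ U := ⟨hV, hU⟩
  rw [← Y.presheaf.germ_res_apply (homOfLE (inf_le_left : V ⊓ U ≤ V)) (i x) hx a,
    ← N.presheaf.germ_res_apply (homOfLE (inf_le_right : V ⊓ U ≤ U)) (i x) hx z]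
  generalize Y.presheaf.map (homOfLE (inf_le_left : V ⊓ U ≤ V)).op a = a'
  generalize N.presheaf.map (homOfLE (inf_le_right : V ⊓ U ≤ U)).op z = z'
  erw [← PresheafOfModules.germ_smul (R := Y.presheaf) N.val (i x) (V ⊓ U) hx]
  refine (pushStalk_germ i M x hx _).trans ?_
  refine (PresheafOfModules.germ_smul (R := X.presheaf) M.val x (i ⁻¹ᵁ (V ⊓ U)) hx _ _).trans ?_
  exact congrArg₂ (· • ·) (Scheme.Hom.germ_stalkMap_apply i (V ⊓ U) x hx a').symm
    (pushStalk_germ i M x hx z').symm

theorem counit_stalk_pullStalk (M : X.Modules) (x : X)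
    (z : ((Scheme.Modules.pushforward i).obj M).presheaf.stalk (i x)) :
    stalkLin ((Scheme.Modules.pullbackPushforwardAdjunction i).counit.app M) x
      (pullStalk i ((Scheme.Modules.pushforward i).obj M) x z) = pushStalk i M x z := by
  let N := (Scheme.Modules.pushforward i).obj M
  obtain ⟨U, hU, z, rfl⟩ := TopCat.Presheaf.exists_germ_eq N.presheaf z
  refine (congrArg _ (pullStalk_germ i N x hU z)).trans ?_
  refine (stalkLin_germ _ x hU _).trans (Eq.trans ?_ (pushStalk_germ i M x hU z).symm)
  exact congrArg (M.presheaf.germ (i ⁻¹ᵁ U) x hU)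
    (congr(($((Scheme.Modules.pullbackPushforwardAdjunction i).right_triangle_components M)).app U z))

theorem unit_stalk_pushStalk (T : Y.Modules) (x : X) (z : T.presheaf.stalk (i x)) :
    pushStalk i ((Scheme.Modules.pullback i).obj T) x
      (stalkLin ((Scheme.Modules.pullbackPushforwardAdjunction i).unit.app T) (i x) z) = pullStalk i T x z := by
  obtain ⟨U, hU, z, rfl⟩ := TopCat.Presheaf.exists_germ_eq T.presheaf z
  exact ((congrArg _ (stalkLin_germ _ (i x) hU z)).trans
    (pushStalk_germ i _ x hU _)).trans (pullStalk_germ i T x hU z).symm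

section

variable [IsClosedImmersion i]

theorem bijective_pushStalk (M : X.Modules) (x : X) : Function.Bijective (pushStalk i M x) := by
  haveI := TopCat.Presheaf.stalkPushforward.stalkPushforward_iso_of_isInducing Ab
    i.isClosedEmbedding.isInducing M.presheaf x
  exact ConcreteCategory.bijective_of_isIso (TopCat.Presheaf.stalkPushforward Ab i.base M.presheaf x)

theorem subsingleton_stalk_pushforward (M : X.Modules) (y : Y) (hy : y ∉ Set.range i) :
    Subsingleton (((Scheme.Modules.pushforward i).obj M).presheaf.stalk y) := by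
  let N := (Scheme.Modules.pushforward i).obj M
  suffices h : ∀ z : N.presheaf.stalk y, z = 0 from ⟨fun a b => (h a).trans (h b).symm⟩
  intro z
  obtain ⟨U, hU, z, rfl⟩ := TopCat.Presheaf.exists_germ_eq N.presheaf z
  let W : Y.Opens := ⟨(Set.range i)ᶜ, i.isClosedEmbedding.isClosed_range.isOpen_compl⟩
  have h0 : i ⁻¹ᵁ (U ⊓ W) = ⊥ := eq_bot_iff.2 fun x hx => (hx.2 ⟨x, rfl⟩).elim
  have hz : N.presheaf.map (homOfLE (inf_le_left : U ⊓ W ≤ U)).op z = 0 :=
    TopCat.Sheaf.eq_of_locally_eq' ⟨M.presheaf, M.isSheaf⟩ (fun e : Empty => e.elim) (i ⁻¹ᵁ (U ⊓ W))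
      (fun e => e.elim) (h0.le.trans bot_le) _ _ (fun e => e.elim)
  rw [← N.presheaf.germ_res_apply (homOfLE (inf_le_left : U ⊓ W ≤ U)) y ⟨hU, hy⟩ z, hz, map_zero]

end

/-- A module supported scheme-theoretically on the image of `i`, stalkwise. -/
structure SuppOn (T : Y.Modules) : Prop where
  subsingleton : ∀ y, y ∉ Set.range i → Subsingleton (T.presheaf.stalk y)
  smul_eq_zero : ∀ (x : X) (a : Y.presheaf.stalk (i x)), i.stalkMap x a = 0 →
    ∀ z : T.presheaf.stalk (i x), a • z = 0

variable [IsClosedImmersion i]

theorem suppOn_pushforward (M : X.Modules) : SuppOn i ((Scheme.Modules.pushforward i).obj M) where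
  subsingleton := subsingleton_stalk_pushforward i M
  smul_eq_zero x a ha z := (bijective_pushStalk i M x).1 (by
    rw [pushStalk_smul, ha, zero_smul, map_zero])

theorem suppOn_tensor {M : Y.Modules} (hM : SuppOn i M) (N : Y.Modules) : SuppOn i (tmod M N) where
  subsingleton y hy := by
    haveI := hM.subsingleton y hy
    exact (stalkTensor y M N).symm.toEquiv.subsingleton_congr.2 (by
      refine ⟨fun a b => ?_⟩
      suffices h : ∀ c : M.presheaf.stalk y ⊗[Y.presheaf.stalk y] N.presheaf.stalk y, c = 0 from
        (h a).trans (h b).symm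
      intro c
      induction c using TensorProduct.induction_on with
      | zero => rfl
      | tmul m n => rw [Subsingleton.elim m 0, TensorProduct.zero_tmul]
      | add p q hp hq => rw [hp, hq, add_zero])
  smul_eq_zero x a ha z := by
    obtain ⟨c, rfl⟩ := (stalkTensor (i x) M N).surjective z
    rw [← map_smul]
    suffices h : a • c = 0 by rw [h, map_zero]
    induction c using TensorProduct.induction_on with
    | zero => rw [smul_zero]
    | tmul m n => rw [TensorProduct.smul_tmul', hM.smul_eq_zero x a ha, TensorProduct.zero_tmul]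
    | add p q hp hq => rw [smul_add, hp, hq, add_zero]

theorem bijective_pullStalk {T : Y.Modules} (hT : SuppOn i T) (x : X) :
    Function.Bijective (pullStalk i T x) := by
  letI := (i.stalkMap x).hom.toAlgebra
  let A := Y.presheaf.stalk (i x)
  let B := X.presheaf.stalk x
  have hsurj : Function.Surjective (Algebra.linearMap A B) := i.stalkMap_surjective x
  let T' := T.presheaf.stalk (i x)
  have h1 : Function.Bijective fun t : T' => (1 : B) ⊗ₜ[A] t := by
    constructor
    · refine (injective_iff_map_eq_zero (TensorProduct.mk A B T' 1)).2 fun t ht => ?_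
      have hex := rTensor_exact T' (LinearMap.exact_subtype_ker_map (Algebra.linearMap A B)) hsurj
      obtain ⟨n, hn⟩ := (hex ((1 : A) ⊗ₜ[A] t)).1 (by
        rw [LinearMap.rTensor_tmul]
        show algebraMap A B 1 ⊗ₜ[A] t = 0
        rw [map_one]
        exact ht)
      have h0 : ∀ n, TensorProduct.lid A T'
          ((LinearMap.ker (Algebra.linearMap A B)).subtype.rTensor T' n) = 0 := fun n => by
        induction n using TensorProduct.induction_on with
        | zero => rw [map_zero, map_zero]
        | tmul a t =>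
          rw [LinearMap.rTensor_tmul, TensorProduct.lid_tmul]
          exact hT.smul_eq_zero x a.1 a.2 t
        | add p q hp hq => rw [map_add, map_add, hp, hq, add_zero]
      have h2 := h0 n
      rw [hn, TensorProduct.lid_tmul, one_smul] at h2
      exact h2
    · intro c
      induction c using TensorProduct.induction_on with
      | zero => exact ⟨0, TensorProduct.tmul_zero _ _⟩
      | tmul b t =>
        obtain ⟨a, rfl⟩ := hsurj b
        refine ⟨a • t, ?_⟩
        show (1 : B) ⊗ₜ[A] (a • t) = algebraMap A B a ⊗ₜ[A] t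
        rw [Algebra.algebraMap_eq_smul_one, TensorProduct.smul_tmul]
      | add p q hp hq =>
        obtain ⟨⟨u, hu⟩, v, hv⟩ := And.intro hp hq
        exact ⟨u + v, (TensorProduct.tmul_add _ u v).trans (congrArg₂ (· + ·) hu hv)⟩
  have h3 : (pullStalk i T x : T' → _) = pullStalkEquiv i x T ∘ fun t : T' => (1 : B) ⊗ₜ[A] t :=
    funext fun t => ((pullStalkEquiv_tmul i x T 1 t).trans (one_smul _ _)).symm
  rw [h3]
  exact (pullStalkEquiv i x T).bijective.comp h1

theorem isIso_unit_of_suppOn {T : Y.Modules} (hT : SuppOn i T) :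
    IsIso ((Scheme.Modules.pullbackPushforwardAdjunction i).unit.app T) := by
  refine (isIso_iff_stalk _).2 fun y => ?_
  by_cases hy : y ∈ Set.range i
  · obtain ⟨x, rfl⟩ := hy
    refine ((bijective_pushStalk i ((Scheme.Modules.pullback i).obj T) x).of_comp_iff' _).1 ?_
    have h : (pushStalk i ((Scheme.Modules.pullback i).obj T) x) ∘
        stalkLin ((Scheme.Modules.pullbackPushforwardAdjunction i).unit.app T) (i x) = pullStalk i T x :=
      funext (unit_stalk_pushStalk i T x)
    exact h ▸ bijective_pullStalk i hT x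
  · haveI := hT.subsingleton y hy
    haveI := subsingleton_stalk_pushforward i ((Scheme.Modules.pullback i).obj T) y hy
    exact ⟨fun a b _ => (hT.subsingleton y hy).elim a b,
      fun _ => ⟨0, (subsingleton_stalk_pushforward i ((Scheme.Modules.pullback i).obj T) y hy).elim _ _⟩⟩

theorem isIso_counit_closedImmersion (M : X.Modules) :
    IsIso ((Scheme.Modules.pullbackPushforwardAdjunction i).counit.app M) := by
  refine (isIso_iff_stalk _).2 fun x => ?_
  refine ((bijective_pullStalk i (suppOn_pushforward i M) x).of_comp_iff _).1 ?_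
  have h : stalkLin ((Scheme.Modules.pullbackPushforwardAdjunction i).counit.app M) x ∘
      pullStalk i ((Scheme.Modules.pushforward i).obj M) x = pushStalk i M x :=
    funext (counit_stalk_pullStalk i M x)
  exact h ▸ bijective_pushStalk i M x

instance preservesEpimorphisms_pushforward : (Scheme.Modules.pushforward i).PreservesEpimorphisms where
  preserves {M N} f hf := by
    refine (epi_iff_stalk _).2 fun y => ?_
    by_cases hy : y ∈ Set.range i
    · obtain ⟨x, rfl⟩ := hy
      intro w
      obtain ⟨u, hu⟩ := (epi_iff_stalk f).1 hf x (pushStalk i N x w)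
      obtain ⟨v, rfl⟩ := (bijective_pushStalk i M x).2 u
      refine ⟨v, (bijective_pushStalk i N x).1 (Eq.trans ?_ hu)⟩
      obtain ⟨U, hU, v, rfl⟩ := TopCat.Presheaf.exists_germ_eq ((Scheme.Modules.pushforward i).obj M).presheaf v
      exact ((congrArg _ (stalkLin_germ _ (i x) hU v)).trans (pushStalk_germ i N x hU _)).trans
        ((stalkLin_germ f x hU v).symm.trans (congrArg _ (pushStalk_germ i M x hU v).symm))
    · haveI := subsingleton_stalk_pushforward i N y hy
      exact fun _ => ⟨0, Subsingleton.elim _ _⟩

end Groth.Agent.DCohLib
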