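import Groth.Agent.KFlat.ModSiteRes
import Groth.Agent.KFlat.QuasiIso
import Groth.Agent.ModTensor.StalkFlat
import Groth.Prelude.Def_DCoh4
import Mathlib.Topology.Sheaves.Points
import Mathlib.RingTheory.Flat.Stability

/-!
# Flatness and K-flatness on a scheme versus on its site of opens
-/

set_option autoImplicit false
set_option linter.style.haveILetI false

universe u v w

open CategoryTheory CategoryTheory.Limits AlgebraicGeometry TopologicalSpace Opposite

noncomputable section

namespace Groth.Agent.DCohLib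

section Stalks

variable {X : TopCat.{u}} (x : X) {A : Type w} [Category.{u} A] [HasColimitsOfSize.{u, u} A]
  (P : X.Presheaf A)

/-- The point of the site of opens. -/
abbrev pt : GrothendieckTopology.Point.{u} (Opens.grothendieckTopology X) :=
  Opens.pointGrothendieckTopology x

/-- From the stalk to the fibre at the point. -/
def toSiteStalk : TopCat.Presheaf.stalk P x ⟶ (pt x).presheafFiber.obj P :=
  colimit.desc _
    { pt := (pt x).presheafFiber.obj P
      ι :=
        { app := fun U => (pt x).toPresheafFiber U.unop.1 ⟨⟨U.unop.2⟩⟩ P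
          naturality := fun U V f => by
            show P.map _ ≫ _ = _ ≫ 𝟙 _
            rw [Category.comp_id]
            exact (pt x).toPresheafFiber_w _ _ P } }

theorem germ_toSiteStalk (U : Opens X) (hx : x ∈ U) :
    TopCat.Presheaf.germ P U x hx ≫ toSiteStalk x P = (pt x).toPresheafFiber U ⟨⟨hx⟩⟩ P :=
  colimit.ι_desc _ (op (⟨U, hx⟩ : OpenNhds x))

/-- From the fibre at the point to the stalk. -/
def fromSiteStalk : (pt x).presheafFiber.obj P ⟶ TopCat.Presheaf.stalk P x :=
  (pt x).presheafFiberDesc (fun U h => TopCat.Presheaf.germ P U x h.down.down)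
    fun U V f h => TopCat.Presheaf.germ_res P f x h.down.down

theorem toPresheafFiber_fromSiteStalk (U : Opens X) (h : (pt x).fiber.obj U) :
    (pt x).toPresheafFiber U h P ≫ fromSiteStalk x P = TopCat.Presheaf.germ P U x h.down.down :=
  colimit.ι_desc _ _

/-- The comparison isomorphism of stalks. -/
def stalkComparison : TopCat.Presheaf.stalk P x ≅ (pt x).presheafFiber.obj P where
  hom := toSiteStalk x P
  inv := fromSiteStalk x P
  hom_inv_id := TopCat.Presheaf.stalk_hom_ext P fun U hx => by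
    rw [← Category.assoc, germ_toSiteStalk, toPresheafFiber_fromSiteStalk, Category.comp_id]
  inv_hom_id := (pt x).presheafFiber_hom_ext fun U h => by
    rw [← Category.assoc, toPresheafFiber_fromSiteStalk, germ_toSiteStalk, Category.comp_id]
    rfl

end Stalks

theorem flat_of_semilinear {R R' M M' : Type u} [CommRing R] [CommRing R'] [AddCommGroup M] [Module R M]
    [AddCommGroup M'] [Module R' M'] (e : R ≃+* R') (ψ : M ≃+ M') (hψ : ∀ (r : R) (m : M), ψ (r • m) = e r • ψ m)
    [Module.Flat R M] : Module.Flat R' M' := by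
  letI : Algebra R' R := e.symm.toRingHom.toAlgebra
  letI : Module R' M := Module.compHom M e.symm.toRingHom
  haveI : IsScalarTower R' R M := IsScalarTower.of_algebraMap_smul fun _ _ => rfl
  let l : R' ≃ₗ[R'] R :=
    { e.symm.toAddEquiv with map_smul' := fun a b => map_mul e.symm a b }
  haveI : Module.Flat R' R := Module.Flat.of_linearEquiv l.symm
  haveI : Module.Flat R' M := Module.Flat.trans R' R M
  have hm : ∀ (a : R') (y : M), ψ (a • y) = a • ψ y := fun a y => by
    show ψ (e.symm a • y) = a • ψ y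
    rw [hψ, RingEquiv.apply_symm_apply]
  let m : M ≃ₗ[R'] M' := { ψ with map_smul' := hm }
  exact Module.Flat.of_linearEquiv m.symm

variable {X : Scheme.{u}}

theorem flat_stalk_iff (M : X.Modules) (x : X) :
    FlatMod.IsFlatAt M x ↔ Module.Flat (ModSite.stalkRing (pt (X := X.toTopCat) x) X.sheaf)
      (ModSite.stalkMod (O := X.sheaf) (pt (X := X.toTopCat) x) M) := by
  let e : X.presheaf.stalk x ≃+* ModSite.stalkRing (pt (X := X.toTopCat) x) X.sheaf :=
    (stalkComparison (X := X.toTopCat) x X.presheaf).commRingCatIsoToRingEquiv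
  let ψ : M.presheaf.stalk x ≃+ ModSite.stalkAb (O := X.sheaf) (pt (X := X.toTopCat) x) M :=
    (stalkComparison (X := X.toTopCat) x M.presheaf).addCommGroupIsoToAddEquiv
  have hψ : ∀ (r : X.presheaf.stalk x) (m : M.presheaf.stalk x), ψ (r • m) = e r • ψ m := by
    intro r m
    obtain ⟨U, hxU, r, rfl⟩ := TopCat.Presheaf.exists_germ_eq X.presheaf r
    obtain ⟨V, hxV, m, rfl⟩ := TopCat.Presheaf.exists_germ_eq M.presheaf m
    rw [← TopCat.Presheaf.germ_res_apply X.presheaf (homOfLE (inf_le_left : U ⊓ V ≤ U)) x ⟨hxU, hxV⟩ r,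
      ← TopCat.Presheaf.germ_res_apply M.presheaf (homOfLE (inf_le_right : U ⊓ V ≤ V)) x ⟨hxU, hxV⟩ m]
    generalize M.presheaf.map (homOfLE (inf_le_right : U ⊓ V ≤ V)).op m = m'
    generalize X.presheaf.map (homOfLE (inf_le_left : U ⊓ V ≤ U)).op r = r'
    have hr : e (X.presheaf.germ (U ⊓ V) x ⟨hxU, hxV⟩ r') =
        ModSite.germRing (O := X.sheaf) (pt (X := X.toTopCat) x) (U ⊓ V) ⟨⟨⟨hxU, hxV⟩⟩⟩ r' :=
      ConcreteCategory.congr_hom (germ_toSiteStalk (X := X.toTopCat) x X.presheaf (U ⊓ V) ⟨hxU, hxV⟩) r'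
    have hm : ∀ m' : Γ(M, U ⊓ V), ψ (M.presheaf.germ (U ⊓ V) x ⟨hxU, hxV⟩ m') =
        ModSite.germ (O := X.sheaf) (pt (X := X.toTopCat) x) M (U ⊓ V) ⟨⟨⟨hxU, hxV⟩⟩⟩ m' := fun m' =>
      ConcreteCategory.congr_hom (germ_toSiteStalk (X := X.toTopCat) x M.presheaf (U ⊓ V) ⟨hxU, hxV⟩) m'
    rw [hr, hm]
    refine Eq.trans ?_ (ModSite.germ_smul (O := X.sheaf) (pt (X := X.toTopCat) x) M (U ⊓ V) ⟨⟨⟨hxU, hxV⟩⟩⟩ r' m')
    refine Eq.trans ?_ (hm _)
    refine congrArg ψ ?_
    exact (PresheafOfModules.germ_smul (R := X.presheaf) M.val x (U ⊓ V) ⟨hxU, hxV⟩ r' m').symm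
  constructor
  · intro h
    haveI : Module.Flat (X.presheaf.stalk x) (M.presheaf.stalk x) := h
    exact flat_of_semilinear e ψ hψ
  · intro h
    haveI : Module.Flat (ModSite.stalkRing (pt (X := X.toTopCat) x) X.sheaf)
      (ModSite.stalkAb (O := X.sheaf) (pt (X := X.toTopCat) x) M) := h
    exact flat_of_semilinear e.symm ψ.symm fun r m => ψ.injective (by
      rw [AddEquiv.apply_symm_apply, hψ, RingEquiv.apply_symm_apply, AddEquiv.apply_symm_apply])

theorem isFlat_iff (M : X.Modules) : FlatMod.IsFlat M ↔ ModSite.IsFlat (O := X.sheaf) M := by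
  refine ⟨fun h => Groth.Agent.ModTensor.isFlat_of_stalks (O := X.sheaf) M _
      (Opens.isConservativeFamilyOfPoints_pointsGrothendieckTopology X.toTopCat) ?_,
    fun h x => (flat_stalk_iff M x).2 (Groth.Agent.ModTensor.flat_stalk (O := X.sheaf) _ M h)⟩
  rintro _ ⟨x⟩
  exact (flat_stalk_iff M x).1 (h x)

theorem isKFlat_iff (K : CochainComplex X.Modules ℤ) : DCoh.IsKFlat K ↔ ModSite.IsKFlat (O := X.sheaf) K :=
  Iff.rfl

end Groth.Agent.DCohLib
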