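import Groth.Agent.PullFlat.TensorNat
import Groth.Agent.DCohLib.Bridge
import Groth.Agent.KFlat.MapTot

/-!
# Inverse images of tensor products, as bifunctors
-/

set_option autoImplicit false
set_option linter.style.haveILetI false
set_option linter.unusedSectionVars false

universe u

open CategoryTheory Limits Opposite TensorProduct MonoidalCategory AlgebraicGeometry

noncomputable section

namespace Groth.Agent.DCohLib

open Groth.Agent.ModTensor Groth.Agent.PullFlat

section Site

variable {C D : Type u} [SmallCategory C] [SmallCategory D] {J : GrothendieckTopology C}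
  {K : GrothendieckTopology D} {O_C : Sheaf J CommRingCat.{u}} {O_D : Sheaf K CommRingCat.{u}}
  (f : ModSite.RMor O_C O_D)

theorem pairT_map_right {O : Sheaf J CommRingCat.{u}} (M : ModSite.Mod O) {N N' : ModSite.Mod O} (g : N ⟶ N')
    {U : C} (m : (pre O M).obj (op U)) (n : (pre O N).obj (op U)) :
    lin ((preFunctor O).map (((ModSite.tensorBi O).obj M).map g)) (op U) (pairT O M N m n) =
      pairT O M N' m (lin ((preFunctor O).map g) (op U) n) :=
  (congr(($(shUnit_naturality O (pre O M ◁ (preFunctor O).map g))).app (op U) (m ⊗ₜ[O.obj.obj (op U)] n :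
    ((pre O M).obj (op U) : Type u) ⊗[O.obj.obj (op U)] ((pre O N).obj (op U) : Type u)))).symm

theorem tensorCmp_natural_right (M : ModSite.Mod O_D) {N N' : ModSite.Mod O_D} (g : N ⟶ N') :
    f.pull.map (((ModSite.tensorBi O_D).obj M).map g) ≫ tensorCmp f M N' =
      tensorCmp f M N ≫ ((ModSite.tensorBi O_C).obj (f.pull.obj M)).map (f.pull.map g) := by
  apply (f.adj.homEquiv _ _).injective
  rw [f.adj.homEquiv_naturality_left, f.adj.homEquiv_naturality_right]
  have e1 := fun N₀ : ModSite.Mod O_D => (Equiv.apply_symm_apply (f.adj.homEquiv _ _)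
    (((PresheafOfModules.sheafificationAdjunction (𝟙 (ModSite.ringSh O_D).obj)).homEquiv _ _).symm
      (pairPush f M N₀)) : f.adj.homEquiv _ _ (tensorCmp f M N₀) = _)
  refine ((congrArg (((ModSite.tensorBi O_D).obj M).map g ≫ ·) (e1 N')).trans ?_).trans
    (congrArg (· ≫ f.push.map _) (e1 N)).symm
  let adj := PresheafOfModules.sheafificationAdjunction (𝟙 (ModSite.ringSh O_D).obj)
  apply (adj.homEquiv _ _).injective
  refine (adj.homEquiv_naturality_left (pre O_D M ◁ (preFunctor O_D).map g) _).trans
    (Eq.trans ?_ (adj.homEquiv_naturality_right _ _).symm)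
  refine ((congrArg ((pre O_D M ◁ (preFunctor O_D).map g) ≫ ·) (Equiv.apply_symm_apply _ _)).trans ?_).trans
    (congrArg (· ≫ _) (Equiv.apply_symm_apply (adj.homEquiv _ _) (pairPush f M N))).symm
  refine PresheafOfModules.hom_ext fun V => ModuleCat.hom_ext (LinearMap.ext fun z => ?_)
  obtain ⟨V⟩ := V
  change ((pre O_D M).obj (op V) : Type u) ⊗[O_D.obj.obj (op V)] ((pre O_D N).obj (op V) : Type u) at z
  show pairHom f M N' V ((pre O_D M ◁ (preFunctor O_D).map g).app (op V) z) =
    lin ((preFunctor O_C).map (((ModSite.tensorBi O_C).obj (f.pull.obj M)).map (f.pull.map g)))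
      (op (f.fn.obj V)) (pairHom f M N V z)
  induction z using TensorProduct.induction_on with
  | zero => exact ((congrArg _ (map_zero _)).trans (map_zero _)).trans ((congrArg _ (map_zero _)).trans (map_zero _)).symm
  | tmul m n =>
    show pairT O_C (f.pull.obj M) (f.pull.obj N') (unitSec f M m)
        (unitSec f N' (lin ((preFunctor O_D).map g) (op V) n)) = _
    rw [pairHom_tmul, pairT_map_right]
    refine congrArg (pairT O_C (f.pull.obj M) (f.pull.obj N') (unitSec f M m)) ?_
    exact congr(($(f.adj.unit.naturality g)).val.app (op V) n)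
  | add z₁ z₂ h₁ h₂ =>
    exact ((congrArg _ (map_add _ z₁ z₂)).trans (map_add _ _ _)).trans ((congrArg₂ (· + ·) h₁ h₂).trans
      ((congrArg _ (map_add (pairHom f M N V) z₁ z₂)).trans (map_add _ _ _)).symm)

/-- Inverse images commute with tensor products, as bifunctors. -/
def pullTensorBiIso :
    ModSite.tensorBi O_D ⋙ (Functor.whiskeringRight _ _ _).obj f.pull ≅
      f.pull ⋙ ModSite.tensorBi O_C ⋙ (Functor.whiskeringLeft _ _ _).obj f.pull :=
  NatIso.ofComponents
    (fun M => NatIso.ofComponents (fun N => haveI := isIso_tensorCmp f M N; asIso (tensorCmp f M N))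
      fun g => tensorCmp_natural_right f M g)
    fun g => NatTrans.ext (funext fun N => tensorCmp_natural f g N)

end Site

variable {X Y : Scheme.{u}} (f : X ⟶ Y)

/-- Inverse images commute with tensor products, as bifunctors, on schemes. -/
def pullTensorBiIsoSch :
    DCoh.tensorBi (X := Y) ⋙ (Functor.whiskeringRight _ _ _).obj (Scheme.Modules.pullback f) ≅
      Scheme.Modules.pullback f ⋙ DCoh.tensorBi (X := X) ⋙
        (Functor.whiskeringLeft _ _ _).obj (Scheme.Modules.pullback f) :=
  pullTensorBiIso (ModSite.RMor.ofScheme f)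

instance additive_pullBi_obj (M : Y.Modules) :
    ((Scheme.Modules.pullback f ⋙ DCoh.tensorBi (X := X) ⋙
      (Functor.whiskeringLeft _ _ _).obj (Scheme.Modules.pullback f)).obj M).Additive :=
  inferInstanceAs (Scheme.Modules.pullback f ⋙ (DCoh.tensorBi (X := X)).obj ((Scheme.Modules.pullback f).obj M)).Additive

/-- The inverse image of a tensor product of complexes. -/
def pullTensorCxIso (L K : CochainComplex Y.Modules ℤ) :
    ((Scheme.Modules.pullback f).mapHomologicalComplex (ComplexShape.up ℤ)).obj ((DCoh.tensorCx.obj L).obj K) ≅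
      (DCoh.tensorCx.obj (((Scheme.Modules.pullback f).mapHomologicalComplex (ComplexShape.up ℤ)).obj L)).obj
        (((Scheme.Modules.pullback f).mapHomologicalComplex (ComplexShape.up ℤ)).obj K) :=
  haveI : PreservesColimitsOfSize.{u, u} (Scheme.Modules.pullback f) :=
    (Scheme.Modules.pullbackPushforwardAdjunction f).leftAdjoint_preservesColimits
  haveI : PreservesColimitsOfSize.{0, 0} (Scheme.Modules.pullback f) := preservesColimitsOfSize_shrink.{0, u, 0, u} _
  Groth.Agent.KFlat.mapTotIso (F := DCoh.tensorBi (X := Y))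
    (F' := Scheme.Modules.pullback f ⋙ DCoh.tensorBi (X := X) ⋙
      (Functor.whiskeringLeft _ _ _).obj (Scheme.Modules.pullback f))
    (G := Scheme.Modules.pullback f) (pullTensorBiIsoSch f) L K

end Groth.Agent.DCohLib
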