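import Groth.Agent.QCohLib.Exact
import Groth.Agent.CohBase.Affine
import Groth.Prelude.Def_QCohCat
import Mathlib.CategoryTheory.Abelian.Subcategory

/-!
# Quasi-coherent modules form an exact abelian subcategory
-/

set_option autoImplicit false
set_option backward.isDefEq.respectTransparency false
set_option linter.style.haveILetI false

universe u

open CategoryTheory CategoryTheory.Limits AlgebraicGeometry ZeroObject

noncomputable section

namespace Groth.Agent.DCohLib

variable {X : Scheme.{u}}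

theorem isQCoh_of_isZero' {Z : X.Modules} (hZ : IsZero Z) : Coh.IsQCoh Z := by
  let S : ShortComplex X.Modules :=
    ShortComplex.mk (0 : Z ⟶ Coh.structureModule X) (𝟙 (Coh.structureModule X)) zero_comp
  haveI : Mono S.f := ⟨fun _ _ _ => hZ.eq_of_tgt _ _⟩
  haveI : Epi S.g := inferInstanceAs (Epi (𝟙 _))
  have hS : S.ShortExact := { exact := (ShortComplex.exact_iff_mono S rfl).2 (inferInstanceAs (Mono (𝟙 _))) }
  exact Groth.Agent.QCohLib.isQCoh_X₁ hS inferInstance inferInstance

theorem isQCoh_of_iso' {M N : X.Modules} (e : M ≅ N) (hM : Coh.IsQCoh M) : Coh.IsQCoh N := by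
  let S : ShortComplex X.Modules := ShortComplex.mk (0 : 0 ⟶ M) e.hom zero_comp
  haveI : Mono S.f := ⟨fun _ _ _ => (isZero_zero _).eq_of_tgt _ _⟩
  haveI : Epi S.g := inferInstanceAs (Epi e.hom)
  have hS : S.ShortExact := { exact := (ShortComplex.exact_iff_mono S rfl).2 (inferInstanceAs (Mono e.hom)) }
  exact Groth.Agent.QCohLib.isQCoh_X₃ hS (isQCoh_of_isZero' (isZero_zero _)) hM

theorem isQCoh_biprod' {M N : X.Modules} (hM : Coh.IsQCoh M) (hN : Coh.IsQCoh N) : Coh.IsQCoh (M ⊞ N) := by
  let s : (ShortComplex.mk (biprod.inl : M ⟶ M ⊞ N) biprod.snd biprod.inl_snd).Splitting :=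
    { r := biprod.fst, s := biprod.inr }
  exact Groth.Agent.QCohLib.isQCoh_X₂ s.shortExact hM hN

instance isClosedUnderIsomorphisms_isQCoh : (QCohCat.isQCoh X).IsClosedUnderIsomorphisms :=
  ⟨fun e h => isQCoh_of_iso' e h⟩

instance containsZero_isQCoh : (QCohCat.isQCoh X).ContainsZero :=
  ⟨0, isZero_zero _, isQCoh_of_isZero' (isZero_zero _)⟩

instance isClosedUnderKernels_isQCoh : (QCohCat.isQCoh X).IsClosedUnderKernels where
  kernels_le := by
    intro K ⟨f, k, hk, hf⟩
    exact (QCohCat.isQCoh X).prop_of_iso (IsLimit.conePointUniqueUpToIso (kernelIsKernel f) hk)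
      (Groth.Agent.QCohLib.isQCoh_image f hf.1 hf.2).1

instance isClosedUnderCokernels_isQCoh : (QCohCat.isQCoh X).IsClosedUnderCokernels where
  cokernels_le := by
    intro K ⟨f, k, hk, hf⟩
    exact (QCohCat.isQCoh X).prop_of_iso (IsColimit.coconePointUniqueUpToIso (cokernelIsCokernel f) hk)
      (Groth.Agent.QCohLib.isQCoh_image f hf.1 hf.2).2

instance isClosedUnderBinaryProducts_isQCoh : (QCohCat.isQCoh X).IsClosedUnderBinaryProducts where
  limitsOfShape_le := by
    rintro Y ⟨p⟩
    have hl : IsLimit ((Cone.postcompose (diagramIsoPair p.diag).hom).obj ⟨Y, p.π⟩) :=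
      (IsLimit.postcomposeHomEquiv (diagramIsoPair p.diag) _).symm p.isLimit
    exact (QCohCat.isQCoh X).prop_of_iso
      (IsLimit.conePointUniqueUpToIso (BinaryBiproduct.isLimit _ _) hl)
      (isQCoh_biprod' (p.prop_diag_obj ⟨WalkingPair.left⟩) (p.prop_diag_obj ⟨WalkingPair.right⟩))

instance isClosedUnderEmpty_isQCoh :
    (QCohCat.isQCoh X).IsClosedUnderLimitsOfShape (Discrete.{0} PEmpty.{1}) where
  limitsOfShape_le := by
    rintro Y ⟨p⟩
    refine isQCoh_of_isZero' ((IsZero.iff_id_eq_zero Y).2 (p.isLimit.hom_ext fun j => j.as.elim))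

instance isClosedUnderFiniteProducts_isQCoh : (QCohCat.isQCoh X).IsClosedUnderFiniteProducts :=
  ObjectProperty.IsClosedUnderFiniteProducts.mk'

instance additive_ι_isQCoh : (QCohCat.isQCoh X).ι.Additive := ⟨rfl⟩

instance preservesFiniteLimits_ι_isQCoh : PreservesFiniteLimits (QCohCat.isQCoh X).ι :=
  haveI := (QCohCat.isQCoh X).preservesKernels_ι
  Functor.preservesFiniteLimits_of_preservesKernels _

instance preservesFiniteColimits_ι_isQCoh : PreservesFiniteColimits (QCohCat.isQCoh X).ι :=
  haveI := (QCohCat.isQCoh X).preservesCokernels_ι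
  Functor.preservesFiniteColimits_of_preservesCokernels _

end Groth.Agent.DCohLib
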