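import Groth.Agent.PullFlat.TensorNat
import Groth.Agent.PullbackMod.Hom
import Groth.Agent.DCohLib.Bridge

/-!
# Stalks of tensor products of sheaves of modules on a scheme
-/

set_option autoImplicit false
set_option linter.style.haveILetI false

universe u

open CategoryTheory CategoryTheory.Limits AlgebraicGeometry TopologicalSpace Opposite MonoidalCategory
open Groth.Agent.PullbackMod
open scoped TensorProduct

noncomputable section

namespace Groth.Agent.DCohLib

open Groth.Agent.ModTensor Groth.Agent.PullFlat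

variable {X : Scheme.{u}} (x : X) (M N : X.Modules)

/-- The tensor product of two modules. -/
abbrev tmod : X.Modules := ((DCoh.tensorBi (X := X)).obj M).obj N

/-- The section of the tensor product given by two sections. -/
def pairS {U : X.Opens} (m : Γ(M, U)) (n : Γ(N, U)) : Γ(tmod M N, U) :=
  pairT X.sheaf M N (U := U) m n

variable {M N}

theorem res_pairS {U V : X.Opens} (h : V ≤ U) (m : Γ(M, U)) (n : Γ(N, U)) :
    (tmod M N).presheaf.map (homOfLE h).op (pairS M N m n) =
      pairS M N (M.presheaf.map (homOfLE h).op m) (N.presheaf.map (homOfLE h).op n) :=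
  res_pairT X.sheaf M N (homOfLE h) m n

theorem pairS_add_left {U : X.Opens} (m m' : Γ(M, U)) (n : Γ(N, U)) :
    pairS M N (m + m') n = pairS M N m n + pairS M N m' n :=
  pairT_add_left X.sheaf M N m m' n

theorem pairS_add_right {U : X.Opens} (m : Γ(M, U)) (n n' : Γ(N, U)) :
    pairS M N m (n + n') = pairS M N m n + pairS M N m n' :=
  pairT_add_right X.sheaf M N m n n'

theorem pairS_smul_left {U : X.Opens} (r : Γ(X, U)) (m : Γ(M, U)) (n : Γ(N, U)) :
    pairS M N (r • m) n = r • pairS M N m n :=
  pairT_smul_left X.sheaf M N r m n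

theorem pairS_smul_right {U : X.Opens} (r : Γ(X, U)) (m : Γ(M, U)) (n : Γ(N, U)) :
    pairS M N m (r • n) = r • pairS M N m n :=
  pairT_smul_right X.sheaf M N r m n

/-- The product of two germs, computed on any common neighbourhood, is independent of choices. -/
theorem germ_pairS_congr {U U' : X.Opens} (hx : x ∈ U) (hx' : x ∈ U') (m : Γ(M, U)) (n : Γ(N, U))
    (m' : Γ(M, U')) (n' : Γ(N, U'))
    (hm : M.presheaf.germ U x hx m = M.presheaf.germ U' x hx' m')
    (hn : N.presheaf.germ U x hx n = N.presheaf.germ U' x hx' n') :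
    (tmod M N).presheaf.germ U x hx (pairS M N m n) =
      (tmod M N).presheaf.germ U' x hx' (pairS M N m' n') := by
  obtain ⟨V, hV, i, i', hVm⟩ := TopCat.Presheaf.germ_eq M.presheaf x hx hx' m m' hm
  obtain ⟨W, hW, k, k', hWn⟩ := TopCat.Presheaf.germ_eq N.presheaf x hx hx' n n' hn
  have hVW : x ∈ V ⊓ W := ⟨hV, hW⟩
  have h1 : V ⊓ W ≤ U := inf_le_left.trans (leOfHom i)
  have h2 : V ⊓ W ≤ U' := inf_le_left.trans (leOfHom i')
  rw [← TopCat.Presheaf.germ_res_apply _ (homOfLE h1) x hVW, res_pairS,
    ← TopCat.Presheaf.germ_res_apply (tmod M N).presheaf (homOfLE h2) x hVW (pairS M N m' n'),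
    res_pairS]
  congr 2
  · have := congrArg (M.presheaf.map (homOfLE (inf_le_left : V ⊓ W ≤ V)).op) hVm
    rw [← ConcreteCategory.comp_apply, ← M.presheaf.map_comp, ← ConcreteCategory.comp_apply,
      ← M.presheaf.map_comp] at this
    exact this
  · have := congrArg (N.presheaf.map (homOfLE (inf_le_right : V ⊓ W ≤ W)).op) hWn
    rw [← ConcreteCategory.comp_apply, ← N.presheaf.map_comp, ← ConcreteCategory.comp_apply,
      ← N.presheaf.map_comp] at this
    exact this

theorem exists_common_germ (a : M.presheaf.stalk x) (b : N.presheaf.stalk x) :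
    ∃ (U : X.Opens) (hx : x ∈ U) (m : Γ(M, U)) (n : Γ(N, U)),
      M.presheaf.germ U x hx m = a ∧ N.presheaf.germ U x hx n = b := by
  obtain ⟨U, hU, m, rfl⟩ := TopCat.Presheaf.exists_germ_eq M.presheaf a
  obtain ⟨V, hV, n, rfl⟩ := TopCat.Presheaf.exists_germ_eq N.presheaf b
  exact ⟨U ⊓ V, ⟨hU, hV⟩, M.presheaf.map (homOfLE inf_le_left).op m,
    N.presheaf.map (homOfLE inf_le_right).op n, TopCat.Presheaf.germ_res_apply _ _ x _ m,
    TopCat.Presheaf.germ_res_apply _ _ x _ n⟩

/-- The product of two germs. -/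
def germMul (a : M.presheaf.stalk x) (b : N.presheaf.stalk x) : (tmod M N).presheaf.stalk x :=
  (tmod M N).presheaf.germ (exists_common_germ x a b).choose x
    (exists_common_germ x a b).choose_spec.choose
    (pairS M N (exists_common_germ x a b).choose_spec.choose_spec.choose
      (exists_common_germ x a b).choose_spec.choose_spec.choose_spec.choose)

theorem germMul_germ {U : X.Opens} (hx : x ∈ U) (m : Γ(M, U)) (n : Γ(N, U)) :
    germMul x (M.presheaf.germ U x hx m) (N.presheaf.germ U x hx n) =
      (tmod M N).presheaf.germ U x hx (pairS M N m n) :=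
  have h := (exists_common_germ x (M.presheaf.germ U x hx m)
    (N.presheaf.germ U x hx n)).choose_spec.choose_spec.choose_spec.choose_spec
  germ_pairS_congr x _ hx _ _ m n h.1 h.2

theorem germMul_add_left (a a' : M.presheaf.stalk x) (b : N.presheaf.stalk x) :
    germMul x (a + a') b = germMul x a b + germMul x a' b := by
  obtain ⟨U, hU, m, n, rfl, rfl⟩ := exists_common_germ x a b
  obtain ⟨V, hV, m', rfl⟩ := TopCat.Presheaf.exists_germ_eq M.presheaf a'
  have hx : x ∈ U ⊓ V := ⟨hU, hV⟩
  rw [← TopCat.Presheaf.germ_res_apply M.presheaf (homOfLE (inf_le_left : U ⊓ V ≤ U)) x hx m,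
    ← TopCat.Presheaf.germ_res_apply N.presheaf (homOfLE (inf_le_left : U ⊓ V ≤ U)) x hx n,
    ← TopCat.Presheaf.germ_res_apply M.presheaf (homOfLE (inf_le_right : U ⊓ V ≤ V)) x hx m',
    ← map_add, germMul_germ, germMul_germ, germMul_germ, pairS_add_left, map_add]

theorem germMul_add_right (a : M.presheaf.stalk x) (b b' : N.presheaf.stalk x) :
    germMul x a (b + b') = germMul x a b + germMul x a b' := by
  obtain ⟨U, hU, m, n, rfl, rfl⟩ := exists_common_germ x a b
  obtain ⟨V, hV, n', rfl⟩ := TopCat.Presheaf.exists_germ_eq N.presheaf b'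
  have hx : x ∈ U ⊓ V := ⟨hU, hV⟩
  rw [← TopCat.Presheaf.germ_res_apply M.presheaf (homOfLE (inf_le_left : U ⊓ V ≤ U)) x hx m,
    ← TopCat.Presheaf.germ_res_apply N.presheaf (homOfLE (inf_le_left : U ⊓ V ≤ U)) x hx n,
    ← TopCat.Presheaf.germ_res_apply N.presheaf (homOfLE (inf_le_right : U ⊓ V ≤ V)) x hx n',
    ← map_add, germMul_germ, germMul_germ, germMul_germ, pairS_add_right, map_add]

theorem germMul_smul (r : X.presheaf.stalk x) (a : M.presheaf.stalk x) (b : N.presheaf.stalk x) :
    germMul x (r • a) b = r • germMul x a b ∧ germMul x a (r • b) = r • germMul x a b := by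
  obtain ⟨U, hU, m, n, rfl, rfl⟩ := exists_common_germ x a b
  obtain ⟨V, hV, r, rfl⟩ := TopCat.Presheaf.exists_germ_eq X.presheaf r
  have hx : x ∈ U ⊓ V := ⟨hU, hV⟩
  rw [← TopCat.Presheaf.germ_res_apply M.presheaf (homOfLE (inf_le_left : U ⊓ V ≤ U)) x hx m,
    ← TopCat.Presheaf.germ_res_apply N.presheaf (homOfLE (inf_le_left : U ⊓ V ≤ U)) x hx n,
    ← TopCat.Presheaf.germ_res_apply X.presheaf (homOfLE (inf_le_right : U ⊓ V ≤ V)) x hx r]
  constructor
  · erw [← PresheafOfModules.germ_smul (R := X.presheaf) M.val x (U ⊓ V) hx]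
    erw [germMul_germ, germMul_germ, pairS_smul_left]
    exact PresheafOfModules.germ_smul (R := X.presheaf) (tmod M N).val x (U ⊓ V) hx _ _
  · erw [← PresheafOfModules.germ_smul (R := X.presheaf) N.val x (U ⊓ V) hx]
    erw [germMul_germ, germMul_germ, pairS_smul_right]
    exact PresheafOfModules.germ_smul (R := X.presheaf) (tmod M N).val x (U ⊓ V) hx _ _

/-- The comparison `M_x ⊗ N_x → (M ⊗ N)_x`. -/
def stalkTensorHom : M.presheaf.stalk x ⊗[X.presheaf.stalk x] N.presheaf.stalk x →ₗ[X.presheaf.stalk x]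
    (tmod M N).presheaf.stalk x :=
  TensorProduct.lift (LinearMap.mk₂ (X.presheaf.stalk x) (germMul x) (germMul_add_left x)
    (fun r a b => (germMul_smul x r a b).1) (germMul_add_right x) (fun r a b => (germMul_smul x r a b).2))

theorem stalkTensorHom_tmul {U : X.Opens} (hx : x ∈ U) (m : Γ(M, U)) (n : Γ(N, U)) :
    stalkTensorHom x (M.presheaf.germ U x hx m ⊗ₜ N.presheaf.germ U x hx n) =
      (tmod M N).presheaf.germ U x hx (pairS M N m n) :=
  (TensorProduct.lift.tmul _ _).trans (germMul_germ x hx m n)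

/-- The pairing of germs on sections. -/
def pairGerm (U : X.Opens) :
    Γ(M, U) ⊗[Γ(X, U)] Γ(N, U) →+
      SkyObj x (M.presheaf.stalk x ⊗[X.presheaf.stalk x] N.presheaf.stalk x) U :=
  TensorProduct.liftAddHom
    (AddMonoidHom.mk' (fun m => AddMonoidHom.mk'
        (fun n => (fun h => M.presheaf.germ U x h.down m ⊗ₜ N.presheaf.germ U x h.down n :
          SkyObj x _ U))
        fun n n' => funext fun h => by
          show _ ⊗ₜ N.presheaf.germ U x h.down (n + n') = _
          rw [map_add, TensorProduct.tmul_add]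
          rfl)
      fun m m' => AddMonoidHom.ext fun n => funext fun h => by
        show M.presheaf.germ U x h.down (m + m') ⊗ₜ _ = _
        rw [map_add, TensorProduct.add_tmul]
        rfl)
    fun r m n => funext fun h => by
      show M.presheaf.germ U x h.down (r • m) ⊗ₜ _ = _ ⊗ₜ N.presheaf.germ U x h.down (r • n)
      refine (congrArg (fun t : M.presheaf.stalk x => t ⊗ₜ[X.presheaf.stalk x] N.presheaf.germ U x h.down n)
        (PresheafOfModules.germ_smul (R := X.presheaf) M.val x U h.down r m)).trans (Eq.trans ?_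
        (congrArg (fun t : N.presheaf.stalk x => M.presheaf.germ U x h.down m ⊗ₜ[X.presheaf.stalk x] t)
          (PresheafOfModules.germ_smul (R := X.presheaf) N.val x U h.down r n)).symm)
      exact TensorProduct.smul_tmul (R := X.presheaf.stalk x) (R' := X.presheaf.stalk x)
        (X.presheaf.germ U x h.down r) (M.presheaf.germ U x h.down m : M.presheaf.stalk x)
        (N.presheaf.germ U x h.down n : N.presheaf.stalk x)

theorem pairGerm_smul (U : X.Opens) (r : Γ(X, U)) (z : Γ(M, U) ⊗[Γ(X, U)] Γ(N, U)) :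
    pairGerm x U (r • z) = r • pairGerm (M := M) (N := N) x U z := by
  induction z using TensorProduct.induction_on with
  | zero => rw [smul_zero, map_zero, smul_zero]
  | tmul m n =>
    funext h
    show M.presheaf.germ U x h.down (r • m) ⊗ₜ[X.presheaf.stalk x] N.presheaf.germ U x h.down n =
      X.presheaf.germ U x h.down r • (M.presheaf.germ U x h.down m ⊗ₜ N.presheaf.germ U x h.down n)
    rw [TensorProduct.smul_tmul']
    exact congrArg (· ⊗ₜ _) (PresheafOfModules.germ_smul (R := X.presheaf) M.val x U h.down r m)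
  | add a b ha hb => rw [smul_add, map_add, ha, hb, map_add, smul_add]

theorem pairGerm_res {U V : X.Opens} (i : V ⟶ U) (z : Γ(M, U) ⊗[Γ(X, U)] Γ(N, U)) :
    pairGerm x V (res (pre X.sheaf M ⊗ pre X.sheaf N) i.op z) =
      (skyAb x (M.presheaf.stalk x ⊗[X.presheaf.stalk x] N.presheaf.stalk x)).map i.op
        (pairGerm x U z) := by
  induction z using TensorProduct.induction_on with
  | zero =>
    exact ((congrArg _ (map_zero _)).trans (map_zero _)).trans
      ((congrArg _ (map_zero (pairGerm x U))).trans (map_zero _)).symm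
  | tmul m n =>
    refine (congrArg _ (res_tmul (pre X.sheaf M) (pre X.sheaf N) i.op m n)).trans ?_
    funext h
    show M.presheaf.germ V x h.down (M.presheaf.map i.op m) ⊗ₜ[X.presheaf.stalk x]
        N.presheaf.germ V x h.down (N.presheaf.map i.op n) =
      M.presheaf.germ U x _ m ⊗ₜ N.presheaf.germ U x _ n
    rw [TopCat.Presheaf.germ_res_apply, TopCat.Presheaf.germ_res_apply]
  | add a b ha hb =>
    exact ((congrArg _ (map_add _ a b)).trans ((map_add _ _ _).trans (congrArg₂ (· + ·) ha hb))).trans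
      ((congrArg _ (map_add (pairGerm x U) a b)).trans (map_add _ _ _)).symm

variable (M N)

/-- The presheaf pairing into the skyscraper. -/
def pairSkyPre : pre X.sheaf M ⊗ pre X.sheaf N ⟶
    pre X.sheaf (sky x (M.presheaf.stalk x ⊗[X.presheaf.stalk x] N.presheaf.stalk x)) :=
  PresheafOfModules.homMk
    { app := fun U => AddCommGrpCat.ofHom (pairGerm x U.unop)
      naturality := fun {U V} i => by
        refine AddCommGrpCat.hom_ext (AddMonoidHom.ext fun z => ?_)
        exact pairGerm_res x i.unop z }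
    fun U r z => pairGerm_smul x U.unop r z

/-- The map from the tensor product to the skyscraper. -/
def pairSky : tmod M N ⟶ sky x (M.presheaf.stalk x ⊗[X.presheaf.stalk x] N.presheaf.stalk x) :=
  ((PresheafOfModules.sheafificationAdjunction (𝟙 (ModSite.ringSh X.sheaf).obj)).homEquiv _ _).symm
    (pairSkyPre x M N)

/-- The comparison `(M ⊗ N)_x → M_x ⊗ N_x`. -/
def stalkTensorInv : (tmod M N).presheaf.stalk x →ₗ[X.presheaf.stalk x]
    M.presheaf.stalk x ⊗[X.presheaf.stalk x] N.presheaf.stalk x :=
  ofSky (pairSky x M N)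

variable {M N}

theorem stalkTensorInv_germ {U : X.Opens} (hx : x ∈ U) (m : Γ(M, U)) (n : Γ(N, U)) :
    stalkTensorInv x M N ((tmod M N).presheaf.germ U x hx (pairS M N m n)) =
      M.presheaf.germ U x hx m ⊗ₜ N.presheaf.germ U x hx n := by
  refine (ofSky_germ _ U hx _).trans ?_
  let adj := PresheafOfModules.sheafificationAdjunction (𝟙 (ModSite.ringSh X.sheaf).obj)
  have h' : shUnit X.sheaf (pre X.sheaf M ⊗ pre X.sheaf N) ≫
      (preFunctor X.sheaf).map ((adj.homEquiv _ _).symm (pairSkyPre x M N)) = pairSkyPre x M N :=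
    (adj.homEquiv_unit _ _ _).symm.trans (Equiv.apply_symm_apply _ _)
  exact congrFun (congr(($h').app (op U) (m ⊗ₜ[Γ(X, U)] n : Γ(M, U) ⊗[Γ(X, U)] Γ(N, U)))) ⟨hx⟩

theorem inv_hom (z : M.presheaf.stalk x ⊗[X.presheaf.stalk x] N.presheaf.stalk x) :
    stalkTensorInv x M N (stalkTensorHom x z) = z := by
  induction z using TensorProduct.induction_on with
  | zero => rw [map_zero, map_zero]
  | tmul a b =>
    obtain ⟨U, hx, m, n, rfl, rfl⟩ := exists_common_germ x a b
    rw [stalkTensorHom_tmul, stalkTensorInv_germ]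
  | add a b ha hb => rw [map_add, map_add, ha, hb]

theorem hom_inv (z : (tmod M N).presheaf.stalk x) :
    stalkTensorHom x (stalkTensorInv x M N z) = z := by
  obtain ⟨U, hx, s, rfl⟩ := TopCat.Presheaf.exists_germ_eq (tmod M N).presheaf z
  obtain ⟨S, hS, hS'⟩ := loc_sum_pairT X.sheaf M N (U := U) (fun _ : PUnit.{1} => s)
  obtain ⟨V, i, hi, hV⟩ := hS x hx
  obtain ⟨r, m, n, hmn⟩ := hS' i hi
  have h : (tmod M N).presheaf.map i.op s =
      ∑ j, pairS M N (m PUnit.unit j) (n PUnit.unit j) := hmn PUnit.unit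
  rw [← TopCat.Presheaf.germ_res_apply (tmod M N).presheaf i x hV s, h]
  simp only [map_sum, stalkTensorInv_germ, stalkTensorHom_tmul]

variable (M N)

/-- The stalk of a tensor product. -/
def stalkTensor : M.presheaf.stalk x ⊗[X.presheaf.stalk x] N.presheaf.stalk x ≃ₗ[X.presheaf.stalk x]
    (tmod M N).presheaf.stalk x :=
  LinearEquiv.ofLinear (stalkTensorHom x) (stalkTensorInv x M N)
    (LinearMap.ext (hom_inv x)) (LinearMap.ext (inv_hom x))

variable {M N}

theorem tensorBi_app_pairS_left {M' : X.Modules} (g : M ⟶ M') {U : X.Opens} (m : Γ(M, U)) (n : Γ(N, U)) :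
    (((DCoh.tensorBi (X := X)).map g).app N).app U (pairS M N m n) = pairS M' N (g.app U m) n :=
  pairT_map (O := X.sheaf) g N m n

theorem tensorBi_app_pairS_right {N' : X.Modules} (g : N ⟶ N') {U : X.Opens} (m : Γ(M, U)) (n : Γ(N, U)) :
    (((DCoh.tensorBi (X := X)).obj M).map g).app U (pairS M N m n) = pairS M N' m (g.app U n) :=
  (congr(($(shUnit_naturality X.sheaf (pre X.sheaf M ◁ (preFunctor X.sheaf).map g))).app (op U)
    (m ⊗ₜ[Γ(X, U)] n : Γ(M, U) ⊗[Γ(X, U)] Γ(N, U)))).symm

theorem stalkTensor_natural_left {M' : X.Modules} (g : M ⟶ M')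
    (z : M.presheaf.stalk x ⊗[X.presheaf.stalk x] N.presheaf.stalk x) :
    stalkLin (((DCoh.tensorBi (X := X)).map g).app N) x (stalkTensor x M N z) =
      stalkTensor x M' N ((stalkLin g x).rTensor _ z) := by
  induction z using TensorProduct.induction_on with
  | zero => simp only [map_zero]
  | tmul a b =>
    obtain ⟨U, hx, m, n, rfl, rfl⟩ := exists_common_germ x a b
    show stalkLin _ x (stalkTensorHom x _) = stalkTensorHom x _
    rw [stalkTensorHom_tmul, LinearMap.rTensor_tmul]
    erw [stalkLin_germ, stalkLin_germ]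
    rw [stalkTensorHom_tmul]
    exact congrArg _ (tensorBi_app_pairS_left g m n)
  | add a b ha hb => rw [map_add, map_add, ha, hb, map_add, map_add]

theorem stalkTensor_natural_right {N' : X.Modules} (g : N ⟶ N')
    (z : M.presheaf.stalk x ⊗[X.presheaf.stalk x] N.presheaf.stalk x) :
    stalkLin (((DCoh.tensorBi (X := X)).obj M).map g) x (stalkTensor x M N z) =
      stalkTensor x M N' ((stalkLin g x).lTensor _ z) := by
  induction z using TensorProduct.induction_on with
  | zero => simp only [map_zero]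
  | tmul a b =>
    obtain ⟨U, hx, m, n, rfl, rfl⟩ := exists_common_germ x a b
    show stalkLin _ x (stalkTensorHom x _) = stalkTensorHom x _
    rw [stalkTensorHom_tmul, LinearMap.lTensor_tmul]
    erw [stalkLin_germ, stalkLin_germ]
    rw [stalkTensorHom_tmul]
    exact congrArg _ (tensorBi_app_pairS_right g m n)
  | add a b ha hb => rw [map_add, map_add, ha, hb, map_add, map_add]

end Groth.Agent.DCohLib
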