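import Groth.Agent.DCohLib.StalkTensor
import Groth.Agent.KFlat.MapTot
import Groth.Agent.KFlat.Module
import Groth.Agent.KInj.Restrict
import Groth.Prelude.Def_DerSch
import Groth.Prelude.Def_KFlatSite

/-!
# K-flatness of complexes of modules on a scheme is stalkwise
-/

set_option autoImplicit false
set_option linter.style.haveILetI false

universe u

open CategoryTheory CategoryTheory.Limits AlgebraicGeometry TopologicalSpace Opposite MonoidalCategory
open Groth.Agent.PullbackMod

noncomputable section

namespace Groth.Agent.DCohLib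

variable {X : Scheme.{u}} (x : X)

/-- The stalk functor. -/
abbrev stkF : X.Modules ⥤ ModuleCat.{u} (X.presheaf.stalk x) := DerSch.stalkFunctor X x

theorem stkF_map {M N : X.Modules} (φ : M ⟶ N) (z : M.presheaf.stalk x) :
    (stkF x).map φ z = stalkLin φ x z := rfl

/-- Maps out of a stalk are maps to the skyscraper. -/
def stalkSkyEquiv (M : X.Modules) (N : ModuleCat.{u} (X.presheaf.stalk x)) :
    ((stkF x).obj M ⟶ N) ≃ (M ⟶ sky x N) where
  toFun l := toSky l.hom
  invFun ψ := ModuleCat.ofHom (ofSky ψ)
  left_inv l := ModuleCat.hom_ext (LinearMap.ext fun z => by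
    obtain ⟨U, hx, m, rfl⟩ := TopCat.Presheaf.exists_germ_eq M.presheaf z
    exact ofSky_germ _ U hx m)
  right_inv ψ := toSky_ofSky ψ

theorem stalkSkyEquiv_naturality {M M' : X.Modules} (N : ModuleCat.{u} (X.presheaf.stalk x))
    (f : M' ⟶ M) (l : (stkF x).obj M ⟶ N) :
    stalkSkyEquiv x M' N ((stkF x).map f ≫ l) = f ≫ stalkSkyEquiv x M N l := by
  refine Scheme.Modules.hom_ext _ _ fun U => ?_
  refine AddCommGrpCat.hom_ext (AddMonoidHom.ext fun m => ?_)
  show (show SkyObj x N U from (toSky ((stkF x).map f ≫ l).hom).app U m) = _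
  funext h
  show l.hom ((stkF x).map f (M'.presheaf.germ U x h.down m)) = l.hom (M.presheaf.germ U x h.down (f.app U m))
  exact congrArg l.hom (DerSch.stalkFunctor_map_germ x f U h.down m)

/-- The skyscraper functor. -/
def skyFunctor : ModuleCat.{u} (X.presheaf.stalk x) ⥤ X.Modules :=
  Adjunction.rightAdjointOfEquiv (F := stkF x) (G_obj := fun N => sky x N)
    (fun M N => stalkSkyEquiv x M N) (fun M' M N f l => stalkSkyEquiv_naturality x N f l)

/-- Stalk is left adjoint to skyscraper. -/
def stalkSkyAdj : stkF x ⊣ skyFunctor x :=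
  Adjunction.adjunctionOfEquivRight _ _

instance isLeftAdjoint_stkF : (stkF x).IsLeftAdjoint := (stalkSkyAdj x).isLeftAdjoint

instance preservesMonomorphisms_stkF : (stkF x).PreservesMonomorphisms where
  preserves {M N} φ hφ := (ModuleCat.mono_iff_injective _).2 ((mono_iff_stalk φ).1 hφ x)

instance preservesFiniteLimits_stkF : PreservesFiniteLimits (stkF x) :=
  Groth.Agent.KInj.preservesFiniteLimits_of_preservesMonomorphisms (stalkSkyAdj x)

instance preservesFiniteColimits_stkF : PreservesFiniteColimits (stkF x) :=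
  haveI : PreservesColimitsOfSize.{0, 0} (stkF x) := (stalkSkyAdj x).leftAdjoint_preservesColimits
  inferInstance

instance additive_skyFunctor : (skyFunctor x).Additive := (stalkSkyAdj x).right_adjoint_additive

/-- The stalk of a skyscraper at its point. -/
theorem isIso_stalkSky_counit (N : ModuleCat.{u} (X.presheaf.stalk x)) :
    IsIso ((stalkSkyAdj x).counit.app N) := by
  have h : (stalkSkyAdj x).counit.app N = ModuleCat.ofHom (ofSky (𝟙 (sky x N))) := rfl
  rw [h, ConcreteCategory.isIso_iff_bijective]
  show Function.Bijective (ofSky (𝟙 (sky x N)))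
  refine ⟨fun a b hab => ?_, fun n => ?_⟩
  · obtain ⟨U, hU, s, rfl⟩ := TopCat.Presheaf.exists_germ_eq (sky x N).presheaf a
    obtain ⟨V, hV, t, rfl⟩ := TopCat.Presheaf.exists_germ_eq (sky x N).presheaf b
    rw [ofSky_germ, ofSky_germ] at hab
    rw [← TopCat.Presheaf.germ_res_apply (sky x N).presheaf (homOfLE (inf_le_left : U ⊓ V ≤ U)) x
        ⟨hU, hV⟩ s,
      ← TopCat.Presheaf.germ_res_apply (sky x N).presheaf (homOfLE (inf_le_right : U ⊓ V ≤ V)) x
        ⟨hU, hV⟩ t]
    exact congrArg _ (funext fun _ => hab)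
  · exact ⟨(sky x N).presheaf.germ ⊤ x (show x ∈ (⊤ : X.Opens) from trivial) (fun _ => n),
      ofSky_germ _ ⊤ _ _⟩

instance preservesEpimorphisms_skyFunctor : (skyFunctor x).PreservesEpimorphisms where
  preserves {N N'} f hf := by
    refine (epi_iff_stalk _).2 fun z w => ?_
    obtain ⟨U, hz, s, rfl⟩ := TopCat.Presheaf.exists_germ_eq ((skyFunctor x).obj N').presheaf w
    choose t ht using fun h => (ModuleCat.epi_iff_surjective f).1 hf ((show SkyObj x N' U from s) h)
    refine ⟨((skyFunctor x).obj N).presheaf.germ U z hz (fun h => t h), ?_⟩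
    rw [stalkLin_germ]
    refine congrArg _ (funext fun h => ?_)
    refine Eq.trans ?_ (ht h)
    show f.hom (ofSky (𝟙 (sky x N)) ((sky x N).presheaf.germ U x h.down fun h => t h)) = _
    rw [ofSky_germ]
    rfl

instance preservesFiniteColimits_skyFunctor : PreservesFiniteColimits (skyFunctor x) := by
  haveI : PreservesLimitsOfSize.{0, 0} (skyFunctor x) := (stalkSkyAdj x).rightAdjoint_preservesLimits
  haveI : PreservesFiniteLimits (skyFunctor x) := inferInstance
  rw [(skyFunctor x).preservesFiniteColimits_iff_forall_exact_map_and_epi]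
  intro S hS
  haveI := hS.epi_g
  exact ⟨(((skyFunctor x).preservesFiniteLimits_iff_forall_exact_map_and_mono).1 inferInstance S hS).1,
    inferInstance⟩

/-- The stalk commutes with the tensor product, as bifunctors. -/
def stalkTensorNatIso :
    DCoh.tensorBi (X := X) ⋙ (Functor.whiskeringRight _ _ _).obj (stkF x) ≅
      stkF x ⋙ curriedTensor (ModuleCat.{u} (X.presheaf.stalk x)) ⋙
        (Functor.whiskeringLeft _ _ _).obj (stkF x) :=
  (NatIso.ofComponents
    (fun M => NatIso.ofComponents (fun N => (stalkTensor x M N).toModuleIso)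
      fun g => ModuleCat.hom_ext (LinearMap.ext fun z => (stalkTensor_natural_right x g z).symm))
    fun g => NatTrans.ext (funext fun N => ModuleCat.hom_ext
      (LinearMap.ext fun z => (stalkTensor_natural_left (N := N) x g z).symm))).symm

instance additive_stalkBi_obj (M : X.Modules) :
    ((stkF x ⋙ curriedTensor (ModuleCat.{u} (X.presheaf.stalk x)) ⋙
      (Functor.whiskeringLeft _ _ _).obj (stkF x)).obj M).Additive :=
  inferInstanceAs (stkF x ⋙ (curriedTensor (ModuleCat.{u} (X.presheaf.stalk x))).obj ((stkF x).obj M)).Additive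

/-- The stalk of a tensor product of complexes. -/
def stalkTensorCxIso (L K : CochainComplex X.Modules ℤ) :
    ((stkF x).mapHomologicalComplex (ComplexShape.up ℤ)).obj ((DCoh.tensorCx.obj L).obj K) ≅
      ((stkF x).mapHomologicalComplex (ComplexShape.up ℤ)).obj L ⊗
        ((stkF x).mapHomologicalComplex (ComplexShape.up ℤ)).obj K :=
  haveI : PreservesColimitsOfSize.{0, 0} (stkF x) := (stalkSkyAdj x).leftAdjoint_preservesColimits
  Groth.Agent.KFlat.mapTotIso (F := DCoh.tensorBi (X := X))
    (F' := stkF x ⋙ curriedTensor (ModuleCat.{u} (X.presheaf.stalk x)) ⋙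
      (Functor.whiskeringLeft _ _ _).obj (stkF x)) (G := stkF x) (stalkTensorNatIso x) L K

theorem exact_iff_stkF (S : ShortComplex X.Modules) :
    S.Exact ↔ ∀ z : X, (S.map (stkF z)).Exact := by
  refine ⟨fun h z => h.map (stkF z), fun h => ?_⟩
  rw [ShortComplex.exact_iff_isZero_homology, IsZero.iff_id_eq_zero, eq_zero_iff_stalk]
  intro z
  have hz : IsZero ((stkF z).obj S.homology) :=
    ((ShortComplex.exact_iff_isZero_homology _).1 (h z)).of_iso (S.mapHomologyIso (stkF z)).symm
  exact LinearMap.ext fun w => (ModuleCat.subsingleton_of_isZero hz).elim _ _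

theorem isZero_homology_iff_stkF (K : CochainComplex X.Modules ℤ) (i : ℤ) :
    IsZero (K.homology i) ↔ ∀ z : X,
      IsZero ((((stkF z).mapHomologicalComplex (ComplexShape.up ℤ)).obj K).homology i) := by
  simp only [← HomologicalComplex.exactAt_iff_isZero_homology, HomologicalComplex.exactAt_iff]
  exact exact_iff_stkF (K.sc i)

theorem isKFlat_iff_stalk (F : CochainComplex X.Modules ℤ) :
    DCoh.IsKFlat F ↔ ∀ x : X, DRing.IsKFlat (X.presheaf.stalk x)
      (((stkF x).mapHomologicalComplex (ComplexShape.up ℤ)).obj F) := by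
  constructor
  · intro hF x M hM i
    let L := ((skyFunctor x).mapHomologicalComplex (ComplexShape.up ℤ)).obj M
    haveI : PreservesLimitsOfSize.{0, 0} (skyFunctor x) := (stalkSkyAdj x).rightAdjoint_preservesLimits
    have hL : ∀ i, IsZero (L.homology i) := fun i =>
      ((skyFunctor x).map_isZero (hM i)).of_iso (ShortComplex.mapHomologyIso (M.sc i) (skyFunctor x))
    haveI : IsIso (stalkSkyAdj x).counit :=
      haveI := isIso_stalkSky_counit (X := X) x
      NatIso.isIso_of_isIso_app _
    let e : ((stkF x).mapHomologicalComplex (ComplexShape.up ℤ)).obj L ≅ M :=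
      (NatIso.mapHomologicalComplex (asIso (stalkSkyAdj x).counit) (ComplexShape.up ℤ)).app M ≪≫
        (Functor.mapHomologicalComplexIdIso _ _).app M
    refine ((isZero_homology_iff_stkF _ i).1 (hF L hL i) x).of_iso ?_
    exact (HomologicalComplex.homologyFunctor _ _ i).mapIso
      ((tensorRight (((stkF x).mapHomologicalComplex (ComplexShape.up ℤ)).obj F)).mapIso e.symm ≪≫
        (stalkTensorCxIso x L F).symm)
  · intro h L hL i
    refine (isZero_homology_iff_stkF _ i).2 fun x => ?_
    exact (h x _ (fun j => (isZero_homology_iff_stkF L j).1 (hL j) x) i).of_iso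
      ((HomologicalComplex.homologyFunctor _ _ i).mapIso (stalkTensorCxIso x L F))

end Groth.Agent.DCohLib
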