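import Groth.Agent.DCohLib.Pullback
import Groth.Prelude.Def_DTor2
import Mathlib.RingTheory.Flat.Stability

/-!
# The derived tensor product with a module, and tor amplitude
-/

set_option autoImplicit false
set_option linter.style.haveILetI false

universe u

open CategoryTheory Limits AlgebraicGeometry

attribute [local instance] HasDerivedCategory.standard

noncomputable section

namespace Groth.Agent.DCohLib

open Groth.Agent.PullbackMod

variable {X Y : Scheme.{u}}

theorem isFlat_pullback (f : Y ⟶ X) (M : X.Modules) (hM : FlatMod.IsFlat M) :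
    FlatMod.IsFlat ((Scheme.Modules.pullback f).obj M) := by
  intro y
  letI := (f.stalkMap y).hom.toAlgebra
  letI := Module.compHom (((Scheme.Modules.pullback f).obj M).presheaf.stalk y) (f.stalkMap y).hom
  haveI : IsScalarTower (X.presheaf.stalk (f y)) (Y.presheaf.stalk y)
      (((Scheme.Modules.pullback f).obj M).presheaf.stalk y) := .of_algebraMap_smul fun _ _ => rfl
  haveI : Module.Flat (X.presheaf.stalk (f y)) (M.presheaf.stalk (f y)) := hM (f y)
  exact Module.Flat.of_linearEquiv (isBaseChange_pullStalkL' f M y).equiv.symm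

theorem isKFlat_of_flat_bddAbove (K : CochainComplex X.Modules ℤ) (b : ℤ)
    (hb : ∀ n, b < n → IsZero (K.X n)) (hK : ∀ n, FlatMod.IsFlat (K.X n)) : DCoh.IsKFlat K :=
  (isKFlat_iff K).2 (Groth.Agent.KFlat.isKFlat_of_bddAbove X.sheaf K b hb fun n => (isFlat_iff _).1 (hK n))

theorem acyclic_tensorRightMod (M : X.Modules) {K : CochainComplex X.Modules ℤ} (hac : K.Acyclic)
    (hK : DCoh.IsKFlat K) :
    (((DCoh.tensorRightMod M).mapHomologicalComplex (ComplexShape.up ℤ)).obj K).Acyclic :=
  acyclic_tensor_module X.sheaf hac ((Groth.Agent.KFlat.isKFlat_iff X.sheaf K).1 ((isKFlat_iff K).1 hK)) M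

theorem quasiIso_tensorRightMod_map (M : X.Modules) {P Q : CochainComplex X.Modules ℤ} (α : P ⟶ Q)
    (hα : QuasiIso α) (hP : DCoh.IsKFlat P) (hQ : DCoh.IsKFlat Q) :
    QuasiIso (((DCoh.tensorRightMod M).mapHomologicalComplex (ComplexShape.up ℤ)).map α) := by
  haveI := hα
  refine Groth.Agent.KFlat.quasiIso_of_acyclic_cone _ fun n => ?_
  refine HomologicalComplex.ExactAt.of_iso ?_ (CochainComplex.mappingCone.mapHomologicalComplexIso α _)
  exact acyclic_tensorRightMod M (Groth.Agent.KFlat.acyclic_cone_of_quasiIso α)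
    ((Groth.Agent.KFlat.twoOfThree_cone X.sheaf α).1 hP hQ) n

/-- The functor whose derived functor is `- ⊗^L M`. -/
abbrev quotTensorKh (M : X.Modules) : CochainComplex X.Modules ℤ ⥤ DCoh.D X :=
  HomotopyCategory.quotient X.Modules (ComplexShape.up ℤ) ⋙ DCoh.tensorModKh M

theorem isIso_quotTensorKh_map (M : X.Modules) {P Q : CochainComplex X.Modules ℤ} (α : P ⟶ Q)
    (hα : QuasiIso α) (hP : DCoh.IsKFlat P) (hQ : DCoh.IsKFlat Q) :
    IsIso ((quotTensorKh M).map α) := by
  haveI := quasiIso_tensorRightMod_map M α hα hP hQ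
  exact Localization.inverts DerivedCategory.Qh (HomotopyCategory.quasiIso X.Modules (ComplexShape.up ℤ)) _
    ((HomotopyCategory.quotient_map_mem_quasiIso_iff _).2 ((HomologicalComplex.mem_quasiIso_iff _).2 this))

/-- The resolution adapted to `- ⊗ M`. -/
def tensorModAdapted (M : X.Modules) :
    Adapted (HomologicalComplex.quasiIso X.Modules (ComplexShape.up ℤ)) (quotTensorKh M) where
  P := resX X
  ψ := resXπ X
  hψ K := (HomologicalComplex.mem_quasiIso_iff _).2 (quasiIso_resXπ K)
  inverts K L g hg := isIso_quotTensorKh_map M _ (quasiIso_resX_map g ((HomologicalComplex.mem_quasiIso_iff _).1 hg))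
    (isKFlat_resX K) (isKFlat_resX L)
  isIso_map K := isIso_quotTensorKh_map M _ (quasiIso_resXπ _) (isKFlat_resX _) (isKFlat_resX _)

instance hasLTensorMod (M : X.Modules) : DCoh.HasLTensorMod M :=
  (tensorModAdapted M).hasLeftDerivedFunctor_of_comp
    (HomotopyCategory.quotient X.Modules (ComplexShape.up ℤ)) DerivedCategory.Qh

/-- The comparison `(Q P) ⊗^L M ⟶ Q (P ⊗ M)`. -/
abbrev lTensorModCounit (M : X.Modules) [DCoh.HasLTensorMod M] :
    DerivedCategory.Qh ⋙ DCoh.LTensorMod M ⟶ DCoh.tensorModKh M :=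
  (DCoh.tensorModKh M).totalLeftDerivedCounit DerivedCategory.Qh
    (HomotopyCategory.quasiIso X.Modules (ComplexShape.up ℤ))

theorem isIso_lTensorModCounit_app (M : X.Modules) [DCoh.HasLTensorMod M] (K : CochainComplex X.Modules ℤ)
    (hK : DCoh.IsKFlat K) :
    IsIso ((lTensorModCounit M).app ((HomotopyCategory.quotient X.Modules (ComplexShape.up ℤ)).obj K)) :=
  (tensorModAdapted M).isIso_app_of_comp (W' := HomotopyCategory.quasiIso X.Modules (ComplexShape.up ℤ))
    (HomotopyCategory.quotient X.Modules (ComplexShape.up ℤ))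
    DerivedCategory.Qh (DCoh.LTensorMod M) (lTensorModCounit M) K
    (isIso_quotTensorKh_map M _ (quasiIso_resXπ K) (isKFlat_resX K) hK)

/-- A K-flat representative computes `- ⊗^L M`. -/
def lTensorModIso (M : X.Modules) [DCoh.HasLTensorMod M] (K : CochainComplex X.Modules ℤ)
    (hK : DCoh.IsKFlat K) :
    (DCoh.LTensorMod M).obj (DCoh.toD X K) ≅
      DCoh.toD X (((DCoh.tensorRightMod M).mapHomologicalComplex (ComplexShape.up ℤ)).obj K) :=
  (DCoh.LTensorMod M).mapIso ((DerivedCategory.quotientCompQhIso X.Modules).symm.app K) ≪≫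
    @asIso _ _ _ _ _ (isIso_lTensorModCounit_app M K hK) ≪≫
    DerivedCategory.Qh.mapIso (((DCoh.tensorRightMod M).mapHomotopyCategoryFactors (ComplexShape.up ℤ)).app K) ≪≫
    (DerivedCategory.quotientCompQhIso X.Modules).app _

/-- A K-flat representative with flat terms computes the derived inverse image. -/
def lpullIso (f : Y ⟶ X) [DCoh.HasLpull f] (K : CochainComplex X.Modules ℤ)
    (hK : DCoh.IsKFlat K) (hfl : ∀ i, FlatMod.IsFlat (K.X i)) :
    (DCoh.Lpull f).obj (DCoh.toD X K) ≅
      DCoh.toD Y (((Scheme.Modules.pullback f).mapHomologicalComplex (ComplexShape.up ℤ)).obj K) :=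
  (DCoh.Lpull f).mapIso ((DerivedCategory.quotientCompQhIso X.Modules).symm.app K) ≪≫
    @asIso _ _ _ _ _ (isIso_lpullCounit_app f K hK hfl) ≪≫
    DerivedCategory.Qh.mapIso (((Scheme.Modules.pullback f).mapHomotopyCategoryFactors (ComplexShape.up ℤ)).app K) ≪≫
    (DerivedCategory.quotientCompQhIso Y.Modules).app _

theorem isZero_HD_toD {E : CochainComplex X.Modules ℤ} {i : ℤ} (h : IsZero (E.homology i)) :
    IsZero (DCoh.HD (DCoh.toD X E) i) :=
  h.of_iso ((DerivedCategory.homologyFunctorFactors X.Modules i).app E)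

theorem hasTorAmplitudeIn_of_hasFlatAmplitudeIn {a b : ℤ} {K : DCoh.D X}
    (h : DCoh.HasFlatAmplitudeIn a b K) : DCoh.HasTorAmplitudeIn a b K := by
  obtain ⟨E, hE, hfl, ⟨e⟩⟩ := h
  intro F _ i hi
  have hK := isKFlat_of_flat_bddAbove E b (fun n hn => hE n (Or.inr hn)) hfl
  have hz : IsZero ((((DCoh.tensorRightMod F).mapHomologicalComplex (ComplexShape.up ℤ)).obj E).X i) :=
    (DCoh.tensorRightMod F).map_isZero (hE i hi)
  refine IsZero.of_iso ?_ ((DerivedCategory.homologyFunctor X.Modules i).mapIso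
    ((DCoh.LTensorMod F).mapIso e.symm ≪≫ lTensorModIso F E hK))
  exact isZero_HD_toD (ShortComplex.isZero_homology_of_isZero_X₂ _ hz)

theorem hasFlatAmplitudeIn_Lpull (f : Y ⟶ X) [DCoh.HasLpull f] {a b : ℤ} {K : DCoh.D X}
    (h : DCoh.HasFlatAmplitudeIn a b K) : DCoh.HasFlatAmplitudeIn a b ((DCoh.Lpull f).obj K) := by
  obtain ⟨E, hE, hfl, ⟨e⟩⟩ := h
  exact ⟨_, fun i hi => (Scheme.Modules.pullback f).map_isZero (hE i hi),
    fun i => isFlat_pullback f _ (hfl i),
    ⟨(lpullIso f E (isKFlat_of_flat_bddAbove E b (fun n hn => hE n (Or.inr hn)) hfl) hfl).symm ≪≫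
      (DCoh.Lpull f).mapIso e⟩⟩

end Groth.Agent.DCohLib
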