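import Groth.Agent.DCohLib.TensorDer
import Groth.Agent.DCohLib.TensorMod
import Groth.Agent.DCohLib.StalkKFlat

/-!
# Tensoring a complex with a module in degree zero, naturally in the module
-/

set_option autoImplicit false
set_option backward.isDefEq.respectTransparency false
set_option linter.style.haveILetI false

universe u

open CategoryTheory CategoryTheory.Limits AlgebraicGeometry

attribute [local instance] HasDerivedCategory.standard

noncomputable section

namespace Groth.Agent.DCohLib

variable {X : Scheme.{u}}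

instance additive_tensorBi_obj (M : X.Modules) : ((DCoh.tensorBi (X := X)).obj M).Additive :=
  inferInstanceAs ((ModSite.tensorBi X.sheaf).obj M).Additive

/-- `M ↦ (M ⊗ Pⁿ)`. -/
def tlF (P : CochainComplex X.Modules ℤ) : X.Modules ⥤ CochainComplex X.Modules ℤ where
  obj M := (((DCoh.tensorBi (X := X)).obj M).mapHomologicalComplex (ComplexShape.up ℤ)).obj P
  map f := (NatTrans.mapHomologicalComplex ((DCoh.tensorBi (X := X)).map f) (ComplexShape.up ℤ)).app P
  map_id M := by ext n; simp
  map_comp f g := by ext n; simp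

/-- The map induced by a map of complexes. -/
def tlMap {P Q : CochainComplex X.Modules ℤ} (α : P ⟶ Q) : tlF P ⟶ tlF Q where
  app M := (((DCoh.tensorBi (X := X)).obj M).mapHomologicalComplex (ComplexShape.up ℤ)).map α
  naturality M N f := HomologicalComplex.hom_ext _ _ fun n => by
    exact (((DCoh.tensorBi (X := X)).map f).naturality (α.f n)).symm

section Single

variable (P : CochainComplex X.Modules ℤ) (M : X.Modules)

/-- A module in degree zero. -/
abbrev sgl : X.Modules ⥤ CochainComplex X.Modules ℤ := HomologicalComplex.single X.Modules (ComplexShape.up ℤ) 0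

/-- The inclusion of the only nonzero summand. -/
def tlι (n : ℤ) :
    ((DCoh.tensorBi (X := X)).obj M).obj (P.X n) ⟶ ((DCoh.tensorCx.obj (sgl.obj M)).obj P).X n :=
  ((DCoh.tensorBi (X := X)).map (HomologicalComplex.singleObjXSelf (ComplexShape.up ℤ) 0 M).inv).app (P.X n) ≫
    CochainComplex.ιMapBifunctor (sgl.obj M) P (DCoh.tensorBi (X := X)) 0 n n (zero_add n)

open Classical in
/-- The projection to the only nonzero summand. -/
def tlπ (n : ℤ) :
    ((DCoh.tensorCx.obj (sgl.obj M)).obj P).X n ⟶ ((DCoh.tensorBi (X := X)).obj M).obj (P.X n) :=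
  HomologicalComplex.mapBifunctorDesc fun p q h =>
    if hp : p = 0 then
      ((DCoh.tensorBi (X := X)).map
          (HomologicalComplex.singleObjXIsoOfEq (ComplexShape.up ℤ) 0 M p hp).hom).app (P.X q) ≫
        ((DCoh.tensorBi (X := X)).obj M).map (P.XIsoOfEq (by
          have h' : p + q = n := h
          omega : q = n)).hom
    else 0

instance isIso_tlι (n : ℤ) : IsIso (tlι P M n) := by
  refine ⟨tlπ P M n, ?_, ?_⟩
  · simp only [tlι, tlπ, Category.assoc]
    erw [HomologicalComplex.ι_mapBifunctorDesc]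
    rw [dif_pos rfl, ← NatTrans.comp_app_assoc, ← Functor.map_comp]
    simp [HomologicalComplex.singleObjXSelf, HomologicalComplex.XIsoOfEq]
  · refine HomologicalComplex.mapBifunctor.hom_ext fun p q h => ?_
    have h' : p + q = n := h
    by_cases hp : p = 0
    · obtain rfl : p = 0 := hp
      obtain rfl : q = n := by omega
      simp only [tlπ]
      erw [HomologicalComplex.ι_mapBifunctorDesc_assoc, Category.comp_id]
      rw [dif_pos rfl]
      simp only [tlι, HomologicalComplex.XIsoOfEq, eqToIso_refl, Iso.refl_hom, CategoryTheory.Functor.map_id]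
      erw [Category.comp_id, ← NatTrans.comp_app_assoc, ← Functor.map_comp]
      simp [HomologicalComplex.singleObjXSelf]
    · exact IsZero.eq_of_src (((DCoh.tensorBi (X := X)).flip.obj (P.X q)).map_isZero
        (HomologicalComplex.isZero_single_obj_X (ComplexShape.up ℤ) 0 M p hp)) _ _

theorem tlι_d (n n' : ℤ) (hn : n + 1 = n') :
    tlι P M n ≫ ((DCoh.tensorCx.obj (sgl.obj M)).obj P).d n n' =
      ((DCoh.tensorBi (X := X)).obj M).map (P.d n n') ≫ tlι P M n' := by
  show tlι P M n ≫ (HomologicalComplex.mapBifunctor.D₁ _ _ (DCoh.tensorBi (X := X)) (ComplexShape.up ℤ) n n' +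
    HomologicalComplex.mapBifunctor.D₂ _ _ (DCoh.tensorBi (X := X)) (ComplexShape.up ℤ) n n') = _
  simp only [tlι, Preadditive.comp_add, Category.assoc]
  erw [HomologicalComplex.mapBifunctor.ι_D₁, HomologicalComplex.mapBifunctor.ι_D₂]
  rw [HomologicalComplex.mapBifunctor.d₁_eq' _ _ (DCoh.tensorBi (X := X)) (ComplexShape.up ℤ)
      (i₁' := (0 : ℤ) + 1) rfl n n',
    HomologicalComplex.mapBifunctor.d₂_eq (sgl.obj M) P (DCoh.tensorBi (X := X)) (ComplexShape.up ℤ) 0
      (i₂' := n') hn n' (zero_add n')]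
  have hd : (sgl.obj M).d 0 ((0 : ℤ) + 1) = 0 := rfl
  rw [hd, Functor.map_zero, zero_app, zero_comp, smul_zero, comp_zero, zero_add,
    show ComplexShape.ε₂ (ComplexShape.up ℤ) (ComplexShape.up ℤ) (ComplexShape.up ℤ) ((0 : ℤ), n) = 1
      from rfl, one_smul]
  exact (NatTrans.naturality_assoc _ _ _).symm

/-- Tensoring with a module in degree zero. -/
def tlIsoApp : (tlF P).obj M ≅ (DCoh.tensorCx.obj (sgl.obj M)).obj P :=
  HomologicalComplex.Hom.isoOfComponents (fun n => asIso (tlι P M n))
    fun n n' h => tlι_d P M n n' h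

end Single

/-- Tensoring with a module in degree zero, naturally in the module. -/
def tlIso (P : CochainComplex X.Modules ℤ) : tlF P ≅ sgl ⋙ (DCoh.tensorCx (X := X)).flip.obj P :=
  NatIso.ofComponents (tlIsoApp P) fun {M N} f => by
    ext n : 1
    show ((DCoh.tensorBi (X := X)).map f).app (P.X n) ≫ tlι P N n =
      tlι P M n ≫ ((DCoh.tensorCx.map (sgl.map f)).app P).f n
    simp only [tlι, Category.assoc]
    erw [HomologicalComplex.ι_mapBifunctorMap]
    simp only [HomologicalComplex.id_f, CategoryTheory.Functor.map_id]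
    erw [Category.id_comp]
    rw [← NatTrans.comp_app_assoc, ← NatTrans.comp_app_assoc, ← Functor.map_comp, ← Functor.map_comp,
      HomologicalComplex.single_map_f_self, Iso.inv_hom_id_assoc]

theorem quasiIso_tensor_map_right (L : CochainComplex X.Modules ℤ) (hL : DCoh.IsKFlat L)
    {F G : CochainComplex X.Modules ℤ} (α : F ⟶ G) (hα : QuasiIso α) :
    QuasiIso ((DCoh.tensorCx.obj L).map α) := by
  haveI := hα
  have h := Groth.Agent.KFlat.quasiIso_totR_map (ModSite.tensorBi X.sheaf).flip
    (isKFlatFor_flip_of_isKFlat X.sheaf ((isKFlat_iff L).1 hL)) α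
  exact ((HomologicalComplex.quasiIso X.Modules (ComplexShape.up ℤ)).arrow_mk_iso_iff
    (((Functor.mapArrowFunctor _ _).mapIso
      (Groth.Agent.KFlat.totRIso (ModSite.tensorBi X.sheaf).flip L).symm).app (Arrow.mk α))).1 h

theorem quasiIso_tensor_map_left (P : CochainComplex X.Modules ℤ) (hP : DCoh.IsKFlat P)
    {K L : CochainComplex X.Modules ℤ} (α : K ⟶ L) (hα : QuasiIso α) :
    QuasiIso ((DCoh.tensorCx.map α).app P) := by
  haveI := hα
  exact Groth.Agent.KFlat.quasiIso_tensor_of_isKFlat_right X.sheaf P ((isKFlat_iff P).1 hP) α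

/-- The derived tensor product with `F` computed by a K-flat `P` quasi-isomorphic to `F`. -/
def lTensorCxIsoQ (F : CochainComplex X.Modules ℤ) [DCoh.HasLTensorCx F] (P : CochainComplex X.Modules ℤ)
    (π : P ⟶ F) (hπ : QuasiIso π) (hP : DCoh.IsKFlat P) :
    DerivedCategory.Q ⋙ DCoh.LTensorCx F ≅ (DCoh.tensorCx (X := X)).flip.obj P ⋙ DerivedCategory.Q :=
  let T : CochainComplex X.Modules ℤ ⥤ CochainComplex X.Modules ℤ := (DCoh.tensorCx (X := X)).flip.obj P
  haveI : ∀ K, IsIso (DerivedCategory.Q.map ((resXπ X).app K)) := fun K =>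
    Localization.inverts DerivedCategory.Q (HomologicalComplex.quasiIso X.Modules (ComplexShape.up ℤ)) _
      ((HomologicalComplex.mem_quasiIso_iff _).2 (quasiIso_resXπ K))
  haveI : ∀ K, IsIso (DerivedCategory.Q.map (T.map ((resXπ X).app K))) := fun K =>
    Localization.inverts DerivedCategory.Q (HomologicalComplex.quasiIso X.Modules (ComplexShape.up ℤ)) _
      ((HomologicalComplex.mem_quasiIso_iff _).2 (quasiIso_tensor_map_left P hP _ (quasiIso_resXπ K)))
  haveI : ∀ K, IsIso (DerivedCategory.Q.map ((DCoh.tensorCx.obj ((resX X).obj K)).map π)) := fun K =>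
    Localization.inverts DerivedCategory.Q (HomologicalComplex.quasiIso X.Modules (ComplexShape.up ℤ)) _
      ((HomologicalComplex.mem_quasiIso_iff _).2 (quasiIso_tensor_map_right _ (isKFlat_resX K) π hπ))
  let e₁ : DerivedCategory.Q ⋙ DCoh.LTensorCx F ≅
      resX X ⋙ DerivedCategory.Q ⋙ DCoh.LTensorCx F :=
    (show resX X ⋙ DerivedCategory.Q ⋙ DCoh.LTensorCx F ≅ DerivedCategory.Q ⋙ DCoh.LTensorCx F from
      NatIso.ofComponents (fun K => (DCoh.LTensorCx F).mapIso (asIso (DerivedCategory.Q.map ((resXπ X).app K))))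
      fun {K L} f => by
        dsimp
        rw [← Functor.map_comp, ← Functor.map_comp, ← Functor.map_comp, ← Functor.map_comp]
        exact congrArg (fun g => (DCoh.LTensorCx F).map (DerivedCategory.Q.map g)) ((resXπ X).naturality f)).symm
  let e₂ : resX X ⋙ DerivedCategory.Q ⋙ DCoh.LTensorCx F ≅ resX X ⋙ DCoh.tensorCxQ F :=
    NatIso.ofComponents
      (fun K => @asIso _ _ _ _ _ (isIso_lTensorCounit_app F ((resX X).obj K) (isKFlat_resX K)))
      fun {K L} f => (lTensorCounit F).naturality ((resX X).map f)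
  let e₃ : resX X ⋙ DCoh.tensorCxQ F ≅ resX X ⋙ T ⋙ DerivedCategory.Q :=
    (show resX X ⋙ T ⋙ DerivedCategory.Q ≅ resX X ⋙ DCoh.tensorCxQ F from NatIso.ofComponents
      (fun K => asIso (DerivedCategory.Q.map ((DCoh.tensorCx.obj ((resX X).obj K)).map π)))
      fun {K L} f => by
        dsimp
        rw [← Functor.map_comp, ← Functor.map_comp]
        exact congrArg DerivedCategory.Q.map ((DCoh.tensorCx.map ((resX X).map f)).naturality π).symm).symm
  let e₄ : resX X ⋙ T ⋙ DerivedCategory.Q ≅ T ⋙ DerivedCategory.Q :=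
    NatIso.ofComponents (fun K => asIso (DerivedCategory.Q.map (T.map ((resXπ X).app K))))
      fun {K L} f => by
        show DerivedCategory.Q.map (T.map ((resX X).map f)) ≫ DerivedCategory.Q.map (T.map ((resXπ X).app L)) =
          DerivedCategory.Q.map (T.map ((resXπ X).app K)) ≫ DerivedCategory.Q.map (T.map f)
        rw [← Functor.map_comp, ← Functor.map_comp, ← Functor.map_comp, ← Functor.map_comp]
        exact congrArg (fun g => DerivedCategory.Q.map (T.map g)) ((resXπ X).naturality f)
  e₁ ≪≫ e₂ ≪≫ e₃ ≪≫ e₄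

/-- `M ↦ Hᵖ(M ⊗^L F)` on modules. -/
def homologyTensorIso (F : CochainComplex X.Modules ℤ) [DCoh.HasLTensorCx F] (P : CochainComplex X.Modules ℤ)
    (π : P ⟶ F) (hπ : QuasiIso π) (hP : DCoh.IsKFlat P) (p : ℤ) :
    DerivedCategory.singleFunctor X.Modules 0 ⋙ DCoh.LTensorCx F ⋙
        DerivedCategory.homologyFunctor X.Modules p ≅
      tlF P ⋙ HomologicalComplex.homologyFunctor X.Modules (ComplexShape.up ℤ) p :=
  Functor.isoWhiskerRight (DerivedCategory.singleFunctorIsoCompQ X.Modules 0)
      (DCoh.LTensorCx F ⋙ DerivedCategory.homologyFunctor X.Modules p) ≪≫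
    Functor.associator _ _ _ ≪≫
    Functor.isoWhiskerLeft sgl (Functor.isoWhiskerRight (lTensorCxIsoQ F P π hπ hP)
        (DerivedCategory.homologyFunctor X.Modules p) ≪≫
      Functor.associator _ _ _ ≪≫
      Functor.isoWhiskerLeft _ (DerivedCategory.homologyFunctorFactors X.Modules p)) ≪≫
    (Functor.associator _ _ _).symm ≪≫
    Functor.isoWhiskerRight (tlIso P).symm _

end Groth.Agent.DCohLib
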