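import Groth.Agent.DCohLib.FTLocal
import Mathlib.Algebra.Homology.DerivedCategory.SingleTriangle

/-!
# Top cohomology of pseudo-coherent objects
-/

set_option autoImplicit false
set_option linter.style.haveILetI false

universe u

open CategoryTheory CategoryTheory.Limits AlgebraicGeometry TopologicalSpace Opposite

attribute [local instance] HasDerivedCategory.standard

noncomputable section

namespace Groth.Agent.DCohLib

variable {X U : Scheme.{u}}

/-- Cohomology sheaves commute with restriction. -/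
def restrictHDIso (j : U ⟶ X) [IsOpenImmersion j] (K : DCoh.D X) (i : ℤ) :
    DCoh.HD ((DCoh.restrictD j).obj K) i ≅ (Scheme.Modules.restrictFunctor j).obj (DCoh.HD K i) :=
  (DerivedCategory.homologyFunctor U.Modules i).mapIso
      ((DCoh.restrictD j).mapIso (DerivedCategory.Q.objObjPreimageIso K).symm ≪≫ restrictDQ j _) ≪≫
    (DerivedCategory.homologyFunctorFactors U.Modules i).app _ ≪≫
    ShortComplex.mapHomologyIso ((DerivedCategory.Q.objPreimage K).sc i)
      (Scheme.Modules.restrictFunctor j) ≪≫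
    (Scheme.Modules.restrictFunctor j).mapIso
      (((DerivedCategory.homologyFunctorFactors X.Modules i).app _).symm ≪≫
        (DerivedCategory.homologyFunctor X.Modules i).mapIso (DerivedCategory.Q.objObjPreimageIso K))

/-- Cycles of a strictly perfect complex exact above are finite locally free. -/
theorem isFinLocFree_cycles {C : CochainComplex X.Modules ℤ} (hfl : ∀ i, FlatMod.IsFinLocFree (C.X i))
    (b : ℤ) (hb : ∀ i, b < i → IsZero (C.X i)) :
    ∀ (n : ℕ) (i : ℤ), (∀ j, i < j → C.ExactAt j) → b < i + n →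
      FlatMod.IsFinLocFree (C.cycles i) := by
  intro n
  induction n with
  | zero => exact fun i _ hi => isFinLocFree_of_isZero (IsZero.of_mono (C.iCycles i) (hb i (by omega)))
  | succ n ih =>
    exact fun i h hi => isFinLocFree_of_shortExact
      (shortExact_cyclesSeqZ_of_exactAt C i (i + 1) rfl (h _ (by omega))) (hfl i)
      (ih (i + 1) (fun j hj => h j (by omega)) (by omega))

theorem exists_cycles_flf {E : CochainComplex X.Modules ℤ} (hE : DCoh.IsStrictlyPerfect E) {i : ℤ}
    (h : ∀ j, i < j → E.ExactAt j) : FlatMod.IsFinLocFree (E.cycles i) := by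
  obtain ⟨⟨a, b, hab⟩, hf⟩ := hE
  exact isFinLocFree_cycles hf b (fun j hj => hab j (Or.inr hj)) ((b - i).toNat + 1) i h (by omega)

/-- An epimorphism from a finite locally free module gives finite type. -/
theorem exists_local_free_epi_of_epi {P M : X.Modules} (hP : FlatMod.IsFinLocFree P) (p : P ⟶ M)
    [Epi p] (x : X) :
    ∃ (V : X.Opens) (n : ℕ) (q : FlatMod.freeMod ↑V n ⟶ (Scheme.Modules.restrictFunctor V.ι).obj M),
      x ∈ V ∧ Epi q := by
  obtain ⟨V, n, hx, ⟨e⟩⟩ := hP x
  exact ⟨V, n, e.inv ≫ (Scheme.Modules.restrictFunctor V.ι).map p, hx,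
    epi_comp' inferInstance inferInstance⟩

theorem exactAt_of_mIso {E : CochainComplex X.Modules ℤ} {K : DCoh.D X} {m i : ℤ}
    {α : DerivedCategory.Q.obj E ⟶ K} (hα : MIso m α) (hi : m < i) (hK : IsZero (DCoh.HD K i)) :
    E.ExactAt i := by
  haveI := ((mIso_iff m α).1 hα).1 i hi
  exact (HomologicalComplex.exactAt_iff_isZero_homology _ _).2
    ((hK.of_iso (asIso ((DerivedCategory.homologyFunctor X.Modules i).map α))).of_iso
      ((DerivedCategory.homologyFunctorFactors X.Modules i).app E).symm)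

theorem isFT_top {m : ℤ} {K : DCoh.D X} (hK : DCoh.IsPseudoCoherentD m K)
    (hz : ∀ i, m < i → IsZero (DCoh.HD K i)) : CohB1.IsFT (DCoh.HD K m) := by
  refine isFT_of_local_epi fun x => ?_
  obtain ⟨V, hx, E, α, hE, hα⟩ := (isPseudoCoherentD_iff m K).1 hK x
  have hZ := exists_cycles_flf hE (i := m) fun j hj => exactAt_of_mIso hα hj
    (((Scheme.Modules.restrictFunctor V.ι).map_isZero (hz j hj)).of_iso (restrictHDIso V.ι K j))
  haveI := ((mIso_iff m α).1 hα).2
  let g : E.cycles m ⟶ (Scheme.Modules.restrictFunctor V.ι).obj (DCoh.HD K m) :=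
    (E.homologyπ m ≫ ((DerivedCategory.homologyFunctorFactors _ m).app E).inv ≫
      (DerivedCategory.homologyFunctor _ m).map α) ≫ (restrictHDIso V.ι K m).hom
  haveI : Epi g := epi_comp'
    (epi_comp' inferInstance (epi_comp' inferInstance ((mIso_iff m α).1 hα).2)) inferInstance
  obtain ⟨W, n, q, hW, hq⟩ := exists_local_free_epi_of_epi hZ g ⟨x, hx⟩
  exact ⟨W, W.ι ≫ V.ι, inferInstance, ⟨⟨x, hx⟩, hW⟩, n,
    q ≫ ((Scheme.Modules.restrictFunctorComp W.ι V.ι).app _).inv, rfl, epi_comp' hq inferInstance⟩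

theorem isFP_top {m : ℤ} {K : DCoh.D X} (hK : DCoh.IsPseudoCoherentD m K)
    (hz : ∀ i, m + 1 < i → IsZero (DCoh.HD K i)) : CohB1.IsFP (DCoh.HD K (m + 1)) := by
  refine isFP_of_local fun x => ?_
  obtain ⟨V, hx, E, α, hE, hα⟩ := (isPseudoCoherentD_iff m K).1 hK x
  refine ⟨V, V.ι, inferInstance, ⟨x, hx⟩, rfl, ?_⟩
  have hZ := exists_cycles_flf hE (i := m + 1) fun j hj => exactAt_of_mIso hα (by omega)
    (((Scheme.Modules.restrictFunctor V.ι).map_isZero (hz j hj)).of_iso (restrictHDIso V.ι K j))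
  haveI := ((mIso_iff m α).1 hα).1 (m + 1) (by omega)
  obtain ⟨h1, h2⟩ := PullbackMod.isQCoh_and_isFP_of_isFinLocFree _ hZ
  obtain ⟨h3, h4⟩ := PullbackMod.isQCoh_and_isFP_of_isFinLocFree _ (hE.2 m)
  haveI := h4
  let e : cokernel (E.toCycles m (m + 1)) ≅
      (Scheme.Modules.restrictFunctor V.ι).obj (DCoh.HD K (m + 1)) :=
    (cokernelIsCokernel _).coconePointUniqueUpToIso (E.homologyIsCokernel m (m + 1) (by simp)) ≪≫
      ((DerivedCategory.homologyFunctorFactors _ (m + 1)).app E).symm ≪≫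
      asIso ((DerivedCategory.homologyFunctor _ (m + 1)).map α) ≪≫ restrictHDIso V.ι K (m + 1)
  exact isFP_iso e (isFP_cokernel _ h3 h1
    (inferInstanceAs (SheafOfModules.IsFiniteType (R := (V : Scheme.{u}).ringCatSheaf) (E.X m))) h2)

section Single

theorem isStrictlyPerfect_single {P : X.Modules} (hP : FlatMod.IsFinLocFree P) :
    DCoh.IsStrictlyPerfect ((CochainComplex.singleFunctor X.Modules 0).obj P) :=
  ⟨⟨0, 0, fun i hi => HomologicalComplex.isZero_single_obj_X _ _ _ _ (by omega)⟩, fun i => by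
    by_cases hi : i = 0
    · subst hi
      exact isFinLocFree_iso (HomologicalComplex.singleObjXSelf (ComplexShape.up ℤ) 0 P).symm hP
    · exact isFinLocFree_of_isZero (HomologicalComplex.isZero_single_obj_X _ _ _ _ hi)⟩

theorem isPerfect_inD {P : X.Modules} (hP : FlatMod.IsFinLocFree P) :
    DCoh.IsPerfect (DCoh.inD X P) :=
  isPerfect_of_perfOn ⟨_, isStrictlyPerfect_single hP,
    ⟨((DerivedCategory.singleFunctorIsoCompQ X.Modules 0).app P).symm⟩⟩

theorem isZero_HD_inD (F : X.Modules) {i : ℤ} (hi : i ≠ 0) : IsZero (DCoh.HD (DCoh.inD X F) i) :=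
  (((HomologicalComplex.exactAt_iff_isZero_homology _ _).1
    (HomologicalComplex.exactAt_single_obj (ComplexShape.up ℤ) (A := F) (j := 0) (i := i) hi)).of_iso
      ((DerivedCategory.homologyFunctorFactors X.Modules i).app _)).of_iso
    ((DerivedCategory.homologyFunctor X.Modules i).mapIso
      ((DerivedCategory.singleFunctorIsoCompQ X.Modules 0).app F))

theorem isPC_zero_of_isFT {F : X.Modules} (hF : CohB1.IsFT F) :
    DCoh.IsPseudoCoherentD 0 (DCoh.inD X F) := by
  refine isPseudoCoherentD_of_local fun x => ?_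
  obtain ⟨V, n, p, hx, hp⟩ := exists_free_epi hF x
  refine ⟨V, V.ι, inferInstance, ⟨x, hx⟩, rfl, isPseudoCoherentD_iso
    ((((Scheme.Modules.restrictFunctor V.ι).mapDerivedCategorySingleFunctor 0).app F).symm) ?_⟩
  refine (isPseudoCoherentD_iff _ _).2 fun y => ⟨⊤, trivial, PCOn.restrict _
    ⟨_, ((DerivedCategory.singleFunctorIsoCompQ (V : Scheme.{u}).Modules 0).app _).inv ≫
      (DerivedCategory.singleFunctor (V : Scheme.{u}).Modules 0).map p,
      isStrictlyPerfect_single (isFinLocFree_freeMod n),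
      (mIso_of_isIso _ _).comp ((mIso_iff _ _).2 ⟨fun i hi => ?_, ?_⟩)⟩⟩
  · exact (isZero_HD_inD _ (ne_of_gt hi)).isIso (isZero_HD_inD _ (ne_of_gt hi)) _
  · have h := (DerivedCategory.singleFunctorCompHomologyFunctorIso (V : Scheme.{u}).Modules 0).hom.naturality p
    exact ((MorphismProperty.epimorphisms _).arrow_mk_iso_iff (Arrow.isoMk
      ((DerivedCategory.singleFunctorCompHomologyFunctorIso _ 0).app _)
      ((DerivedCategory.singleFunctorCompHomologyFunctorIso _ 0).app _) h.symm :
      Arrow.mk _ ≅ Arrow.mk p)).2 hp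

theorem isPC_neg_one_of_isFP {F : X.Modules} (hF : CohB1.IsFP F) :
    DCoh.IsPseudoCoherentD (-1) (DCoh.inD X F) := by
  refine isPseudoCoherentD_of_local fun x => ?_
  haveI := hF
  obtain ⟨V, n, p, hx, hp⟩ := exists_free_epi (M := F) inferInstance x
  refine ⟨V, V.ι, inferInstance, ⟨x, hx⟩, rfl, isPseudoCoherentD_iso
    ((((Scheme.Modules.restrictFunctor V.ι).mapDerivedCategorySingleFunctor 0).app F).symm) ?_⟩
  let G := (Scheme.Modules.restrictFunctor V.ι).obj F
  haveI : Coh.IsQCoh F := inferInstanceAs (SheafOfModules.IsQuasicoherent (R := X.ringCatSheaf) F)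
  let e := ((Scheme.Modules.restrictFunctorIsoPullback V.ι).app F).symm
  haveI hGq : Coh.IsQCoh G :=
    (SheafOfModules.isQuasicoherent.{u} _).prop_of_iso e (PullbackMod.isQCoh_pullback V.ι F)
  have hGp : CohB1.IsFP G := isFP_iso e (PullbackMod.isFP_pullback V.ι F hF)
  haveI := (PullbackMod.isQCoh_and_isFP_of_isFinLocFree _ (isFinLocFree_freeMod (Y := (V : Scheme.{u})) n)).1
  have hfree := (PullbackMod.isQCoh_and_isFP_of_isFinLocFree _
    (isFinLocFree_freeMod (Y := (V : Scheme.{u})) n)).2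
  let S : ShortComplex (V : Scheme.{u}).Modules := ShortComplex.mk (kernel.ι p) p (kernel.condition p)
  have hS : S.ShortExact := ShortComplex.ShortExact.mk'
    (ShortComplex.exact_of_f_is_kernel _ (kernelIsKernel p)) inferInstance hp
  have hKq : Coh.IsQCoh (kernel p) := (QCohLib.isQCoh_image p inferInstance hGq).1
  haveI := hKq
  have hK : CohB1.IsFT (kernel p) := by
    refine QCohLib.isFiniteType_of_finite _
      (fun W : (V : Scheme.{u}).affineOpens => (W : (V : Scheme.{u}).Opens))
      (fun W => W.2) (iSup_affineOpens_eq_top _) fun W => ?_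
    haveI := QCohLib.finitePresentation_sections _ hfree W.2
    haveI := QCohLib.finitePresentation_sections _ hGp W.2
    let q := FlatLocus.appL p (W : (V : Scheme.{u}).Opens)
    have hker : (LinearMap.ker q).FG :=
      Module.FinitePresentation.fg_ker q (QCohLib.app_surjective hS hKq W.2)
    haveI : Module.Finite _ (LinearMap.ker q) := Module.Finite.iff_fg.2 hker
    let i := FlatLocus.appL (kernel.ι p) (W : (V : Scheme.{u}).Opens)
    have hi : ∀ m, i m ∈ LinearMap.ker q := fun m => QCohLib.app_g_f (S := S) _ m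
    exact Module.Finite.equiv (LinearEquiv.ofBijective (i.codRestrict _ hi)
      ⟨fun a b h => QCohLib.app_injective hS _ (congrArg Subtype.val h),
        fun ⟨z, hz⟩ => by
          obtain ⟨t, ht⟩ := QCohLib.app_exact hS _ z hz
          exact ⟨t, Subtype.ext ht⟩⟩).symm
  exact isPseudoCoherentD_obj₃ _ hS.singleTriangle_distinguished (isPC_zero_of_isFT hK)
    (((isPerfect_iff_pc _).1 (isPerfect_inD (isFinLocFree_freeMod n))).1 _)

theorem isPC_inD_iff (F : X.Modules) :
    (DCoh.IsPseudoCoherentD 0 (DCoh.inD X F) ↔ CohB1.IsFT F) ∧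
    (DCoh.IsPseudoCoherentD (-1) (DCoh.inD X F) ↔ CohB1.IsFP F) := by
  have e : DCoh.HD (DCoh.inD X F) 0 ≅ F :=
    (DerivedCategory.singleFunctorCompHomologyFunctorIso X.Modules 0).app F
  refine ⟨⟨fun h => ?_, isPC_zero_of_isFT⟩, ⟨fun h => ?_, isPC_neg_one_of_isFP⟩⟩
  · refine isFT_of_local_epi fun x => ?_
    obtain ⟨V, n, p, hx, hp⟩ := exists_free_epi (isFT_top h fun i hi => isZero_HD_inD F (ne_of_gt hi)) x
    exact ⟨V, V.ι, inferInstance, ⟨x, hx⟩, n,
      p ≫ (Scheme.Modules.restrictFunctor V.ι).map e.hom, rfl, epi_comp' hp inferInstance⟩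
  · exact isFP_iso e (isFP_top h fun i hi => isZero_HD_inD F (ne_of_gt (by omega)))

end Single

end Groth.Agent.DCohLib
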