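import Groth.Agent.DCohLib.Restrict
import Groth.Agent.PullbackMod.Hom

/-!
# Local lifting out of finite locally free modules, and local null-homotopies
-/

set_option autoImplicit false
set_option linter.style.haveILetI false

universe u

open CategoryTheory CategoryTheory.Limits AlgebraicGeometry TopologicalSpace Opposite

attribute [local instance] HasDerivedCategory.standard

noncomputable section

namespace Groth.Agent.DCohLib

variable {X Y : Scheme.{u}}

theorem exists_lift_sections {A B : Y.Modules} (q : A ⟶ B) [Epi q] {n : ℕ} (c : Fin n → Γ(B, ⊤))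
    (y : Y) :
    ∃ W : Y.Opens, y ∈ W ∧
      ∀ i, ∃ t : Γ(A, W), q.app W t = B.presheaf.map (homOfLE (le_top : W ≤ ⊤)).op (c i) := by
  have h : ∀ i, ∃ V : Y.Opens, y ∈ V ∧
      ∃ t : Γ(A, V), q.app V t = B.presheaf.map (homOfLE (le_top : V ≤ ⊤)).op (c i) := by
    intro i
    obtain ⟨z, hz⟩ := (PullbackMod.epi_iff_stalk q).1 inferInstance y
      (B.presheaf.germ ⊤ y (show y ∈ (⊤ : Y.Opens) from trivial) (c i))
    obtain ⟨U, hx, m, rfl⟩ := TopCat.Presheaf.exists_germ_eq A.presheaf z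
    rw [PullbackMod.stalkLin_germ] at hz
    obtain ⟨V, hyV, iU, iT, he⟩ := TopCat.Presheaf.germ_eq B.presheaf y hx (show y ∈ (⊤ : Y.Opens) from trivial) _ _ hz
    refine ⟨V, hyV, A.presheaf.map (homOfLE (leOfHom iU)).op m, ?_⟩
    rw [app_natural q (leOfHom iU)]
    exact he
  choose V hV t ht using h
  refine ⟨⟨⋂ i, (V i : Set Y), isOpen_iInter_of_finite fun i => (V i).2⟩, Set.mem_iInter.2 hV,
    fun i => ?_⟩
  have hle : (⟨⋂ i, (V i : Set Y), isOpen_iInter_of_finite fun i => (V i).2⟩ : Y.Opens) ≤ V i :=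
    Set.iInter_subset (fun j => (V j : Set Y)) i
  refine ⟨A.presheaf.map (homOfLE hle).op (t i), ?_⟩
  rw [app_natural q hle, ht i, ← ConcreteCategory.comp_apply, ← B.presheaf.map_comp]
  rfl

theorem restrictUnit_inv_app_one {W : Y.Opens} :
    (restrictUnit W.ι).inv.app ⊤ (1 : Γ(↑W, ⊤)) = (1 : Γ(Y, W.ι ''ᵁ ⊤)) :=
  map_one (W.ι.appIso ⊤).inv.hom

theorem secHom_restrict_app_one {A : Y.Modules} {W : Y.Opens} (t : Γ(A, W.ι ''ᵁ ⊤)) :
    (secHom ((Scheme.Modules.restrictFunctor W.ι).obj A) t).app ⊤ (1 : Γ(↑W, ⊤)) = t := by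
  rw [secHom_app_one]
  exact (congrArg (fun g : (⊤ : (↑W : Scheme.{u}).Opens) ⟶ ⊤ =>
      ((Scheme.Modules.restrictFunctor W.ι).obj A).presheaf.map g.op t) (Subsingleton.elim _ (𝟙 _))).trans
    (ConcreteCategory.congr_hom
      (((Scheme.Modules.restrictFunctor W.ι).obj A).presheaf.map_id (op ⊤)) t)

theorem restrict_key {A B : Y.Modules} (q : A ⟶ B) (c : Coh.structureModule Y ⟶ B) {W : Y.Opens}
    (t : Γ(A, W))
    (ht : q.app W t = B.presheaf.map (homOfLE (le_top : W ≤ ⊤)).op (c.app ⊤ (1 : Γ(Y, ⊤)))) :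
    (restrictUnit W.ι).hom ≫
        secHom ((Scheme.Modules.restrictFunctor W.ι).obj A)
          (A.presheaf.map (homOfLE W.ι_image_top.le).op t) ≫
      (Scheme.Modules.restrictFunctor W.ι).map q =
      (Scheme.Modules.restrictFunctor W.ι).map c := by
  rw [← cancel_epi (restrictUnit W.ι).inv, Iso.inv_hom_id_assoc]
  refine hom_unit_ext ?_
  rw [app_one_natural c le_top] at ht
  refine (congrArg (q.app (W.ι ''ᵁ ⊤)) (secHom_restrict_app_one _)).trans ?_
  refine Eq.trans ?_ (congrArg (c.app (W.ι ''ᵁ ⊤)) restrictUnit_inv_app_one).symm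
  rw [app_natural q W.ι_image_top.le t, ht]
  exact app_one_natural c W.ι_image_top.le

/-- A map out of `O_W^n` into a restricted module, from sections over the open. -/
theorem exists_lift_free {A B : Y.Modules} (q : A ⟶ B) [Epi q] {n : ℕ}
    (c : FlatMod.freeMod Y n ⟶ B) (y : Y) :
    ∃ (W : Y.Opens) (_ : y ∈ W)
      (ψ : (Scheme.Modules.restrictFunctor W.ι).obj (FlatMod.freeMod Y n) ⟶
        (Scheme.Modules.restrictFunctor W.ι).obj A),
      ψ ≫ (Scheme.Modules.restrictFunctor W.ι).map q = (Scheme.Modules.restrictFunctor W.ι).map c := by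
  let f : Fin n → Y.Modules := fun _ => Coh.structureModule Y
  let ci : ∀ i : Fin n, Coh.structureModule Y ⟶ B := fun i => Sigma.ι f i ≫ c
  obtain ⟨W, hy, h⟩ := exists_lift_sections q (fun i => (ci i).app ⊤ (1 : Γ(Y, ⊤))) y
  choose t ht using h
  let F := Scheme.Modules.restrictFunctor W.ι
  haveI : PreservesColimitsOfSize.{0, 0} F :=
    (Scheme.Modules.restrictAdjunction W.ι).leftAdjoint_preservesColimits
  let ψi : ∀ i : Fin n, Coh.structureModule ↑W ⟶ F.obj A := fun i =>
    secHom (F.obj A) (A.presheaf.map (homOfLE W.ι_image_top.le).op (t i))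
  have key : ∀ i : Fin n, (restrictUnit W.ι).hom ≫ ψi i ≫ F.map q = F.map (ci i) :=
    fun i => restrict_key q (ci i) (t i) (ht i)
  refine ⟨W, hy, (PreservesCoproduct.iso F f).hom ≫
    Sigma.desc (fun i => (restrictUnit W.ι).hom ≫ ψi i), ?_⟩
  rw [Category.assoc, ← cancel_epi (PreservesCoproduct.iso F f).inv, Iso.inv_hom_id_assoc,
    PreservesCoproduct.inv_hom]
  refine Sigma.hom_ext _ _ fun i => ?_
  rw [Sigma.ι_desc_assoc, ι_comp_sigmaComparison_assoc, Category.assoc, key i]
  exact F.map_comp _ _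

/-- A map from a finite locally free module into the kernel of the second map of an exact
sequence lifts locally. -/
theorem exists_local_lift (S : ShortComplex X.Modules) (hS : S.Exact) {P : X.Modules}
    (hP : FlatMod.IsFinLocFree P) (φ : P ⟶ S.X₂) (hφ : φ ≫ S.g = 0) (x : X) :
    ∃ (U : Scheme.{u}) (j : U ⟶ X) (_ : IsOpenImmersion j) (y : U), j y = x ∧
      ∃ ψ : (Scheme.Modules.restrictFunctor j).obj P ⟶ (Scheme.Modules.restrictFunctor j).obj S.X₁,
        ψ ≫ (Scheme.Modules.restrictFunctor j).map S.f = (Scheme.Modules.restrictFunctor j).map φ := by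
  haveI := S.exact_iff_epi_kernel_lift.1 hS
  obtain ⟨U, n, hxU, ⟨e⟩⟩ := hP x
  let F₀ := Scheme.Modules.restrictFunctor U.ι
  obtain ⟨W, hW, ψ, hψ⟩ := exists_lift_free (F₀.map (kernel.lift S.g S.f S.zero))
    (e.inv ≫ F₀.map (kernel.lift S.g φ hφ)) ⟨x, hxU⟩
  let F₁ := Scheme.Modules.restrictFunctor W.ι
  let ρ := Scheme.Modules.restrictFunctorComp W.ι U.ι
  refine ⟨W, W.ι ≫ U.ι, inferInstance, ⟨⟨x, hxU⟩, hW⟩, rfl,
    ρ.hom.app P ≫ F₁.map e.hom ≫ ψ ≫ ρ.inv.app S.X₁, ?_⟩
  have h1 : (Scheme.Modules.restrictFunctor (W.ι ≫ U.ι)).map φ =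
      ρ.hom.app P ≫ F₁.map (F₀.map φ) ≫ ρ.inv.app S.X₂ := by
    refine Eq.trans ?_ (congrArg (ρ.hom.app P ≫ ·) (ρ.inv.naturality φ).symm)
    exact (ρ.hom_inv_id_app_assoc _ _).symm
  have h2 : ψ ≫ F₁.map (F₀.map S.f) = F₁.map e.inv ≫ F₁.map (F₀.map φ) := by
    conv_lhs => rw [← kernel.lift_ι S.g S.f S.zero, F₀.map_comp, F₁.map_comp]
    rw [reassoc_of% hψ]
    conv_rhs => rw [← kernel.lift_ι S.g φ hφ, F₀.map_comp, F₁.map_comp]
    rw [F₁.map_comp]
    exact Category.assoc _ _ _
  rw [h1, Category.assoc, Category.assoc, Category.assoc]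
  congr 1
  rw [← ρ.inv.naturality]
  show F₁.map e.hom ≫ ψ ≫ F₁.map (F₀.map S.f) ≫ _ = _
  rw [← Category.assoc ψ, h2, Category.assoc, ← F₁.map_comp_assoc, e.hom_inv_id]
  simp only [CategoryTheory.Functor.map_id, Category.id_comp]

open Classical in
/-- Local null-homotopy, induction form. -/
theorem exists_homotopy_aux (a : ℤ) : ∀ (n : ℕ) {X : Scheme.{u}}
    {E F : CochainComplex X.Modules ℤ} (α : E ⟶ F), (∀ i, FlatMod.IsFinLocFree (E.X i)) →
    (∀ i, i < a → IsZero (E.X i)) → (∀ i, a ≤ i → F.ExactAt i) →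
    (∀ i, a + n ≤ i → α.f i = 0) → ∀ x : X,
    ∃ (U : Scheme.{u}) (j : U ⟶ X) (_ : IsOpenImmersion j) (y : U), j y = x ∧
      Nonempty (Homotopy ((resCx j).map α) 0) := by
  intro n
  induction n with
  | zero =>
    intro X E F α _ hEa _ hα x
    refine ⟨X, 𝟙 X, inferInstance, x, rfl, ⟨Homotopy.ofEq ?_⟩⟩
    have : α = 0 := by
      ext i : 1
      rcases lt_or_ge i a with h | h
      · exact (hEa i h).eq_of_src _ _
      · exact hα i (by simpa using h)
    rw [this, Functor.map_zero]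
  | succ n ih =>
    intro X E F α hE hEa hF hα x
    have hk : a ≤ a + n := by omega
    have hφ : α.f (a + n) ≫ F.d (a + n) (a + n + 1) = 0 := by
      rw [α.comm, hα (a + n + 1) (by omega), comp_zero]
    obtain ⟨U, j, hj, y, hy, ψ, hψ⟩ := exists_local_lift (F.sc' (a + n - 1) (a + n) (a + n + 1))
      ((HomologicalComplex.exactAt_iff' F (a + n - 1) (a + n) (a + n + 1) (by simp) (by simp)).1
        (hF (a + n) hk))
      (hE (a + n)) (α.f (a + n)) hφ x
    let G := resCx j
    let h : ∀ i i', (ComplexShape.up ℤ).Rel i' i → ((G.obj E).X i ⟶ (G.obj F).X i') :=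
      fun i i' _ =>
        if hi : i = a + n ∧ i' = a + n - 1 then
          eqToHom (show (G.obj E).X i = (G.obj E).X (a + n) by rw [hi.1]) ≫ ψ ≫
            eqToHom (show (G.obj F).X (a + n - 1) = (G.obj F).X i' by rw [hi.2])
        else 0
    let α' := G.map α - Homotopy.nullHomotopicMap' h
    have hα' : ∀ i, a + n ≤ i → α'.f i = 0 := by
      intro i hi
      rw [HomologicalComplex.sub_f_apply, sub_eq_zero,
        Homotopy.nullHomotopicMap'_f (k₂ := i - 1) (k₁ := i) (k₀ := i + 1) (by simp) (by simp)]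
      dsimp only [h]
      rw [dif_neg (by omega), comp_zero, zero_add]
      rcases eq_or_lt_of_le hi with rfl | hlt
      · rw [dif_pos ⟨rfl, rfl⟩]
        erw [eqToHom_refl, eqToHom_refl, Category.id_comp, Category.comp_id]
        exact hψ.symm
      · rw [dif_neg (by omega), zero_comp]
        show (Scheme.Modules.restrictFunctor j).map (α.f i) = 0
        rw [hα i (by omega), Functor.map_zero]
    obtain ⟨U', j', hj', y', hy', ⟨H⟩⟩ := ih α' (fun i => isFinLocFree_restrict j (hE i))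
      (fun i hi => isZero_resCx j (hEa i hi)) (fun i hi => exactAt_resCx j (hF i hi)) hα' y
    refine ⟨U', j' ≫ j, inferInstance, y', ?_, ⟨?_⟩⟩
    · rw [← hy, ← hy']
      rfl
    · let ρ := resCxComp j' j
      have hn : Homotopy ((resCx j').map (Homotopy.nullHomotopicMap' h)) 0 :=
        (((Scheme.Modules.restrictFunctor j').mapHomotopy (Homotopy.nullHomotopy' h))).trans
          (Homotopy.ofEq (Functor.map_zero _ _ _))
      have h1 : Homotopy ((resCx j').map (G.map α)) 0 :=
        (Homotopy.ofEq (show (resCx j').map (G.map α) =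
          (resCx j').map α' + (resCx j').map (Homotopy.nullHomotopicMap' h) by
            rw [← Functor.map_add]; simp [α'])).trans
          ((H.add hn).trans (Homotopy.ofEq (add_zero _)))
      exact (Homotopy.ofEq (show (resCx (j' ≫ j)).map α =
          ρ.hom.app E ≫ (resCx j').map (G.map α) ≫ ρ.inv.app F by
            refine Eq.trans ?_ (congrArg (ρ.hom.app E ≫ ·) (ρ.inv.naturality α).symm)
            exact (ρ.hom_inv_id_app_assoc _ _).symm)).trans
        ((((h1.compRight (ρ.inv.app F)).compLeft (ρ.hom.app E))).trans (Homotopy.ofEq (by simp)))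

/-- A map from a strictly perfect complex zero below `a` to a complex exact in degrees `≥ a` is
locally null-homotopic. -/
theorem exists_homotopy_zero {E F : CochainComplex X.Modules ℤ} (α : E ⟶ F)
    (hE : DCoh.IsStrictlyPerfect E) (a : ℤ) (hEa : ∀ i, i < a → IsZero (E.X i))
    (hF : ∀ i, a ≤ i → F.ExactAt i) (x : X) :
    ∃ (U : Scheme.{u}) (j : U ⟶ X) (_ : IsOpenImmersion j) (y : U), j y = x ∧
      Nonempty (Homotopy ((resCx j).map α) 0) := by
  obtain ⟨⟨c, b, hab⟩, hfree⟩ := hE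
  exact exists_homotopy_aux a (b + 1 - a).toNat α hfree hEa hF
    (fun i hi => (hab i (Or.inr (by omega))).eq_of_src _ _) x

end Groth.Agent.DCohLib
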