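import Groth.Agent.DCohLib.Restrict
import Groth.Agent.DCohLib.LocLift
import Groth.Agent.S5626
import Mathlib.Algebra.Homology.HomotopyCategory.MappingCone
import Mathlib.Algebra.Homology.HomotopyCategory.Shift

/-!
# Strictly perfect complexes: cones, shifts, truncations, and finite locally free modules
-/

set_option autoImplicit false
set_option linter.style.haveILetI false

universe u

open CategoryTheory CategoryTheory.Limits AlgebraicGeometry TopologicalSpace Opposite

attribute [local instance] HasDerivedCategory.standard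

noncomputable section

namespace Groth.Agent.DCohLib

variable {X Y : Scheme.{u}}

/-- Local freeness may be checked on a covering family of open immersions. -/
theorem isFinLocFree_of_local {M : X.Modules}
    (h : ∀ x : X, ∃ (U : Scheme.{u}) (j : U ⟶ X) (_ : IsOpenImmersion j) (y : U), j y = x ∧
      FlatMod.IsFinLocFree ((Scheme.Modules.restrictFunctor j).obj M)) :
    FlatMod.IsFinLocFree M := by
  intro x
  obtain ⟨U, j, hj, y, rfl, hM⟩ := h x
  obtain ⟨W, n, hy, ⟨e⟩⟩ := hM y
  let i := W.ι ≫ j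
  refine ⟨i.opensRange, n, ⟨⟨y, hy⟩, rfl⟩, ⟨?_⟩⟩
  exact (Scheme.Modules.restrictFunctorCongr i.isoOpensRange_inv_comp.symm ≪≫
      Scheme.Modules.restrictFunctorComp i.isoOpensRange.inv i).app M ≪≫
    (Scheme.Modules.restrictFunctor i.isoOpensRange.inv).mapIso
      ((Scheme.Modules.restrictFunctorComp W.ι j).app M ≪≫ e) ≪≫
    restrictFreeMod _ n

theorem isFinLocFree_of_isZero {M : X.Modules} (h : IsZero M) : FlatMod.IsFinLocFree M :=
  isFinLocFree_iso ((show IsZero (FlatMod.freeMod X 0) from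
      (IsZero.iff_id_eq_zero _).2 (Sigma.hom_ext _ _ fun i => i.elim0)).iso h)
    (isFinLocFree_freeMod 0)

/-- `O^n ⊕ O^m ≅ O^(n+m)`. -/
def freeModBiprod (X : Scheme.{u}) (n m : ℕ) :
    FlatMod.freeMod X n ⊞ FlatMod.freeMod X m ≅ FlatMod.freeMod X (n + m) where
  hom := biprod.desc
    (Sigma.desc fun i => Sigma.ι (fun _ : Fin (n + m) => Coh.structureModule X) (Fin.castAdd m i))
    (Sigma.desc fun i => Sigma.ι (fun _ : Fin (n + m) => Coh.structureModule X) (Fin.natAdd n i))
  inv := Sigma.desc (Fin.addCases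
    (fun i => Sigma.ι (fun _ : Fin n => Coh.structureModule X) i ≫ biprod.inl)
    (fun i => Sigma.ι (fun _ : Fin m => Coh.structureModule X) i ≫ biprod.inr))
  hom_inv_id := by
    refine biprod.hom_ext' _ _ (Sigma.hom_ext _ _ fun i => ?_) (Sigma.hom_ext _ _ fun i => ?_)
    · simp
    · simp
  inv_hom_id := by
    refine Sigma.hom_ext _ _ fun i => ?_
    induction i using Fin.addCases with
    | left i => simp
    | right i => simp

theorem isFinLocFree_biprod {M N : X.Modules} (hM : FlatMod.IsFinLocFree M)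
    (hN : FlatMod.IsFinLocFree N) : FlatMod.IsFinLocFree (M ⊞ N) := by
  refine isFinLocFree_of_local fun x => ?_
  obtain ⟨U, n, hx, ⟨e⟩⟩ := hM x
  obtain ⟨V, m, hy, ⟨e'⟩⟩ := isFinLocFree_restrict U.ι hN ⟨x, hx⟩
  let R := Scheme.Modules.restrictFunctor (V.ι ≫ U.ι)
  haveI : PreservesBinaryBiproducts R := preservesBinaryBiproducts_of_preservesBiproducts R
  refine ⟨V, V.ι ≫ U.ι, inferInstance, ⟨⟨x, hx⟩, hy⟩, rfl, ?_⟩
  exact isFinLocFree_iso
    (R.mapBiprod M N ≪≫ biprod.mapIso
      ((Scheme.Modules.restrictFunctorComp V.ι U.ι).app M ≪≫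
        (Scheme.Modules.restrictFunctor V.ι).mapIso e ≪≫ restrictFreeMod _ n)
      ((Scheme.Modules.restrictFunctorComp V.ι U.ι).app N ≪≫ e') ≪≫ freeModBiprod _ n m).symm
    (isFinLocFree_freeMod (n + m))

/-- A retract of a finite locally free module is finite locally free. -/
theorem isFinLocFree_of_retract {M F : X.Modules} (i : M ⟶ F) (p : F ⟶ M) (h : i ≫ p = 𝟙 M)
    (hF : FlatMod.IsFinLocFree F) : FlatMod.IsFinLocFree M := by
  refine isFinLocFree_of_local fun x => ?_
  obtain ⟨U, n, hx, ⟨e⟩⟩ := hF x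
  let R := Scheme.Modules.restrictFunctor U.ι
  let p' : FlatMod.freeMod ↑U n ⟶ R.obj M := e.inv ≫ R.map p
  haveI hsplit : IsSplitEpi p' := ⟨⟨⟨R.map i ≫ e.hom, by
    rw [Category.assoc, e.hom_inv_id_assoc, ← R.map_comp, h, CategoryTheory.Functor.map_id]⟩⟩⟩
  let S := ShortComplex.mk (kernel.ι p') p' (kernel.condition p')
  have sp : S.Splitting := ShortComplex.Splitting.ofExactOfSection S
    (ShortComplex.exact_of_f_is_kernel _ (kernelIsKernel p')) (section_ p') (IsSplitEpi.id p')
    inferInstance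
  exact ⟨U, U.ι, inferInstance, ⟨x, hx⟩, rfl,
    S5626.result (R.obj M) (kernel p') n ((biprod.braiding _ _).trans sp.isoBinaryBiproduct.symm)⟩

/-- The kernel of an epimorphism of finite locally free modules is finite locally free. -/
theorem isFinLocFree_of_shortExact {S : ShortComplex X.Modules} (hS : S.ShortExact)
    (h₂ : FlatMod.IsFinLocFree S.X₂) (h₃ : FlatMod.IsFinLocFree S.X₃) :
    FlatMod.IsFinLocFree S.X₁ := by
  haveI := hS.epi_g
  refine isFinLocFree_of_local fun x => ?_
  obtain ⟨U, j, hj, y, hy, ψ, hψ⟩ := exists_local_lift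
    (ShortComplex.mk S.g (0 : S.X₃ ⟶ S.X₃) comp_zero)
    ((ShortComplex.exact_iff_epi _ rfl).2 inferInstance) h₃ (𝟙 S.X₃) comp_zero x
  let R := Scheme.Modules.restrictFunctor j
  have hS' : (S.map R).ShortExact := hS.map_of_exact R
  haveI := hS'.mono_f
  have sp : (S.map R).Splitting := ShortComplex.Splitting.ofExactOfSection _ hS'.exact ψ
    (by rw [CategoryTheory.Functor.map_id] at hψ; exact hψ) inferInstance
  exact ⟨U, j, hj, y, hy,
    isFinLocFree_of_retract (R.map S.f) sp.r sp.f_r (isFinLocFree_restrict j h₂)⟩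

theorem isStrictlyPerfect_mappingCone {E F : CochainComplex X.Modules ℤ} (φ : E ⟶ F)
    (hE : DCoh.IsStrictlyPerfect E) (hF : DCoh.IsStrictlyPerfect F) :
    DCoh.IsStrictlyPerfect (CochainComplex.mappingCone φ) := by
  obtain ⟨⟨a, b, hab⟩, hEf⟩ := hE
  obtain ⟨⟨c, d, hcd⟩, hFf⟩ := hF
  refine ⟨⟨min (a - 1) c, max (b - 1) d, fun i hi => ?_⟩, fun i =>
    isFinLocFree_iso (HomologicalComplex.homotopyCofiber.XIsoBiprod φ i (i + 1) rfl).symm
      (isFinLocFree_biprod (hEf (i + 1)) (hFf i))⟩
  refine IsZero.of_iso ((biprod_isZero_iff _ _).2 ⟨hab (i + 1) ?_, hcd i ?_⟩)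
    (HomologicalComplex.homotopyCofiber.XIsoBiprod φ i (i + 1) rfl)
  · rcases hi with h | h
    · exact Or.inl (by omega)
    · exact Or.inr (by omega)
  · rcases hi with h | h
    · exact Or.inl (by omega)
    · exact Or.inr (by omega)

theorem isStrictlyPerfect_shift {E : CochainComplex X.Modules ℤ} (hE : DCoh.IsStrictlyPerfect E)
    (n : ℤ) : DCoh.IsStrictlyPerfect (E⟦n⟧) := by
  obtain ⟨⟨a, b, hab⟩, hEf⟩ := hE
  exact ⟨⟨a - n, b - n, fun i hi => hab (i + n) (by omega)⟩, fun i => hEf (i + n)⟩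

theorem isStrictlyPerfect_zero (E : CochainComplex X.Modules ℤ) (h : ∀ i, IsZero (E.X i)) :
    DCoh.IsStrictlyPerfect E :=
  ⟨⟨0, 0, fun i _ => h i⟩, fun i => isFinLocFree_of_isZero (h i)⟩

section Brutal

variable {C : Type*} [Category C] [Abelian C] (E : CochainComplex C ℤ) (m : ℤ)

/-- Zero in degrees `≥ m`, the identity below. -/
def belowMap (i : ℤ) : E.X i ⟶ E.X i := if m ≤ i then 0 else 𝟙 _

/-- The subcomplex in degrees `≥ m`. -/
def brutalGE : CochainComplex C ℤ where
  X i := kernel (belowMap E m i)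
  d i j := kernel.lift _ (kernel.ι (belowMap E m i) ≫ E.d i j) (by
    by_cases hij : i + 1 = j
    · by_cases hj : m ≤ j
      · rw [show belowMap E m j = 0 from if_pos hj, comp_zero]
      · have h0 : kernel.ι (belowMap E m i) = 0 := by
          haveI : Mono (belowMap E m i) := by
            rw [belowMap, if_neg (by omega)]
            infer_instance
          exact zero_of_comp_mono (belowMap E m i) (kernel.condition _)
        rw [h0, zero_comp, zero_comp]
    · rw [E.shape i j hij, comp_zero, zero_comp])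
  shape i j hij := by
    rw [← cancel_mono (kernel.ι _), kernel.lift_ι, E.shape i j hij, comp_zero, zero_comp]
  d_comp_d' i j k _ _ := by
    rw [← cancel_mono (kernel.ι _), Category.assoc, kernel.lift_ι, kernel.lift_ι_assoc,
      Category.assoc, E.d_comp_d, comp_zero, zero_comp]

/-- The inclusion of the subcomplex in degrees `≥ m`. -/
def brutalGEι : brutalGE E m ⟶ E where
  f i := kernel.ι (belowMap E m i)
  comm' i j _ := by simp [brutalGE]

instance mono_brutalGEι_f (i : ℤ) : Mono ((brutalGEι E m).f i) :=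
  inferInstanceAs (Mono (kernel.ι (belowMap E m i)))

theorem isZero_brutalGE_X (i : ℤ) (hi : i < m) : IsZero ((brutalGE E m).X i) := by
  show IsZero (kernel (belowMap E m i))
  haveI : Mono (belowMap E m i) := by
    rw [belowMap, if_neg (by omega)]
    infer_instance
  exact isZero_kernel_of_mono _

theorem isIso_brutalGEι_f (i : ℤ) (hi : m ≤ i) : IsIso ((brutalGEι E m).f i) := by
  show IsIso (kernel.ι (belowMap E m i))
  exact equalizer.ι_of_eq (if_pos hi)

theorem isIso_homologyMap_brutalGEι (i : ℤ) (hi : m < i) :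
    IsIso (HomologicalComplex.homologyMap (brutalGEι E m) i) := by
  haveI := isIso_brutalGEι_f E m (i - 1) (by omega)
  haveI := isIso_brutalGEι_f E m i hi.le
  haveI := isIso_brutalGEι_f E m (i + 1) (by omega)
  rw [← quasiIsoAt_iff_isIso_homologyMap,
    quasiIsoAt_iff' _ (i - 1) i (i + 1) (by simp) (by simp)]
  let φ := (HomologicalComplex.shortComplexFunctor' C (ComplexShape.up ℤ) (i - 1) i (i + 1)).map
    (brutalGEι E m)
  haveI : Epi φ.τ₁ := inferInstanceAs (Epi ((brutalGEι E m).f (i - 1)))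
  haveI : IsIso φ.τ₂ := inferInstanceAs (IsIso ((brutalGEι E m).f i))
  haveI : Mono φ.τ₃ := inferInstanceAs (Mono ((brutalGEι E m).f (i + 1)))
  exact ShortComplex.quasiIso_of_epi_of_isIso_of_mono φ

theorem epi_homologyMap_brutalGEι : Epi (HomologicalComplex.homologyMap (brutalGEι E m) m) := by
  haveI := isIso_brutalGEι_f E m m le_rfl
  haveI : IsIso (HomologicalComplex.cyclesMap (brutalGEι E m) m) := by
    let φ := (HomologicalComplex.shortComplexFunctor C (ComplexShape.up ℤ) m).map (brutalGEι E m)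
    haveI : IsIso φ.τ₂ := inferInstanceAs (IsIso ((brutalGEι E m).f m))
    haveI : Mono φ.τ₃ := inferInstanceAs (Mono ((brutalGEι E m).f _))
    exact ShortComplex.isIso_cyclesMap_of_isIso_of_mono φ
  have h := HomologicalComplex.homologyπ_naturality (brutalGEι E m) m
  haveI : Epi ((brutalGE E m).homologyπ m ≫ HomologicalComplex.homologyMap (brutalGEι E m) m) := by
    rw [h]
    infer_instance
  exact epi_of_epi ((brutalGE E m).homologyπ m) _

end Brutal

theorem isStrictlyPerfect_brutalGE {E : CochainComplex X.Modules ℤ} (hE : DCoh.IsStrictlyPerfect E)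
    (m : ℤ) : DCoh.IsStrictlyPerfect (brutalGE E m) := by
  obtain ⟨⟨a, b, hab⟩, hEf⟩ := hE
  refine ⟨⟨a, b, fun i hi => ?_⟩, fun i => ?_⟩
  · by_cases h : m ≤ i
    · haveI := isIso_brutalGEι_f E m i h
      exact (hab i hi).of_iso (asIso ((brutalGEι E m).f i))
    · exact isZero_brutalGE_X E m i (not_le.1 h)
  · by_cases h : m ≤ i
    · haveI := isIso_brutalGEι_f E m i h
      exact isFinLocFree_iso (asIso ((brutalGEι E m).f i)).symm (hEf i)
    · exact isFinLocFree_of_isZero (isZero_brutalGE_X E m i (not_le.1 h))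

end Groth.Agent.DCohLib
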