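import Groth.Agent.DCohLib.Betti
import Groth.Agent.DCohLib.PCTop
import Groth.Agent.DCohLib.SPerf

/-!
# Perfect objects with cohomology of the fibres in one degree
-/

set_option autoImplicit false
set_option backward.isDefEq.respectTransparency false
set_option linter.style.haveILetI false

universe u

open CategoryTheory CategoryTheory.Limits AlgebraicGeometry TopologicalSpace Opposite
open scoped TensorProduct

attribute [local instance] HasDerivedCategory.standard

noncomputable section

namespace Groth.Agent.DCohLib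

section Algebra

variable {O : Type u} [CommRing O] [IsLocalRing O] {C F D : Type u} [AddCommGroup C] [Module O C]
  [AddCommGroup F] [Module O F] [AddCommGroup D] [Module O D] [Module.Finite O C] [Module.Finite O F]
  [Module.Free O F]

local notation "κ" => IsLocalRing.ResidueField O

/-- A map to a finite free module is split injective with free cokernel when the dimensions of the
fibres are additive. -/
theorem split_of_finrank_add (f : C →ₗ[O] F) (g : F →ₗ[O] D) (hg : Function.Surjective g)
    (h : Function.Exact f g)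
    (hd : Module.finrank κ (κ ⊗[O] C) + Module.finrank κ (κ ⊗[O] D) =
      Module.finrank κ (κ ⊗[O] F)) :
    Function.Injective f ∧ Module.Free O C ∧ Module.Free O D := by
  have hs : Function.Surjective (g.baseChange κ) := by
    rw [LinearMap.baseChange_eq_ltensor]; exact LinearMap.lTensor_surjective κ hg
  have hk : LinearMap.ker (g.baseChange κ) = LinearMap.range (f.baseChange κ) := by
    ext z
    exact (lTensor_exact κ h hg) z
  have h1 := LinearMap.finrank_range_add_finrank_ker (f.baseChange κ)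
  have h2 := LinearMap.finrank_range_add_finrank_ker (g.baseChange κ)
  rw [LinearMap.range_eq_top.mpr hs, finrank_top, hk] at h2
  have h3 : LinearMap.ker (f.baseChange κ) = ⊥ := Submodule.finrank_eq_zero.mp (by omega)
  have hf : Function.Injective (f.lTensor κ) := by
    rw [← LinearMap.baseChange_eq_ltensor (A := κ)]
    exact LinearMap.ker_eq_bot.mp h3
  haveI := Module.free_of_lTensor_residueField_injective f g hg h hf
  obtain ⟨l, hl⟩ := (IsLocalRing.split_injective_iff_lTensor_residueField_injective f).mpr hf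
  haveI : Module.Projective O C := Module.Projective.of_split f l hl
  exact ⟨Function.HasLeftInverse.injective ⟨l, LinearMap.congr_fun hl⟩,
    Module.free_of_flat_of_isLocalRing, inferInstance⟩

end Algebra

variable {X Y U : Scheme.{u}}

theorem fibreRank_congr {M N : X.Modules} (e : M ≅ N) (x : X) :
    PullbackMod.fibreRank M x = PullbackMod.fibreRank N x :=
  (LinearEquiv.baseChange _ _ _ _ ((stkF x).mapIso e).toLinearEquiv).finrank_eq

theorem fibreRank_pullback (g : Y ⟶ X) (M : X.Modules) [Coh.IsQCoh M] (y : Y) :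
    PullbackMod.fibreRank ((Scheme.Modules.pullback g).obj M) y = PullbackMod.fibreRank M (g y) := by
  let O := X.presheaf.stalk (g y)
  let O' := Y.presheaf.stalk y
  let k := IsLocalRing.ResidueField O
  let L := IsLocalRing.ResidueField O'
  letI : Algebra O O' := (g.stalkMap y).hom.toAlgebra
  letI := Module.compHom (((Scheme.Modules.pullback g).obj M).presheaf.stalk y) (g.stalkMap y).hom
  haveI : IsScalarTower O O' (((Scheme.Modules.pullback g).obj M).presheaf.stalk y) :=
    .of_algebraMap_smul fun _ _ => rfl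
  let e := (PullbackMod.isBaseChange_pullStalkL g M y).equiv
  let φ : k →+* L := IsLocalRing.ResidueField.map (g.stalkMap y).hom
  letI : Algebra k L := φ.toAlgebra
  haveI : IsScalarTower O k L := .of_algebraMap_eq fun _ => rfl
  let e₁ := (LinearEquiv.baseChange O' L _ _ e).symm ≪≫ₗ
    (TensorProduct.AlgebraTensorModule.cancelBaseChange O O' L L (M.presheaf.stalk (g y)))
  rw [PullbackMod.fibreRank, e₁.finrank_eq,
    ← (TensorProduct.AlgebraTensorModule.cancelBaseChange O k L L
      (M.presheaf.stalk (g y))).finrank_eq, Module.finrank_baseChange]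
  rfl

theorem isZero_of_local {M : X.Modules}
    (h : ∀ x : X, ∃ (U : Scheme.{u}) (j : U ⟶ X) (_ : IsOpenImmersion j) (y : U), j y = x ∧
      IsZero ((Scheme.Modules.restrictFunctor j).obj M)) : IsZero M := by
  have hs : ∀ x, Subsingleton (M.presheaf.stalk x) := fun x => by
    obtain ⟨U, j, hj, y, rfl, hM⟩ := h x
    refine subsingleton_of_forall_eq 0 fun t => ?_
    obtain ⟨W, hW, s, rfl⟩ := TopCat.Presheaf.exists_germ_eq M.presheaf t
    let V : U.Opens := j ⁻¹ᵁ W
    have hle : j ''ᵁ V ≤ W := j.image_preimage_le W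
    rw [← TopCat.Presheaf.germ_res_apply M.presheaf (homOfLE hle) (j y) ⟨y, hW, rfl⟩ s]
    haveI : Subsingleton (((Scheme.Modules.restrictFunctor j).obj M).presheaf.obj (op V)) :=
      AddCommGrpCat.subsingleton_of_isZero
        (((Scheme.Modules.toPresheaf U).map_isZero hM).obj (op V))
    rw [show M.presheaf.map (homOfLE hle).op s = 0 from
      @Subsingleton.elim (((Scheme.Modules.restrictFunctor j).obj M).presheaf.obj (op V)) _ _ _, map_zero]
  haveI : Mono (0 : M ⟶ M) := (PullbackMod.mono_iff_stalk _).2 fun x =>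
    haveI := hs x
    Function.injective_of_subsingleton _
  exact IsZero.of_mono_zero M M

/-- The stalk of a finite locally free module. -/
theorem free_finite_stalk_of_flf {M : X.Modules} (h : FlatMod.IsFinLocFree M) (x : X) :
    Module.Free (X.presheaf.stalk x) (M.presheaf.stalk x) ∧
      Module.Finite (X.presheaf.stalk x) (M.presheaf.stalk x) := by
  obtain ⟨V, n, hx, ⟨e⟩⟩ := h x
  haveI := (PullbackMod.isQCoh_and_isFP_of_isFinLocFree M h).1
  obtain ⟨l⟩ := PullbackMod.freeAt_of_restrict_iso M e hx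
  exact ⟨Module.Free.of_equiv l.symm, Module.Finite.equiv l.symm⟩

section OneDegree

variable {P : CochainComplex U.Modules ℤ} (hP : ∀ n, FlatMod.IsFinLocFree (P.X n))

include hP in
theorem exact_stalk_of_numeric {j : ℤ} (h : ∀ w : U,
      PullbackMod.fibreRank (cokernel (P.d (j - 1) j)) w + PullbackMod.fibreRank (cokernel (P.d j (j + 1))) w =
        PullbackMod.fibreRank (P.X (j + 1)) w) :
    P.ExactAt j ∧ FlatMod.IsFinLocFree (cokernel (P.d (j - 1) j)) ∧
      FlatMod.IsFinLocFree (cokernel (P.d j (j + 1))) := by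
  haveI := isQCoh_coker_d hP (j - 1) j
  haveI := isQCoh_coker_d hP j (j + 1)
  let f : cokernel (P.d (j - 1) j) ⟶ P.X (j + 1) :=
    cokernel.desc _ (P.d j (j + 1)) (P.d_comp_d _ _ _)
  let S : ShortComplex U.Modules := ShortComplex.mk f (cokernel.π (P.d j (j + 1)))
    ((cancel_epi (cokernel.π (P.d (j - 1) j))).1
      (by rw [cokernel.π_desc_assoc, cokernel.condition, comp_zero]))
  have hS : S.Exact := ShortComplex.exact_of_g_is_cokernel _
    (CokernelCofork.IsColimit.ofπ _ _
      (fun g hg => cokernel.desc _ g (by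
        rw [← cokernel.π_desc (P.d (j - 1) j) (P.d j (j + 1)) (P.d_comp_d _ _ _), Category.assoc]
        exact (congrArg (_ ≫ ·) hg).trans comp_zero))
      (fun g hg => cokernel.π_desc _ _ _)
      (fun g hg m hm => by
        apply (cancel_epi (cokernel.π (P.d j (j + 1)))).1
        rw [cokernel.π_desc]
        exact hm))
  have hw : ∀ w : U, Function.Injective ((stkF w).map f).hom ∧
      Module.Free (U.presheaf.stalk w) ((cokernel (P.d (j - 1) j)).presheaf.stalk w) ∧
      Module.Free (U.presheaf.stalk w) ((cokernel (P.d j (j + 1))).presheaf.stalk w) := by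
    intro w
    haveI := (free_finite_stalk_of_flf (hP (j + 1)) w).1
    haveI := (free_finite_stalk_of_flf (hP (j + 1)) w).2
    haveI := FlatLocus.finite_stalk _ (isFP_coker_d hP (j - 1) j) w
    have hex : Function.Exact ((stkF w).map S.f).hom ((stkF w).map S.g).hom :=
      (ShortComplex.ShortExact.moduleCat_exact_iff_function_exact _).1 (hS.map (stkF w))
    haveI : Epi ((stkF w).map S.g) := inferInstance
    exact split_of_finrank_add (O := U.presheaf.stalk w)
      (C := (cokernel (P.d (j - 1) j)).presheaf.stalk w) (F := (P.X (j + 1)).presheaf.stalk w)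
      (D := (cokernel (P.d j (j + 1))).presheaf.stalk w) ((stkF w).map S.f).hom ((stkF w).map S.g).hom
      ((ModuleCat.epi_iff_surjective _).1 inferInstance) hex (h w)
  haveI : Mono f := (PullbackMod.mono_iff_stalk f).2 fun w => (hw w).1
  refine ⟨?_, ?_, ?_⟩
  · rw [HomologicalComplex.exactAt_iff' P (j - 1) j (j + 1) (by simp) (by simp),
      ShortComplex.exact_iff_mono_cokernel_desc]
    exact inferInstanceAs (Mono f)
  · exact (PullbackMod.isFinLocFree_iff _).mpr ⟨inferInstance, isFP_coker_d hP _ _, fun w => by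
      haveI := (hw w).2.1
      exact Module.Flat.of_free⟩
  · exact (PullbackMod.isFinLocFree_iff _).mpr ⟨inferInstance, isFP_coker_d hP _ _, fun w => by
      haveI := (hw w).2.2
      exact Module.Flat.of_free⟩

include hP in
theorem isFinLocFree_homology {i : ℤ} (h₁ : FlatMod.IsFinLocFree (cokernel (P.d (i - 1) i)))
    (h₂ : FlatMod.IsFinLocFree (cokernel (P.d i (i + 1)))) : FlatMod.IsFinLocFree (P.homology i) := by
  let f : cokernel (P.d (i - 1) i) ⟶ P.X (i + 1) :=
    cokernel.desc _ (P.d i (i + 1)) (P.d_comp_d _ _ _)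
  let π := cokernel.π f
  let e : cokernel f ≅ cokernel (P.d i (i + 1)) :=
    (cokernelEpiComp (cokernel.π (P.d (i - 1) i)) f).symm ≪≫ cokernelIsoOfEq (cokernel.π_desc _ _ _)
  have hI : FlatMod.IsFinLocFree (kernel π) :=
    isFinLocFree_of_shortExact (S := ShortComplex.mk (kernel.ι π) π (kernel.condition π))
      { exact := ShortComplex.exact_of_f_is_kernel _ (kernelIsKernel π) } (hP (i + 1))
      (isFinLocFree_iso e.symm h₂)
  let q := Abelian.factorThruImage f
  have hK : FlatMod.IsFinLocFree (kernel q) :=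
    isFinLocFree_of_shortExact (S := ShortComplex.mk (kernel.ι q) q (kernel.condition q))
      { exact := ShortComplex.exact_of_f_is_kernel _ (kernelIsKernel q) } h₁ hI
  let S := P.sc' (i - 1) i (i + 1)
  exact isFinLocFree_iso ((kernelCompMono q (Abelian.image.ι f)).symm ≪≫
    kernelIsoOfEq (Abelian.image.fac f) ≪≫ S.homologyIsoKernelDesc.symm ≪≫
    (P.homologyIsoSc' (i - 1) i (i + 1) (by simp) (by simp)).symm) hK

end OneDegree

variable [∀ x : X, DCoh.HasLpull (X.fromSpecResidueField x)]

/-- The formula for fibre dimensions of an object given by a strictly perfect complex on an open. -/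
theorem betti_add_of_iso (K : DCoh.D X) (j : U ⟶ X) [IsOpenImmersion j]
    {P : CochainComplex U.Modules ℤ} (hP : DCoh.IsStrictlyPerfect P)
    (e : DerivedCategory.Q.obj P ≅ (DCoh.restrictD j).obj K) (i : ℤ) (y : U) :
    PerfD.betti K (j y) i + PullbackMod.fibreRank (P.X (i + 1)) y =
      PullbackMod.fibreRank (cokernel (P.d (i - 1) i)) y +
        PullbackMod.fibreRank (cokernel (P.d i (i + 1))) y := by
  obtain ⟨g, hg, hgz⟩ := exists_point_lift j y
  obtain ⟨z⟩ : Nonempty ↥(Spec (X.residueField (j y))) := inferInstance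
  let R := (resX X).obj (DerivedCategory.Q.objPreimage K)
  let e' : DerivedCategory.Q.obj P ≅ DerivedCategory.Q.obj (resOpen j K) :=
    e ≪≫ ((DCoh.restrictD j).mapIso (resXIso K)).symm ≪≫ restrictDQ j R
  let e'' : DerivedCategory.Q.obj ((pullCx g).obj P) ≅ DerivedCategory.Q.obj ((pullCx g).obj (resOpen j K)) :=
    (lpullIso g P (isKFlat_of_strictlyPerfect hP) fun i => isFlat_of_flf (hP.2 i)).symm ≪≫
      (DCoh.Lpull g).mapIso e' ≪≫
      lpullIso g _ (isKFlat_resCx_resX j _).1 (isKFlat_resCx_resX j _).2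
  have hh : sdim z (((pullCx g).obj P).homology i) = sdim z (((pullCx g).obj (resOpen j K)).homology i) :=
    sdim_congr z (((DerivedCategory.homologyFunctorFactors _ i).app _).symm ≪≫
      (DerivedCategory.homologyFunctor _ i).mapIso e'' ≪≫
      (DerivedCategory.homologyFunctorFactors _ i).app _)
  rw [betti_eq K j y g hg i z, ← hh]
  have h := homology_pullback_add z (isField_stalk_fieldPoint _ z) g hP.2 i
  rwa [hgz] at h

theorem betti_eq_zero (K : DCoh.D X) (j : U ⟶ X) [IsOpenImmersion j]
    {P : CochainComplex U.Modules ℤ} (hP : DCoh.IsStrictlyPerfect P)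
    (e : DerivedCategory.Q.obj P ≅ (DCoh.restrictD j).obj K) {a b i : ℤ}
    (hab : DCoh.VanishesOutside P a b) (hi : i + 1 < a ∨ b < i) (y : U) :
    PerfD.betti K (j y) i = 0 := by
  have h := betti_add_of_iso K j hP e i y
  have h₁ := fibreRank_of_isZero (IsZero.of_epi (cokernel.π (P.d (i - 1) i)) (hab i (by omega))) y
  have h₂ := fibreRank_of_isZero (IsZero.of_epi (cokernel.π (P.d i (i + 1))) (hab (i + 1) (by omega))) y
  omega

variable [∀ y : Y, DCoh.HasLpull (Y.fromSpecResidueField y)]

/-- Fibre dimensions are invariant under inverse image. -/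
theorem betti_lpull (f : Y ⟶ X) [DCoh.HasLpull f] {K : DCoh.D X} (hK : DCoh.IsPerfect K) (y : Y) (i : ℤ) :
    PerfD.betti ((DCoh.Lpull f).obj K) y i = PerfD.betti K (f y) i := by
  rw [isPerfect_iff] at hK
  obtain ⟨V, hy, A, hA, ⟨a⟩⟩ := hK (f y)
  obtain ⟨g, hg⟩ := exists_lift_open f V.ι
  let W := f ⁻¹ᵁ V.ι.opensRange
  let R := (resX X).obj (DerivedCategory.Q.objPreimage K)
  let eA : DerivedCategory.Q.obj A ≅ DerivedCategory.Q.obj ((resCx V.ι).obj R) :=
    a ≪≫ ((DCoh.restrictD V.ι).mapIso (resXIso K)).symm ≪≫ restrictDQ V.ι _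
  let e' : DerivedCategory.Q.obj ((pullCx g).obj A) ≅ (DCoh.restrictD W.ι).obj ((DCoh.Lpull f).obj K) :=
    (lpullIso g A (isKFlat_of_strictlyPerfect hA) fun i => isFlat_of_flf (hA.2 i)).symm ≪≫
      (DCoh.Lpull g).mapIso eA ≪≫
      lpullIso g _ (isKFlat_resCx_resX V.ι _).1 (isKFlat_resCx_resX V.ι _).2 ≪≫
      lpullRestrictIso f K W V.ι g hg
  have hyW : y ∈ W := by
    show f y ∈ V.ι.opensRange
    rwa [Scheme.Opens.opensRange_ι]
  obtain ⟨w, rfl⟩ : ∃ w : (W : Scheme.{u}), W.ι w = y := ⟨⟨y, hyW⟩, rfl⟩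
  have hv : V.ι (g w) = f (W.ι w) := by
    rw [← Scheme.Hom.comp_apply, hg, Scheme.Hom.comp_apply]
  have h₁ := betti_add_of_iso ((DCoh.Lpull f).obj K) W.ι (isStrictlyPerfect_pullback g hA) e' i w
  have h₂ := betti_add_of_iso K V.ι hA a i (g w)
  rw [hv] at h₂
  haveI := (Scheme.Modules.pullbackPushforwardAdjunction g).leftAdjoint_preservesColimits
  have hX : ∀ n, PullbackMod.fibreRank (((pullCx g).obj A).X n) w = PullbackMod.fibreRank (A.X n) (g w) :=
    fun n => by
      haveI := (PullbackMod.isQCoh_and_isFP_of_isFinLocFree _ (hA.2 n)).1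
      exact fibreRank_pullback g (A.X n) w
  have hC : ∀ a b, PullbackMod.fibreRank (cokernel (((pullCx g).obj A).d a b)) w =
      PullbackMod.fibreRank (cokernel (A.d a b)) (g w) := fun a b => by
    haveI := isQCoh_coker_d hA.2 a b
    rw [← fibreRank_pullback g]
    exact fibreRank_congr (PreservesCokernel.iso (Scheme.Modules.pullback g) (A.d a b)).symm w
  rw [hX, hC, hC] at h₁
  omega

/-- The fibre dimensions of a locally free module placed in one degree. -/
theorem betti_shift_inD {K : DCoh.D X} {V : X.Modules} (hV : FlatMod.IsFinLocFree V) {i : ℤ}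
    (e : K ≅ (DCoh.inD X V)⟦-i⟧) (x : X) (j : ℤ) :
    PerfD.betti K x j = if j = i then PullbackMod.fibreRank V x else 0 := by
  let f := X.fromSpecResidueField x
  obtain ⟨z⟩ : Nonempty ↥(Spec (X.residueField x)) := inferInstance
  let S := (HomologicalComplex.single X.Modules (ComplexShape.up ℤ) i).obj V
  have hS : DCoh.IsStrictlyPerfect S := ⟨⟨i, i, fun n hn =>
    HomologicalComplex.isZero_single_obj_X _ _ _ _ (by omega)⟩, fun n => by
      by_cases hn : n = i
      · subst hn
        exact isFinLocFree_iso (HomologicalComplex.singleObjXSelf (ComplexShape.up ℤ) n V).symm hV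
      · exact isFinLocFree_of_isZero (HomologicalComplex.isZero_single_obj_X _ _ _ _ hn)⟩
  let e₀ : K ≅ DerivedCategory.Q.obj S :=
    e ≪≫ ((DerivedCategory.singleFunctors X.Modules).shiftIso (-i) i 0 (by omega)).app V ≪≫
      (DerivedCategory.singleFunctorIsoCompQ X.Modules i).app V
  let e₁ : DCoh.HD ((DCoh.Lpull f).obj K) j ≅ ((pullCx f).obj S).homology j :=
    (DerivedCategory.homologyFunctor _ j).mapIso
      ((DCoh.Lpull f).mapIso e₀ ≪≫
        lpullIso f S (isKFlat_of_strictlyPerfect hS) fun n => isFlat_of_flf (hS.2 n)) ≪≫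
    (DerivedCategory.homologyFunctorFactors _ j).app _
  let e₂ : (pullCx f).obj S ≅ (HomologicalComplex.single (Spec (X.residueField x)).Modules
      (ComplexShape.up ℤ) i).obj ((Scheme.Modules.pullback f).obj V) :=
    (HomologicalComplex.singleMapHomologicalComplex (Scheme.Modules.pullback f) (ComplexShape.up ℤ) i).app V
  rw [PerfD.betti, finrank_sections_top z,
    sdim_congr z (e₁ ≪≫ (HomologicalComplex.homologyFunctor _ (ComplexShape.up ℤ) j).mapIso e₂)]
  have hfz : f z = x := Scheme.fromSpecResidueField_apply x z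
  haveI := (isField_stalk_fieldPoint x z).nontrivial
  split_ifs with hj
  · subst hj
    haveI := (PullbackMod.isQCoh_and_isFP_of_isFinLocFree V hV).1
    refine (sdim_congr z (HomologicalComplex.singleObjHomologySelfIso (ComplexShape.up ℤ) j
        ((Scheme.Modules.pullback f).obj V))).trans ?_
    rw [sdim_pullback z f (isField_stalk_fieldPoint x z), hfz]
  · exact sdim_of_isZero z ((HomologicalComplex.exactAt_iff_isZero_homology _ _).1
      (HomologicalComplex.exactAt_single_obj (ComplexShape.up ℤ) (j := i) ((Scheme.Modules.pullback f).obj V) j hj))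

/-- The locus where the fibres live in degree `i` with dimension `r`. -/
def degLocus (K : DCoh.D X) (i : ℤ) (r : ℕ) : Set X :=
  {x | (∀ j, j ≠ i → PerfD.betti K x j = 0) ∧ PerfD.betti K x i = r}

theorem isOpen_degLocus {K : DCoh.D X} (hK : DCoh.IsPerfect K) (i : ℤ) (r : ℕ) :
    IsOpen (degLocus K i r) := by
  have hpc : ∀ m, DCoh.IsPseudoCoherentD m K := fun m => by
    rw [isPseudoCoherentD_iff]
    intro x
    obtain ⟨V, hy, hV⟩ := (isPerfect_iff K).1 hK x
    exact ⟨V, hy, hV.pcOn m⟩
  rw [isOpen_iff_mem_nhds]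
  rintro x ⟨hx, hxi⟩
  obtain ⟨V, hy, A, hA, ⟨a⟩⟩ := (isPerfect_iff K).1 hK x
  obtain ⟨⟨p, q, hpq⟩, -⟩ := id hA
  let S : Set X := (V : Set X) ∩
    (⋂ j ∈ (Finset.Icc (p - 1) q).erase i, {w | PerfD.betti K w j < 1}) ∩
    (fun w => PerfD.eulerChar K w) ⁻¹' {PerfD.eulerChar K x}
  have hS : IsOpen S := (V.2.inter (isOpen_biInter_finset fun j _ => isOpen_betti_lt K hpc j 1)).inter
    (isLocallyConstant_eulerChar K hK _)
  have hxS : x ∈ S := ⟨⟨hy, by
    simp only [Set.mem_iInter]
    intro j hj
    show PerfD.betti K x j < 1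
    rw [hx j (Finset.ne_of_mem_erase hj)]
    exact Nat.one_pos⟩, rfl⟩
  refine Filter.mem_of_superset (hS.mem_nhds hxS) ?_
  rintro w ⟨⟨hwV, hw⟩, hχ⟩
  have hz : ∀ j, j ≠ i → PerfD.betti K w j = 0 := fun j hj => by
    by_cases hjI : j ∈ Finset.Icc (p - 1) q
    · simp only [Set.mem_iInter] at hw
      exact Nat.lt_one_iff.mp (hw j (Finset.mem_erase.mpr ⟨hj, hjI⟩))
    · exact betti_eq_zero K V.ι hA a hpq (by simp only [Finset.mem_Icc] at hjI; omega) ⟨w, hwV⟩
  refine ⟨hz, ?_⟩
  have hχ' : PerfD.eulerChar K w = PerfD.eulerChar K x := hχ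
  rw [PerfD.eulerChar, PerfD.eulerChar, finsum_eq_single _ i (fun j hj => by simp [hz j hj]),
    finsum_eq_single _ i (fun j hj => by simp [hx j hj]), hxi] at hχ'
  exact_mod_cast mul_left_cancel₀ (i.negOnePow).isUnit.ne_zero hχ'

/-- Being a locally free module of rank `r` in degree `i` is detected on fibres. -/
theorem exists_finLocFree_of_range_subset (f : Y ⟶ X) [DCoh.HasLpull f] {K : DCoh.D X}
    (hK : DCoh.IsPerfect K) (i : ℤ) (r : ℕ) (h : Set.range f.base ⊆ degLocus K i r) :
    ∃ V : Y.Modules, FlatMod.IsFinLocFreeOfRank r V ∧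
      Nonempty ((DCoh.Lpull f).obj K ≅ (DCoh.inD Y V)⟦-i⟧) := by
  let L := (DCoh.Lpull f).obj K
  have hL : DCoh.IsPerfect L := isPerfect_lpull f K hK
  have hb : ∀ y j, PerfD.betti L y j = if j = i then r else 0 := fun y j => by
    rw [betti_lpull f hK y j]
    split_ifs with hj
    · rw [hj]; exact (h ⟨y, rfl⟩).2
    · exact (h ⟨y, rfl⟩).1 j hj
  have key : ∀ y : Y, ∃ (U : Scheme.{u}) (j : U ⟶ Y) (_ : IsOpenImmersion j) (w : U), j w = y ∧
      (∀ n, n ≠ i → IsZero ((Scheme.Modules.restrictFunctor j).obj (DCoh.HD L n))) ∧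
        FlatMod.IsFinLocFree ((Scheme.Modules.restrictFunctor j).obj (DCoh.HD L i)) := fun y => by
    obtain ⟨W, hy, P, hP, ⟨e⟩⟩ := (isPerfect_iff L).1 hL y
    refine ⟨W, W.ι, inferInstance, ⟨y, hy⟩, rfl, ?_⟩
    let eh : ∀ n, (Scheme.Modules.restrictFunctor W.ι).obj (DCoh.HD L n) ≅ P.homology n := fun n =>
      (restrictHDIso W.ι L n).symm ≪≫ (DerivedCategory.homologyFunctor _ n).mapIso e.symm ≪≫
        (DerivedCategory.homologyFunctorFactors _ n).app P
    have hn : ∀ n, n ≠ i → _ := fun n hn => exact_stalk_of_numeric hP.2 (j := n) fun w => by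
      have h' := betti_add_of_iso L W.ι hP e n w
      rw [hb, if_neg hn, zero_add] at h'
      exact h'.symm
    refine ⟨fun n hn' => ((HomologicalComplex.exactAt_iff_isZero_homology _ _).1 (hn n hn').1).of_iso (eh n),
      isFinLocFree_iso (eh i).symm (isFinLocFree_homology hP.2 ?_ ?_)⟩
    · have h' := (hn (i - 1) (by omega)).2.2
      rwa [sub_add_cancel] at h'
    · have h' := (hn (i + 1) (by omega)).2.1
      rwa [add_sub_cancel_right] at h'
  have hz : ∀ n, n ≠ i → IsZero (DCoh.HD L n) := fun n hn => isZero_of_local fun y => by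
    obtain ⟨U, j, hj, w, hw, h₁, -⟩ := key y
    exact ⟨U, j, hj, w, hw, h₁ n hn⟩
  haveI : L.IsGE i := (DerivedCategory.isGE_iff L i).2 fun n hn => hz n (by omega)
  haveI : L.IsLE i := (DerivedCategory.isLE_iff L i).2 fun n hn => hz n (by omega)
  obtain ⟨V, ⟨eV⟩⟩ := DerivedCategory.exists_iso_singleFunctor_obj_of_isGE_of_isLE L i
  let eV' : L ≅ (DCoh.inD Y V)⟦-i⟧ :=
    eV ≪≫ (((DerivedCategory.singleFunctors Y.Modules).shiftIso (-i) i 0 (by omega)).app V).symm
  let eVH : DCoh.HD L i ≅ V :=
    (DerivedCategory.homologyFunctor _ i).mapIso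
        (eV ≪≫ (DerivedCategory.singleFunctorIsoCompQ Y.Modules i).app V) ≪≫
      (DerivedCategory.homologyFunctorFactors _ i).app _ ≪≫
      HomologicalComplex.singleObjHomologySelfIso (ComplexShape.up ℤ) i V
  have hV : FlatMod.IsFinLocFree V := isFinLocFree_iso eVH (isFinLocFree_of_local fun y => by
    obtain ⟨U, j, hj, w, hw, -, h₂⟩ := key y
    exact ⟨U, j, hj, w, hw, h₂⟩)
  refine ⟨V, ?_, ⟨eV'⟩⟩
  obtain ⟨hq, hfp⟩ := PullbackMod.isQCoh_and_isFP_of_isFinLocFree V hV
  haveI := hq
  refine (PullbackMod.isFinLocFreeOfRank_iff_freeAt V hfp r).mpr fun y => ?_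
  obtain ⟨n, hn⟩ := (PullbackMod.isFinLocFree_iff_freeAt V hfp).mp hV y
  have h₁ := betti_shift_inD hV eV' y i
  rw [if_pos rfl, hb, if_pos rfl, PullbackMod.fibreRank_eq_of_freeAt V hn] at h₁
  exact h₁ ▸ hn

theorem range_subset_of_exists (f : Y ⟶ X) [DCoh.HasLpull f] {K : DCoh.D X}
    (hK : DCoh.IsPerfect K) (i : ℤ) (r : ℕ) {V : Y.Modules} (hV : FlatMod.IsFinLocFreeOfRank r V)
    (e : (DCoh.Lpull f).obj K ≅ (DCoh.inD Y V)⟦-i⟧) : Set.range f.base ⊆ degLocus K i r := by
  have hV' : FlatMod.IsFinLocFree V := fun y => by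
    obtain ⟨U, hy, he⟩ := hV y
    exact ⟨U, r, hy, he⟩
  rintro _ ⟨y, rfl⟩
  have h := fun j => (betti_lpull f hK y j).symm.trans (betti_shift_inD hV' e y j)
  refine ⟨fun j hj => (h j).trans (if_neg hj), (h i).trans ((if_pos rfl).trans ?_)⟩
  haveI := (PullbackMod.isQCoh_and_isFP_of_isFinLocFree V hV').1
  obtain ⟨U, hy, ⟨eU⟩⟩ := hV y
  exact PullbackMod.fibreRank_eq_of_freeAt V (PullbackMod.freeAt_of_restrict_iso V eU hy)

end Groth.Agent.DCohLib
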