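import Groth.Agent.DCohLib.TwoThree
import Groth.Agent.DCohLib.FlatAmp
import Groth.Agent.QCohLib.Exact
import Groth.Agent.QCohLib.FPSections
import Groth.Agent.QCohLib.FiniteType
import Groth.Agent.PullbackMod.Props
import Mathlib.Algebra.Homology.Embedding.CochainComplex

/-!
# Pseudo-coherent objects of finite flat amplitude are perfect
-/

set_option autoImplicit false
set_option backward.isDefEq.respectTransparency false
set_option linter.style.haveILetI false

universe u

open CategoryTheory CategoryTheory.Limits AlgebraicGeometry TopologicalSpace Opposite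
open CategoryTheory.Pretriangulated

attribute [local instance] HasDerivedCategory.standard

noncomputable section

namespace Groth.Agent.DCohLib

variable {X : Scheme.{u}}

/-- The cokernel of a map from a module of finite type to a finitely presented one is finitely
presented (both quasi-coherent). -/
theorem isFP_cokernel {M N : X.Modules} (φ : M ⟶ N) (hM : Coh.IsQCoh M) (hN : Coh.IsQCoh N)
    (hMt : CohB1.IsFT M) (hNp : CohB1.IsFP N) : CohB1.IsFP (cokernel φ) := by
  haveI := hM
  haveI := hN
  obtain ⟨hK, hC⟩ := QCohLib.isQCoh_image φ hM hN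
  haveI := hC
  have hI : Coh.IsQCoh (kernel (cokernel.π φ)) := (QCohLib.isQCoh_image _ hN hC).1
  refine PullbackMod.isFP_of_finitePresentation (cokernel φ) (fun W : X.affineOpens => (W : X.Opens))
    (fun W => W.2) (iSup_affineOpens_eq_top X) fun W => ?_
  haveI := QCohLib.finitePresentation_sections N hNp W.2
  haveI := QCohLib.finite_sections M hMt W.2
  let S : ShortComplex X.Modules :=
    ShortComplex.mk (kernel.ι (cokernel.π φ)) (cokernel.π φ) (kernel.condition _)
  have hS : S.ShortExact := ShortComplex.ShortExact.mk'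
    (ShortComplex.exact_of_f_is_kernel _ (kernelIsKernel _)) inferInstance inferInstance
  let p := FlatLocus.appL (cokernel.π φ) (W : X.Opens)
  have hp : Function.Surjective p := QCohLib.app_surjective hS hI W.2
  refine Module.finitePresentation_of_surjective p hp ?_
  let q : M ⟶ kernel (cokernel.π φ) := kernel.lift _ φ (cokernel.condition φ)
  haveI : Epi q := (ShortComplex.exact_iff_epi_kernel_lift
    (ShortComplex.mk φ (cokernel.π φ) (cokernel.condition φ))).1
      (ShortComplex.exact_of_g_is_cokernel _ (cokernelIsCokernel φ))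
  let S' : ShortComplex X.Modules := ShortComplex.mk (kernel.ι q) q (kernel.condition q)
  have hS' : S'.ShortExact := ShortComplex.ShortExact.mk'
    (ShortComplex.exact_of_f_is_kernel _ (kernelIsKernel _)) inferInstance inferInstance
  have hq : Function.Surjective (q.app (W : X.Opens)) :=
    QCohLib.app_surjective hS' (QCohLib.isQCoh_image q hM hI).1 W.2
  have hle : LinearMap.range (FlatLocus.appL φ (W : X.Opens)) = LinearMap.ker p := by
    apply le_antisymm
    · rintro _ ⟨m, rfl⟩
      show (φ ≫ cokernel.π φ).app (W : X.Opens) m = 0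
      rw [cokernel.condition]
      rfl
    · intro n hn
      obtain ⟨t, ht⟩ := QCohLib.kernel_app_exact (cokernel.π φ) _ n hn
      obtain ⟨m, rfl⟩ := hq t
      refine ⟨m, ?_⟩
      rw [← ht]
      show φ.app (W : X.Opens) m = (q ≫ kernel.ι (cokernel.π φ)).app (W : X.Opens) m
      rw [kernel.lift_ι]
  rw [← hle, LinearMap.range_eq_map]
  exact Module.Finite.fg_top.map _

theorem shortExact_cyclesSeqZ_of_exactAt {C : Type*} [Category C] [Abelian C] (K : CochainComplex C ℤ)
    (i j : ℤ) (hij : i + 1 = j) (h : K.ExactAt j) : (cyclesSeqZ K i j).ShortExact := by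
  haveI : Epi (K.toCycles i j) := by
    obtain rfl : i = (ComplexShape.up ℤ).prev j := by
      rw [(ComplexShape.up ℤ).prev_eq' (show (ComplexShape.up ℤ).Rel i j from hij)]
    exact ((K.exactAt_iff _).1 h).epi_toCycles
  let T : ShortComplex C := ShortComplex.mk (K.iCycles i) (K.d i j) (K.iCycles_d i j)
  have hT : T.Exact := ShortComplex.exact_of_f_is_kernel _
    (K.cyclesIsKernel i j ((ComplexShape.up ℤ).next_eq' hij))
  let φ : cyclesSeqZ K i j ⟶ T :=
    { τ₁ := 𝟙 _
      τ₂ := 𝟙 _
      τ₃ := K.iCycles j
      comm₁₂ := (Category.id_comp _).trans (Category.comp_id _).symm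
      comm₂₃ := (Category.id_comp _).trans (K.toCycles_i i j).symm }
  haveI : Epi φ.τ₁ := inferInstanceAs (Epi (𝟙 _))
  haveI : IsIso φ.τ₂ := inferInstanceAs (IsIso (𝟙 _))
  haveI : Mono φ.τ₃ := inferInstanceAs (Mono (K.iCycles j))
  exact { exact := (ShortComplex.exact_iff_of_epi_of_isIso_of_mono φ).2 hT
          mono_f := inferInstanceAs (Mono (K.iCycles i))
          epi_g := inferInstanceAs (Epi (K.toCycles i j)) }

/-- Cycles of a bounded above complex of flat modules are flat where it is exact. -/
theorem isFlat_cycles {C : CochainComplex X.Modules ℤ} (hfl : ∀ i, FlatMod.IsFlat (C.X i)) (b : ℤ)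
    (hb : ∀ i, b < i → IsZero (C.X i)) :
    ∀ (n : ℕ) (i : ℤ), (∀ j, i < j → C.ExactAt j) → b < i + n → FlatMod.IsFlat (C.cycles i) := by
  intro n
  induction n with
  | zero =>
    intro i _ hi
    exact (isFlat_iff _).2 ((Groth.Agent.KFlat.flatClassMod X.sheaf).zero
      (IsZero.of_mono (C.iCycles i) (hb i (by omega))))
  | succ n ih =>
    intro i h hi
    exact (isFlat_iff _).2 (Groth.Agent.ModTensor.isFlat_X₁ X.sheaf _
      (shortExact_cyclesSeqZ_of_exactAt C i (i + 1) rfl (h _ (by omega))) ((isFlat_iff _).1 (hfl i))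
      ((isFlat_iff _).1 (ih (i + 1) (fun j hj => h j (by omega)) (by omega))))

/-- A flat complex in `[a, b]` approximated in degrees `≥ a - 1` by a strictly perfect complex is
strictly perfect up to isomorphism. -/
theorem perfOn_of_approx {G E : CochainComplex X.Modules ℤ} (β : G ⟶ E)
    (hG : DCoh.IsStrictlyPerfect G) (a b : ℤ) (hG0 : ∀ i, i < a - 1 → IsZero (G.X i))
    (hE : DCoh.VanishesOutside E a b) (hEfl : ∀ i, FlatMod.IsFlat (E.X i))
    (hβ : MIso (a - 1) (DerivedCategory.Q.map β)) : PerfOn (DerivedCategory.Q.obj E) := by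
  obtain ⟨⟨c, d, hcd⟩, hGf⟩ := hG
  let C := CochainComplex.mappingCone β
  have hC : ∀ i, a - 1 ≤ i → C.ExactAt i := fun i hi => by
    rw [HomologicalComplex.exactAt_iff_isZero_homology]
    exact (MIso.cone (DerivedCategory.Q.mapTriangle.obj (CochainComplex.mappingCone.triangle β))
      (DerivedCategory.mappingCone_triangle_distinguished β) hβ i hi).of_iso
        ((DerivedCategory.homologyFunctorFactors _ i).app C).symm
  let eX := fun i : ℤ => HomologicalComplex.homotopyCofiber.XIsoBiprod β i (i + 1) rfl
  have hCb : ∀ i, max b d < i → IsZero (C.X i) := fun i hi =>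
    ((biprod_isZero_iff _ _).2
      ⟨hcd (i + 1) (Or.inr (by have := le_max_right b d; omega)),
        hE i (Or.inr (by have := le_max_left b d; omega))⟩).of_iso (eX i)
  have hCfl : ∀ i, FlatMod.IsFlat (C.X i) := fun i => (isFlat_iff _).2
    ((Groth.Agent.KFlat.flatClassMod X.sheaf).iso (eX i).symm
      ((Groth.Agent.KFlat.flatClassMod X.sheaf).biprod
        ((isFlat_iff _).1 (fun x => PullbackMod.isFlat_of_isFinLocFree _ (hGf (i + 1)) x))
        ((isFlat_iff _).1 (hEfl i))))
  have hZ : FlatMod.IsFlat (C.cycles a) :=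
    isFlat_cycles hCfl (max b d) hCb ((max b d - a).toNat + 1) a (fun j hj => hC j (by omega))
      (by omega)
  -- the cokernel of `G.d (a-1) a` is the module of cycles of the cone
  let F₁ := (CochainComplex.mappingCone.fst β).1.v (a - 2) (a - 1) (by omega)
  let F₂ := (CochainComplex.mappingCone.fst β).1.v (a - 1) a (by omega)
  have hiso : ∀ (p q : ℤ) (h : p + 1 = q), IsZero (E.X p) →
      IsIso ((CochainComplex.mappingCone.fst β).1.v p q h) := fun p q h hz =>
    ⟨(CochainComplex.mappingCone.inl β).v q p (by omega), by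
      rw [CochainComplex.mappingCone.ext_to_iff β p q h]
      exact ⟨by simp, hz.eq_of_tgt _ _⟩, by simp⟩
  haveI : IsIso F₁ := hiso _ _ _ (hE _ (Or.inl (by omega)))
  haveI : IsIso F₂ := hiso _ _ _ (hE _ (Or.inl (by omega)))
  have hP : FlatMod.IsFlat (cokernel (G.d (a - 1) a)) := by
    let S := ShortComplex.mk (C.d (a - 2) (a - 1)) (C.toCycles (a - 1) a)
      (by rw [← cancel_mono (C.iCycles a), Category.assoc, HomologicalComplex.toCycles_i,
        HomologicalComplex.d_comp_d, zero_comp])
    haveI : Epi S.g := (shortExact_cyclesSeqZ_of_exactAt C (a - 1) a (by omega) (hC a (by omega))).epi_g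
    have hS : S.Exact := by
      let φ : S ⟶ C.sc' (a - 2) (a - 1) a :=
        { τ₁ := 𝟙 _, τ₂ := 𝟙 _, τ₃ := C.iCycles a }
      haveI : Epi φ.τ₁ := inferInstanceAs (Epi (𝟙 _))
      haveI : IsIso φ.τ₂ := inferInstanceAs (IsIso (𝟙 _))
      haveI : Mono φ.τ₃ := inferInstanceAs (Mono (C.iCycles a))
      exact (ShortComplex.exact_iff_of_epi_of_isIso_of_mono φ).2
        ((HomologicalComplex.exactAt_iff' C (a - 2) (a - 1) a (by simp; omega) (by simp)).1
          (hC (a - 1) le_rfl))
    refine isFlat_congr ((cokernelIsCokernel (G.d (a - 1) a)).coconePointUniqueUpToIso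
      (CokernelCofork.IsColimit.ofπ' ((- inv F₂) ≫ S.g) ?_ fun {W} g hg => ?_) |>.symm) hZ
    · have h := CochainComplex.mappingCone.d_fst_v β (a - 2) (a - 1) a (by omega) (by omega)
      have h' : G.d (a - 1) a ≫ inv F₂ = - inv F₁ ≫ C.d (a - 2) (a - 1) := by
        rw [← cancel_mono F₂, Category.assoc, IsIso.inv_hom_id, Category.comp_id]
        simp only [Preadditive.neg_comp, Category.assoc]
        rw [h]
        simp [F₁]
      simp only [Preadditive.neg_comp, Preadditive.comp_neg, reassoc_of% h', S.zero, comp_zero,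
        neg_zero, S, HomologicalComplex.d_comp_d]
      simp
    · have h := CochainComplex.mappingCone.d_fst_v β (a - 2) (a - 1) a (by omega) (by omega)
      refine ⟨CokernelCofork.IsColimit.desc' hS.gIsCokernel (- F₂ ≫ g) ?_ |>.1, ?_⟩
      · simp only [Preadditive.neg_comp, Preadditive.comp_neg, S]
        rw [reassoc_of% h]
        simp [hg]
      · have hd := (CokernelCofork.IsColimit.desc' hS.gIsCokernel (- F₂ ≫ g) (by
          simp only [Preadditive.neg_comp, Preadditive.comp_neg, S]
          rw [reassoc_of% h]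
          simp [hg])).2
        simp only [Cofork.π_ofπ] at hd
        simp [hd]
  -- the truncation
  haveI : E.IsStrictlyGE a := (CochainComplex.isStrictlyGE_iff _ _).2 fun i hi => hE i (Or.inl hi)
  let γ : G.truncGE a ⟶ E := CochainComplex.truncGEMap β a ≫ inv (E.πTruncGE a)
  have hγ : G.πTruncGE a ≫ γ = β := by
    show G.πTruncGE a ≫ CochainComplex.truncGEMap β a ≫ inv (E.πTruncGE a) = β
    rw [← Category.assoc]
    erw [HomologicalComplex.πTruncGE_naturality]
    erw [Category.assoc, IsIso.hom_inv_id, Category.comp_id]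
  have hQ : IsIso (DerivedCategory.Q.map γ) := by
    refine Localization.inverts DerivedCategory.Q
      (HomologicalComplex.quasiIso X.Modules (ComplexShape.up ℤ)) _
      ((HomologicalComplex.mem_quasiIso_iff _).2 ⟨fun i => ?_⟩)
    by_cases hi : a ≤ i
    · haveI : QuasiIsoAt (G.πTruncGE a) i := by
        obtain ⟨k, rfl⟩ : ∃ k : ℕ, a + k = i := ⟨(i - a).toNat, by omega⟩
        exact inferInstanceAs (QuasiIsoAt (HomologicalComplex.πTruncGE G _)
          ((ComplexShape.embeddingUpIntGE a).f k))
      rw [← quasiIsoAt_iff_comp_left (G.πTruncGE a) γ, hγ, quasiIsoAt_iff_isIso_homologyMap]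
      exact (map_homologyFunctor_Q β i).1.1 (((mIso_iff _ _).1 hβ).1 i (by omega))
    · rw [quasiIsoAt_iff_exactAt γ i (ShortComplex.exact_of_isZero_X₂ _
        (CochainComplex.isZero_of_isStrictlyGE (G.truncGE a) a i (by omega)))]
      exact ShortComplex.exact_of_isZero_X₂ _ (hE i (Or.inl (by omega)))
  haveI := hQ
  refine ⟨G.truncGE a, ⟨⟨a, d + (a - d).toNat, fun i hi => ?_⟩, fun i => ?_⟩,
    ⟨asIso (DerivedCategory.Q.map γ)⟩⟩
  · rcases hi with hi | hi
    · exact CochainComplex.isZero_of_isStrictlyGE _ a i hi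
    · exact (hcd i (Or.inr (by omega))).of_iso (CochainComplex.truncGEXIso G a i (by omega))
  · rcases lt_trichotomy i a with hi | hi | hi
    · exact isFinLocFree_of_isZero
        (CochainComplex.isZero_of_isStrictlyGE (G.truncGE a) a i hi)
    · subst hi
      refine isFinLocFree_iso (((colimit.isColimit _).coconePointUniqueUpToIso
        (G.opcyclesIsCokernel (i - 1) i (by simp))) ≪≫ (CochainComplex.truncGEXIsoOpcycles G i).symm) ?_
      have hqc := fun j => PullbackMod.isQCoh_and_isFP_of_isFinLocFree _ (hGf j)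
      haveI := (hqc (i - 1)).1
      exact (PullbackMod.isFinLocFree_iff _).2
        ⟨(QCohLib.isQCoh_image _ (hqc (i - 1)).1 (hqc i).1).2,
          isFP_cokernel _ (hqc (i - 1)).1 (hqc i).1
            (haveI := (hqc (i - 1)).2; inferInstanceAs (SheafOfModules.IsFiniteType (R := X.ringCatSheaf) (G.X (i - 1))))
            (hqc i).2, hP⟩
    · exact isFinLocFree_iso (CochainComplex.truncGEXIso G a i hi).symm (hGf i)

end Groth.Agent.DCohLib
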