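import Groth.Agent.DCohLib.FibreField
import Groth.Agent.DCohLib.PullPerf
import Groth.Agent.DCohLib.FlatPerf

/-!
# Fibre dimensions of perfect and pseudo-coherent objects
-/

set_option autoImplicit false
set_option backward.isDefEq.respectTransparency false
set_option linter.style.haveILetI false

universe u

open CategoryTheory CategoryTheory.Limits AlgebraicGeometry TopologicalSpace Opposite

attribute [local instance] HasDerivedCategory.standard

noncomputable section

namespace Groth.Agent.DCohLib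

variable {X U : Scheme.{u}}

theorem exists_point_lift (j : U ⟶ X) [IsOpenImmersion j] (y : U) :
    ∃ g : Spec (X.residueField (j y)) ⟶ U,
      g ≫ j = X.fromSpecResidueField (j y) ∧ ∀ z, g z = y := by
  have hr : Set.range (X.fromSpecResidueField (j y)) ⊆ Set.range j := by
    rw [Scheme.range_fromSpecResidueField]
    rintro _ rfl
    exact ⟨y, rfl⟩
  refine ⟨IsOpenImmersion.lift j _ hr, IsOpenImmersion.lift_fac j _ hr, fun z => ?_⟩
  refine j.isOpenEmbedding.injective ?_
  rw [← Scheme.Hom.comp_apply, IsOpenImmersion.lift_fac, Scheme.fromSpecResidueField_apply]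

instance subsingleton_fieldPoint (x : X) : Subsingleton ↥(Spec (X.residueField x)) :=
  inferInstanceAs (Subsingleton (PrimeSpectrum (X.residueField x)))

theorem isField_stalk_fieldPoint (x : X) (z : ↥(Spec (X.residueField x))) :
    IsField ((Spec (X.residueField x)).presheaf.stalk z) := by
  let Z := Spec (X.residueField x)
  have hb : Function.Bijective (Z.presheaf.germ ⊤ z (Opens.mem_top z)).hom := by
    refine ⟨fun a b h => ?_, fun t => ?_⟩
    · obtain ⟨W, hW, iU, iV, hab⟩ :=
        TopCat.Presheaf.germ_eq Z.presheaf z (Opens.mem_top z) (Opens.mem_top z) a b h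
      obtain rfl := eq_top_of_mem z W hW
      rw [Subsingleton.elim iU (𝟙 _), Subsingleton.elim iV (𝟙 _)] at hab
      simpa using hab
    · obtain ⟨W, hW, s, rfl⟩ := TopCat.Presheaf.exists_germ_eq Z.presheaf t
      obtain rfl := eq_top_of_mem z W hW
      exact ⟨s, rfl⟩
  exact (Field.toIsField (X.residueField x : Type u)).recOn fun a b c =>
    MulEquiv.isField ⟨a, b, c⟩
      ((RingEquiv.ofBijective _ hb).symm.trans
        (Scheme.ΓSpecIso (X.residueField x)).commRingCatIsoToRingEquiv).toMulEquiv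

/-- Inverse image along a map factoring through an open immersion. -/
def pullFactorIso {Z : Scheme.{u}} (f : Z ⟶ X) (j : U ⟶ X) [IsOpenImmersion j] (g : Z ⟶ U)
    (h : g ≫ j = f) : pullCx f ≅ resCx j ⋙ pullCx g :=
  NatIso.mapHomologicalComplex
    (Scheme.Modules.pullbackCongr h.symm ≪≫ (Scheme.Modules.pullbackComp g j).symm ≪≫
      Functor.isoWhiskerRight (Scheme.Modules.restrictFunctorIsoPullback j).symm _)
    (ComplexShape.up ℤ)

/-- A representative of the restriction to an open subscheme. -/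
abbrev resOpen (j : U ⟶ X) [IsOpenImmersion j] (K : DCoh.D X) : CochainComplex U.Modules ℤ :=
  (resCx j).obj ((resX X).obj (DerivedCategory.Q.objPreimage K))

theorem betti_eq (K : DCoh.D X) (j : U ⟶ X) [IsOpenImmersion j] (y : U)
    [DCoh.HasLpull (X.fromSpecResidueField (j y))] (g : Spec (X.residueField (j y)) ⟶ U)
    (hg : g ≫ j = X.fromSpecResidueField (j y)) (i : ℤ) (z : ↥(Spec (X.residueField (j y)))) :
    PerfD.betti K (j y) i = sdim z (((pullCx g).obj (resOpen j K)).homology i) := by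
  rw [PerfD.betti, finrank_sections_top z]
  refine sdim_congr z ?_
  exact (DerivedCategory.homologyFunctor _ i).mapIso
      (((DCoh.Lpull _).mapIso (resXIso K)).symm ≪≫ lpullIso _ _ (isKFlat_resX _) (isFlat_resX _) ≪≫
        DerivedCategory.Q.mapIso ((pullFactorIso _ j g hg).app _)) ≪≫
    (DerivedCategory.homologyFunctorFactors _ i).app _

theorem fibreRank_of_isZero {M : X.Modules} (h : IsZero M) (x : X) : PullbackMod.fibreRank M x = 0 := by
  haveI : Subsingleton (M.presheaf.stalk x) :=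
    ModuleCat.subsingleton_of_isZero ((stkF x).map_isZero h)
  exact Module.finrank_zero_of_subsingleton

theorem isFT_of_flf {M : X.Modules} (h : FlatMod.IsFinLocFree M) : CohB1.IsFT M := by
  obtain ⟨hq, hp⟩ := PullbackMod.isQCoh_and_isFP_of_isFinLocFree M h
  haveI := hq
  exact QCohLib.isFiniteType_of_finite M (fun W : X.affineOpens => (W : X.Opens)) (fun W => W.2)
    (iSup_affineOpens_eq_top X) fun W =>
      haveI := QCohLib.finitePresentation_sections M hp W.2
      inferInstance

theorem isQCoh_coker_d {G : CochainComplex X.Modules ℤ} (hG : ∀ i, FlatMod.IsFinLocFree (G.X i))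
    (a b : ℤ) : Coh.IsQCoh (cokernel (G.d a b)) :=
  (QCohLib.isQCoh_image _ (PullbackMod.isQCoh_and_isFP_of_isFinLocFree _ (hG a)).1
    (PullbackMod.isQCoh_and_isFP_of_isFinLocFree _ (hG b)).1).2

theorem isFP_coker_d {G : CochainComplex X.Modules ℤ} (hG : ∀ i, FlatMod.IsFinLocFree (G.X i))
    (a b : ℤ) : CohB1.IsFP (cokernel (G.d a b)) :=
  isFP_cokernel _ (PullbackMod.isQCoh_and_isFP_of_isFinLocFree _ (hG a)).1
    (PullbackMod.isQCoh_and_isFP_of_isFinLocFree _ (hG b)).1 (isFT_of_flf (hG a))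
    (PullbackMod.isQCoh_and_isFP_of_isFinLocFree _ (hG b)).2

/-- The dimension formula at a field valued point. -/
theorem homology_pullback_add {Z : Scheme.{u}} (z : Z) (hz : IsField (Z.presheaf.stalk z)) (g : Z ⟶ U)
    {G : CochainComplex U.Modules ℤ} (hG : ∀ i, FlatMod.IsFinLocFree (G.X i)) (i : ℤ) :
    sdim z (((pullCx g).obj G).homology i) + PullbackMod.fibreRank (G.X (i + 1)) (g z) =
      PullbackMod.fibreRank (cokernel (G.d (i - 1) i)) (g z) +
        PullbackMod.fibreRank (cokernel (G.d i (i + 1))) (g z) := by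
  haveI := (Scheme.Modules.pullbackPushforwardAdjunction g).leftAdjoint_preservesColimits
  have h := sdim_homology_add z hz ((pullCx g).obj G) (fun n =>
    haveI := (PullbackMod.isQCoh_and_isFP_of_isFinLocFree _ (hG n)).1
    finite_stalk_pullback z g _ (PullbackMod.isQCoh_and_isFP_of_isFinLocFree _ (hG n)).2) i
  have ec : ∀ a b : ℤ, sdim z (cokernel (((pullCx g).obj G).d a b)) =
      PullbackMod.fibreRank (cokernel (G.d a b)) (g z) := fun a b => by
    haveI := isQCoh_coker_d hG a b
    rw [← sdim_pullback z g hz]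
    exact sdim_congr z (PreservesCokernel.iso (Scheme.Modules.pullback g) (G.d a b)).symm
  haveI := (PullbackMod.isQCoh_and_isFP_of_isFinLocFree _ (hG (i + 1))).1
  rw [ec, ec, show sdim z (((pullCx g).obj G).X (i + 1)) = _ from sdim_pullback z g hz (G.X (i + 1))] at h
  exact h

theorem isIso_homologyMap_pullback {Z : Scheme.{u}} (g : Z ⟶ U) {R G : CochainComplex U.Modules ℤ}
    {m : ℤ} (β : G ⟶ R) (hG : DCoh.IsStrictlyPerfect G) (hR : DCoh.IsKFlat R)
    (hRfl : ∀ i, FlatMod.IsFlat (R.X i)) (hβ : MIso m (DerivedCategory.Q.map β)) {i : ℤ} (hi : m < i) :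
    IsIso (HomologicalComplex.homologyMap ((pullCx g).map β) i) := by
  let C := CochainComplex.mappingCone β
  have hC : DCoh.IsKFlat C := (isKFlat_iff _).2 ((Groth.Agent.KFlat.twoOfThree_cone U.sheaf β).1
    ((isKFlat_iff _).1 (isKFlat_of_strictlyPerfect hG)) ((isKFlat_iff _).1 hR))
  have hCfl : ∀ i, FlatMod.IsFlat (C.X i) := fun i => (isFlat_iff _).2
    ((Groth.Agent.KFlat.flatClassMod U.sheaf).cone β
      (fun k => (isFlat_iff _).1 (isFlat_of_flf (hG.2 k))) (fun k => (isFlat_iff _).1 (hRfl k)) i)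
  have hC0 : ∀ i, m ≤ i → C.ExactAt i := fun i hi => by
    rw [HomologicalComplex.exactAt_iff_isZero_homology]
    exact (MIso.cone (DerivedCategory.Q.mapTriangle.obj (CochainComplex.mappingCone.triangle β))
      (DerivedCategory.mappingCone_triangle_distinguished β) hβ i hi).of_iso
        ((DerivedCategory.homologyFunctorFactors _ i).app C).symm
  have h : MIso m (DerivedCategory.Q.map ((pullCx g).map β)) :=
    ⟨_, _, _, DerivedCategory.mappingCone_triangle_distinguished ((pullCx g).map β), fun i hi =>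
      ((HomologicalComplex.exactAt_iff_isZero_homology _ _).1
        (HomologicalComplex.ExactAt.of_iso (exactAt_pullback g hC hCfl m hC0 i hi)
          (CochainComplex.mappingCone.mapHomologicalComplexIso β (Scheme.Modules.pullback g)))).of_iso
        ((DerivedCategory.homologyFunctorFactors _ i).app _)⟩
  exact (map_homologyFunctor_Q _ i).1.1 (((mIso_iff m _).1 h).1 i hi)

variable [∀ x : X, DCoh.HasLpull (X.fromSpecResidueField x)]

/-- The formula for fibre dimensions, given an approximation. -/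
theorem betti_add (K : DCoh.D X) (j : U ⟶ X) [IsOpenImmersion j] {G : CochainComplex U.Modules ℤ}
    {m : ℤ} (β : G ⟶ resOpen j K) (hG : DCoh.IsStrictlyPerfect G)
    (hβ : MIso m (DerivedCategory.Q.map β)) {i : ℤ} (hi : m < i) (y : U) :
    PerfD.betti K (j y) i + PullbackMod.fibreRank (G.X (i + 1)) y =
      PullbackMod.fibreRank (cokernel (G.d (i - 1) i)) y +
        PullbackMod.fibreRank (cokernel (G.d i (i + 1))) y := by
  obtain ⟨g, hg, hgz⟩ := exists_point_lift j y
  obtain ⟨z⟩ : Nonempty ↥(Spec (X.residueField (j y))) := inferInstance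
  haveI := isIso_homologyMap_pullback g β hG (isKFlat_resCx_resX j _).1 (isKFlat_resCx_resX j _).2 hβ hi
  rw [betti_eq K j y g hg i z,
    ← sdim_congr z (asIso (HomologicalComplex.homologyMap ((pullCx g).map β) i))]
  have h := homology_pullback_add z (isField_stalk_fieldPoint _ z) g hG.2 i
  rwa [hgz] at h

/-- Local approximations by strictly perfect complexes given by maps of complexes. -/
theorem exists_approx {m : ℤ} {K : DCoh.D X} (hK : DCoh.IsPseudoCoherentD m K) (x : X) :
    ∃ (U : Scheme.{u}) (j : U ⟶ X) (_ : IsOpenImmersion j) (y : U), j y = x ∧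
      ∃ (G : CochainComplex U.Modules ℤ) (β : G ⟶ resOpen j K),
        DCoh.IsStrictlyPerfect G ∧ MIso m (DerivedCategory.Q.map β) := by
  rw [isPseudoCoherentD_iff] at hK
  obtain ⟨V, hy, A, α, hA, hα⟩ := hK x
  let R := (resX X).obj (DerivedCategory.Q.objPreimage K)
  let α' : DerivedCategory.Q.obj A ⟶ DerivedCategory.Q.obj ((resCx V.ι).obj R) :=
    α ≫ (((DCoh.restrictD V.ι).mapIso (resXIso K)).symm ≪≫ restrictDQ V.ι _).hom
  obtain ⟨W, hW, β, hβ⟩ := exists_open_represent hA α' (⟨x, hy⟩ : V)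
  let j : (W : Scheme.{u}) ⟶ X := W.ι ≫ V.ι
  refine ⟨W, j, inferInstance, ⟨⟨x, hy⟩, hW⟩, rfl, (resCx W.ι).obj A,
    β ≫ (resCxComp W.ι V.ι).inv.app R, isStrictlyPerfect_restrict W.ι hA, ?_⟩
  have h1 : DerivedCategory.Q.map β = (restrictDQ W.ι A).inv ≫
      (DCoh.restrictD W.ι).map α' ≫ (restrictDQ W.ι _).hom := by
    rw [hβ]
    simp [restrictDQ]
  rw [Functor.map_comp, h1]
  exact ((mIso_of_isIso _ _).comp
    (((hα.comp (mIso_of_isIso _ _)).restrict W.ι).comp (mIso_of_isIso _ _))).comp (mIso_of_isIso _ _)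

theorem isOpen_betti_lt_of_pred (K : DCoh.D X) (i : ℤ) (hK : DCoh.IsPseudoCoherentD (i - 1) K) (n : ℕ) :
    IsOpen {x : X | PerfD.betti K x i < n} := by
  rw [isOpen_iff_mem_nhds]
  intro x hx
  obtain ⟨U, j, hj, y, rfl, G, β, hG, hβ⟩ := exists_approx hK x
  have hq : ∀ a b : ℤ, Coh.IsQCoh (cokernel (G.d a b)) := isQCoh_coker_d hG.2
  haveI := hq (i - 1) i
  haveI := hq i (i + 1)
  haveI := (PullbackMod.isQCoh_and_isFP_of_isFinLocFree _ (hG.2 (i + 1))).1
  obtain ⟨N₁, hy₁, h₁⟩ := exists_nhd_fibreRank_le _ (isFP_coker_d hG.2 (i - 1) i) y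
  obtain ⟨N₂, hy₂, h₂⟩ := exists_nhd_fibreRank_le _ (isFP_coker_d hG.2 i (i + 1)) y
  have hN₃ := PullbackMod.isFinLocFree_isLocallyConstant _ (hG.2 (i + 1))
    {PullbackMod.fibreRank (G.X (i + 1)) y}
  refine Filter.mem_of_superset ((j.isOpenEmbedding.isOpenMap _
    ((N₁.2.inter N₂.2).inter hN₃)).mem_nhds ⟨y, ⟨⟨hy₁, hy₂⟩, rfl⟩, rfl⟩) ?_
  rintro _ ⟨w, ⟨⟨hw₁, hw₂⟩, hw₃⟩, rfl⟩
  have e₁ := betti_add K j β hG hβ (show i - 1 < i by omega) y
  have e₂ := betti_add K j β hG hβ (show i - 1 < i by omega) w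
  have e₃ : PullbackMod.fibreRank (G.X (i + 1)) w = PullbackMod.fibreRank (G.X (i + 1)) y := hw₃
  have a₁ := h₁ w hw₁
  have a₂ := h₂ w hw₂
  show PerfD.betti K (j w) i < n
  have hx' : PerfD.betti K (j y) i < n := hx
  omega

theorem isOpen_betti_lt (K : DCoh.D X) (hK : ∀ m : ℤ, DCoh.IsPseudoCoherentD m K) (i : ℤ) (n : ℕ) :
    IsOpen {x : X | PerfD.betti K x i < n} :=
  isOpen_betti_lt_of_pred K i (hK (i - 1)) n

/-- The approximation given by a perfect object. -/
theorem exists_perfect_approx {K : DCoh.D X} (hK : DCoh.IsPerfect K) (x : X) :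
    ∃ (U : Scheme.{u}) (j : U ⟶ X) (_ : IsOpenImmersion j) (y : U), j y = x ∧
      ∃ (G : CochainComplex U.Modules ℤ) (β : G ⟶ resOpen j K),
        DCoh.IsStrictlyPerfect G ∧ ∀ m, MIso m (DerivedCategory.Q.map β) := by
  rw [isPerfect_iff] at hK
  obtain ⟨V, hy, A, hA, ⟨a⟩⟩ := hK x
  let R := (resX X).obj (DerivedCategory.Q.objPreimage K)
  let α' : DerivedCategory.Q.obj A ⟶ DerivedCategory.Q.obj ((resCx V.ι).obj R) :=
    (a ≪≫ ((DCoh.restrictD V.ι).mapIso (resXIso K)).symm ≪≫ restrictDQ V.ι _).hom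
  obtain ⟨W, hW, β, hβ⟩ := exists_open_represent hA α' (⟨x, hy⟩ : V)
  let j : (W : Scheme.{u}) ⟶ X := W.ι ≫ V.ι
  refine ⟨W, j, inferInstance, ⟨⟨x, hy⟩, hW⟩, rfl, (resCx W.ι).obj A,
    β ≫ (resCxComp W.ι V.ι).inv.app R, isStrictlyPerfect_restrict W.ι hA, fun m => ?_⟩
  have h1 : DerivedCategory.Q.map β = (restrictDQ W.ι A).inv ≫
      (DCoh.restrictD W.ι).map α' ≫ (restrictDQ W.ι _).hom := by
    rw [hβ]
    simp [restrictDQ]
  rw [Functor.map_comp, h1]
  exact mIso_of_isIso _ _

theorem isLocallyConstant_eulerChar (K : DCoh.D X) (hK : DCoh.IsPerfect K) :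
    IsLocallyConstant (fun x : X => PerfD.eulerChar K x) := by
  refine (IsLocallyConstant.iff_exists_open _).mpr fun x => ?_
  obtain ⟨U, j, hj, y, rfl, G, β, hG, hβ⟩ := exists_perfect_approx hK x
  obtain ⟨⟨a, b, hab⟩, hf⟩ := id hG
  let r : ℤ → U → ℕ := fun i w => PullbackMod.fibreRank (G.X i) w
  have key : ∀ w : U, PerfD.eulerChar K (j w) = ∑ᶠ i : ℤ, (i.negOnePow : ℤ) * (r i w : ℤ) := by
    intro w
    let c : ℤ → ℕ := fun i => PullbackMod.fibreRank (cokernel (G.d (i - 1) i)) w
    let C : ℤ → ℤ := fun i => (i.negOnePow : ℤ) * (c i : ℤ)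
    let N : ℤ → ℤ := fun i => (i.negOnePow : ℤ) * (r i w : ℤ)
    have hc : ∀ i, i < a ∨ b < i → c i = 0 := fun i hi =>
      fibreRank_of_isZero (IsZero.of_epi (cokernel.π (G.d (i - 1) i)) (hab i hi)) w
    have hr : ∀ i, i < a ∨ b < i → r i w = 0 := fun i hi => fibreRank_of_isZero (hab i hi) w
    have hCs : ∀ d : ℤ, Function.HasFiniteSupport (fun i => C (i + d)) := fun d =>
      (Set.finite_Icc (a - d) (b - d)).subset fun i hi => by
        by_contra hni
        simp only [Set.mem_Icc, not_and_or, not_le] at hni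
        exact hi (by simp [C, hc (i + d) (by omega)])
    have hNs : Function.HasFiniteSupport (fun i => N (i + 1)) :=
      (Set.finite_Icc (a - 1) (b - 1)).subset fun i hi => by
        by_contra hni
        simp only [Set.mem_Icc, not_and_or, not_le] at hni
        exact hi (by simp [N, hr (i + 1) (by omega)])
    have hterm : ∀ i : ℤ, (i.negOnePow : ℤ) * (PerfD.betti K (j w) i : ℤ) =
        (C i - C (i + 1)) + N (i + 1) := by
      intro i
      have e := betti_add K j β hG (hβ (i - 1)) (show i - 1 < i by omega) w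
      have e' : (PerfD.betti K (j w) i : ℤ) + (r (i + 1) w : ℤ) = (c i : ℤ) + (c (i + 1) : ℤ) := by
        have hcs : c (i + 1) = PullbackMod.fibreRank (cokernel (G.d i (i + 1))) w := by
          show PullbackMod.fibreRank (cokernel (G.d (i + 1 - 1) (i + 1))) w = _
          rw [add_sub_cancel_right]
        rw [hcs]
        exact_mod_cast e
      simp only [C, N, Int.negOnePow_succ, Units.val_neg]
      linear_combination (i.negOnePow : ℤ) * e'
    have hsh : ∀ f : ℤ → ℤ, ∑ᶠ i : ℤ, f (i + 1) = ∑ᶠ i : ℤ, f i := fun f =>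
      finsum_comp_equiv (Equiv.addRight (1 : ℤ)) (f := f)
    have h0 : Function.HasFiniteSupport C := by simpa using hCs 0
    rw [PerfD.eulerChar, finsum_congr hterm,
      finsum_add_distrib (f := fun i => C i - C (i + 1)) (g := fun i => N (i + 1)) (h0.sub (hCs 1)) hNs,
      finsum_sub_distrib h0 (hCs 1), hsh, hsh, sub_self, zero_add]
  let S : Set U := ⋂ i ∈ Finset.Icc a b, (r i) ⁻¹' {r i y}
  have hS : IsOpen S := isOpen_biInter_finset fun i _ =>
    haveI := (PullbackMod.isQCoh_and_isFP_of_isFinLocFree _ (hf i)).1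
    PullbackMod.isFinLocFree_isLocallyConstant _ (hf i) _
  refine ⟨j '' S, j.isOpenEmbedding.isOpenMap S hS, ⟨y, by simp [S], rfl⟩, ?_⟩
  rintro _ ⟨w, hw, rfl⟩
  rw [key, key]
  refine finsum_congr fun i => ?_
  by_cases hi : i ∈ Finset.Icc a b
  · simp only [S, Set.mem_iInter] at hw
    rw [show r i w = r i y from hw i hi]
  · have hi' : i < a ∨ b < i := by simp only [Finset.mem_Icc] at hi; omega
    rw [show r i w = 0 from fibreRank_of_isZero (hab i hi') w,
      show r i y = 0 from fibreRank_of_isZero (hab i hi') y]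

end Groth.Agent.DCohLib
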