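import Groth.Agent.DCohLib.PCTop
import Groth.Agent.DCohLib.PerfLocFree
import Groth.Agent.QCohLib.Coherent
import Groth.Agent.DCohLib.QCohAbelian

/-!
# Perfect objects on Noetherian schemes are bounded with coherent cohomology
-/

set_option autoImplicit false
set_option linter.style.haveILetI false

universe u

open CategoryTheory CategoryTheory.Limits AlgebraicGeometry TopologicalSpace Opposite

attribute [local instance] HasDerivedCategory.standard

noncomputable section

namespace Groth.Agent.DCohLib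

variable {X : Scheme.{u}}

theorem isCoh_of_isFinLocFree [IsLocallyNoetherian X] {M : X.Modules} (h : FlatMod.IsFinLocFree M) :
    Coh.IsCoh M :=
  (Groth.Agent.QCohLib.isCoh_iff_isFP M).2 (PullbackMod.isQCoh_and_isFP_of_isFinLocFree M h).2

theorem isCoh_iso [IsLocallyNoetherian X] {M N : X.Modules} (e : M ≅ N) (h : Coh.IsCoh M) :
    Coh.IsCoh N :=
  Groth.Agent.QCohLib.isCoh_of_mono e.inv h (isQCoh_of_iso' e h.1)

theorem isCoh_homology [IsLocallyNoetherian X] {C : CochainComplex X.Modules ℤ}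
    (hC : ∀ i, Coh.IsCoh (C.X i)) (i : ℤ) : Coh.IsCoh (C.homology i) := by
  have hZ : Coh.IsCoh (C.cycles i) := isCoh_iso
    ((kernelIsKernel _).conePointUniqueUpToIso (C.cyclesIsKernel i (i + 1) (by simp)))
    (Groth.Agent.QCohLib.isCoh_kernel_cokernel (C.d i (i + 1)) (hC i) (hC (i + 1))).1
  exact isCoh_iso
    ((cokernelIsCokernel _).coconePointUniqueUpToIso (C.homologyIsCokernel (i - 1) i (by simp)))
    (Groth.Agent.QCohLib.isCoh_kernel_cokernel (C.toCycles (i - 1) i) (hC (i - 1)) hZ).2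

theorem isCoh_of_local [IsLocallyNoetherian X] {M : X.Modules}
    (h : ∀ x : X, ∃ V : X.Opens, x ∈ V ∧ Coh.IsCoh ((Scheme.Modules.restrictFunctor V.ι).obj M)) :
    Coh.IsCoh M := by
  refine (Groth.Agent.QCohLib.isCoh_iff_isFP M).2 (isFP_of_local fun x => ?_)
  obtain ⟨V, hx, hV⟩ := h x
  exact ⟨V, V.ι, inferInstance, ⟨x, hx⟩, rfl, (Groth.Agent.QCohLib.isCoh_iff_isFP _).1 hV⟩

theorem isCohD_bounded_of_isPerfect [IsNoetherian X] (K : DCoh.D X) (hK : DCoh.IsPerfect K) :
    DCoh.IsCohD K ∧ ∃ a b : ℤ, K.IsGE a ∧ K.IsLE b := by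
  classical
  have h := (isPerfect_iff K).1 hK
  choose V hV E hE hiso using h
  have e : ∀ (x : X) (i : ℤ), (E x).homology i ≅
      (Scheme.Modules.restrictFunctor (V x).ι).obj (DCoh.HD K i) := fun x i =>
    ((DerivedCategory.homologyFunctorFactors _ i).app (E x)).symm ≪≫
      (DerivedCategory.homologyFunctor _ i).mapIso (hiso x).some ≪≫ restrictHDIso (V x).ι K i
  refine ⟨fun i => isCoh_of_local fun x => ⟨V x, hV x,
    isCoh_iso (e x i) (isCoh_homology (fun j => isCoh_of_isFinLocFree ((hE x).2 j)) i)⟩, ?_⟩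
  choose a b hab using fun x => (hE x).1
  obtain ⟨t, ht⟩ := (isCompact_univ (X := X)).elim_finite_subcover (fun x => ((V x : X.Opens) : Set X))
    (fun x => (V x).2) (fun x _ => Set.mem_iUnion.2 ⟨x, hV x⟩)
  have hz : ∀ i : ℤ, (∀ x ∈ t, i < a x ∨ b x < i) → IsZero (DCoh.HD K i) := by
    intro i hi
    refine isZero_of_local fun y => ?_
    obtain ⟨x, hx, hy⟩ := Set.mem_iUnion₂.1 (ht (Set.mem_univ y))
    exact ⟨V x, (V x).ι, inferInstance, ⟨y, hy⟩, rfl,
      ((HomologicalComplex.exactAt_iff_isZero_homology _ _).1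
        (HomologicalComplex.ExactAt.of_isZero (hab x i (hi x hx)))).of_iso (e x i).symm⟩
  obtain ⟨A, hA⟩ := (t.image a).bddBelow
  obtain ⟨B, hB⟩ := (t.image b).bddAbove
  exact ⟨A, B,
    (DerivedCategory.isGE_iff K A).2 fun i hi =>
      hz i fun x hx => Or.inl (lt_of_lt_of_le hi (hA (Finset.mem_image_of_mem a hx))),
    (DerivedCategory.isLE_iff K B).2 fun i hi =>
      hz i fun x hx => Or.inr (lt_of_le_of_lt (hB (Finset.mem_image_of_mem b hx)) hi)⟩

end Groth.Agent.DCohLib
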