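import Groth.Agent.DCohLib.PerfLocFree

/-!
# Stalks of restrictions to open subschemes as modules
-/

set_option autoImplicit false
set_option linter.style.haveILetI false

universe u

open CategoryTheory AlgebraicGeometry

noncomputable section

namespace Groth.Agent.DCohLib

theorem free_finite_of_semilinear {R S M N : Type*} [CommRing R] [CommRing S] [AddCommGroup M]
    [AddCommGroup N] [Module R M] [Module S N] (σ : R ≃+* S) (e : M ≃+ N)
    (h : ∀ (r : R) (m : M), e (r • m) = σ r • e m) (hN : Module.Free S N ∧ Module.Finite S N) :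
    Module.Free R M ∧ Module.Finite R M := by
  obtain ⟨hfree, hfin⟩ := hN
  let b := Module.Free.chooseBasis S N
  let l : M ≃ₗ[R] (Module.Free.ChooseBasisIndex S N → R) :=
    { toFun := fun m i => σ.symm (b.equivFun (e m) i)
      map_add' := fun x y => by ext i; simp
      map_smul' := fun r x => by ext i; simp [h]
      invFun := fun v => e.symm (b.equivFun.symm fun i => σ (v i))
      left_inv := fun m => by simp
      right_inv := fun v => by
        ext i
        simp only [AddEquiv.apply_symm_apply, LinearEquiv.apply_symm_apply, RingEquiv.symm_apply_apply] }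
  exact ⟨Module.Free.of_equiv l.symm, Module.Finite.equiv l.symm⟩

variable {X Y : Scheme.{u}} (f : X ⟶ Y) [IsOpenImmersion f]

theorem restrictStalk_smul (M : Y.Modules) (x : X) (c : X.presheaf.stalk x)
    (m : ((Scheme.Modules.restrictFunctor f).obj M).presheaf.stalk x) :
    (Scheme.Modules.restrictStalkNatIso f x).hom.app M (c • m) =
      (asIso (f.stalkMap x)).commRingCatIsoToRingEquiv.symm c •
        (id ((Scheme.Modules.restrictStalkNatIso f x).hom.app M m) : ↑(M.presheaf.stalk (f x))) := by
  obtain ⟨U, hU, r, rfl⟩ := TopCat.Presheaf.exists_germ_eq X.presheaf c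
  obtain ⟨V, hV, s, rfl⟩ := TopCat.Presheaf.exists_germ_eq _ m
  let W : X.Opens := U ⊓ V
  have hxW : x ∈ W := ⟨hU, hV⟩
  rw [← X.presheaf.germ_res_apply (homOfLE (inf_le_left : W ≤ U)) x hxW r,
    ← TopCat.Presheaf.germ_res_apply _ (homOfLE (inf_le_right : W ≤ V)) x hxW s]
  generalize X.presheaf.map (homOfLE (inf_le_left : W ≤ U)).op r = r'
  generalize ((Scheme.Modules.restrictFunctor f).obj M).presheaf.map (homOfLE (inf_le_right : W ≤ V)).op s = s'
  have hg : ∀ t : ↑(((Scheme.Modules.restrictFunctor f).obj M).presheaf.obj (Opposite.op W)),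
      (Scheme.Modules.restrictStalkNatIso f x).hom.app M
        (((Scheme.Modules.restrictFunctor f).obj M).presheaf.germ W x hxW t) =
      M.presheaf.germ (f ''ᵁ W) (f x) ⟨x, hxW, rfl⟩ t := fun t =>
    ConcreteCategory.congr_hom (Scheme.Modules.germ_restrictStalkNatIso_hom_app f x M hxW) t
  refine (congrArg _ (PresheafOfModules.germ_smul (R := X.presheaf)
    ((Scheme.Modules.restrictFunctor f).obj M).val x W hxW r' s').symm).trans ?_
  refine (hg _).trans ?_
  refine (PresheafOfModules.germ_smul (R := Y.presheaf) M.val (f x) (f ''ᵁ W) ⟨x, hxW, rfl⟩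
    ((f.appIso W).inv r') s').trans ?_
  refine congrArg₂ (· • ·) ?_ (hg s').symm
  apply (asIso (f.stalkMap x)).commRingCatIsoToRingEquiv.injective
  rw [RingEquiv.apply_symm_apply]
  change f.stalkMap x _ = _
  rw [Scheme.Hom.germ_stalkMap_apply, Scheme.Hom.appIso_inv_app_apply]
  exact X.presheaf.germ_res_apply _ _ _ _

theorem free_finite_stalk_restrict_iff (M : Y.Modules) (x : X) :
    (Module.Free (X.presheaf.stalk x) (((Scheme.Modules.restrictFunctor f).obj M).presheaf.stalk x) ∧
      Module.Finite (X.presheaf.stalk x) (((Scheme.Modules.restrictFunctor f).obj M).presheaf.stalk x)) ↔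
    (Module.Free (Y.presheaf.stalk (f x)) (M.presheaf.stalk (f x)) ∧
      Module.Finite (Y.presheaf.stalk (f x)) (M.presheaf.stalk (f x))) := by
  let σ := (asIso (f.stalkMap x)).commRingCatIsoToRingEquiv
  let e : ((Scheme.Modules.restrictFunctor f).obj M).presheaf.stalk x ≃+ M.presheaf.stalk (f x) :=
    ((Scheme.Modules.restrictStalkNatIso f x).app M).addCommGroupIsoToAddEquiv
  have h : ∀ c m, e (c • m) = σ.symm c • e m := restrictStalk_smul f M x
  refine ⟨fun hN => free_finite_of_semilinear σ e.symm (fun r m => ?_) hN,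
    fun hN => free_finite_of_semilinear σ.symm e h hN⟩
  apply e.injective
  rw [h, σ.symm_apply_apply, e.apply_symm_apply, e.apply_symm_apply]

end Groth.Agent.DCohLib
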