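import Mathlib

/-!
# Left derived functors from a functorial resolution
-/

set_option autoImplicit false
set_option linter.style.haveILetI false

universe v₁ v₂ v₃ v₄ u₁ u₂ u₃ u₄

open CategoryTheory Limits

noncomputable section

namespace Groth.Agent.DCohLib

variable {C : Type u₁} [Category.{v₁} C] {D : Type u₂} [Category.{v₂} D] {H : Type u₃} [Category.{v₃} H]
  {W : MorphismProperty C} (L : C ⥤ D) [L.IsLocalization W]

/-- A functorial resolution adapted to a functor. -/
structure Adapted (W : MorphismProperty C) (F : C ⥤ H) where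
  /-- the resolution -/
  P : C ⥤ C
  /-- the comparison -/
  ψ : P ⟶ 𝟭 C
  hψ : ∀ X, W (ψ.app X)
  inverts : W.IsInvertedBy (P ⋙ F)
  isIso_map : ∀ X, IsIso (F.map (ψ.app (P.obj X)))

variable {F : C ⥤ H} (R : Adapted W F)

/-- The derived functor of a functor with an adapted resolution. -/
def Adapted.lder : D ⥤ H := Localization.lift (R.P ⋙ F) R.inverts L

/-- The counit of the derived functor. -/
def Adapted.counit : L ⋙ R.lder L ⟶ F :=
  (Localization.fac (R.P ⋙ F) R.inverts L).hom ≫ Functor.whiskerRight R.ψ F ≫ F.leftUnitor.hom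

theorem Adapted.counit_app (X : C) :
    (R.counit L).app X = (Localization.fac (R.P ⋙ F) R.inverts L).hom.app X ≫ F.map (R.ψ.app X) := by
  simp [Adapted.counit]
  rfl

theorem Adapted.isIso_counit_app (X : C) (h : IsIso (F.map (R.ψ.app X))) :
    IsIso ((R.counit L).app X) := by
  haveI := h
  rw [R.counit_app L X]
  exact IsIso.comp_isIso' ((Localization.fac (R.P ⋙ F) R.inverts L).app X).isIso_hom h

section Universal

variable (G : D ⥤ H) (β : L ⋙ G ⟶ F)

/-- A transformation to the functor on resolutions. -/
def Adapted.pre : L ⋙ G ⟶ R.P ⋙ F where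
  app X :=
    haveI := Localization.inverts L W _ (R.hψ X)
    inv (G.map (L.map (R.ψ.app X))) ≫ β.app (R.P.obj X)
  naturality X Y f := by
    haveI := Localization.inverts L W _ (R.hψ X)
    haveI := Localization.inverts L W _ (R.hψ Y)
    show G.map (L.map f) ≫ inv (G.map (L.map (R.ψ.app Y))) ≫ β.app (R.P.obj Y) =
      (inv (G.map (L.map (R.ψ.app X))) ≫ β.app (R.P.obj X)) ≫ F.map (R.P.map f)
    have h := R.ψ.naturality f
    dsimp at h
    have hG : G.map (L.map (R.P.map f)) ≫ G.map (L.map (R.ψ.app Y)) =
        G.map (L.map (R.ψ.app X)) ≫ G.map (L.map f) := by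
      rw [← G.map_comp, ← G.map_comp, ← L.map_comp, ← L.map_comp, h]
    rw [Category.assoc, IsIso.eq_inv_comp, ← reassoc_of% hG, IsIso.hom_inv_id_assoc]
    exact β.naturality (R.P.map f)

/-- The lift to the derived functor. -/
def Adapted.liftHom : G ⟶ R.lder L :=
  letI : Localization.Lifting L W (R.P ⋙ F) (R.lder L) := Localization.liftingLift _ R.inverts L
  Localization.liftNatTrans L W (L ⋙ G) (R.P ⋙ F) G (R.lder L) (R.pre L G β)

theorem Adapted.liftHom_fac : Functor.whiskerLeft L (R.liftHom L G β) ≫ R.counit L = β := by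
  ext X
  haveI := Localization.inverts L W _ (R.hψ X)
  letI : Localization.Lifting L W (R.P ⋙ F) (R.lder L) := Localization.liftingLift _ R.inverts L
  rw [NatTrans.comp_app, Functor.whiskerLeft_app, R.counit_app L X, Adapted.liftHom,
    Localization.liftNatTrans_app]
  show (𝟙 _ ≫ (inv (G.map (L.map (R.ψ.app X))) ≫ β.app (R.P.obj X)) ≫
    (Localization.fac (R.P ⋙ F) R.inverts L).inv.app X) ≫
      (Localization.fac (R.P ⋙ F) R.inverts L).hom.app X ≫ F.map (R.ψ.app X) = β.app X
  simp only [Category.assoc, Category.id_comp, Iso.inv_hom_id_app_assoc]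
  rw [IsIso.inv_comp_eq]
  exact (β.naturality (R.ψ.app X)).symm

theorem Adapted.hom_ext (γ γ' : G ⟶ R.lder L)
    (h : Functor.whiskerLeft L γ ≫ R.counit L = Functor.whiskerLeft L γ' ≫ R.counit L) : γ = γ' := by
  refine Localization.natTrans_ext L W fun X => ?_
  haveI := Localization.inverts L W _ (R.hψ X)
  haveI := R.isIso_counit_app L (R.P.obj X) (R.isIso_map X)
  have h' : γ.app (L.obj (R.P.obj X)) = γ'.app (L.obj (R.P.obj X)) :=
    (cancel_mono ((R.counit L).app (R.P.obj X))).1 (congr_app h (R.P.obj X))
  rw [← cancel_epi (G.map (L.map (R.ψ.app X)))]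
  exact (γ.naturality _).trans ((congr_arg (· ≫ (R.lder L).map (L.map (R.ψ.app X))) h').trans
    (γ'.naturality _).symm)

end Universal

instance Adapted.isRightKanExtension : (R.lder L).IsRightKanExtension (R.counit L) :=
  ⟨⟨IsTerminal.ofUniqueHom
    (fun G => CostructuredArrow.homMk (R.liftHom L G.left G.hom) (R.liftHom_fac L G.left G.hom))
    fun G m => CostructuredArrow.hom_ext _ _
      (R.hom_ext L G.left _ _ ((CostructuredArrow.w m).trans (R.liftHom_fac L G.left G.hom).symm))⟩⟩

include L R in
theorem Adapted.hasLeftDerivedFunctor : F.HasLeftDerivedFunctor W :=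
  haveI : (R.lder L).IsLeftDerivedFunctor (R.counit L) W := ⟨R.isRightKanExtension L⟩
  Functor.HasLeftDerivedFunctor.mk' (LF := R.lder L) (α := R.counit L)

/-- Any left derived functor is computed by objects at which the resolution is invertible. -/
theorem Adapted.isIso_app (LF : D ⥤ H) (α : L ⋙ LF ⟶ F) [LF.IsLeftDerivedFunctor α W] (X : C)
    (h : IsIso (F.map (R.ψ.app X))) : IsIso (α.app X) := by
  haveI hd : (R.lder L).IsLeftDerivedFunctor (R.counit L) W := ⟨R.isRightKanExtension L⟩
  haveI := R.isIso_counit_app L X h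
  haveI : IsIso (LF.leftDerivedLift α W (R.lder L) (R.counit L)) :=
    (Functor.isLeftDerivedFunctor_iff_isIso_leftDerivedLift LF α W (R.lder L) (R.counit L)).1 hd
  have e := LF.leftDerived_fac_app α W (R.lder L) (R.counit L) X
  exact IsIso.of_isIso_fac_left e

/-- Any pair computed by the resolution is a left derived functor. -/
theorem Adapted.isLeftDerivedFunctor (G : D ⥤ H) (β : L ⋙ G ⟶ F) (h : ∀ X, IsIso (β.app (R.P.obj X))) :
    G.IsLeftDerivedFunctor β W := by
  haveI hd : (R.lder L).IsLeftDerivedFunctor (R.counit L) W := ⟨R.isRightKanExtension L⟩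
  rw [Functor.isLeftDerivedFunctor_iff_isIso_leftDerivedLift (R.lder L) (R.counit L) W G β]
  haveI := Localization.essSurj L W
  haveI : ∀ Y, IsIso (((R.lder L).leftDerivedLift (R.counit L) W G β).app Y) := fun Y => by
    let X := L.objPreimage Y
    haveI := Localization.inverts L W _ (R.hψ X)
    refine (NatTrans.isIso_app_iff_of_iso _ (asIso (L.map (R.ψ.app X)) ≪≫ L.objObjPreimageIso Y)).1 ?_
    haveI := h X
    haveI := R.isIso_counit_app L (R.P.obj X) (R.isIso_map X)
    exact IsIso.of_isIso_fac_right ((R.lder L).leftDerived_fac_app (R.counit L) W G β (R.P.obj X))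
  exact NatIso.isIso_of_isIso_app _

section Transfer

variable {K : Type u₄} [Category.{v₄} K] (T : C ⥤ K) {W' : MorphismProperty K} (L' : K ⥤ D)
  [L'.IsLocalization W'] [(T ⋙ L').IsLocalization W] [((Functor.whiskeringLeft C K H).obj T).Full]
  [((Functor.whiskeringLeft C K H).obj T).Faithful] {F' : K ⥤ H}

variable (W) in
/-- Left derived functors along `T ⋙ L'` are left derived functors along `L'`. -/
theorem isLeftDerivedFunctor_comp_iff (G : D ⥤ H) (ε : L' ⋙ G ⟶ F') :
    G.IsLeftDerivedFunctor ε W' ↔
      G.IsLeftDerivedFunctor (L := T ⋙ L') ((Functor.associator T L' G).hom ≫ Functor.whiskerLeft T ε) W := by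
  rw [Functor.isLeftDerivedFunctor_iff_isRightKanExtension, Functor.isLeftDerivedFunctor_iff_isRightKanExtension]
  let Ψ := (Functor.whiskeringLeft C K H).obj T
  let β := (Functor.associator T L' G).hom ≫ Functor.whiskerLeft T ε
  constructor
  · intro _
    refine ⟨⟨IsTerminal.ofUniqueHom (fun E => CostructuredArrow.homMk
      (G.liftOfIsRightKanExtension ε E.left (Ψ.preimage ((Functor.associator T L' E.left).inv ≫ E.hom))) ?_) ?_⟩⟩
    · ext X
      have := G.liftOfIsRightKanExtension_fac_app ε E.left
        (Ψ.preimage ((Functor.associator T L' E.left).inv ≫ E.hom)) (T.obj X)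
      have e := congr_app (Ψ.map_preimage ((Functor.associator T L' E.left).inv ≫ E.hom)) X
      refine (congr_arg (_ ≫ ·) (Category.id_comp _)).trans (this.trans (e.trans ?_))
      exact Category.id_comp _
    · intro E m
      apply CostructuredArrow.hom_ext
      refine G.hom_ext_of_isRightKanExtension ε _ _ (Ψ.map_injective ?_)
      ext X
      have := G.liftOfIsRightKanExtension_fac_app ε E.left
        (Ψ.preimage ((Functor.associator T L' E.left).inv ≫ E.hom)) (T.obj X)
      have e := congr_app (Ψ.map_preimage ((Functor.associator T L' E.left).inv ≫ E.hom)) X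
      have w := congr_app (CostructuredArrow.w m) X
      refine Eq.trans ?_ (this.trans (e.trans (Category.id_comp _))).symm
      exact (congr_arg (m.left.app (L'.obj (T.obj X)) ≫ ·) (Category.id_comp _).symm).trans w
  · intro hK
    refine ⟨⟨IsTerminal.ofUniqueHom (fun E => CostructuredArrow.homMk
      (G.liftOfIsRightKanExtension β E.left ((Functor.associator T L' E.left).hom ≫ Functor.whiskerLeft T E.hom)) ?_) ?_⟩⟩
    · refine Ψ.map_injective ?_
      ext X
      have := G.liftOfIsRightKanExtension_fac_app β E.left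
        ((Functor.associator T L' E.left).hom ≫ Functor.whiskerLeft T E.hom) X
      refine Eq.trans ?_ (this.trans (Category.id_comp _))
      exact congr_arg (_ ≫ ·) (Category.id_comp _).symm
    · intro E m
      apply CostructuredArrow.hom_ext
      refine G.hom_ext_of_isRightKanExtension β _ _ ?_
      ext X
      have := G.liftOfIsRightKanExtension_fac_app β E.left
        ((Functor.associator T L' E.left).hom ≫ Functor.whiskerLeft T E.hom) X
      refine Eq.trans ?_ this.symm
      refine Eq.trans ?_ (Category.id_comp _).symm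
      refine Eq.trans ?_ (congr_app (CostructuredArrow.w m) (T.obj X))
      exact congr_arg (_ ≫ ·) (Category.id_comp _)

/-- Existence of left derived functors along `L'` from an adapted resolution before `T`. -/
theorem Adapted.hasLeftDerivedFunctor_of_comp (R : Adapted W (T ⋙ F')) (L' : K ⥤ D) [L'.IsLocalization W']
    [(T ⋙ L').IsLocalization W] : F'.HasLeftDerivedFunctor W' := by
  let Ψ := (Functor.whiskeringLeft C K H).obj T
  let G := R.lder (T ⋙ L')
  let ε : L' ⋙ G ⟶ F' := Ψ.preimage ((Functor.associator T L' G).inv ≫ R.counit (T ⋙ L'))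
  have he : (Functor.associator T L' G).hom ≫ Functor.whiskerLeft T ε = R.counit (T ⋙ L') := by
    rw [show Functor.whiskerLeft T ε = Ψ.map ε from rfl, Ψ.map_preimage, Iso.hom_inv_id_assoc]
  haveI : G.IsLeftDerivedFunctor ε W' := by
    rw [isLeftDerivedFunctor_comp_iff W T L', he]
    exact ⟨R.isRightKanExtension (T ⋙ L')⟩
  exact Functor.HasLeftDerivedFunctor.mk' (LF := G) (α := ε)

/-- The computation of left derived functors along `L'` from an adapted resolution before `T`. -/
theorem Adapted.isIso_app_of_comp (R : Adapted W (T ⋙ F')) (LF : D ⥤ H) (α : L' ⋙ LF ⟶ F')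
    [LF.IsLeftDerivedFunctor α W'] (X : C) (h : IsIso (F'.map (T.map (R.ψ.app X)))) :
    IsIso (α.app (T.obj X)) := by
  haveI := (isLeftDerivedFunctor_comp_iff (W' := W') W T L' LF α).1 inferInstance
  have := R.isIso_app (T ⋙ L') LF ((Functor.associator T L' LF).hom ≫ Functor.whiskerLeft T α) X h
  rw [NatTrans.comp_app, Functor.associator_hom_app, Functor.whiskerLeft_app] at this
  exact @IsIso.of_isIso_comp_left _ _ _ _ _ (𝟙 ((T ⋙ L' ⋙ LF).obj X)) (α.app (T.obj X)) inferInstance this

/-- Recognition of left derived functors along `L'`. -/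
theorem Adapted.isLeftDerivedFunctor_of_comp (R : Adapted W (T ⋙ F')) (G : D ⥤ H) (ε : L' ⋙ G ⟶ F')
    (h : ∀ X, IsIso (ε.app (T.obj (R.P.obj X)))) : G.IsLeftDerivedFunctor ε W' := by
  rw [isLeftDerivedFunctor_comp_iff W T L']
  refine R.isLeftDerivedFunctor (T ⋙ L') G _ fun X => ?_
  rw [NatTrans.comp_app, Functor.associator_hom_app, Functor.whiskerLeft_app]
  exact IsIso.comp_isIso' (inferInstance : IsIso (𝟙 _)) (h X)

end Transfer

end Groth.Agent.DCohLib
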