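import Groth.Agent.DCohLib.Symm
import Groth.Agent.DCohLib.LeftDer
import Groth.Agent.DCohLib.Bridge

/-!
# The derived tensor product of complexes of modules on a scheme
-/

set_option autoImplicit false
set_option linter.style.haveILetI false

universe u

open CategoryTheory Limits AlgebraicGeometry

attribute [local instance] HasDerivedCategory.standard

noncomputable section

namespace Groth.Agent.DCohLib

open DCoh

variable {X : Scheme.{u}}

/-- The functorial K-flat resolution on a scheme. -/
abbrev resX (X : Scheme.{u}) : CochainComplex X.Modules ℤ ⥤ CochainComplex X.Modules ℤ := resF X.sheaf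

/-- The map from the resolution. -/
abbrev resXπ (X : Scheme.{u}) : resX X ⟶ 𝟭 (CochainComplex X.Modules ℤ) := resFπ X.sheaf

theorem quasiIso_resXπ (K : CochainComplex X.Modules ℤ) : QuasiIso ((resXπ X).app K) :=
  quasiIso_resFπ X.sheaf K

theorem isKFlat_resX (K : CochainComplex X.Modules ℤ) : DCoh.IsKFlat ((resX X).obj K) :=
  (isKFlat_iff _).2 (isKFlat_resF X.sheaf K)

theorem isFlat_resX (K : CochainComplex X.Modules ℤ) (n : ℤ) : FlatMod.IsFlat (((resX X).obj K).X n) :=
  (isFlat_iff _).2 (isFlat_resF X.sheaf K n)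

theorem quasiIso_resX_map {K L : CochainComplex X.Modules ℤ} (f : K ⟶ L) (hf : QuasiIso f) :
    QuasiIso ((resX X).map f) := by
  haveI := hf
  haveI := quasiIso_resXπ K
  haveI := quasiIso_resXπ L
  haveI : QuasiIso ((resX X).map f ≫ (resXπ X).app L) := by
    rw [(resXπ X).naturality f]
    exact inferInstanceAs (QuasiIso ((resXπ X).app K ≫ f))
  exact quasiIso_of_comp_right _ ((resXπ X).app L)

theorem isIso_tensorCxQ_map {P Q : CochainComplex X.Modules ℤ} (α : P ⟶ Q) (hα : QuasiIso α)
    (hP : DCoh.IsKFlat P) (hQ : DCoh.IsKFlat Q) (E : CochainComplex X.Modules ℤ) :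
    IsIso ((tensorCxQ E).map α) := by
  haveI := hα
  haveI h : QuasiIso ((DCoh.tensorCx.map α).app E) :=
    @quasiIso_tensor_left _ _ _ X.sheaf P Q α hα ((isKFlat_iff P).1 hP) ((isKFlat_iff Q).1 hQ) E
  exact Localization.inverts DerivedCategory.Q (HomologicalComplex.quasiIso X.Modules (ComplexShape.up ℤ)) _
    ((HomologicalComplex.mem_quasiIso_iff _).2 h)

/-- The resolution adapted to `- ⊗ E`. -/
def tensorAdapted (E : CochainComplex X.Modules ℤ) :
    Adapted (HomologicalComplex.quasiIso X.Modules (ComplexShape.up ℤ)) (tensorCxQ E) where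
  P := resX X
  ψ := resXπ X
  hψ K := (HomologicalComplex.mem_quasiIso_iff _).2 (quasiIso_resXπ K)
  inverts K L f hf := isIso_tensorCxQ_map _ (quasiIso_resX_map f ((HomologicalComplex.mem_quasiIso_iff _).1 hf))
    (isKFlat_resX K) (isKFlat_resX L) E
  isIso_map K := isIso_tensorCxQ_map _ (quasiIso_resXπ _) (isKFlat_resX _) (isKFlat_resX _) E

instance hasLTensorCx (E : CochainComplex X.Modules ℤ) : DCoh.HasLTensorCx E :=
  (tensorAdapted E).hasLeftDerivedFunctor DerivedCategory.Q

/-- The comparison map `Q P ⊗^L E ⟶ Q (P ⊗ E)`. -/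
abbrev lTensorCounit (E : CochainComplex X.Modules ℤ) [DCoh.HasLTensorCx E] :
    DerivedCategory.Q ⋙ DCoh.LTensorCx E ⟶ tensorCxQ E :=
  (tensorCxQ E).totalLeftDerivedCounit DerivedCategory.Q (HomologicalComplex.quasiIso X.Modules (ComplexShape.up ℤ))

theorem isIso_lTensorCounit_app (E : CochainComplex X.Modules ℤ) [DCoh.HasLTensorCx E]
    (K : CochainComplex X.Modules ℤ) (hK : DCoh.IsKFlat K) : IsIso ((lTensorCounit E).app K) :=
  (tensorAdapted E).isIso_app DerivedCategory.Q (DCoh.LTensorCx E) (lTensorCounit E) K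
    (isIso_tensorCxQ_map _ (quasiIso_resXπ K) (isKFlat_resX K) hK E)

theorem isIso_lTensorCounit_app_of_isKFlat (E : CochainComplex X.Modules ℤ) (hE : DCoh.IsKFlat E)
    [DCoh.HasLTensorCx E] (K : CochainComplex X.Modules ℤ) : IsIso ((lTensorCounit E).app K) := by
  refine (tensorAdapted E).isIso_app DerivedCategory.Q (DCoh.LTensorCx E) (lTensorCounit E) K ?_
  haveI := quasiIso_resXπ K
  haveI h : QuasiIso ((DCoh.tensorCx.map ((resXπ X).app K)).app E) :=
    @Groth.Agent.KFlat.quasiIso_tensor_of_isKFlat_right _ _ _ X.sheaf E ((isKFlat_iff E).1 hE) _ _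
      ((resXπ X).app K) (quasiIso_resXπ K)
  exact Localization.inverts DerivedCategory.Q (HomologicalComplex.quasiIso X.Modules (ComplexShape.up ℤ)) _
    ((HomologicalComplex.mem_quasiIso_iff _).2 h)

end Groth.Agent.DCohLib
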