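import Groth.Agent.DCohLib.FlatCycles
import Groth.Agent.DCohLib.TensorDer
import Groth.Agent.PullbackMod.Hom
import Groth.Agent.KFlat.Module

/-!
# Inverse images of short exact sequences with flat cokernel
-/

set_option autoImplicit false
set_option linter.style.haveILetI false

universe u

open CategoryTheory Limits AlgebraicGeometry

attribute [local instance] HasDerivedCategory.standard

noncomputable section

namespace Groth.Agent.DCohLib

open Groth.Agent.PullbackMod

variable {X : Scheme.{u}}

theorem exact_stalkLin (S : ShortComplex X.Modules) (hS : S.Exact) [Epi S.g] (x : X) :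
    Function.Exact (stalkLin S.f x) (stalkLin S.g x) := by
  refine fun z => ⟨fun hz => ?_, ?_⟩
  · let l := Submodule.mkQ (LinearMap.range (stalkLin S.f x))
    have h0 : S.f ≫ toSky l = 0 := by
      refine Scheme.Modules.hom_ext _ _ fun U => ?_
      refine AddCommGrpCat.hom_ext (AddMonoidHom.ext fun m => ?_)
      funext hx
      show l (S.X₂.presheaf.germ U x hx.down (S.f.app U m)) = 0
      rw [← stalkLin_germ]
      exact (Submodule.Quotient.mk_eq_zero _).mpr ⟨_, rfl⟩
    let ψ := hS.desc (toSky l) h0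
    have hψ : (ofSky ψ) (stalkLin S.g x z) = l z := by
      obtain ⟨U, hx, m, rfl⟩ := TopCat.Presheaf.exists_germ_eq S.X₂.presheaf z
      rw [stalkLin_germ, ofSky_germ]
      show (show SkyObj x _ U from (S.g ≫ ψ).app U m) ⟨hx⟩ = _
      rw [show S.g ≫ ψ = toSky l from hS.g_desc _ h0]
      rfl
    rw [hz, map_zero] at hψ
    exact (Submodule.Quotient.mk_eq_zero _).mp hψ.symm
  · rintro ⟨w, rfl⟩
    rw [← LinearMap.comp_apply, ← stalkLin_comp, S.zero, (eq_zero_iff_stalk (0 : S.X₁ ⟶ S.X₃)).mp rfl x]
    rfl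

variable {Y : Scheme.{u}} (f : Y ⟶ X)

/-- The inverse image of a short exact sequence with flat cokernel is short exact. -/
theorem shortExact_pullback_of_isFlat (S : ShortComplex X.Modules) (hS : S.ShortExact)
    (h₃ : FlatMod.IsFlat S.X₃) : (S.map (Scheme.Modules.pullback f)).ShortExact := by
  haveI := hS.epi_g
  haveI := hS.mono_f
  haveI : Mono ((Scheme.Modules.pullback f).map S.f) := by
    refine (mono_iff_stalk _).mpr fun y => (injective_stalk_pullback_iff f S.f y).mpr ?_
    letI := (f.stalkMap y).hom.toAlgebra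
    haveI : Module.Flat (X.presheaf.stalk (f y)) (S.X₃.presheaf.stalk (f y)) := h₃ (f y)
    exact Groth.Agent.KFlat.lTensor_injective_of_flat_cokernel (stalkLin S.f (f y)) (stalkLin S.g (f y))
      ((mono_iff_stalk S.f).mp inferInstance _) (exact_stalkLin S hS.exact (f y))
      ((epi_iff_stalk S.g).mp inferInstance _) (Y.presheaf.stalk y)
  exact { exact := hS.exact.map_of_epi_of_preservesCokernel (Scheme.Modules.pullback f) hS.epi_g inferInstance
          mono_f := inferInstanceAs (Mono ((Scheme.Modules.pullback f).map S.f))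
          epi_g := inferInstanceAs (Epi ((Scheme.Modules.pullback f).map S.g)) }

theorem acyclic_pullback {K : CochainComplex X.Modules ℤ} (hac : K.Acyclic) (hK : DCoh.IsKFlat K)
    (hfl : ∀ i, FlatMod.IsFlat (K.X i)) :
    (((Scheme.Modules.pullback f).mapHomologicalComplex (ComplexShape.up ℤ)).obj K).Acyclic :=
  acyclic_map_of_cycles K _ fun i j hij =>
    shortExact_pullback_of_isFlat f _ (shortExact_cyclesSeqZ K hac i j hij)
      ((isFlat_iff _).2 (isFlat_cycles_of_isKFlatFor X.sheaf hac
        ((Groth.Agent.KFlat.isKFlat_iff X.sheaf K).1 ((isKFlat_iff K).1 hK))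
        (fun k => (isFlat_iff _).1 (hfl k)) j))

/-- Inverse images preserve quasi-isomorphisms of K-flat complexes with flat terms. -/
theorem quasiIso_pullback_map {P Q : CochainComplex X.Modules ℤ} (α : P ⟶ Q) (hα : QuasiIso α)
    (hP : DCoh.IsKFlat P) (hQ : DCoh.IsKFlat Q) (hP' : ∀ i, FlatMod.IsFlat (P.X i))
    (hQ' : ∀ i, FlatMod.IsFlat (Q.X i)) :
    QuasiIso (((Scheme.Modules.pullback f).mapHomologicalComplex (ComplexShape.up ℤ)).map α) := by
  haveI := hα
  refine Groth.Agent.KFlat.quasiIso_of_acyclic_cone _ fun n => ?_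
  refine HomologicalComplex.ExactAt.of_iso ?_ (CochainComplex.mappingCone.mapHomologicalComplexIso α _)
  exact acyclic_pullback f (Groth.Agent.KFlat.acyclic_cone_of_quasiIso α)
    ((Groth.Agent.KFlat.twoOfThree_cone X.sheaf α).1 hP hQ)
    (fun i => (isFlat_iff _).2 ((Groth.Agent.KFlat.flatClassMod X.sheaf).cone α
      (fun k => (isFlat_iff _).1 (hP' k)) (fun k => (isFlat_iff _).1 (hQ' k)) i)) n

/-- The comparison functor for the derived inverse image. -/
abbrev quotPullKh : CochainComplex X.Modules ℤ ⥤ DCoh.D Y :=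
  HomotopyCategory.quotient X.Modules (ComplexShape.up ℤ) ⋙ DCoh.pullKh f

theorem isIso_quotPullKh_map {P Q : CochainComplex X.Modules ℤ} (α : P ⟶ Q) (hα : QuasiIso α)
    (hP : DCoh.IsKFlat P) (hQ : DCoh.IsKFlat Q) (hP' : ∀ i, FlatMod.IsFlat (P.X i))
    (hQ' : ∀ i, FlatMod.IsFlat (Q.X i)) : IsIso ((quotPullKh f).map α) := by
  haveI := quasiIso_pullback_map f α hα hP hQ hP' hQ'
  exact Localization.inverts DerivedCategory.Qh (HomotopyCategory.quasiIso Y.Modules (ComplexShape.up ℤ)) _
    ((HomotopyCategory.quotient_map_mem_quasiIso_iff _).2 ((HomologicalComplex.mem_quasiIso_iff _).2 this))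

/-- The resolution adapted to inverse images. -/
def pullAdapted : Adapted (HomologicalComplex.quasiIso X.Modules (ComplexShape.up ℤ)) (quotPullKh f) where
  P := resX X
  ψ := resXπ X
  hψ K := (HomologicalComplex.mem_quasiIso_iff _).2 (quasiIso_resXπ K)
  inverts K L g hg := isIso_quotPullKh_map f _ (quasiIso_resX_map g ((HomologicalComplex.mem_quasiIso_iff _).1 hg))
    (isKFlat_resX K) (isKFlat_resX L) (isFlat_resX K) (isFlat_resX L)
  isIso_map K := isIso_quotPullKh_map f _ (quasiIso_resXπ _) (isKFlat_resX _) (isKFlat_resX _)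
    (isFlat_resX _) (isFlat_resX _)

instance isLocalization_quotient_Qh (X : Scheme.{u}) :
    (HomotopyCategory.quotient X.Modules (ComplexShape.up ℤ) ⋙ DerivedCategory.Qh).IsLocalization
      (HomologicalComplex.quasiIso X.Modules (ComplexShape.up ℤ)) :=
  Functor.IsLocalization.of_iso _ (DerivedCategory.quotientCompQhIso X.Modules).symm

instance hasLpull (f : Y ⟶ X) : DCoh.HasLpull f :=
  (pullAdapted f).hasLeftDerivedFunctor_of_comp (HomotopyCategory.quotient X.Modules (ComplexShape.up ℤ))
    DerivedCategory.Qh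

/-- The comparison `Lf^* (Q P) ⟶ Q (f^* P)`. -/
abbrev lpullCounit [DCoh.HasLpull f] : DerivedCategory.Qh ⋙ DCoh.Lpull f ⟶ DCoh.pullKh f :=
  (DCoh.pullKh f).totalLeftDerivedCounit DerivedCategory.Qh (HomotopyCategory.quasiIso X.Modules (ComplexShape.up ℤ))

theorem isIso_lpullCounit_app [DCoh.HasLpull f] (K : CochainComplex X.Modules ℤ) (hK : DCoh.IsKFlat K)
    (hfl : ∀ i, FlatMod.IsFlat (K.X i)) :
    IsIso ((lpullCounit f).app ((HomotopyCategory.quotient X.Modules (ComplexShape.up ℤ)).obj K)) :=
  (pullAdapted f).isIso_app_of_comp (W' := HomotopyCategory.quasiIso X.Modules (ComplexShape.up ℤ))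
    (HomotopyCategory.quotient X.Modules (ComplexShape.up ℤ))
    DerivedCategory.Qh (DCoh.Lpull f) (lpullCounit f) K
    (isIso_quotPullKh_map f _ (quasiIso_resXπ K) (isKFlat_resX K) hK (isFlat_resX K) hfl)

end Groth.Agent.DCohLib
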