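import Groth.Agent.DCohLib.PullComp
import Groth.Agent.KInj.DerivedAdj
import Groth.Agent.KInj.Instances
import Groth.Agent.S0484

/-!
# The adjunction between derived inverse and direct images
-/

set_option autoImplicit false
set_option linter.style.haveILetI false

universe u v₁ v₂ v₃ v₄ u₁ u₂ u₃ u₄

open CategoryTheory Limits AlgebraicGeometry TopologicalSpace

attribute [local instance] HasDerivedCategory.standard

noncomputable section

namespace Groth.Agent.DCohLib

section

variable {C : Type u₁} [Category.{v₁} C] {K : Type u₂} [Category.{v₂} K] {H : Type u₃} [Category.{v₃} H]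
  {H' : Type u₄} [Category.{v₄} H'] {W : MorphismProperty C} {T : C ⥤ K} {F : K ⥤ H}

/-- An adapted resolution stays adapted after postcomposition. -/
def Adapted.postcomp (R : Adapted W (T ⋙ F)) (Ψ : H ⥤ H') : Adapted W (T ⋙ F ⋙ Ψ) where
  P := R.P
  ψ := R.ψ
  hψ := R.hψ
  inverts X Y f hf := @Functor.map_isIso _ _ _ _ _ _ Ψ _ (R.inverts f hf)
  isIso_map X := @Functor.map_isIso _ _ _ _ _ _ Ψ _ (R.isIso_map X)

end

variable {X Y : Scheme.{u}} (f : X ⟶ Y)

instance isGrothendieckAbelian_modules (X : Scheme.{u}) : IsGrothendieckAbelian.{u} X.Modules :=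
  Groth.Agent.S0484.result (Opens.grothendieckTopology X.toTopCat) X.ringCatSheaf

theorem hres_modules (X : Scheme.{u}) : ∀ K : CochainComplex X.Modules ℤ,
    ∃ (I : CochainComplex X.Modules ℤ) (φ : K ⟶ I), I.IsKInjective ∧ QuasiIso φ :=
  Groth.Agent.KInj.hres_of_isGrothendieckAbelian X.Modules

/-- The comparison `Qh ∘ f_* ⟶ Rf_* ∘ Qh`. -/
abbrev rpushUnit [DCoh.HasRpush f] : DCoh.pushKh f ⟶ DerivedCategory.Qh ⋙ DCoh.Rpush f :=
  (DCoh.pushKh f).totalRightDerivedUnit DerivedCategory.Qh (HomotopyCategory.quasiIso X.Modules (ComplexShape.up ℤ))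

theorem isIso_rpushUnit_app [DCoh.HasRpush f] (I : CochainComplex X.Modules ℤ) [I.IsKInjective] :
    IsIso ((rpushUnit f).app ((HomotopyCategory.quotient X.Modules (ComplexShape.up ℤ)).obj I)) :=
  Groth.Agent.KInj.isIso_app_of_isKInjective (hres_modules X) _ _ (rpushUnit f) I

/-- `Lf^*` is left adjoint to `Rf_*`. -/
def lpullRpushAdj [DCoh.HasLpull f] [DCoh.HasRpush f] : DCoh.Lpull f ⊣ DCoh.Rpush f := by
  haveI : (DCoh.Lpull f ⋙ DCoh.Rpush f).IsLeftDerivedFunctor
      ((Functor.associator _ _ _).inv ≫ Functor.whiskerRight (lpullCounit f) (DCoh.Rpush f))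
      (HomotopyCategory.quasiIso Y.Modules (ComplexShape.up ℤ)) :=
    ((pullAdapted f).postcomp (DCoh.Rpush f)).isLeftDerivedFunctor_of_comp
      (HomotopyCategory.quotient Y.Modules (ComplexShape.up ℤ)) DerivedCategory.Qh _ _ fun K => by
      simp only [NatTrans.comp_app, Functor.associator_inv_app, Functor.whiskerRight_app]
      exact IsIso.comp_isIso' (inferInstance : IsIso (𝟙 _))
        (@Functor.map_isIso _ _ _ _ _ _ (DCoh.Rpush f) _
          (isIso_lpullCounit_app f _ (isKFlat_resX K) (isFlat_resX K)))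
  haveI : (DCoh.Rpush f ⋙ DCoh.Lpull f).IsRightDerivedFunctor
      (Functor.whiskerRight (rpushUnit f) (DCoh.Lpull f) ≫ (Functor.associator _ _ _).hom)
      (HomotopyCategory.quasiIso X.Modules (ComplexShape.up ℤ)) :=
    Groth.Agent.KInj.isRightDerivedFunctor_of_isIso_h (hres_modules X) _ _ fun I hI => by
      haveI := hI
      haveI := isIso_rpushUnit_app f I
      simp only [NatTrans.comp_app, Functor.associator_hom_app, Functor.whiskerRight_app]
      infer_instance
  exact (Groth.Agent.KInj.homotopyAdjunction (Scheme.Modules.pullbackPushforwardAdjunction f)).derived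
    (HomotopyCategory.quasiIso Y.Modules (ComplexShape.up ℤ)) (HomotopyCategory.quasiIso X.Modules (ComplexShape.up ℤ))
    (lpullCounit f) (rpushUnit f)

/-- Derived direct images compose. -/
theorem nonempty_rpushCompIso {Z : Scheme.{u}} (g : Y ⟶ Z) [DCoh.HasRpush f] [DCoh.HasRpush g]
    [DCoh.HasRpush (f ≫ g)] : Nonempty (DCoh.Rpush f ⋙ DCoh.Rpush g ≅ DCoh.Rpush (f ≫ g)) := by
  obtain ⟨e⟩ := nonempty_lpullCompIso f g
  exact ⟨(((lpullRpushAdj g).comp (lpullRpushAdj f)).ofNatIsoLeft e).rightAdjointUniq (lpullRpushAdj (f ≫ g))⟩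

end Groth.Agent.DCohLib
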