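import Groth.Agent.DCohLib.TensorDer
import Groth.Agent.DCohLib.Assoc

/-!
# Composition of derived tensor products
-/

set_option autoImplicit false
set_option linter.style.haveILetI false

universe u

open CategoryTheory Limits AlgebraicGeometry

attribute [local instance] HasDerivedCategory.standard

noncomputable section

namespace Groth.Agent.DCohLib

open DCoh

variable {X : Scheme.{u}} (K L : CochainComplex X.Modules ℤ)

/-- Associativity on schemes, as an isomorphism of functors in the first variable. -/
def assocNat : (DCoh.tensorCx (X := X)).flip.obj K ⋙ DCoh.tensorCx.flip.obj L ≅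
    DCoh.tensorCx.flip.obj ((DCoh.tensorCx.obj K).obj L) :=
  NatIso.ofComponents (fun A => assocCx X.sheaf A K L) fun φ => assocCx_natural X.sheaf K L φ

/-- The counit of the composite derived tensor product. -/
def lTensorCompCounit [HasLTensorCx K] [HasLTensorCx L] :
    DerivedCategory.Q ⋙ LTensorCx K ⋙ LTensorCx L ⟶ tensorCxQ ((DCoh.tensorCx.obj K).obj L) :=
  (Functor.associator _ _ _).inv ≫ Functor.whiskerRight (lTensorCounit K) (LTensorCx L) ≫
    (Functor.associator _ _ _).hom ≫
      Functor.whiskerLeft ((DCoh.tensorCx (X := X)).flip.obj K) (lTensorCounit L) ≫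
        (Functor.associator _ _ _).inv ≫
          Functor.whiskerRight (assocNat K L).hom DerivedCategory.Q

/-- Derived tensor products compose when the second factor is K-flat. -/
theorem nonempty_lTensorCompIso (hL : DCoh.IsKFlat L) [HasLTensorCx K] [HasLTensorCx L]
    [HasLTensorCx ((DCoh.tensorCx.obj K).obj L)] :
    Nonempty (LTensorCx K ⋙ LTensorCx L ≅ LTensorCx ((DCoh.tensorCx.obj K).obj L)) := by
  haveI : (LTensorCx K ⋙ LTensorCx L).IsLeftDerivedFunctor (lTensorCompCounit K L)
      (HomologicalComplex.quasiIso X.Modules (ComplexShape.up ℤ)) := by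
    refine (tensorAdapted ((DCoh.tensorCx.obj K).obj L)).isLeftDerivedFunctor DerivedCategory.Q _ _ fun A => ?_
    simp only [lTensorCompCounit, NatTrans.comp_app, Functor.associator_inv_app, Functor.associator_hom_app,
      Functor.whiskerRight_app, Functor.whiskerLeft_app]
    have h1 : IsIso ((lTensorCounit K).app ((tensorAdapted ((DCoh.tensorCx.obj K).obj L)).P.obj A)) :=
      isIso_lTensorCounit_app K _ (isKFlat_resX A)
    exact IsIso.comp_isIso' (inferInstance : IsIso (𝟙 _))
      (IsIso.comp_isIso' (@Functor.map_isIso _ _ _ _ _ _ (LTensorCx L) _ h1)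
        (IsIso.comp_isIso' (inferInstance : IsIso (𝟙 _))
          (IsIso.comp_isIso' (isIso_lTensorCounit_app_of_isKFlat L hL _)
            (IsIso.comp_isIso' (inferInstance : IsIso (𝟙 _)) (DerivedCategory.Q.map_isIso _)))))
  exact ⟨Functor.leftDerivedUnique (LTensorCx ((DCoh.tensorCx.obj K).obj L)) (LTensorCx K ⋙ LTensorCx L)
    (lTensorCompCounit K L) (lTensorCounit ((DCoh.tensorCx.obj K).obj L))
    (HomologicalComplex.quasiIso X.Modules (ComplexShape.up ℤ))⟩

/-- Derived internal Homs compose. -/
theorem nonempty_rSheafHomCompIso (hL : DCoh.IsKFlat L) [HasLTensorCx K] [HasRSheafHom K] [HasLTensorCx L]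
    [HasRSheafHom L] [HasLTensorCx ((DCoh.tensorCx.obj K).obj L)] [HasRSheafHom ((DCoh.tensorCx.obj K).obj L)] :
    Nonempty (RSheafHom ((DCoh.tensorCx.obj K).obj L) ≅ RSheafHom L ⋙ RSheafHom K) := by
  obtain ⟨e⟩ := nonempty_lTensorCompIso K L hL
  exact ⟨(RSheafHomAdj ((DCoh.tensorCx.obj K).obj L)).rightAdjointUniq
    (((RSheafHomAdj K).comp (RSheafHomAdj L)).ofNatIsoLeft e)⟩

end Groth.Agent.DCohLib
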