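import Groth.Agent.DCohLib.PullQis
import Groth.Agent.DCohLib.TensorPull
import Groth.Agent.DCohLib.TensorComp

/-!
# Derived inverse images of derived tensor products
-/

set_option autoImplicit false
set_option linter.style.haveILetI false

universe u

open CategoryTheory CategoryTheory.Limits AlgebraicGeometry

attribute [local instance] HasDerivedCategory.standard

noncomputable section

namespace Groth.Agent.DCohLib

variable {X Y : Scheme.{u}}

/-- The tensor product of K-flat complexes is K-flat. -/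
theorem isKFlat_tensorCx {K L : CochainComplex X.Modules ℤ} (hK : DCoh.IsKFlat K) (hL : DCoh.IsKFlat L) :
    DCoh.IsKFlat ((DCoh.tensorCx.obj K).obj L) := fun A hA i =>
  (hL _ (hK A hA) i).of_iso ((HomologicalComplex.homologyFunctor _ _ i).mapIso (assocCx X.sheaf A K L).symm)

/-- The derived tensor product computed on a K-flat first factor. -/
def lTensorIso (E : CochainComplex X.Modules ℤ) [DCoh.HasLTensorCx E] (P : CochainComplex X.Modules ℤ)
    (hP : DCoh.IsKFlat P) :
    (DCoh.LTensorCx E).obj (DerivedCategory.Q.obj P) ≅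
      DerivedCategory.Q.obj ((DCoh.tensorCx.obj P).obj E) :=
  @asIso _ _ _ _ _ (isIso_lTensorCounit_app E P hP)

variable (f : X ⟶ Y) [DCoh.HasLpull f]

/-- A K-flat representative computes the derived inverse image. -/
def lpullIsoK (K : CochainComplex Y.Modules ℤ) (hK : DCoh.IsKFlat K) :
    (DCoh.Lpull f).obj (DerivedCategory.Q.obj K) ≅ DerivedCategory.Q.obj ((pullCx f).obj K) :=
  (DCoh.Lpull f).mapIso ((DerivedCategory.quotientCompQhIso Y.Modules).symm.app K) ≪≫
    @asIso _ _ _ _ _ (isIso_lpullCounit_app_of_isKFlat f K hK) ≪≫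
    DerivedCategory.Qh.mapIso (((Scheme.Modules.pullback f).mapHomotopyCategoryFactors (ComplexShape.up ℤ)).app K) ≪≫
    (DerivedCategory.quotientCompQhIso X.Modules).app _

/-- Derived inverse images commute with derived tensor products. -/
theorem nonempty_lpull_lTensor (L : CochainComplex Y.Modules ℤ) (hL : DCoh.IsKFlat L) [DCoh.HasLTensorCx L]
    [DCoh.HasLTensorCx ((pullCx f).obj L)] (K : DCoh.D Y) :
    Nonempty ((DCoh.Lpull f).obj ((DCoh.LTensorCx L).obj K) ≅
      (DCoh.LTensorCx ((pullCx f).obj L)).obj ((DCoh.Lpull f).obj K)) := by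
  obtain ⟨K, ⟨eK⟩⟩ : ∃ K₀ : CochainComplex Y.Modules ℤ, Nonempty (DerivedCategory.Q.obj K₀ ≅ K) :=
    ⟨DerivedCategory.Q.objPreimage K, ⟨DerivedCategory.Q.objObjPreimageIso K⟩⟩
  let P := (resX Y).obj K
  have hP : DCoh.IsKFlat P := isKFlat_resX K
  haveI := quasiIso_resXπ K
  let eP : DerivedCategory.Q.obj P ≅ _ :=
    (asIso (DerivedCategory.Q.map ((resXπ Y).app K))) ≪≫ eK
  exact ⟨(DCoh.Lpull f).mapIso ((DCoh.LTensorCx L).mapIso eP.symm ≪≫ lTensorIso L P hP) ≪≫
    lpullIsoK f _ (isKFlat_tensorCx hP hL) ≪≫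
    DerivedCategory.Q.mapIso (pullTensorCxIso f P L) ≪≫
    (lTensorIso ((pullCx f).obj L) _ (isKFlat_pullback f hP)).symm ≪≫
    (DCoh.LTensorCx ((pullCx f).obj L)).mapIso ((lpullIsoK f P hP).symm ≪≫ (DCoh.Lpull f).mapIso eP)⟩

end Groth.Agent.DCohLib
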