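import Groth.Agent.DCohLib.ClosedPush
import Groth.Agent.DCohLib.LpullTensor
import Groth.Agent.DCohLib.Adjoint

/-!
# The projection formula for closed immersions
-/

set_option autoImplicit false
set_option linter.style.haveILetI false

universe u

open CategoryTheory CategoryTheory.Limits AlgebraicGeometry TopologicalSpace

attribute [local instance] HasDerivedCategory.standard

noncomputable section

namespace Groth.Agent.DCohLib

variable {X Y : Scheme.{u}} (i : X ⟶ Y) [IsClosedImmersion i]

/-- The projection formula for a closed immersion, on modules. -/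
def projIso (M : X.Modules) (N : Y.Modules) :
    tmod ((Scheme.Modules.pushforward i).obj M) N ≅
      (Scheme.Modules.pushforward i).obj (tmod M ((Scheme.Modules.pullback i).obj N)) :=
  haveI := isIso_unit_of_suppOn i (suppOn_tensor i (suppOn_pushforward i M) N)
  haveI := isIso_counit_closedImmersion i M
  asIso ((Scheme.Modules.pullbackPushforwardAdjunction i).unit.app
      (tmod ((Scheme.Modules.pushforward i).obj M) N)) ≪≫
    (Scheme.Modules.pushforward i).mapIso
      (((pullTensorBiIsoSch i).app ((Scheme.Modules.pushforward i).obj M)).app N ≪≫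
        ((DCoh.tensorBi (X := X)).mapIso
          (asIso ((Scheme.Modules.pullbackPushforwardAdjunction i).counit.app M))).app _)

theorem projIso_hom (M : X.Modules) (N : Y.Modules) : (projIso i M N).hom =
    (Scheme.Modules.pullbackPushforwardAdjunction i).unit.app (tmod ((Scheme.Modules.pushforward i).obj M) N) ≫
      (Scheme.Modules.pushforward i).map
        (((pullTensorBiIsoSch i).hom.app ((Scheme.Modules.pushforward i).obj M)).app N ≫
          ((DCoh.tensorBi (X := X)).map
            ((Scheme.Modules.pullbackPushforwardAdjunction i).counit.app M)).app _) := rfl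

theorem projIso_natural_right (M : X.Modules) {N N' : Y.Modules} (g : N ⟶ N') :
    ((DCoh.tensorBi (X := Y)).obj ((Scheme.Modules.pushforward i).obj M)).map g ≫ (projIso i M N').hom =
      (projIso i M N).hom ≫ (Scheme.Modules.pushforward i).map
        (((DCoh.tensorBi (X := X)).obj M).map ((Scheme.Modules.pullback i).map g)) := by
  rw [projIso_hom, projIso_hom, Category.assoc, ← Functor.map_comp]
  have h1 := (Scheme.Modules.pullbackPushforwardAdjunction i).unit.naturality
    (((DCoh.tensorBi (X := Y)).obj ((Scheme.Modules.pushforward i).obj M)).map g)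
  refine ((Category.assoc _ _ _).symm.trans (congrArg (· ≫ _) h1)).trans ((Category.assoc _ _ _).trans ?_)
  refine congrArg (_ ≫ ·) (((Scheme.Modules.pushforward i).map_comp _ _).symm.trans
    (congrArg (Scheme.Modules.pushforward i).map ?_))
  have h2 := ((pullTensorBiIsoSch i).hom.app ((Scheme.Modules.pushforward i).obj M)).naturality g
  refine ((Category.assoc _ _ _).symm.trans (congrArg (· ≫ _) h2)).trans ((Category.assoc _ _ _).trans ?_)
  refine Eq.trans ?_ (Category.assoc _ _ _).symm
  exact congrArg (_ ≫ ·) (((DCoh.tensorBi (X := X)).map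
    ((Scheme.Modules.pullbackPushforwardAdjunction i).counit.app M)).naturality ((Scheme.Modules.pullback i).map g))

theorem projIso_natural_left {M M' : X.Modules} (g : M ⟶ M') (N : Y.Modules) :
    ((DCoh.tensorBi (X := Y)).map ((Scheme.Modules.pushforward i).map g)).app N ≫ (projIso i M' N).hom =
      (projIso i M N).hom ≫ (Scheme.Modules.pushforward i).map
        (((DCoh.tensorBi (X := X)).map g).app ((Scheme.Modules.pullback i).obj N)) := by
  rw [projIso_hom, projIso_hom, Category.assoc, ← Functor.map_comp]
  have h1 := (Scheme.Modules.pullbackPushforwardAdjunction i).unit.naturality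
    (((DCoh.tensorBi (X := Y)).map ((Scheme.Modules.pushforward i).map g)).app N)
  refine ((Category.assoc _ _ _).symm.trans (congrArg (· ≫ _) h1)).trans ((Category.assoc _ _ _).trans ?_)
  refine congrArg (_ ≫ ·) (((Scheme.Modules.pushforward i).map_comp _ _).symm.trans
    (congrArg (Scheme.Modules.pushforward i).map ?_))
  have h2 := congr_app ((pullTensorBiIsoSch i).hom.naturality ((Scheme.Modules.pushforward i).map g)) N
  refine ((Category.assoc _ _ _).symm.trans (congrArg (· ≫ _) h2)).trans ((Category.assoc _ _ _).trans ?_)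
  refine Eq.trans ?_ (Category.assoc _ _ _).symm
  refine congrArg (_ ≫ ·) ?_
  have h3 := congr_app (((DCoh.tensorBi (X := X)).map_comp _ _).symm.trans
    ((congrArg (DCoh.tensorBi (X := X)).map
      ((Scheme.Modules.pullbackPushforwardAdjunction i).counit.naturality g)).trans
        ((DCoh.tensorBi (X := X)).map_comp _ _))) ((Scheme.Modules.pullback i).obj N)
  exact h3

/-- The projection formula for a closed immersion, as bifunctors. -/
def projNatIso :
    (DCoh.tensorBi (X := X) ⋙ (Functor.whiskeringLeft _ _ _).obj (Scheme.Modules.pullback i)) ⋙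
        (Functor.whiskeringRight _ _ _).obj (Scheme.Modules.pushforward i) ≅
      Scheme.Modules.pushforward i ⋙ DCoh.tensorBi (X := Y) :=
  (NatIso.ofComponents (F := Scheme.Modules.pushforward i ⋙ DCoh.tensorBi (X := Y))
    (G := (DCoh.tensorBi (X := X) ⋙ (Functor.whiskeringLeft _ _ _).obj (Scheme.Modules.pullback i)) ⋙
      (Functor.whiskeringRight _ _ _).obj (Scheme.Modules.pushforward i))
    (fun M => NatIso.ofComponents (fun N => projIso i M N) fun g => projIso_natural_right i M g)
    fun g => NatTrans.ext (funext fun N => projIso_natural_left i g N)).symm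

theorem suppOn_of_isColimit {J : Type} (f : J → X.Modules) (c : Cofan fun j => (Scheme.Modules.pushforward i).obj (f j))
    (hc : IsColimit c) : SuppOn i c.pt where
  subsingleton y hy := by
    haveI : PreservesColimitsOfSize.{0, 0} (stkF y) := (stalkSkyAdj y).leftAdjoint_preservesColimits
    have h0 : 𝟙 ((stkF y).obj c.pt) = 0 := (isColimitOfPreserves (stkF y) hc).hom_ext fun ⟨j⟩ =>
      IsZero.eq_of_src (ModuleCat.isZero_iff_subsingleton.2
        (subsingleton_stalk_pushforward i (f j) y hy)) _ _
    exact ModuleCat.subsingleton_of_isZero ((IsZero.iff_id_eq_zero _).2 h0)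
  smul_eq_zero x a ha z := by
    haveI : PreservesColimitsOfSize.{0, 0} (stkF (i x)) := (stalkSkyAdj (i x)).leftAdjoint_preservesColimits
    have h0 : a • 𝟙 ((stkF (i x)).obj c.pt) = 0 := (isColimitOfPreserves (stkF (i x)) hc).hom_ext fun ⟨j⟩ => by
      refine ModuleCat.hom_ext (LinearMap.ext fun w => ?_)
      show a • ((stkF (i x)).map (c.inj j)).hom w = 0
      rw [← map_smul]
      exact (congrArg _ ((suppOn_pushforward i (f j)).smul_eq_zero x a ha w)).trans (map_zero _)
    exact congr($(h0).hom z)

instance preservesColimit_pushforward {J : Type} (f : J → X.Modules) :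
    PreservesColimit (Discrete.functor f) (Scheme.Modules.pushforward i) := by
  let G := Scheme.Modules.pushforward i
  let F := Scheme.Modules.pullback i
  let adj := Scheme.Modules.pullbackPushforwardAdjunction i
  haveI : PreservesColimitsOfSize.{0, 0} F :=
    haveI : PreservesColimitsOfSize.{u, u} F := adj.leftAdjoint_preservesColimits
    preservesColimitsOfSize_shrink.{0, u, 0, u} _
  let S := ∐ fun j => G.obj (f j)
  haveI : IsIso (adj.unit.app S) := isIso_unit_of_suppOn i
    (suppOn_of_isColimit i f (Cofan.mk S (Sigma.ι _)) (coproductIsCoproduct _))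
  haveI : ∀ j, IsIso (adj.counit.app (f j)) := fun j => isIso_counit_closedImmersion i (f j)
  let e : F.obj S ≅ ∐ f :=
    PreservesCoproduct.iso F _ ≪≫ Sigma.mapIso fun j => asIso (adj.counit.app (f j))
  have hs : sigmaComparison G f = adj.unit.app S ≫ G.map e.hom := by
    refine Sigma.hom_ext _ _ fun j => ?_
    have he : F.map (Sigma.ι (fun j => G.obj (f j)) j) ≫ e.hom = adj.counit.app (f j) ≫ Sigma.ι f j := by
      simp only [e, S, Iso.trans_hom]
      rw [← ι_comp_sigmaComparison, Category.assoc, ← PreservesCoproduct.inv_hom, Iso.inv_hom_id_assoc]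
      exact Sigma.ι_mapIso_hom _ j
    rw [ι_comp_sigmaComparison]
    refine Eq.trans ?_ (Category.assoc _ _ _)
    rw [show Sigma.ι (fun j => G.obj (f j)) j ≫ adj.unit.app S =
      adj.unit.app (G.obj (f j)) ≫ G.map (F.map (Sigma.ι (fun j => G.obj (f j)) j)) from
        adj.unit.naturality _, Category.assoc, ← G.map_comp, he, G.map_comp, ← Category.assoc,
      adj.right_triangle_components, Category.id_comp]
  haveI : IsIso (sigmaComparison G f) := hs ▸ inferInstance
  exact PreservesCoproduct.of_iso_comparison G f

instance preservesColimitsOfShape_pushforward (J : Type) :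
    PreservesColimitsOfShape (Discrete J) (Scheme.Modules.pushforward i) where
  preservesColimit {K} := preservesColimit_of_iso_diagram _ (Discrete.natIsoFunctor (F := K)).symm

instance preservesFiniteLimits_pushforward : PreservesFiniteLimits (Scheme.Modules.pushforward i) := by
  haveI : PreservesLimitsOfSize.{0, 0} (Scheme.Modules.pushforward i) :=
    (Scheme.Modules.pullbackPushforwardAdjunction i).rightAdjoint_preservesLimits
  infer_instance

instance preservesFiniteColimits_pushforward : PreservesFiniteColimits (Scheme.Modules.pushforward i) := by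
  rw [(Scheme.Modules.pushforward i).preservesFiniteColimits_iff_forall_exact_map_and_epi]
  intro S hS
  haveI := hS.epi_g
  exact ⟨(((Scheme.Modules.pushforward i).preservesFiniteLimits_iff_forall_exact_map_and_mono).1 inferInstance S hS).1,
    inferInstance⟩

/-- Direct images of complexes. -/
abbrev pushCx : CochainComplex X.Modules ℤ ⥤ CochainComplex Y.Modules ℤ :=
  (Scheme.Modules.pushforward i).mapHomologicalComplex (ComplexShape.up ℤ)

/-- The projection formula for complexes. -/
def projCxIso (K : CochainComplex X.Modules ℤ) (P : CochainComplex Y.Modules ℤ) :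
    (pushCx i).obj ((DCoh.tensorCx.obj K).obj ((pullCx i).obj P)) ≅
      (DCoh.tensorCx.obj ((pushCx i).obj K)).obj P :=
  haveI : ∀ M : X.Modules, ((DCoh.tensorBi (X := X) ⋙
      (Functor.whiskeringLeft _ _ _).obj (Scheme.Modules.pullback i)).obj M).Additive := fun M =>
    inferInstanceAs (Scheme.Modules.pullback i ⋙ (DCoh.tensorBi (X := X)).obj M).Additive
  haveI : ∀ M : X.Modules, ((Scheme.Modules.pushforward i ⋙ DCoh.tensorBi (X := Y)).obj M).Additive := fun M =>
    inferInstanceAs ((DCoh.tensorBi (X := Y)).obj ((Scheme.Modules.pushforward i).obj M)).Additive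
  Groth.Agent.KFlat.mapTotIso (F := DCoh.tensorBi (X := X) ⋙
      (Functor.whiskeringLeft _ _ _).obj (Scheme.Modules.pullback i))
    (F' := Scheme.Modules.pushforward i ⋙ DCoh.tensorBi (X := Y))
    (G := Scheme.Modules.pushforward i) (projNatIso i) K P

/-- Any complex computes the derived direct image along a closed immersion. -/
theorem nonempty_rpushIso [DCoh.HasRpush i] (K : CochainComplex X.Modules ℤ) :
    Nonempty ((DCoh.Rpush i).obj (DerivedCategory.Q.obj K) ≅ DerivedCategory.Q.obj ((pushCx i).obj K)) := by
  obtain ⟨I, φ, hI, hφ⟩ := hres_modules X K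
  haveI := hI
  haveI := hφ
  haveI := isIso_rpushUnit_app i I
  haveI : QuasiIso ((pushCx i).map φ) := inferInstance
  exact ⟨(DCoh.Rpush i).mapIso (asIso (DerivedCategory.Q.map φ) ≪≫
      (DerivedCategory.quotientCompQhIso X.Modules).symm.app I) ≪≫
    (asIso ((rpushUnit i).app ((HomotopyCategory.quotient X.Modules (ComplexShape.up ℤ)).obj I))).symm ≪≫
    DerivedCategory.Qh.mapIso (((Scheme.Modules.pushforward i).mapHomotopyCategoryFactors (ComplexShape.up ℤ)).app I) ≪≫
    (DerivedCategory.quotientCompQhIso Y.Modules).app _ ≪≫ (asIso (DerivedCategory.Q.map ((pushCx i).map φ))).symm⟩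

/-- The projection formula for a closed immersion. -/
theorem nonempty_projection_closedImmersion [DCoh.HasRpush i] (P : CochainComplex Y.Modules ℤ)
    (hP : DCoh.IsKFlat P) [DCoh.HasLTensorCx P] [DCoh.HasLTensorCx ((pullCx i).obj P)] (E : DCoh.D X) :
    Nonempty ((DCoh.LTensorCx P).obj ((DCoh.Rpush i).obj E) ≅
      (DCoh.Rpush i).obj ((DCoh.LTensorCx ((pullCx i).obj P)).obj E)) := by
  obtain ⟨K, ⟨eK⟩⟩ : ∃ K : CochainComplex X.Modules ℤ, Nonempty (DerivedCategory.Q.obj K ≅ E) :=
    ⟨DerivedCategory.Q.objPreimage E, ⟨DerivedCategory.Q.objObjPreimageIso E⟩⟩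
  obtain ⟨a⟩ := nonempty_rpushIso i K
  obtain ⟨b⟩ := nonempty_rpushIso i ((DCoh.tensorCx.obj K).obj ((pullCx i).obj P))
  haveI h1 : IsIso ((lTensorCounit P).app ((pushCx i).obj K)) := isIso_lTensorCounit_app_of_isKFlat P hP _
  haveI h2 : IsIso ((lTensorCounit ((pullCx i).obj P)).app K) :=
    isIso_lTensorCounit_app_of_isKFlat _ (isKFlat_pullback i hP) _
  exact ⟨(DCoh.LTensorCx P).mapIso ((DCoh.Rpush i).mapIso eK.symm ≪≫ a) ≪≫
    asIso ((lTensorCounit P).app ((pushCx i).obj K)) ≪≫
    DerivedCategory.Q.mapIso (projCxIso i K P).symm ≪≫ b.symm ≪≫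
    (DCoh.Rpush i).mapIso ((asIso ((lTensorCounit ((pullCx i).obj P)).app K)).symm ≪≫
      (DCoh.LTensorCx ((pullCx i).obj P)).mapIso eK)⟩

end Groth.Agent.DCohLib
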