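import Groth.Agent.DCohLib.TensorEval

/-!
# Exactness of `M ↦ Hᵖ(M ⊗ G)` when the cokernels around degree `p` split off
-/

set_option autoImplicit false
set_option backward.isDefEq.respectTransparency false
set_option linter.style.haveILetI false

universe v₁ v u₁ u

open CategoryTheory CategoryTheory.Limits AlgebraicGeometry MonoidalCategory

noncomputable section

namespace Groth.Agent.DCohLib

section General

variable {C : Type u₁} [Category.{v₁} C] {D : Type u} [Category.{v} D] [Abelian C] [Abelian D]
  (K : C ⥤ CochainComplex D ℤ)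

theorem epi_cyclesMap_of_split {j : ℤ} (s : ∀ N : C, (K.obj N).X (j + 1) ⟶ (K.obj N).X j)
    (hs : ∀ {N N' : C} (f : N ⟶ N'), (K.map f).f (j + 1) ≫ s N' = s N ≫ (K.map f).f j)
    (hd : ∀ N : C, (K.obj N).d j (j + 1) ≫ s N ≫ (K.obj N).d j (j + 1) = (K.obj N).d j (j + 1))
    {A B : C} (g : A ⟶ B) [Epi ((K.map g).f j)] :
    Epi (HomologicalComplex.cyclesMap (K.map g) j) := by
  let e : ∀ N : C, (K.obj N).X j ⟶ (K.obj N).X j := fun N => 𝟙 _ - (K.obj N).d j (j + 1) ≫ s N
  have he : ∀ N, e N ≫ (K.obj N).d j (j + 1) = 0 := fun N => by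
    simp [e, Preadditive.sub_comp, hd N]
  let r : ∀ N : C, (K.obj N).X j ⟶ (K.obj N).cycles j := fun N =>
    (K.obj N).liftCycles (e N) (j + 1) (by simp) (he N)
  have hr : ∀ N, (K.obj N).iCycles j ≫ r N = 𝟙 _ := fun N => by
    rw [← cancel_mono ((K.obj N).iCycles j), Category.assoc, HomologicalComplex.liftCycles_i]
    simp [e, Preadditive.comp_sub]
  have hn : r A ≫ HomologicalComplex.cyclesMap (K.map g) j = (K.map g).f j ≫ r B := by
    rw [← cancel_mono ((K.obj B).iCycles j), Category.assoc, Category.assoc,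
      HomologicalComplex.cyclesMap_i, HomologicalComplex.liftCycles_i,
      HomologicalComplex.liftCycles_i_assoc]
    simp only [e, Preadditive.comp_sub, Preadditive.sub_comp, Category.id_comp, Category.comp_id,
      Category.assoc]
    rw [← hs g, ← HomologicalComplex.Hom.comm_assoc]
  haveI : IsSplitEpi (r B) := ⟨⟨⟨_, hr B⟩⟩⟩
  haveI : Epi (r A ≫ HomologicalComplex.cyclesMap (K.map g) j) := hn ▸ inferInstance
  exact epi_of_epi (r A) _

theorem epi_homologyMap_of_cyclesMap {A B : CochainComplex D ℤ} (g : A ⟶ B) (j : ℤ)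
    [Epi (HomologicalComplex.cyclesMap g j)] : Epi (HomologicalComplex.homologyMap g j) := by
  haveI : Epi (A.homologyπ j ≫ HomologicalComplex.homologyMap g j) := by
    rw [HomologicalComplex.homologyπ_naturality]
    infer_instance
  exact epi_of_epi (A.homologyπ j) _

/-- Short exactness in homology when two connecting maps vanish. -/
theorem shortExact_homology_of_epi {S : ShortComplex (CochainComplex D ℤ)} (hS : S.ShortExact) (p : ℤ)
    (h₁ : Epi (HomologicalComplex.homologyMap S.g (p - 1))) (h₂ : Epi (HomologicalComplex.homologyMap S.g p)) :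
    (S.map (HomologicalComplex.homologyFunctor D (ComplexShape.up ℤ) p)).ShortExact := by
  have hp : (ComplexShape.up ℤ).Rel (p - 1) p := by simp
  have hδ : hS.δ (p - 1) p hp = 0 := by
    rw [← cancel_epi (HomologicalComplex.homologyMap S.g (p - 1)), hS.comp_δ, comp_zero]
  exact { exact := hS.homology_exact₂ p
          mono_f := (hS.homology_exact₁ (p - 1) p hp).mono_g hδ
          epi_g := h₂ }

/-- Homology commutes with an exact functor. -/
def mapHomologyNatIso {E : Type u} [Category.{v} E] [Abelian E] (Φ : D ⥤ E) [Φ.Additive]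
    [Φ.PreservesHomology] (p : ℤ) :
    Φ.mapHomologicalComplex (ComplexShape.up ℤ) ⋙ HomologicalComplex.homologyFunctor E (ComplexShape.up ℤ) p ≅
      HomologicalComplex.homologyFunctor D (ComplexShape.up ℤ) p ⋙ Φ :=
  NatIso.ofComponents (fun L => (L.sc p).mapHomologyIso Φ)
    fun {L L'} f => ShortComplex.mapHomologyIso_hom_naturality
      ((HomologicalComplex.shortComplexFunctor D (ComplexShape.up ℤ) p).map f) Φ

end General

attribute [local instance] HasDerivedCategory.standard

variable {X : Scheme.{u}}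

theorem shortExact_iff_stkF (S : ShortComplex X.Modules) :
    S.ShortExact ↔ ∀ z : X, (S.map (stkF z)).ShortExact := by
  refine ⟨fun h z => h.map_of_exact (stkF z), fun h => ?_⟩
  haveI : Mono S.f := (PullbackMod.mono_iff_stalk _).2 fun z =>
    (ModuleCat.mono_iff_injective _).1 (h z).mono_f
  haveI : Epi S.g := (PullbackMod.epi_iff_stalk _).2 fun z =>
    (ModuleCat.epi_iff_surjective _).1 (h z).epi_g
  exact { exact := (exact_iff_stkF S).2 fun z => (h z).exact }

instance additive_tlF (P : CochainComplex X.Modules ℤ) : (tlF P).Additive where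
  map_add {M N f g} := HomologicalComplex.hom_ext _ _ fun n => by
    show ((DCoh.tensorBi (X := X)).map (f + g)).app (P.X n) = _
    rw [Functor.map_add]
    rfl

/-- Tensoring with a flat module preserves short exact sequences. -/
theorem shortExact_tlF_map {P : CochainComplex X.Modules ℤ} (hP : ∀ n, FlatMod.IsFlat (P.X n))
    {S : ShortComplex X.Modules} (hS : S.ShortExact) : (S.map (tlF P)).ShortExact := by
  refine HomologicalComplex.shortExact_of_degreewise_shortExact _ fun n => ?_
  show (S.map ((DCoh.tensorBi (X := X)).flip.obj (P.X n))).ShortExact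
  have hg : ∀ T : ShortComplex X.Modules, T.Exact →
      (T.map ((DCoh.tensorBi (X := X)).flip.obj (P.X n))).Exact :=
    Groth.Agent.KFlat.goodObj_of_isFlat X.sheaf ((isFlat_iff _).1 (hP n))
  haveI := Functor.preservesMonomorphisms_of_map_exact _ hg
  haveI := Functor.preservesEpimorphisms_of_map_exact _ hg
  haveI := hS.mono_f
  haveI := hS.epi_g
  exact { exact := hg S hS.exact
          mono_f := inferInstanceAs (Mono (((DCoh.tensorBi (X := X)).flip.obj (P.X n)).map S.f))
          epi_g := inferInstanceAs (Epi (((DCoh.tensorBi (X := X)).flip.obj (P.X n)).map S.g)) }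

/-- The differential splits on the stalk: `d = d s d`. -/
def SplitAt (G : CochainComplex X.Modules ℤ) (z : X) (j : ℤ) : Prop :=
  ∃ s : (stkF z).obj (G.X (j + 1)) ⟶ (stkF z).obj (G.X j),
    (stkF z).map (G.d j (j + 1)) ≫ s ≫ (stkF z).map (G.d j (j + 1)) = (stkF z).map (G.d j (j + 1))

/-- The stalk of a tensor product, naturally in both variables. -/
def stkT (z : X) (M N : X.Modules) :
    (stkF z).obj (((DCoh.tensorBi (X := X)).obj M).obj N) ≅ (stkF z).obj M ⊗ (stkF z).obj N :=
  ((stalkTensorNatIso z).app M).app N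

theorem stkT_natural_right (z : X) (M : X.Modules) {N N' : X.Modules} (g : N ⟶ N') :
    (stkF z).map (((DCoh.tensorBi (X := X)).obj M).map g) ≫ (stkT z M N').hom =
      (stkT z M N).hom ≫ (stkF z).obj M ◁ (stkF z).map g :=
  ((stalkTensorNatIso z).app M).hom.naturality g

theorem stkT_natural_left (z : X) {M M' : X.Modules} (f : M ⟶ M') (N : X.Modules) :
    (stkF z).map (((DCoh.tensorBi (X := X)).map f).app N) ≫ (stkT z M' N).hom =
      (stkT z M N).hom ≫ (stkF z).map f ▷ (stkF z).obj N :=
  congrArg (fun t => t.app N) ((stalkTensorNatIso z).hom.naturality f)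

theorem epi_homologyMap_stalk {G : CochainComplex X.Modules ℤ}
    (hG : ∀ n, FlatMod.IsFlat (G.X n)) (z : X) {j : ℤ} (h : SplitAt G z j)
    {S : ShortComplex X.Modules} (hS : S.ShortExact) :
    Epi (HomologicalComplex.homologyMap
      (((stkF z).mapHomologicalComplex (ComplexShape.up ℤ)).map ((tlF G).map S.g)) j) := by
  obtain ⟨s, hs⟩ := h
  let K := tlF G ⋙ (stkF z).mapHomologicalComplex (ComplexShape.up ℤ)
  haveI : Epi ((K.map S.g).f j) :=
    ((shortExact_tlF_map hG hS).map_of_exact
      (HomologicalComplex.eval X.Modules (ComplexShape.up ℤ) j ⋙ stkF z)).epi_g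
  haveI := epi_cyclesMap_of_split K (j := j)
    (fun N => (stkT z N (G.X (j + 1))).hom ≫ (stkF z).obj N ◁ s ≫ (stkT z N (G.X j)).inv)
    (fun {N N'} f => by
      show (stkF z).map (((DCoh.tensorBi (X := X)).map f).app (G.X (j + 1))) ≫ _ =
        _ ≫ (stkF z).map (((DCoh.tensorBi (X := X)).map f).app (G.X j))
      rw [← cancel_mono (stkT z N' (G.X j)).hom]
      simp only [Category.assoc, stkT_natural_left, Iso.inv_hom_id_assoc, Iso.inv_hom_id, Category.comp_id]
      rw [← Category.assoc, stkT_natural_left, Category.assoc, whisker_exchange])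
    (fun N => by
      show (stkF z).map (((DCoh.tensorBi (X := X)).obj N).map (G.d j (j + 1))) ≫ _ ≫
        (stkF z).map (((DCoh.tensorBi (X := X)).obj N).map (G.d j (j + 1))) =
        (stkF z).map (((DCoh.tensorBi (X := X)).obj N).map (G.d j (j + 1)))
      rw [← cancel_mono (stkT z N (G.X (j + 1))).hom]
      simp only [Category.assoc, stkT_natural_right, Iso.inv_hom_id_assoc]
      rw [← Category.assoc, stkT_natural_right, Category.assoc, ← whiskerLeft_comp, ← whiskerLeft_comp,
        hs])
    S.g
  exact epi_homologyMap_of_cyclesMap (K.map S.g) j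

/-- `M ↦ Hᵖ(M ⊗ P)`. -/
abbrev hT (P : CochainComplex X.Modules ℤ) (p : ℤ) : X.Modules ⥤ X.Modules :=
  tlF P ⋙ HomologicalComplex.homologyFunctor X.Modules (ComplexShape.up ℤ) p

theorem shortExact_hT_of_splitAt {G : CochainComplex X.Modules ℤ}
    (hG : ∀ n, FlatMod.IsFlat (G.X n)) (p : ℤ) (h₁ : ∀ z, SplitAt G z (p - 1)) (h₂ : ∀ z, SplitAt G z p)
    {S : ShortComplex X.Modules} (hS : S.ShortExact) : (S.map (hT G p)).ShortExact := by
  rw [shortExact_iff_stkF]
  intro z
  have h := shortExact_homology_of_epi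
    ((shortExact_tlF_map hG hS).map_of_exact ((stkF z).mapHomologicalComplex (ComplexShape.up ℤ))) p
    (epi_homologyMap_stalk hG z (h₁ z) hS) (epi_homologyMap_stalk hG z (h₂ z) hS)
  exact ShortComplex.shortExact_of_iso
    (((S.map (tlF G)).mapNatIso (mapHomologyNatIso (stkF z) p))) h

end Groth.Agent.DCohLib
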