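import Groth.Agent.KFlat.MapTot

/-!
# Naturality of the comparison of total complexes
-/

set_option linter.style.haveILetI false
set_option linter.unusedSectionVars false

universe v₁ v₂ v v' u₁ u₂ u u'

open CategoryTheory Limits HomologicalComplex

noncomputable section

namespace Groth.Agent.KFlat

variable {C₁ : Type u₁} [Category.{v₁} C₁] {C₂ : Type u₂} [Category.{v₂} C₂]
  {D : Type u} [Category.{v} D] {D' : Type u'} [Category.{v'} D']
  [Abelian C₁] [Abelian C₂] [Abelian D] [Abelian D']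
  {F : C₁ ⥤ C₂ ⥤ D} [F.Additive] [∀ X, (F.obj X).Additive]
  [∀ (K₁ : CochainComplex C₁ ℤ) (K₂ : CochainComplex C₂ ℤ), CochainComplex.HasMapBifunctor K₁ K₂ F]
  {F' : C₁ ⥤ C₂ ⥤ D'} [F'.Additive] [∀ X, (F'.obj X).Additive]
  [∀ (K₁ : CochainComplex C₁ ℤ) (K₂ : CochainComplex C₂ ℤ), CochainComplex.HasMapBifunctor K₁ K₂ F']
  {G : D ⥤ D'} [G.Additive] (e : F ⋙ (Functor.whiskeringRight _ _ _).obj G ≅ F')
  (K : CochainComplex C₂ ℤ)

theorem mapTotX_natural {L L' : CochainComplex C₁ ℤ} (φ : L ⟶ L') (n : ℤ) :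
    (mapBifunctorMap φ (𝟙 K) F' (ComplexShape.up ℤ)).f n ≫ mapTotX e L' K n =
      mapTotX e L K n ≫ G.map ((mapBifunctorMap φ (𝟙 K) F (ComplexShape.up ℤ)).f n) := by
  refine mapBifunctor.hom_ext fun p q h => ?_
  rw [ι_mapBifunctorMap_assoc, ι_mapTotX, ← Category.assoc (ιMapBifunctor L K F' _ p q n h), ι_mapTotX,
    Category.assoc, ← G.map_comp, ι_mapBifunctorMap]
  simp only [HomologicalComplex.id_f, CategoryTheory.Functor.map_id, Category.id_comp, G.map_comp]
  rw [← Category.assoc, ← Category.assoc]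
  exact congrArg (· ≫ _) (congr_app (e.inv.naturality (φ.f p)) (K.X q))

variable [∀ n : ℤ, PreservesColimitsOfShape (Discrete (Idx n)) G]
  [∀ n : ℤ, HasColimitsOfShape (Discrete (Idx n)) D] [∀ n : ℤ, HasColimitsOfShape (Discrete (Idx n)) D']

theorem mapTotIso_inv_natural {L L' : CochainComplex C₁ ℤ} (φ : L ⟶ L') :
    (F'.map₂CochainComplex.map φ).app K ≫ (mapTotIso e L' K).inv =
      (mapTotIso e L K).inv ≫
        (G.mapHomologicalComplex (ComplexShape.up ℤ)).map ((F.map₂CochainComplex.map φ).app K) :=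
  HomologicalComplex.hom_ext _ _ fun n => mapTotX_natural e K φ n

end Groth.Agent.KFlat
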