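import Groth.Agent.DCohLib.SuppOpen
import Groth.Agent.DCohLib.TensorPerf
import Groth.Agent.DCohLib.MapTotNat

/-!
# Extension by zero and derived tensor products
-/

set_option autoImplicit false
set_option linter.style.haveILetI false

universe u

open CategoryTheory CategoryTheory.Limits AlgebraicGeometry TopologicalSpace Opposite MonoidalCategory
open Groth.Agent.PullbackMod
open scoped TensorProduct

attribute [local instance] HasDerivedCategory.standard

noncomputable section

namespace Groth.Agent.DCohLib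

variable {X : Scheme.{u}} (U : X.Opens)

/-- The module part of the projection formula for extension by zero. -/
def extTensorPre (N : (U : Scheme.{u}).Modules) (M : X.Modules) :
    tmod N ((Scheme.Modules.restrictFunctor U.ι).obj M) ⟶
      (Scheme.Modules.restrictFunctor U.ι).obj (tmod ((CxOX.extZero U.ι).obj N) M) :=
  ((DCoh.tensorBi (X := (U : Scheme.{u}))).map ((CxOX.extZeroAdj U.ι).unit.app N)).app _ ≫
    (restrictTensorIso U.ι ((CxOX.extZero U.ι).obj N) M).inv

/-- The projection map for extension by zero. -/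
def extTensorMap (N : (U : Scheme.{u}).Modules) (M : X.Modules) :
    (CxOX.extZero U.ι).obj (tmod N ((Scheme.Modules.restrictFunctor U.ι).obj M)) ⟶
      tmod ((CxOX.extZero U.ι).obj N) M :=
  ((CxOX.extZeroAdj U.ι).homEquiv _ _).symm (extTensorPre U N M)

theorem subsingleton_stalk_tmod {A : X.Modules} (M : X.Modules) (x : X)
    (h : Subsingleton (A.presheaf.stalk x)) : Subsingleton ((tmod A M).presheaf.stalk x) := by
  refine (stalkTensor x A M).symm.toEquiv.subsingleton_congr.2 ⟨fun a b => ?_⟩
  suffices h0 : ∀ c : A.presheaf.stalk x ⊗[X.presheaf.stalk x] M.presheaf.stalk x, c = 0 from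
    (h0 a).trans (h0 b).symm
  intro c
  induction c using TensorProduct.induction_on with
  | zero => rfl
  | tmul m n => rw [h.elim m 0, TensorProduct.zero_tmul]
  | add p q hp hq => rw [hp, hq, add_zero]

theorem isIso_extTensorMap (N : (U : Scheme.{u}).Modules) (M : X.Modules) :
    IsIso (extTensorMap U N M) := by
  refine (isIso_iff_stalk _).2 fun x => ?_
  by_cases hx : x ∈ U
  · let y : (U : Scheme.{u}) := ⟨x, hx⟩
    haveI : IsIso (extTensorPre U N M) := by
      unfold extTensorPre
      haveI : IsIso ((CxOX.extZeroAdj U.ι).unit.app N) := inferInstance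
      infer_instance
    have h : IsIso ((Scheme.Modules.restrictFunctor U.ι).map (extTensorMap U N M)) := by
      have e : (CxOX.extZeroAdj U.ι).unit.app _ ≫
          (Scheme.Modules.restrictFunctor U.ι).map (extTensorMap U N M) = extTensorPre U N M :=
        ((CxOX.extZeroAdj U.ι).homEquiv_unit _ _ _).symm.trans (Equiv.apply_symm_apply _ _)
      haveI : IsIso ((CxOX.extZeroAdj U.ι).unit.app (tmod N ((Scheme.Modules.restrictFunctor U.ι).obj M)) ≫
          (Scheme.Modules.restrictFunctor U.ι).map (extTensorMap U N M)) := e ▸ inferInstance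
      exact IsIso.of_isIso_comp_left ((CxOX.extZeroAdj U.ι).unit.app _) _
    have h1 : IsIso ((Scheme.Modules.restrictFunctor U.ι ⋙ Scheme.Modules.toPresheaf _ ⋙
        TopCat.Presheaf.stalkFunctor _ y).map (extTensorMap U N M)) :=
      @Functor.map_isIso _ _ _ _ _ _ (Scheme.Modules.toPresheaf _ ⋙ TopCat.Presheaf.stalkFunctor _ y) _ h
    have h2 := (NatIso.isIso_map_iff (Scheme.Modules.restrictStalkNatIso U.ι y) (extTensorMap U N M)).1 h1
    exact @ConcreteCategory.bijective_of_isIso _ _ _ _ _ _ _ _
      ((Scheme.Modules.toPresheaf _ ⋙ TopCat.Presheaf.stalkFunctor _ x).map (extTensorMap U N M)) h2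
  · have hA := subsingleton_stalk_extZero U (tmod N ((Scheme.Modules.restrictFunctor U.ι).obj M)) x hx
    have hB := subsingleton_stalk_tmod M x (subsingleton_stalk_extZero U N x hx)
    exact ⟨fun a b _ => hA.elim a b, fun b => ⟨0, hB.elim _ _⟩⟩

theorem restrictTensorIso_inv_natural_left {A A' : X.Modules} (g : A ⟶ A') (M : X.Modules) :
    ((DCoh.tensorBi (X := (U : Scheme.{u}))).map ((Scheme.Modules.restrictFunctor U.ι).map g)).app _ ≫
        (restrictTensorIso U.ι A' M).inv =
      (restrictTensorIso U.ι A M).inv ≫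
        (Scheme.Modules.restrictFunctor U.ι).map (((DCoh.tensorBi (X := X)).map g).app M) := by
  rw [Iso.comp_inv_eq, Category.assoc, Iso.eq_inv_comp]
  let P := Scheme.Modules.pullback U.ι
  let r := Scheme.Modules.restrictFunctorIsoPullback U.ι
  have h1 := r.hom.naturality (((DCoh.tensorBi (X := X)).map g).app M)
  have h2 := congr_app ((pullTensorBiIsoSch U.ι).hom.naturality g) M
  simp only [restrictTensorIso, Iso.trans_hom, Iso.app_hom, Functor.mapIso_hom, Category.assoc]
  rw [reassoc_of% h1]
  refine Eq.trans ?_ (congrArg (_ ≫ ·) ((Category.assoc _ _ _).symm.trans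
    ((congrArg (· ≫ _) h2).trans (Category.assoc _ _ _))).symm)
  refine congrArg (_ ≫ ·) (congrArg (_ ≫ ·) ?_)
  have h3 := congr_app (((DCoh.tensorBi (X := (U : Scheme.{u}))).map_comp _ _).symm.trans
    ((congrArg (DCoh.tensorBi (X := (U : Scheme.{u}))).map (r.inv.naturality g)).trans
      ((DCoh.tensorBi (X := (U : Scheme.{u}))).map_comp _ _))) (P.obj M)
  have h4 := ((DCoh.tensorBi (X := (U : Scheme.{u}))).map
    ((Scheme.Modules.restrictFunctor U.ι).map g)).naturality (r.inv.app M)
  exact (Category.assoc _ _ _).trans ((congrArg (_ ≫ ·) h4).trans ((Category.assoc _ _ _).symm.trans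
    ((congrArg (· ≫ _) h3.symm).trans (Category.assoc _ _ _))))

theorem restrictTensorIso_inv_natural_right (A : X.Modules) {M M' : X.Modules} (g : M ⟶ M') :
    ((DCoh.tensorBi (X := (U : Scheme.{u}))).obj ((Scheme.Modules.restrictFunctor U.ι).obj A)).map
        ((Scheme.Modules.restrictFunctor U.ι).map g) ≫ (restrictTensorIso U.ι A M').inv =
      (restrictTensorIso U.ι A M).inv ≫
        (Scheme.Modules.restrictFunctor U.ι).map (((DCoh.tensorBi (X := X)).obj A).map g) := by
  rw [Iso.comp_inv_eq, Category.assoc, Iso.eq_inv_comp]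
  let P := Scheme.Modules.pullback U.ι
  let r := Scheme.Modules.restrictFunctorIsoPullback U.ι
  let T := DCoh.tensorBi (X := (U : Scheme.{u}))
  have h1 := r.hom.naturality (((DCoh.tensorBi (X := X)).obj A).map g)
  have h2 := ((pullTensorBiIsoSch U.ι).hom.app A).naturality g
  simp only [restrictTensorIso, Iso.trans_hom, Iso.app_hom, Functor.mapIso_hom, Category.assoc]
  rw [reassoc_of% h1]
  refine Eq.trans ?_ (congrArg (_ ≫ ·) ((Category.assoc _ _ _).symm.trans
    ((congrArg (· ≫ _) h2).trans (Category.assoc _ _ _))).symm)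
  refine congrArg (_ ≫ ·) (congrArg (_ ≫ ·) ?_)
  have h3 := (T.map (r.inv.app A)).naturality (P.map g)
  have h4 := ((T.obj ((Scheme.Modules.restrictFunctor U.ι).obj A)).map_comp _ _).symm.trans
    ((congrArg (T.obj ((Scheme.Modules.restrictFunctor U.ι).obj A)).map (r.inv.naturality g)).trans
      ((T.obj ((Scheme.Modules.restrictFunctor U.ι).obj A)).map_comp _ _))
  exact (Category.assoc _ _ _).trans ((congrArg (_ ≫ ·) h4.symm).trans ((Category.assoc _ _ _).symm.trans
    ((congrArg (· ≫ _) h3.symm).trans (Category.assoc _ _ _))))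

theorem extTensorMap_natural_left {N N' : (U : Scheme.{u}).Modules} (g : N ⟶ N') (M : X.Modules) :
    (CxOX.extZero U.ι).map (((DCoh.tensorBi (X := (U : Scheme.{u}))).map g).app _) ≫ extTensorMap U N' M =
      extTensorMap U N M ≫ ((DCoh.tensorBi (X := X)).map ((CxOX.extZero U.ι).map g)).app M := by
  simp only [extTensorMap]
  rw [← Adjunction.homEquiv_naturality_left_symm, ← Adjunction.homEquiv_naturality_right_symm]
  refine congrArg _ ?_
  simp only [extTensorPre, Category.assoc, ← restrictTensorIso_inv_natural_left]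
  rw [← Category.assoc, ← Category.assoc]
  refine congrArg (· ≫ _) ?_
  exact congr_app (((DCoh.tensorBi (X := (U : Scheme.{u}))).map_comp _ _).symm.trans
    ((congrArg (DCoh.tensorBi (X := (U : Scheme.{u}))).map ((CxOX.extZeroAdj U.ι).unit.naturality g)).trans
      ((DCoh.tensorBi (X := (U : Scheme.{u}))).map_comp _ _))) _

theorem extTensorMap_natural_right (N : (U : Scheme.{u}).Modules) {M M' : X.Modules} (g : M ⟶ M') :
    (CxOX.extZero U.ι).map (((DCoh.tensorBi (X := (U : Scheme.{u}))).obj N).map
        ((Scheme.Modules.restrictFunctor U.ι).map g)) ≫ extTensorMap U N M' =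
      extTensorMap U N M ≫ ((DCoh.tensorBi (X := X)).obj ((CxOX.extZero U.ι).obj N)).map g := by
  simp only [extTensorMap]
  rw [← Adjunction.homEquiv_naturality_left_symm, ← Adjunction.homEquiv_naturality_right_symm]
  refine congrArg _ ?_
  simp only [extTensorPre, Category.assoc, ← restrictTensorIso_inv_natural_right]
  rw [← Category.assoc, ← Category.assoc]
  refine congrArg (· ≫ _) ?_
  exact ((DCoh.tensorBi (X := (U : Scheme.{u}))).map ((CxOX.extZeroAdj U.ι).unit.app N)).naturality _

/-- The projection formula for extension by zero, as bifunctors. -/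
def extTensorNatIso :
    (DCoh.tensorBi (X := (U : Scheme.{u})) ⋙
        (Functor.whiskeringLeft _ _ _).obj (Scheme.Modules.restrictFunctor U.ι)) ⋙
        (Functor.whiskeringRight _ _ _).obj (CxOX.extZero U.ι) ≅
      CxOX.extZero U.ι ⋙ DCoh.tensorBi (X := X) :=
  NatIso.ofComponents
    (fun N => NatIso.ofComponents (fun M => @asIso _ _ _ _ (extTensorMap U N M) (isIso_extTensorMap U N M))
      fun g => extTensorMap_natural_right U N g)
    fun g => NatTrans.ext (funext fun M => extTensorMap_natural_left U g M)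

instance additive_extZero_ι : (CxOX.extZero U.ι).Additive :=
  (CxOX.extZeroAdj U.ι).left_adjoint_additive

/-- Extension by zero on complexes. -/
abbrev extCx : CochainComplex (U : Scheme.{u}).Modules ℤ ⥤ CochainComplex X.Modules ℤ :=
  (CxOX.extZero U.ι).mapHomologicalComplex (ComplexShape.up ℤ)

instance additive_extBi :
    (DCoh.tensorBi (X := (U : Scheme.{u})) ⋙
      (Functor.whiskeringLeft _ _ _).obj (Scheme.Modules.restrictFunctor U.ι)).Additive :=
  inferInstance

instance additive_extBi_obj (N : (U : Scheme.{u}).Modules) :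
    ((DCoh.tensorBi (X := (U : Scheme.{u})) ⋙
      (Functor.whiskeringLeft _ _ _).obj (Scheme.Modules.restrictFunctor U.ι)).obj N).Additive :=
  inferInstanceAs (Scheme.Modules.restrictFunctor U.ι ⋙ (DCoh.tensorBi (X := (U : Scheme.{u}))).obj N).Additive

instance additive_extBi'_obj (N : (U : Scheme.{u}).Modules) :
    ((CxOX.extZero U.ι ⋙ DCoh.tensorBi (X := X)).obj N).Additive :=
  inferInstanceAs ((DCoh.tensorBi (X := X)).obj ((CxOX.extZero U.ι).obj N)).Additive

/-- The projection formula for extension by zero, for complexes. -/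
def extTensorCxIso (L : CochainComplex (U : Scheme.{u}).Modules ℤ) (K : CochainComplex X.Modules ℤ) :
    (extCx U).obj ((DCoh.tensorCx.obj L).obj ((resCx U.ι).obj K)) ≅
      (DCoh.tensorCx.obj ((extCx U).obj L)).obj K :=
  haveI : PreservesColimitsOfSize.{u, u} (CxOX.extZero U.ι) :=
    (CxOX.extZeroAdj U.ι).leftAdjoint_preservesColimits
  haveI : PreservesColimitsOfSize.{0, 0} (CxOX.extZero U.ι) := preservesColimitsOfSize_shrink.{0, u, 0, u} _
  Groth.Agent.KFlat.mapTotIso
    (F := DCoh.tensorBi (X := (U : Scheme.{u})) ⋙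
      (Functor.whiskeringLeft _ _ _).obj (Scheme.Modules.restrictFunctor U.ι))
    (F' := CxOX.extZero U.ι ⋙ DCoh.tensorBi (X := X))
    (G := CxOX.extZero U.ι) (extTensorNatIso U) L K

theorem extTensorCxIso_inv_natural {L L' : CochainComplex (U : Scheme.{u}).Modules ℤ} (φ : L ⟶ L')
    (K : CochainComplex X.Modules ℤ) :
    (DCoh.tensorCx.map ((extCx U).map φ)).app K ≫ (extTensorCxIso U L' K).inv =
      (extTensorCxIso U L K).inv ≫
        (extCx U).map ((DCoh.tensorCx.map φ).app ((resCx U.ι).obj K)) := by
  haveI : PreservesColimitsOfSize.{u, u} (CxOX.extZero U.ι) :=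
    (CxOX.extZeroAdj U.ι).leftAdjoint_preservesColimits
  haveI : PreservesColimitsOfSize.{0, 0} (CxOX.extZero U.ι) := preservesColimitsOfSize_shrink.{0, u, 0, u} _
  exact Groth.Agent.KFlat.mapTotIso_inv_natural (extTensorNatIso U) K φ

/-- The tensor product of complexes is symmetric. -/
theorem nonempty_symCx {C : Type u} [SmallCategory C] {J : GrothendieckTopology C}
    (O : Sheaf J CommRingCat.{u}) (P A : CochainComplex (ModSite.Mod O) ℤ) :
    Nonempty (((ModSite.tensorCx O).obj P).obj A ≅ ((ModSite.tensorCx O).obj A).obj P) :=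
  ⟨totIso (symmIso O) P A ≪≫ (Groth.Agent.KFlat.totRIso (ModSite.tensorBi O) P).app A⟩

theorem nonempty_symCxSch {Z : Scheme.{u}} (P A : CochainComplex Z.Modules ℤ) :
    Nonempty ((DCoh.tensorCx.obj P).obj A ≅ (DCoh.tensorCx.obj A).obj P) :=
  nonempty_symCx Z.sheaf P A

theorem isZero_homology_mapCx {C D : Type*} [Category C] [Abelian C] [Category D] [Abelian D] (G : C ⥤ D)
    [G.Additive] [PreservesFiniteLimits G] [PreservesFiniteColimits G] (L : CochainComplex C ℤ) (i : ℤ)
    (h : IsZero (L.homology i)) :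
    IsZero (((G.mapHomologicalComplex (ComplexShape.up ℤ)).obj L).homology i) :=
  (G.map_isZero h).of_iso ((L.sc i).mapHomologyIso G)

/-- Extension by zero preserves K-flat complexes. -/
theorem isKFlat_extCx {P : CochainComplex (U : Scheme.{u}).Modules ℤ} (hP : DCoh.IsKFlat P) :
    DCoh.IsKFlat ((extCx U).obj P) := by
  intro A hA i
  obtain ⟨e₁⟩ := nonempty_symCxSch A ((extCx U).obj P)
  obtain ⟨e₂⟩ := nonempty_symCxSch P ((resCx U.ι).obj A)
  haveI : PreservesFiniteColimits (CxOX.extZero U.ι) := by
    haveI : PreservesColimitsOfSize.{u, u} (CxOX.extZero U.ι) :=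
      (CxOX.extZeroAdj U.ι).leftAdjoint_preservesColimits
    exact PreservesColimitsOfSize.preservesFiniteColimits _
  refine IsZero.of_iso ?_ ((HomologicalComplex.homologyFunctor _ _ i).mapIso
    (e₁ ≪≫ (extTensorCxIso U P A).symm ≪≫ (extCx U).mapIso e₂))
  exact isZero_homology_mapCx (CxOX.extZero U.ι) _ i
    (hP _ (fun j => isZero_homology_mapCx (Scheme.Modules.restrictFunctor U.ι) A j (hA j)) i)

end Groth.Agent.DCohLib
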