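import Groth.Agent.DCohLib.StalkKFlat
import Groth.Agent.PullbackMod.SkyStalk
import Mathlib.RingTheory.TensorProduct.Maps
import Mathlib.LinearAlgebra.TensorProduct.Tower

/-!
# Inverse images of K-flat complexes are K-flat
-/

set_option autoImplicit false
set_option linter.style.haveILetI false

universe u

open CategoryTheory CategoryTheory.Limits AlgebraicGeometry TopologicalSpace Opposite MonoidalCategory
open Groth.Agent.PullbackMod
open scoped TensorProduct

noncomputable section

namespace Groth.Agent.DCohLib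

section BaseChange

variable (A B : Type u) [CommRing A] [CommRing B] [Algebra A B]

/-- Base change of modules along `A → B`. -/
def bcF : ModuleCat.{u} A ⥤ ModuleCat.{u} B where
  obj P := ModuleCat.of B (B ⊗[A] P)
  map f := ModuleCat.ofHom (f.hom.baseChange B)
  map_id P := by
    ext : 1
    exact LinearMap.baseChange_id
  map_comp f g := by
    ext : 1
    exact LinearMap.baseChange_comp f.hom g.hom

instance additive_bcF : (bcF A B).Additive where
  map_add {P Q f g} := by
    ext : 1
    exact LinearMap.baseChange_add f.hom g.hom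

/-- Restriction of scalars to `A`. -/
abbrev resF' : ModuleCat.{u} B ⥤ ModuleCat.{u} A := ModuleCat.restrictScalars (algebraMap A B)

/-- `M ⊗_B (B ⊗_A P) = M ⊗_A P`. -/
def cancelIso (M : ModuleCat.{u} B) (P : ModuleCat.{u} A) :
    (resF' A B).obj (M ⊗ (bcF A B).obj P) ≅ (resF' A B).obj M ⊗ P :=
  letI : Module A M := Module.compHom M (algebraMap A B)
  haveI : IsScalarTower A B M := .of_algebraMap_smul fun _ _ => rfl
  (show ↥((resF' A B).obj (M ⊗ (bcF A B).obj P)) ≃ₗ[A] ↥((resF' A B).obj M ⊗ P) from
    AddEquiv.toLinearEquiv (TensorProduct.AlgebraTensorModule.cancelBaseChange A B B M P).toAddEquiv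
      fun a z =>
        ((TensorProduct.AlgebraTensorModule.cancelBaseChange A B B M P).map_smul (algebraMap A B a) z).trans
          (algebraMap_smul B a _)).toModuleIso

theorem cancelIso_hom_tmul (M : ModuleCat.{u} B) (P : ModuleCat.{u} A) (m : M) (b : B) (p : P) :
    (cancelIso A B M P).hom (m ⊗ₜ[B] (b ⊗ₜ[A] p) : (M : Type u) ⊗[B] (B ⊗[A] (P : Type u))) =
      ((b • m) ⊗ₜ[A] p : (((resF' A B).obj M : ModuleCat.{u} A) : Type u) ⊗[A] (P : Type u)) :=
  letI : Module A M := Module.compHom M (algebraMap A B)
  haveI : IsScalarTower A B M := .of_algebraMap_smul fun _ _ => rfl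
  TensorProduct.AlgebraTensorModule.cancelBaseChange_tmul A B B m p b

theorem cancelIso_natural_right (M : ModuleCat.{u} B) {P Q : ModuleCat.{u} A} (g : P ⟶ Q) :
    (resF' A B).map (M ◁ (bcF A B).map g) ≫ (cancelIso A B M Q).hom =
      (cancelIso A B M P).hom ≫ (resF' A B).obj M ◁ g := by
  refine ModuleCat.hom_ext (LinearMap.ext fun z => ?_)
  change (M : Type u) ⊗[B] (B ⊗[A] (P : Type u)) at z
  induction z using TensorProduct.induction_on with
  | zero => exact (map_zero _).trans (map_zero _).symm
  | tmul m w =>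
    induction w using TensorProduct.induction_on with
    | zero =>
      rw [TensorProduct.tmul_zero]
      exact (map_zero _).trans (map_zero _).symm
    | tmul b p =>
      refine (cancelIso_hom_tmul A B M Q m b (g p)).trans ?_
      refine Eq.trans ?_ (congrArg ((resF' A B).obj M ◁ g).hom (cancelIso_hom_tmul A B M P m b p)).symm
      rfl
    | add a b ha hb =>
      rw [TensorProduct.tmul_add]
      exact (map_add _ _ _).trans ((congrArg₂ (· + ·) ha hb).trans (map_add _ _ _).symm)
  | add a b ha hb => exact (map_add _ _ _).trans ((congrArg₂ (· + ·) ha hb).trans (map_add _ _ _).symm)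

theorem cancelIso_natural_left {M N : ModuleCat.{u} B} (g : M ⟶ N) (P : ModuleCat.{u} A) :
    (resF' A B).map (g ▷ (bcF A B).obj P) ≫ (cancelIso A B N P).hom =
      (cancelIso A B M P).hom ≫ (resF' A B).map g ▷ P := by
  refine ModuleCat.hom_ext (LinearMap.ext fun z => ?_)
  change (M : Type u) ⊗[B] (B ⊗[A] (P : Type u)) at z
  induction z using TensorProduct.induction_on with
  | zero => exact (map_zero _).trans (map_zero _).symm
  | tmul m w =>
    induction w using TensorProduct.induction_on with
    | zero =>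
      rw [TensorProduct.tmul_zero]
      exact (map_zero _).trans (map_zero _).symm
    | tmul b p =>
      refine (cancelIso_hom_tmul A B N P (g m) b p).trans ?_
      refine Eq.trans ?_ (congrArg ((resF' A B).map g ▷ P).hom (cancelIso_hom_tmul A B M P m b p)).symm
      exact congrArg (· ⊗ₜ[A] p) (map_smul g.hom b m).symm
    | add a b ha hb =>
      rw [TensorProduct.tmul_add]
      exact (map_add _ _ _).trans ((congrArg₂ (· + ·) ha hb).trans (map_add _ _ _).symm)
  | add a b ha hb => exact (map_add _ _ _).trans ((congrArg₂ (· + ·) ha hb).trans (map_add _ _ _).symm)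

/-- The comparison of bifunctors. -/
def cancelNatIso :
    (curriedTensor (ModuleCat.{u} B) ⋙ (Functor.whiskeringLeft _ _ _).obj (bcF A B)) ⋙
        (Functor.whiskeringRight _ _ _).obj (resF' A B) ≅
      resF' A B ⋙ curriedTensor (ModuleCat.{u} A) :=
  NatIso.ofComponents
    (fun M => NatIso.ofComponents (fun P => cancelIso A B M P)
      fun g => cancelIso_natural_right A B M g)
    fun g => NatTrans.ext (funext fun P => cancelIso_natural_left A B g P)

instance additive_bcBi_obj (M : ModuleCat.{u} B) :
    ((curriedTensor (ModuleCat.{u} B) ⋙ (Functor.whiskeringLeft _ _ _).obj (bcF A B)).obj M).Additive :=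
  inferInstanceAs (bcF A B ⋙ (curriedTensor (ModuleCat.{u} B)).obj M).Additive

instance additive_resBi_obj (M : ModuleCat.{u} B) :
    ((resF' A B ⋙ curriedTensor (ModuleCat.{u} A)).obj M).Additive :=
  inferInstanceAs ((curriedTensor (ModuleCat.{u} A)).obj ((resF' A B).obj M)).Additive

/-- Base change preserves K-flat complexes. -/
theorem isKFlat_baseChange {K : DRing.Cx A} (hK : DRing.IsKFlat A K) :
    DRing.IsKFlat B (((bcF A B).mapHomologicalComplex (ComplexShape.up ℤ)).obj K) := by
  intro M hM i
  let R := resF' A B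
  let e : (R.mapHomologicalComplex (ComplexShape.up ℤ)).obj
        (M ⊗ ((bcF A B).mapHomologicalComplex (ComplexShape.up ℤ)).obj K) ≅
      (R.mapHomologicalComplex (ComplexShape.up ℤ)).obj M ⊗ K :=
    Groth.Agent.KFlat.mapTotIso
      (F := curriedTensor (ModuleCat.{u} B) ⋙ (Functor.whiskeringLeft _ _ _).obj (bcF A B))
      (F' := R ⋙ curriedTensor (ModuleCat.{u} A)) (G := R) (cancelNatIso A B) M K
  have hR : ∀ j, IsZero (((R.mapHomologicalComplex (ComplexShape.up ℤ)).obj M).homology j) := fun j =>
    (R.map_isZero (hM j)).of_iso ((M.sc j).mapHomologyIso R)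
  have h1 : IsZero (R.obj ((M ⊗ ((bcF A B).mapHomologicalComplex (ComplexShape.up ℤ)).obj K).homology i)) :=
    ((hK _ hR i).of_iso ((HomologicalComplex.homologyFunctor _ _ i).mapIso e)).of_iso
      (((M ⊗ ((bcF A B).mapHomologicalComplex (ComplexShape.up ℤ)).obj K).sc i).mapHomologyIso R).symm
  have hs := ModuleCat.subsingleton_of_isZero h1
  exact @ModuleCat.isZero_of_subsingleton _ _ _
    (show Subsingleton ↥((M ⊗ ((bcF A B).mapHomologicalComplex (ComplexShape.up ℤ)).obj K).homology i) from hs)

end BaseChange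

theorem isKFlat_of_iso_ring {A : Type u} [CommRing A] {K L : DRing.Cx A} (e : K ≅ L)
    (h : DRing.IsKFlat A K) : DRing.IsKFlat A L := fun M hM i =>
  (h M hM i).of_iso ((HomologicalComplex.homologyFunctor _ _ i).mapIso ((tensorLeft M).mapIso e.symm))

variable {X Y : Scheme.{u}} (f : X ⟶ Y) (x : X)

/-- The stalk of an inverse image is the base change of the stalk. -/
def pullStalkEquiv (M : Y.Modules) :
    letI := (f.stalkMap x).hom.toAlgebra
    X.presheaf.stalk x ⊗[Y.presheaf.stalk (f x)] M.presheaf.stalk (f x)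
      ≃ₗ[X.presheaf.stalk x] ((Scheme.Modules.pullback f).obj M).presheaf.stalk x :=
  letI := (f.stalkMap x).hom.toAlgebra
  letI := Module.compHom (((Scheme.Modules.pullback f).obj M).presheaf.stalk x) (f.stalkMap x).hom
  haveI : IsScalarTower (Y.presheaf.stalk (f x)) (X.presheaf.stalk x)
      (((Scheme.Modules.pullback f).obj M).presheaf.stalk x) := .of_algebraMap_smul fun _ _ => rfl
  (isBaseChange_pullStalkL' f M x).equiv

theorem pullStalkEquiv_tmul (M : Y.Modules) (b : X.presheaf.stalk x) (m : M.presheaf.stalk (f x)) :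
    letI := (f.stalkMap x).hom.toAlgebra
    pullStalkEquiv f x M (b ⊗ₜ m) = b • pullStalk f M x m :=
  letI := (f.stalkMap x).hom.toAlgebra
  letI := Module.compHom (((Scheme.Modules.pullback f).obj M).presheaf.stalk x) (f.stalkMap x).hom
  haveI : IsScalarTower (Y.presheaf.stalk (f x)) (X.presheaf.stalk x)
      (((Scheme.Modules.pullback f).obj M).presheaf.stalk x) := .of_algebraMap_smul fun _ _ => rfl
  IsBaseChange.equiv_tmul (isBaseChange_pullStalkL' f M x) b m

theorem pullStalkEquiv_natural {M N : Y.Modules} (φ : M ⟶ N) :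
    letI := (f.stalkMap x).hom.toAlgebra
    ∀ z, stalkLin ((Scheme.Modules.pullback f).map φ) x (pullStalkEquiv f x M z) =
      pullStalkEquiv f x N ((stalkLin φ (f x)).baseChange (X.presheaf.stalk x) z) := by
  letI := (f.stalkMap x).hom.toAlgebra
  intro z
  induction z with
  | zero => simp
  | add p q hp hq => simp only [map_add, hp, hq]
  | tmul b m =>
    rw [LinearMap.baseChange_tmul, pullStalkEquiv_tmul, pullStalkEquiv_tmul, map_smul]
    exact congrArg (b • ·) (pullStalk_natural f φ x m)

/-- The stalk of an inverse image, as an isomorphism of modules. -/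
def pullStalkObjIso (M : Y.Modules) :
    letI := (f.stalkMap x).hom.toAlgebra
    (bcF (Y.presheaf.stalk (f x)) (X.presheaf.stalk x)).obj ((stkF (f x)).obj M) ≅
      (stkF x).obj ((Scheme.Modules.pullback f).obj M) :=
  letI := (f.stalkMap x).hom.toAlgebra
  (pullStalkEquiv f x M).toModuleIso

theorem pullStalkObjIso_natural {M N : Y.Modules} (φ : M ⟶ N) :
    letI := (f.stalkMap x).hom.toAlgebra
    (bcF (Y.presheaf.stalk (f x)) (X.presheaf.stalk x)).map ((stkF (f x)).map φ) ≫
        (pullStalkObjIso f x N).hom =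
      (pullStalkObjIso f x M).hom ≫ (stkF x).map ((Scheme.Modules.pullback f).map φ) := by
  letI := (f.stalkMap x).hom.toAlgebra
  exact ModuleCat.hom_ext (LinearMap.ext fun z => (pullStalkEquiv_natural f x φ z).symm)

/-- The stalk of an inverse image is the base change of the stalk, naturally. -/
def pullStalkNatIso :
    letI := (f.stalkMap x).hom.toAlgebra
    Scheme.Modules.pullback f ⋙ stkF x ≅
      stkF (f x) ⋙ bcF (Y.presheaf.stalk (f x)) (X.presheaf.stalk x) :=
  letI := (f.stalkMap x).hom.toAlgebra
  (NatIso.ofComponents (F := stkF (f x) ⋙ bcF (Y.presheaf.stalk (f x)) (X.presheaf.stalk x))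
    (G := Scheme.Modules.pullback f ⋙ stkF x) (pullStalkObjIso f x)
    fun φ => pullStalkObjIso_natural f x φ).symm

/-- An isomorphism of composite functors gives one of the iterated images of a complex. -/
def mapCxSquareIso {C D D' E : Type*} [Category C] [Category D] [Category D'] [Category E]
    [HasZeroMorphisms C] [HasZeroMorphisms D] [HasZeroMorphisms D'] [HasZeroMorphisms E]
    (F₁ : C ⥤ D) (G₁ : D ⥤ E) (F₂ : C ⥤ D') (G₂ : D' ⥤ E)
    [F₁.PreservesZeroMorphisms] [G₁.PreservesZeroMorphisms] [F₂.PreservesZeroMorphisms]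
    [G₂.PreservesZeroMorphisms] (e : F₁ ⋙ G₁ ≅ F₂ ⋙ G₂) (K : CochainComplex C ℤ) :
    (G₁.mapHomologicalComplex _).obj ((F₁.mapHomologicalComplex _).obj K) ≅
      (G₂.mapHomologicalComplex _).obj ((F₂.mapHomologicalComplex (ComplexShape.up ℤ)).obj K) :=
  HomologicalComplex.Hom.isoOfComponents (fun n => e.app (K.X n))
    fun i j _ => (e.hom.naturality (K.d i j)).symm

/-- The inverse image of a K-flat complex is K-flat. -/
theorem isKFlat_pullback {K : CochainComplex Y.Modules ℤ} (hK : DCoh.IsKFlat K) :
    DCoh.IsKFlat (((Scheme.Modules.pullback f).mapHomologicalComplex (ComplexShape.up ℤ)).obj K) := by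
  refine (isKFlat_iff_stalk _).2 fun x => ?_
  letI := (f.stalkMap x).hom.toAlgebra
  have h := isKFlat_baseChange (Y.presheaf.stalk (f x)) (X.presheaf.stalk x) ((isKFlat_iff_stalk K).1 hK (f x))
  exact isKFlat_of_iso_ring (mapCxSquareIso (Scheme.Modules.pullback f) (stkF x) (stkF (f x))
    (bcF (Y.presheaf.stalk (f x)) (X.presheaf.stalk x)) (pullStalkNatIso f x) K).symm h

end Groth.Agent.DCohLib
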