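import Groth.Agent.DCohLib.Adjoint
import Groth.Agent.DCohLib.PullKFlat
import Groth.Agent.DCohLib.Restrict
import Groth.Agent.KInj.Restrict
import Groth.Agent.SiteBase.ExtZeroMod
import Groth.Prelude.Def_CxOX

/-!
# Derived categories and open subschemes
-/

set_option autoImplicit false
set_option linter.style.haveILetI false

universe u

open CategoryTheory CategoryTheory.Limits AlgebraicGeometry TopologicalSpace

attribute [local instance] HasDerivedCategory.standard

noncomputable section

namespace Groth.Agent.DCohLib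

variable {X Y : Scheme.{u}}

/-- Direct images commute with restriction to opens of the target. -/
def restrictPushIso (f : X ⟶ Y) (V : Y.Opens) :
    Scheme.Modules.pushforward f ⋙ Scheme.Modules.restrictFunctor V.ι ≅
      Scheme.Modules.restrictFunctor (f ⁻¹ᵁ V).ι ⋙ Scheme.Modules.pushforward (f ∣_ V) :=
  letI := CategoryTheory.Functor.isContinuous_comp.{u} V.ι.opensFunctor (Opens.map f.base)
    (Opens.grothendieckTopology (V : Scheme.{u})) (Opens.grothendieckTopology Y) (Opens.grothendieckTopology X)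
  letI := CategoryTheory.Functor.isContinuous_comp.{u} (Opens.map (f ∣_ V).base) (f ⁻¹ᵁ V).ι.opensFunctor
    (Opens.grothendieckTopology (V : Scheme.{u})) (Opens.grothendieckTopology ((f ⁻¹ᵁ V : X.Opens) : Scheme.{u})) (Opens.grothendieckTopology X)
  SheafOfModules.pushforwardComp _ _ ≪≫
    SheafOfModules.pushforwardNatIso _ (NatIso.ofComponents
      (fun W ↦ eqToIso (image_morphismRestrict_preimage f V W)) fun _ ↦ rfl) ≪≫
    SheafOfModules.pushforwardCongr (by
      ext W x
      simp
      have h := (morphismRestrict_app f V W.unop).trans (congrArg (fun e => f.app (V.ι ''ᵁ W.unop) ≫ X.presheaf.map e) (eqToHom_op (image_morphismRestrict_preimage f V W.unop)))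
      exact (ConcreteCategory.congr_hom h x).symm) ≪≫
    (SheafOfModules.pushforwardComp _ _).symm

instance preservesMonomorphisms_extZero_ι (V : X.Opens) :
    (CxOX.extZero V.ι).PreservesMonomorphisms :=
  @Functor.PreservesMonomorphisms.of_iso _ _ _ _ _ _
    { preserves := fun {A B} g _ =>
        @Functor.PreservesMonomorphisms.preserves _ _ _ _ (ModSite.extZero X.sheaf V)
          (Groth.Agent.SiteBase.ExtZeroPre.preservesMonomorphisms_extZero X.sheaf V) _ _
          ((Scheme.Modules.overEquiv V).inverse.map g)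
          ((Scheme.Modules.overEquiv V).inverse.map_mono g) }
    (CxOX.extZeroIsoSite V).symm

instance preservesFiniteLimits_extZero_ι (V : X.Opens) :
    PreservesFiniteLimits (CxOX.extZero V.ι) :=
  Groth.Agent.KInj.preservesFiniteLimits_of_preservesMonomorphisms (CxOX.extZeroAdj V.ι)

/-- Restriction to an open preserves K-injective complexes. -/
theorem isKInjective_restrict (V : X.Opens) (I : CochainComplex X.Modules ℤ) [I.IsKInjective] :
    CochainComplex.IsKInjective ((resCx V.ι).obj I) :=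
  Groth.Agent.KInj.isKInjective_map_of_adjunction (CxOX.extZeroAdj V.ι) I

/-- An adjunction of exact functors on derived categories. -/
theorem nonempty_extZeroD_adj (V : X.Opens) [PreservesFiniteLimits (CxOX.extZero V.ι)]
    [PreservesFiniteLimits (Scheme.Modules.restrictFunctor V.ι)] :
    Nonempty (CxOX.extZeroD V.ι ⊣ DCoh.restrictD V.ι) := by
  let adjK := Groth.Agent.KInj.homotopyAdjunction (CxOX.extZeroAdj V.ι)
  letI : CatCommSq ((CxOX.extZero V.ι).mapHomotopyCategory (ComplexShape.up ℤ)) DerivedCategory.Qh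
      DerivedCategory.Qh (CxOX.extZeroD V.ι) := ⟨(CxOX.extZero V.ι).mapDerivedCategoryFactorsh.symm⟩
  letI : CatCommSq ((Scheme.Modules.restrictFunctor V.ι).mapHomotopyCategory (ComplexShape.up ℤ))
      DerivedCategory.Qh DerivedCategory.Qh (DCoh.restrictD V.ι) :=
    ⟨(Scheme.Modules.restrictFunctor V.ι).mapDerivedCategoryFactorsh.symm⟩
  exact ⟨adjK.localization DerivedCategory.Qh
    (HomotopyCategory.quasiIso (V : Scheme.{u}).Modules (ComplexShape.up ℤ)) DerivedCategory.Qh
    (HomotopyCategory.quasiIso X.Modules (ComplexShape.up ℤ)) (CxOX.extZeroD V.ι) (DCoh.restrictD V.ι)⟩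

/-- Derived direct images commute with restriction to opens of the target. -/
theorem nonempty_restrictD_rpush (f : X ⟶ Y) (V : Y.Opens) [DCoh.HasRpush f] [DCoh.HasRpush (f ∣_ V)]
    [PreservesFiniteLimits (Scheme.Modules.restrictFunctor V.ι)]
    [PreservesFiniteLimits (Scheme.Modules.restrictFunctor (f ⁻¹ᵁ V).ι)] :
    Nonempty (DCoh.Rpush f ⋙ DCoh.restrictD V.ι ≅
      DCoh.restrictD (f ⁻¹ᵁ V).ι ⋙ DCoh.Rpush (f ∣_ V)) := by
  let W := HomotopyCategory.quasiIso X.Modules (ComplexShape.up ℤ)
  let Φ : HomotopyCategory X.Modules (ComplexShape.up ℤ) ⥤ DCoh.D (V : Scheme.{u}) :=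
    DCoh.pushKh f ⋙ DCoh.restrictD V.ι
  let Rr := (Scheme.Modules.restrictFunctor (f ⁻¹ᵁ V).ι).mapHomotopyCategory (ComplexShape.up ℤ)
  let α : Φ ⟶ DerivedCategory.Qh ⋙ DCoh.Rpush f ⋙ DCoh.restrictD V.ι :=
    Functor.whiskerRight (rpushUnit f) (DCoh.restrictD V.ι) ≫ (Functor.associator _ _ _).hom
  let eM := restrictPushIso f V
  let eK : (Scheme.Modules.pushforward f).mapHomotopyCategory (ComplexShape.up ℤ) ⋙
      (Scheme.Modules.restrictFunctor V.ι).mapHomotopyCategory (ComplexShape.up ℤ) ≅
      Rr ⋙ (Scheme.Modules.pushforward (f ∣_ V)).mapHomotopyCategory (ComplexShape.up ℤ) :=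
    NatIso.ofComponents
      (fun K => (HomotopyCategory.quotient _ _).mapIso (mapCxSquareIso _ _ _ _ eM K.as))
      fun {K L} φ => by
        obtain ⟨φ, rfl⟩ := (HomotopyCategory.quotient X.Modules (ComplexShape.up ℤ)).map_surjective φ
        refine ((HomotopyCategory.quotient (V : Scheme.{u}).Modules (ComplexShape.up ℤ)).map_comp _ _).symm.trans
          (Eq.trans ?_ ((HomotopyCategory.quotient (V : Scheme.{u}).Modules (ComplexShape.up ℤ)).map_comp _ _))
        congr 1
        exact HomologicalComplex.hom_ext _ _ fun n => eM.hom.naturality (φ.f n)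
  let β₁ : Rr ⋙ DCoh.pushKh (f ∣_ V) ⟶
      DerivedCategory.Qh ⋙ DCoh.restrictD (f ⁻¹ᵁ V).ι ⋙ DCoh.Rpush (f ∣_ V) :=
    Functor.whiskerLeft Rr (rpushUnit (f ∣_ V)) ≫ (Functor.associator _ _ _).inv ≫
      Functor.whiskerRight
        (Scheme.Modules.restrictFunctor (f ⁻¹ᵁ V).ι).mapDerivedCategoryFactorsh.inv _ ≫
      (Functor.associator _ _ _).hom
  let eΦ : Φ ≅ Rr ⋙ DCoh.pushKh (f ∣_ V) :=
    Functor.associator _ _ _ ≪≫
      Functor.isoWhiskerLeft _ (Scheme.Modules.restrictFunctor V.ι).mapDerivedCategoryFactorsh ≪≫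
      (Functor.associator _ _ _).symm ≪≫ Functor.isoWhiskerRight eK DerivedCategory.Qh ≪≫
      Functor.associator _ _ _
  let β : Φ ⟶ DerivedCategory.Qh ⋙ DCoh.restrictD (f ⁻¹ᵁ V).ι ⋙ DCoh.Rpush (f ∣_ V) := eΦ.hom ≫ β₁
  haveI : (DCoh.Rpush f ⋙ DCoh.restrictD V.ι).IsRightDerivedFunctor α W :=
    Groth.Agent.KInj.isRightDerivedFunctor_of_isIso_h (hres_modules X) _ _ fun I hI => by
      haveI := hI
      haveI := isIso_rpushUnit_app f I
      simp only [α, NatTrans.comp_app, Functor.associator_hom_app, Functor.whiskerRight_app]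
      infer_instance
  haveI : (DCoh.restrictD (f ⁻¹ᵁ V).ι ⋙ DCoh.Rpush (f ∣_ V)).IsRightDerivedFunctor β W :=
    Groth.Agent.KInj.isRightDerivedFunctor_of_isIso_h (hres_modules X) _ _ fun I hI => by
      haveI := hI
      haveI := isKInjective_restrict (f ⁻¹ᵁ V) I
      haveI : IsIso ((rpushUnit (f ∣_ V)).app (Rr.obj ((HomotopyCategory.quotient X.Modules (ComplexShape.up ℤ)).obj I))) :=
        isIso_rpushUnit_app (f ∣_ V) ((resCx (f ⁻¹ᵁ V).ι).obj I)
      simp only [β, β₁, NatTrans.comp_app, Functor.associator_hom_app, Functor.associator_inv_app,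
        Functor.whiskerRight_app, Functor.whiskerLeft_app]
      infer_instance
  exact ⟨Functor.rightDerivedUnique _ _ α β W⟩

end Groth.Agent.DCohLib
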