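import Groth.Agent.DCohLib.PullPerf
import Groth.Agent.DCohLib.TensorPerf
import Groth.Agent.DCohLib.ExtTensor
import Groth.Agent.DCohLib.OpenD

/-!
# The projection map, and its behaviour over trivialising opens
-/

set_option autoImplicit false
set_option linter.style.haveILetI false

universe u

open CategoryTheory CategoryTheory.Limits AlgebraicGeometry TopologicalSpace

noncomputable section

namespace Groth.Agent.DCohLib

variable {X Y : Scheme.{u}} (f : X ⟶ Y)

theorem final_opens_map : (Opens.map f.base).Final where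
  out W := by
    have : Nonempty (StructuredArrow W (Opens.map f.base)) :=
      ⟨StructuredArrow.mk (Y := ⊤) (homOfLE le_top)⟩
    exact zigzag_isConnected fun a b => Zigzag.of_hom_inv
      (StructuredArrow.homMk (homOfLE le_top) : a ⟶ StructuredArrow.mk (Y := ⊤) (homOfLE le_top))
      (StructuredArrow.homMk (homOfLE le_top) : b ⟶ StructuredArrow.mk (Y := ⊤) (homOfLE le_top))

/-- The inverse image of the structure sheaf is the structure sheaf. -/
def pullStructureIso : (Scheme.Modules.pullback f).obj (Coh.structureModule Y) ≅ Coh.structureModule X :=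
  haveI := final_opens_map f
  letI : IsIso (SheafOfModules.pullbackObjUnitToUnit f.toRingCatSheafHom) :=
    @SheafOfModules.instIsIsoPullbackObjUnitToUnitOfFinal _ _ _ _ _ _ _ _ _ _ f.toRingCatSheafHom _
      (final_opens_map f)
  @asIso _ _ _ _ (SheafOfModules.pullbackObjUnitToUnit f.toRingCatSheafHom) this

theorem map_eq_of_natIso {C D : Type*} [Category C] [Category D] {F G : C ⥤ D} (β : F ≅ G) {a b b' : C}
    {k : a ⟶ b'} {h : a ⟶ b} {c : G.obj b ⟶ G.obj b'} (e : G.map k = G.map h ≫ c) :
    F.map k = F.map h ≫ β.hom.app b ≫ c ≫ β.inv.app b' := by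
  rw [β.hom.naturality_assoc, ← Category.assoc (G.map h), ← e, β.inv.naturality, β.hom_inv_id_app_assoc]

/-- The adjunct of the projection map. -/
def projPre (M : X.Modules) (N : Y.Modules) :
    (Scheme.Modules.pullback f).obj (tmod ((Scheme.Modules.pushforward f).obj M) N) ⟶
      tmod M ((Scheme.Modules.pullback f).obj N) :=
  ((pullTensorBiIsoSch f).hom.app ((Scheme.Modules.pushforward f).obj M)).app N ≫
    ((DCoh.tensorBi (X := X)).map
      ((Scheme.Modules.pullbackPushforwardAdjunction f).counit.app M)).app _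

/-- The projection map `f_* M ⊗ N ⟶ f_* (M ⊗ f^* N)`. -/
def projMap (M : X.Modules) (N : Y.Modules) :
    tmod ((Scheme.Modules.pushforward f).obj M) N ⟶
      (Scheme.Modules.pushforward f).obj (tmod M ((Scheme.Modules.pullback f).obj N)) :=
  (Scheme.Modules.pullbackPushforwardAdjunction f).unit.app _ ≫
    (Scheme.Modules.pushforward f).map (projPre f M N)

theorem projMap_natural_right (M : X.Modules) {N N' : Y.Modules} (g : N ⟶ N') :
    ((DCoh.tensorBi (X := Y)).obj ((Scheme.Modules.pushforward f).obj M)).map g ≫ projMap f M N' =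
      projMap f M N ≫ (Scheme.Modules.pushforward f).map
        (((DCoh.tensorBi (X := X)).obj M).map ((Scheme.Modules.pullback f).map g)) := by
  simp only [projMap, projPre]
  rw [Category.assoc, ← Functor.map_comp]
  have h1 := (Scheme.Modules.pullbackPushforwardAdjunction f).unit.naturality
    (((DCoh.tensorBi (X := Y)).obj ((Scheme.Modules.pushforward f).obj M)).map g)
  refine ((Category.assoc _ _ _).symm.trans (congrArg (· ≫ _) h1)).trans ((Category.assoc _ _ _).trans ?_)
  refine congrArg (_ ≫ ·) (((Scheme.Modules.pushforward f).map_comp _ _).symm.trans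
    (congrArg (Scheme.Modules.pushforward f).map ?_))
  have h2 := ((pullTensorBiIsoSch f).hom.app ((Scheme.Modules.pushforward f).obj M)).naturality g
  refine ((Category.assoc _ _ _).symm.trans (congrArg (· ≫ _) h2)).trans ((Category.assoc _ _ _).trans ?_)
  refine Eq.trans ?_ (Category.assoc _ _ _).symm
  exact congrArg (_ ≫ ·) (((DCoh.tensorBi (X := X)).map
    ((Scheme.Modules.pullbackPushforwardAdjunction f).counit.app M)).naturality ((Scheme.Modules.pullback f).map g))

theorem projMap_natural_left {M M' : X.Modules} (g : M ⟶ M') (N : Y.Modules) :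
    ((DCoh.tensorBi (X := Y)).map ((Scheme.Modules.pushforward f).map g)).app N ≫ projMap f M' N =
      projMap f M N ≫ (Scheme.Modules.pushforward f).map
        (((DCoh.tensorBi (X := X)).map g).app ((Scheme.Modules.pullback f).obj N)) := by
  simp only [projMap, projPre]
  rw [Category.assoc, ← Functor.map_comp]
  have h1 := (Scheme.Modules.pullbackPushforwardAdjunction f).unit.naturality
    (((DCoh.tensorBi (X := Y)).map ((Scheme.Modules.pushforward f).map g)).app N)
  refine ((Category.assoc _ _ _).symm.trans (congrArg (· ≫ _) h1)).trans ((Category.assoc _ _ _).trans ?_)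
  refine congrArg (_ ≫ ·) (((Scheme.Modules.pushforward f).map_comp _ _).symm.trans
    (congrArg (Scheme.Modules.pushforward f).map ?_))
  have h2 := congr_app ((pullTensorBiIsoSch f).hom.naturality ((Scheme.Modules.pushforward f).map g)) N
  refine ((Category.assoc _ _ _).symm.trans (congrArg (· ≫ _) h2)).trans ((Category.assoc _ _ _).trans ?_)
  refine Eq.trans ?_ (Category.assoc _ _ _).symm
  refine congrArg (_ ≫ ·) ?_
  exact congr_app (((DCoh.tensorBi (X := X)).map_comp _ _).symm.trans
    ((congrArg (DCoh.tensorBi (X := X)).map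
      ((Scheme.Modules.pullbackPushforwardAdjunction f).counit.naturality g)).trans
        ((DCoh.tensorBi (X := X)).map_comp _ _))) ((Scheme.Modules.pullback f).obj N)

/-- The projection map, as a map of bifunctors. -/
def projTrans :
    Scheme.Modules.pushforward f ⋙ DCoh.tensorBi (X := Y) ⟶
      (DCoh.tensorBi (X := X) ⋙ (Functor.whiskeringLeft _ _ _).obj (Scheme.Modules.pullback f)) ⋙
        (Functor.whiskeringRight _ _ _).obj (Scheme.Modules.pushforward f) where
  app M := { app := fun N => projMap f M N, naturality := fun _ _ g => projMap_natural_right f M g }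
  naturality _ _ g := NatTrans.ext (funext fun N => projMap_natural_left f g N)

variable (V : Y.Opens)

/-- Inverse image commutes with restriction to an open. -/
def pullResIso : Scheme.Modules.pullback f ⋙ Scheme.Modules.restrictFunctor (f ⁻¹ᵁ V).ι ≅
    Scheme.Modules.restrictFunctor V.ι ⋙ Scheme.Modules.pullback (f ∣_ V) :=
  Functor.isoWhiskerLeft _ (Scheme.Modules.restrictFunctorIsoPullback (f ⁻¹ᵁ V).ι) ≪≫
    Scheme.Modules.pullbackComp (f ⁻¹ᵁ V).ι f ≪≫ Scheme.Modules.pullbackCongr (morphismRestrict_ι f V).symm ≪≫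
    (Scheme.Modules.pullbackComp (f ∣_ V) V.ι).symm ≪≫
    Functor.isoWhiskerRight (Scheme.Modules.restrictFunctorIsoPullback V.ι).symm _

/-- Inverse image commutes with extension by zero. -/
def pullExtIso : CxOX.extZero V.ι ⋙ Scheme.Modules.pullback f ≅
    Scheme.Modules.pullback (f ∣_ V) ⋙ CxOX.extZero (f ⁻¹ᵁ V).ι :=
  ((CxOX.extZeroAdj V.ι).comp (Scheme.Modules.pullbackPushforwardAdjunction f)).leftAdjointUniq
    (((Scheme.Modules.pullbackPushforwardAdjunction (f ∣_ V)).comp (CxOX.extZeroAdj (f ⁻¹ᵁ V).ι)).ofNatIsoRight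
      (restrictPushIso f V).symm)

theorem isIso_counit_pullExt (B : (V : Scheme.{u}).Modules) :
    IsIso ((CxOX.extZeroAdj (f ⁻¹ᵁ V).ι).counit.app
      ((Scheme.Modules.pullback f).obj ((CxOX.extZero V.ι).obj B))) := by
  refine (NatTrans.isIso_app_iff_of_iso (CxOX.extZeroAdj (f ⁻¹ᵁ V).ι).counit ((pullExtIso f V).app B)).2 ?_
  exact IsIso.of_isIso_fac_left
    ((CxOX.extZeroAdj (f ⁻¹ᵁ V).ι).left_triangle_components ((Scheme.Modules.pullback (f ∣_ V)).obj B))

/-- Maps out of inverse images of extensions by zero are detected on the open. -/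
theorem bijective_restrict_pullExt (B : (V : Scheme.{u}).Modules) (T : X.Modules) :
    Function.Bijective (fun k : (Scheme.Modules.pullback f).obj ((CxOX.extZero V.ι).obj B) ⟶ T =>
      (Scheme.Modules.restrictFunctor (f ⁻¹ᵁ V).ι).map k) := by
  let R := Scheme.Modules.restrictFunctor (f ⁻¹ᵁ V).ι
  let adj := CxOX.extZeroAdj (f ⁻¹ᵁ V).ι
  haveI := isIso_counit_pullExt f V B
  refine ⟨fun k k' h => ?_, fun k => ⟨inv (adj.counit.app _) ≫ (adj.homEquiv _ T).symm k, ?_⟩⟩
  · rw [← cancel_epi (adj.counit.app ((Scheme.Modules.pullback f).obj ((CxOX.extZero V.ι).obj B)))]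
    exact (adj.counit.naturality k).symm.trans ((congrArg (fun m => (CxOX.extZero _).map m ≫ _) h).trans
      (adj.counit.naturality k'))
  · show R.map _ = k
    have h : R.map (adj.counit.app ((Scheme.Modules.pullback f).obj ((CxOX.extZero V.ι).obj B))) =
        inv (adj.unit.app (R.obj ((Scheme.Modules.pullback f).obj ((CxOX.extZero V.ι).obj B)))) :=
      IsIso.eq_inv_of_hom_inv_id (adj.right_triangle_components _)
    rw [Functor.map_comp, Functor.map_inv, IsIso.inv_comp_eq, h, ← IsIso.inv_comp_eq, IsIso.inv_inv,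
      ← Adjunction.homEquiv_unit, Equiv.apply_symm_apply]

section RankOne

variable {V} {N : Y.Modules}
  (eN : (Scheme.Modules.restrictFunctor V.ι).obj N ≅ Coh.structureModule (V : Scheme.{u}))

/-- Tensoring with a module trivial on `V` does nothing on `V`. -/
def trivTensorIso (A : Y.Modules) :
    (Scheme.Modules.restrictFunctor V.ι).obj (tmod A N) ≅ (Scheme.Modules.restrictFunctor V.ι).obj A :=
  restrictTensorIso V.ι A N ≪≫ ((DCoh.tensorBi (X := (V : Scheme.{u}))).obj _).mapIso eN ≪≫
    tensorStructureIso _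

theorem trivTensorIso_natural {A A' : Y.Modules} (g : A ⟶ A') :
    (Scheme.Modules.restrictFunctor V.ι).map (((DCoh.tensorBi (X := Y)).map g).app N) ≫
        (trivTensorIso eN A').hom =
      (trivTensorIso eN A).hom ≫ (Scheme.Modules.restrictFunctor V.ι).map g := by
  simp only [trivTensorIso, Iso.trans_hom, Functor.mapIso_hom, Category.assoc]
  have h1 := restrictTensorIso_inv_natural_left V g N
  have h2 := ((DCoh.tensorBi (X := (V : Scheme.{u}))).map
    ((Scheme.Modules.restrictFunctor V.ι).map g)).naturality eN.hom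
  have h3 := (Groth.Agent.ModTensor.tensorUnitRight (V : Scheme.{u}).sheaf).hom.naturality
    ((Scheme.Modules.restrictFunctor V.ι).map g)
  rw [← cancel_epi (restrictTensorIso V.ι A N).inv, ← reassoc_of% h1, Iso.inv_hom_id_assoc,
    Iso.inv_hom_id_assoc]
  refine ((Category.assoc _ _ _).symm.trans (congrArg (· ≫ _) h2.symm)).trans ((Category.assoc _ _ _).trans ?_)
  exact congrArg (_ ≫ ·) h3

end RankOne

/-- The inverse image of a module trivial on `V` is trivial over `V`. -/
def pullTrivIso {N : Y.Modules}
    (eN : (Scheme.Modules.restrictFunctor V.ι).obj N ≅ Coh.structureModule (V : Scheme.{u})) :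
    (Scheme.Modules.restrictFunctor (f ⁻¹ᵁ V).ι).obj ((Scheme.Modules.pullback f).obj N) ≅
      Coh.structureModule ((f ⁻¹ᵁ V : X.Opens) : Scheme.{u}) :=
  (pullResIso f V).app N ≪≫ (Scheme.Modules.pullback (f ∣_ V)).mapIso eN ≪≫ pullStructureIso (f ∣_ V)

/-- Over an open on which the second factor is trivial the projection map is an isomorphism. -/
theorem isIso_restrict_projMap (M : X.Modules) {N : Y.Modules}
    (eN : (Scheme.Modules.restrictFunctor V.ι).obj N ≅ Coh.structureModule (V : Scheme.{u})) :
    IsIso ((Scheme.Modules.restrictFunctor V.ι).map (projMap f M N)) := by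
  rw [isIso_iff_yoneda_map_bijective]
  intro B
  let RY := Scheme.Modules.restrictFunctor V.ι
  let RX := Scheme.Modules.restrictFunctor (f ⁻¹ᵁ V).ι
  let P := Scheme.Modules.pullback f
  let P' := Scheme.Modules.pullback (f ∣_ V)
  let adjY := CxOX.extZeroAdj V.ι
  let adjP := Scheme.Modules.pullbackPushforwardAdjunction f
  let EB := (CxOX.extZero V.ι).obj B
  let A := (Scheme.Modules.pushforward f).obj M
  let β := pullResIso f V
  let e' := pullTrivIso f V eN
  -- natural automorphism of inverse image over `V`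
  let θ : ∀ T : Y.Modules, RX.obj (P.obj T) ⟶ RX.obj (P.obj T) := fun T =>
    β.hom.app T ≫ P'.map (trivTensorIso eN T).inv ≫ β.inv.app (tmod T N) ≫
      RX.map (((pullTensorBiIsoSch f).hom.app T).app N) ≫ (trivTensorIso e' (P.obj T)).hom
  haveI : ∀ T, IsIso (θ T) := fun T => by
    simp only [θ]
    infer_instance
  have hθ : ∀ {T T' : Y.Modules} (g : T ⟶ T'), RX.map (P.map g) ≫ θ T' = θ T ≫ RX.map (P.map g) := by
    intro T T' g
    simp only [θ, Category.assoc]
    rw [reassoc_of% (β.hom.naturality g)]
    refine congrArg (_ ≫ ·) ?_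
    have h0 : RY.map g ≫ (trivTensorIso eN T').inv =
        (trivTensorIso eN T).inv ≫ RY.map (((DCoh.tensorBi (X := Y)).map g).app N) := by
      rw [Iso.comp_inv_eq, Category.assoc, trivTensorIso_natural, Iso.inv_hom_id_assoc]
    rw [← trivTensorIso_natural e' (P.map g)]
    have h1 := β.inv.naturality (((DCoh.tensorBi (X := Y)).map g).app N)
    have h2 := (RX.map_comp _ _).symm.trans
      ((congrArg RX.map (congr_app ((pullTensorBiIsoSch f).hom.naturality g) N)).trans (RX.map_comp _ _))
    refine ((Category.assoc _ _ _).symm.trans (congrArg (· ≫ _)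
      ((P'.map_comp _ _).symm.trans ((congrArg P'.map h0).trans (P'.map_comp _ _))))).trans
      ((Category.assoc _ _ _).trans (congrArg (_ ≫ ·) ?_))
    refine ((Category.assoc _ _ _).symm.trans (congrArg (· ≫ _) h1)).trans
      ((Category.assoc _ _ _).trans (congrArg (_ ≫ ·) ?_))
    exact (Category.assoc _ _ _).symm.trans ((congrArg (· ≫ _) h2).trans (Category.assoc _ _ _))
  -- the identifications of homs
  let E₁ : (EB ⟶ A) ≃ (EB ⟶ tmod A N) :=
    (adjY.homEquiv B A).trans ((Iso.homCongr (Iso.refl B) (trivTensorIso eN A).symm).trans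
      (adjY.homEquiv B (tmod A N)).symm)
  have hE₁ : ∀ h : EB ⟶ A, RY.map (E₁ h) = RY.map h ≫ (trivTensorIso eN A).inv := by
    intro h
    rw [← cancel_epi (adjY.unit.app B)]
    refine (adjY.homEquiv_unit _ _ (E₁ h)).symm.trans ?_
    refine Eq.trans ?_ (Category.assoc _ _ _)
    refine Eq.trans ?_ (congrArg (· ≫ _) (adjY.homEquiv_unit _ _ h))
    simp only [E₁, Equiv.trans_apply, Equiv.apply_symm_apply, Iso.homCongr_apply, Iso.refl_inv,
      Category.id_comp, Iso.symm_hom]
  have key : ∀ h : EB ⟶ A, RX.map (P.map (E₁ h) ≫ projPre f M N) =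
      (θ EB ≫ RX.map ((adjP.homEquiv EB M).symm h)) ≫ (trivTensorIso e' M).inv := by
    intro h
    rw [Adjunction.homEquiv_counit, RX.map_comp, RX.map_comp, ← Category.assoc (θ EB), ← hθ h]
    simp only [θ, projPre, RX.map_comp, Category.assoc]
    have hb : RX.map (P.map (E₁ h)) = RX.map (P.map h) ≫ β.hom.app A ≫
        P'.map (trivTensorIso eN A).inv ≫ β.inv.app (tmod A N) := by
      exact map_eq_of_natIso β (((congrArg P'.map (hE₁ h)).trans (P'.map_comp _ _)))
    rw [hb]
    simp only [Category.assoc]
    have h3 : RX.map (((DCoh.tensorBi (X := X)).map (adjP.counit.app M)).app (P.obj N)) =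
        (trivTensorIso e' (P.obj A)).hom ≫ RX.map (adjP.counit.app M) ≫ (trivTensorIso e' M).inv := by
      exact ((Iso.eq_comp_inv _).2 (trivTensorIso_natural e' (adjP.counit.app M))).trans (Category.assoc _ _ _)
    exact congrArg (fun m => RX.map (P.map h) ≫ β.hom.app A ≫ P'.map (trivTensorIso eN A).inv ≫
      β.inv.app (tmod A N) ≫ RX.map (((pullTensorBiIsoSch f).hom.app A).app N) ≫ m) h3
  -- assemble
  have hbig : Function.Bijective (fun g : EB ⟶ tmod A N => g ≫ projMap f M N) := by
    rw [← E₁.bijective.of_comp_iff, ← ((adjP.homEquiv EB _).symm.bijective.of_comp_iff'),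
      ← (bijective_restrict_pullExt f V B _).of_comp_iff']
    have e : ((fun k => RX.map k) ∘ (adjP.homEquiv EB _).symm ∘ (fun g : EB ⟶ tmod A N => g ≫ projMap f M N) ∘ E₁) =
        fun h => (θ EB ≫ RX.map ((adjP.homEquiv EB M).symm h)) ≫ (trivTensorIso e' M).inv := by
      funext h
      refine Eq.trans (congrArg RX.map ?_) (key h)
      show (adjP.homEquiv EB _).symm (E₁ h ≫ projMap f M N) = P.map (E₁ h) ≫ projPre f M N
      rw [Adjunction.homEquiv_naturality_left_symm]
      refine congrArg (_ ≫ ·) ?_
      exact (congrArg (adjP.homEquiv _ _).symm (adjP.homEquiv_unit _ _ _).symm).trans (Equiv.symm_apply_apply _ _)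
    rw [e]
    exact (Iso.homToEquiv (trivTensorIso e' M).symm).bijective.comp
      ((Iso.homFromEquiv (asIso (θ EB)).symm).bijective.comp
        ((bijective_restrict_pullExt f V B M).comp (adjP.homEquiv EB M).symm.bijective))
  refine ((adjY.homEquiv B _).bijective.of_comp_iff _).1 ?_
  convert (adjY.homEquiv B _).bijective.comp hbig using 1
  funext g
  exact (adjY.homEquiv_naturality_right g (projMap f M N)).symm

end Groth.Agent.DCohLib
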