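import Groth.Agent.DCohLib.MVExtZero
import Mathlib.CategoryTheory.Adjunction.Triple

/-!
# Glueing objects of derived categories along two opens
-/

set_option autoImplicit false
set_option linter.style.haveILetI false

universe u v₁ v₂ u₁ u₂

open CategoryTheory CategoryTheory.Limits AlgebraicGeometry TopologicalSpace Opposite
open CategoryTheory.Pretriangulated

attribute [local instance] HasDerivedCategory.standard

noncomputable section

namespace Groth.Agent.DCohLib

theorem homEquiv_mate' {C : Type u₁} [Category.{v₁} C] {D : Type u₂} [Category.{v₂} D] {L₁ L₂ : C ⥤ D}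
    {R₁ R₂ : D ⥤ C} (adj₁ : L₁ ⊣ R₁) (adj₂ : L₂ ⊣ R₂) (β : R₁ ⟶ R₂) {M : C} {I : D} (g : L₁.obj M ⟶ I) :
    adj₂.homEquiv M I (((conjugateEquiv adj₁ adj₂).symm β).app M ≫ g) = adj₁.homEquiv M I g ≫ β.app I := by
  rw [adj₂.homEquiv_unit, adj₁.homEquiv_unit, Functor.map_comp, ← Category.assoc,
    ← unit_conjugateEquiv_symm, Category.assoc, ← β.naturality, Category.assoc]

/-- A complement of a component mapping isomorphically. -/
theorem isIso_of_complement {T : Type u₁} [Category.{v₁} T] [Preadditive T] [HasZeroObject T] [HasShift T ℤ]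
    [∀ n : ℤ, (shiftFunctor T n).Additive] [Pretriangulated T] {C B F P Q : T} (a : C ⟶ B) (g : B ⟶ F)
    (h : F ⟶ C⟦(1 : ℤ)⟧) (hT : Triangle.mk a g h ∈ distinguishedTriangles) (i₁ : P ⟶ B) (p₁ : B ⟶ P)
    (i₂ : Q ⟶ B) (p₂ : B ⟶ Q) (h₁₁ : i₁ ≫ p₁ = 𝟙 P) (h₁₂ : i₁ ≫ p₂ = 0)
    (htot : p₁ ≫ i₁ + p₂ ≫ i₂ = 𝟙 B) [IsIso (a ≫ p₂)] : IsIso (i₁ ≫ g) := by
  have hag : a ≫ g = 0 := comp_distTriang_mor_zero₁₂ _ hT
  haveI hm : Mono (i₁ ≫ g) := by
    rw [Preadditive.mono_iff_cancel_zero]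
    intro A x hx
    obtain ⟨y, hy⟩ : ∃ y : A ⟶ C, x ≫ i₁ = y ≫ a := Triangle.coyoneda_exact₂ _ hT (x ≫ i₁)
      (by exact (Category.assoc _ _ _).trans hx)
    have h2 := congrArg (· ≫ p₂) hy
    simp only [Category.assoc, h₁₂, comp_zero] at h2
    have hy0 : y = 0 := (cancel_mono (a ≫ p₂)).1 (h2.symm.trans zero_comp.symm)
    rw [hy0, zero_comp] at hy
    calc x = (x ≫ i₁) ≫ p₁ := by rw [Category.assoc, h₁₁, Category.comp_id]
      _ = 0 := by rw [hy, zero_comp]
  haveI hmon : Mono a := by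
    haveI : Mono (a ≫ p₂) := inferInstance
    exact mono_of_mono a p₂
  have hh : h = 0 := Triangle.mor₃_eq_zero_of_mono₁ _ hT hmon
  haveI : Epi g := Triangle.epi₂ _ hT hh
  haveI : IsSplitEpi g := isSplitEpi_of_epi g
  let θ : B ⟶ P := p₁ - p₂ ≫ inv (a ≫ p₂) ≫ a ≫ p₁
  have hθ : θ ≫ i₁ ≫ g = g := by
    have e : a ≫ p₁ ≫ i₁ ≫ g + a ≫ p₂ ≫ i₂ ≫ g = 0 := by
      have := congrArg (fun t => a ≫ t ≫ g) htot
      simpa [Preadditive.add_comp, Preadditive.comp_add, hag] using this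
    have e' : i₂ ≫ g = -(inv (a ≫ p₂) ≫ a ≫ p₁ ≫ i₁ ≫ g) := by
      rw [← cancel_epi (a ≫ p₂), Preadditive.comp_neg, IsIso.hom_inv_id_assoc, Category.assoc]
      exact eq_neg_of_add_eq_zero_right e
    have e2 : g = p₁ ≫ i₁ ≫ g + p₂ ≫ i₂ ≫ g := by
      have := congrArg (· ≫ g) htot
      simpa [Preadditive.add_comp] using this.symm
    conv_rhs => rw [e2, e']
    simp [θ, Preadditive.sub_comp, sub_eq_add_neg]
  haveI : IsSplitEpi (i₁ ≫ g) := IsSplitEpi.mk' ⟨section_ g ≫ θ, by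
    rw [Category.assoc, hθ, IsSplitEpi.id]⟩
  exact isIso_of_mono_of_isSplitEpi _

variable {X : Scheme.{u}}

/-- Extension by zero from `W'`, after restriction from `W`. -/
abbrev jlRel {W' W : X.Opens} (h : W' ≤ W) : (W : Scheme.{u}).Modules ⥤ X.Modules :=
  Scheme.Modules.restrictFunctor (X.homOfLE h) ⋙ CxOX.extZero W'.ι

/-- The adjunction for `jlRel`. -/
def jlRelAdj {W' W : X.Opens} (h : W' ≤ W) : jlRel h ⊣
    Scheme.Modules.restrictFunctor W'.ι ⋙ Scheme.Modules.pushforward (X.homOfLE h) :=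
  (Scheme.Modules.restrictAdjunction (X.homOfLE h)).comp (CxOX.extZeroAdj W'.ι)

/-- Restriction from `W` to `W'`, as modules on `W`. -/
def relUnit {W' W : X.Opens} (h : W' ≤ W) : Scheme.Modules.restrictFunctor W.ι ⟶
    Scheme.Modules.restrictFunctor W'.ι ⋙ Scheme.Modules.pushforward (X.homOfLE h) :=
  Functor.whiskerLeft (Scheme.Modules.restrictFunctor W.ι) (Scheme.Modules.restrictAdjunction (X.homOfLE h)).unit ≫
    (Functor.associator _ _ _).inv ≫
      Functor.whiskerRight ((Scheme.Modules.restrictFunctorComp (X.homOfLE h) W.ι).symm ≪≫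
        Scheme.Modules.restrictFunctorCongr (X.homOfLE_ι h)).hom (Scheme.Modules.pushforward (X.homOfLE h))

/-- The comparison of extensions by zero. -/
def relMu {W' W : X.Opens} (h : W' ≤ W) : jlRel h ⟶ CxOX.extZero W.ι :=
  (conjugateEquiv (CxOX.extZeroAdj W.ι) (jlRelAdj h)).symm (relUnit h)

theorem isIso_relUnit_push (U : X.Opens) {W' W : X.Opens} (h : W' ≤ W) (hU : W ⊓ U ≤ W')
    (I : (U : Scheme.{u}).Modules) : IsIso ((relUnit h).app ((Scheme.Modules.pushforward U.ι).obj I)) := by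
  let N := (Scheme.Modules.pushforward U.ι).obj I
  simp only [relUnit, NatTrans.comp_app, Functor.whiskerLeft_app, Functor.associator_inv_app,
    Functor.whiskerRight_app]
  haveI : IsIso ((Scheme.Modules.restrictAdjunction (X.homOfLE h)).unit.app
      ((Scheme.Modules.restrictFunctor W.ι).obj N)) := by
    refine Scheme.Modules.Hom.isIso_iff_isIso_app.2 fun O => ?_
    rw [Scheme.Modules.restrictAdjunction_unit_app_app]
    have e : U.ι ⁻¹ᵁ (W.ι ''ᵁ ((X.homOfLE h) ''ᵁ (X.homOfLE h) ⁻¹ᵁ O)) = U.ι ⁻¹ᵁ (W.ι ''ᵁ O) := by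
      refine le_antisymm (Scheme.Hom.preimage_mono _ (Scheme.Hom.image_mono _ (Scheme.Hom.image_preimage_le _ _))) ?_
      rintro y ⟨w, hw, hwy⟩
      have hy : (U.ι y) ∈ W' := hU ⟨hwy ▸ w.2, y.2⟩
      have hw' : (X.homOfLE h) ⟨U.ι y, hy⟩ = w :=
        (Scheme.homOfLE_apply' h (U.ι y) hy).trans (Subtype.ext hwy.symm)
      exact ⟨w, ⟨⟨U.ι y, hy⟩, show (X.homOfLE h) ⟨U.ι y, hy⟩ ∈ O by rw [hw']; exact hw, hw'⟩, hwy⟩
    show IsIso (I.presheaf.map _)
    have hI : ∀ {a b : ((U : Scheme.{u}).Opens)ᵒᵖ} (m : a ⟶ b), a = b → IsIso (I.presheaf.map m) := by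
      rintro a b m rfl
      rw [Subsingleton.elim m (𝟙 a), CategoryTheory.Functor.map_id]
      infer_instance
    exact hI _ (congrArg op e.symm)
  infer_instance

theorem isIso_restrict_relMu (U : X.Opens) {W' W : X.Opens} (h : W' ≤ W) (hU : W ⊓ U ≤ W')
    (B : (W : Scheme.{u}).Modules) :
    IsIso ((Scheme.Modules.restrictFunctor U.ι).map ((relMu h).app B)) := by
  refine isIso_of_coyoneda_map_bijective _ fun I => ?_
  let adj := Scheme.Modules.restrictAdjunction U.ι
  haveI := isIso_relUnit_push U h hU I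
  let e := (adj.homEquiv ((CxOX.extZero W.ι).obj B) I).trans ((CxOX.extZeroAdj W.ι).homEquiv B _)
  let e' := (adj.homEquiv ((jlRel h).obj B) I).trans ((jlRelAdj h).homEquiv B _)
  have key : ∀ x, e' ((Scheme.Modules.restrictFunctor U.ι).map ((relMu h).app B) ≫ x) =
      e x ≫ (relUnit h).app ((Scheme.Modules.pushforward U.ι).obj I) := fun x => by
    show (jlRelAdj h).homEquiv B _ (adj.homEquiv _ I _) = _
    rw [adj.homEquiv_naturality_left]
    exact homEquiv_mate' (CxOX.extZeroAdj W.ι) (jlRelAdj h) (relUnit h) _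
  constructor
  · intro x y hxy
    have := congrArg e' hxy
    rw [key, key, cancel_mono] at this
    exact e.injective this
  · intro z
    refine ⟨e.symm (e' z ≫ inv ((relUnit h).app ((Scheme.Modules.pushforward U.ι).obj I))), e'.injective ?_⟩
    rw [key, Equiv.apply_symm_apply, Category.assoc, IsIso.inv_hom_id, Category.comp_id]

instance isIso_extZero_unit (U : X.Opens) : IsIso (CxOX.extZeroAdj U.ι).unit :=
  (({ adj₁ := CxOX.extZeroAdj U.ι, adj₂ := Scheme.Modules.restrictAdjunction U.ι } :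
    Adjunction.Triple _ _ _).isIso_unit_iff_isIso_counit).2 inferInstance

/-- Glueing along two opens. -/
theorem exists_glue_two (U V : X.Opens)
    (A : DCoh.D (U : Scheme.{u})) (B : DCoh.D (V : Scheme.{u}))
    (c : (DCoh.restrictD (X.homOfLE (inf_le_left : U ⊓ V ≤ U))).obj A ≅
      (DCoh.restrictD (X.homOfLE (inf_le_right : U ⊓ V ≤ V))).obj B) :
    ∃ F : DCoh.D X, Nonempty ((DCoh.restrictD U.ι).obj F ≅ A) ∧ Nonempty ((DCoh.restrictD V.ι).obj F ≅ B) := by
  let Q := @DerivedCategory.Q X.Modules _ _ _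
  let A₀ := DerivedCategory.Q.objPreimage A
  let B₀ := DerivedCategory.Q.objPreimage B
  let eA := DerivedCategory.Q.objObjPreimageIso A
  let eB := DerivedCategory.Q.objObjPreimageIso B
  let C := ComplexShape.up ℤ
  let hU := (inf_le_left : U ⊓ V ≤ U)
  let hV := (inf_le_right : U ⊓ V ≤ V)
  let Z := CxOX.extZero (U ⊓ V).ι
  let μA : (Z.mapHomologicalComplex C).obj ((resCx (X.homOfLE hU)).obj A₀) ⟶
      ((CxOX.extZero U.ι).mapHomologicalComplex C).obj A₀ :=
    { f := fun n => (relMu hU).app (A₀.X n), comm' := fun i j _ => ((relMu hU).naturality (A₀.d i j)).symm }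
  let μB : (Z.mapHomologicalComplex C).obj ((resCx (X.homOfLE hV)).obj B₀) ⟶
      ((CxOX.extZero V.ι).mapHomologicalComplex C).obj B₀ :=
    { f := fun n => (relMu hV).app (B₀.X n), comm' := fun i j _ => ((relMu hV).naturality (B₀.d i j)).symm }
  let c' : DerivedCategory.Q.obj ((Z.mapHomologicalComplex C).obj ((resCx (X.homOfLE hU)).obj A₀)) ≅
      DerivedCategory.Q.obj ((Z.mapHomologicalComplex C).obj ((resCx (X.homOfLE hV)).obj B₀)) :=
    (Z.mapDerivedCategoryFactors.app _).symm ≪≫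
      Z.mapDerivedCategory.mapIso ((restrictDQ _ A₀).symm ≪≫ (DCoh.restrictD _).mapIso eA ≪≫ c ≪≫
        (DCoh.restrictD _).mapIso eB.symm ≪≫ restrictDQ _ B₀) ≪≫ Z.mapDerivedCategoryFactors.app _
  let a := biprod.lift (DerivedCategory.Q.map μA) (c'.hom ≫ DerivedCategory.Q.map μB)
  obtain ⟨F, g, h, hT⟩ := distinguished_cocone_triangle a
  refine ⟨F, ?_, ?_⟩
  · let R := DCoh.restrictD U.ι
    haveI : ∀ n, IsIso (((resCx U.ι).map μB).f n) := fun n =>
      isIso_restrict_relMu U hV (le_inf inf_le_right inf_le_left) (B₀.X n)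
    haveI : IsIso ((resCx U.ι).map μB) := HomologicalComplex.Hom.isIso_of_components _
    haveI : IsIso (R.map (DerivedCategory.Q.map μB)) :=
      (NatIso.isIso_map_iff (Scheme.Modules.restrictFunctor U.ι).mapDerivedCategoryFactors μB).2
        (inferInstanceAs (IsIso (DerivedCategory.Q.map ((resCx U.ι).map μB))))
    haveI : IsIso (R.map a ≫ R.map biprod.snd) := by
      rw [← R.map_comp, biprod.lift_snd, R.map_comp]
      infer_instance
    haveI := isIso_of_complement (R.map a) (R.map g) _ (R.map_distinguished _ hT)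
      (R.map biprod.inl) (R.map biprod.fst) (R.map biprod.inr) (R.map biprod.snd)
      (by rw [← R.map_comp, biprod.inl_fst, R.map_id]) (by rw [← R.map_comp, biprod.inl_snd, R.map_zero])
      (by rw [← R.map_comp, ← R.map_comp, ← R.map_add, biprod.total, R.map_id])
    exact ⟨(asIso (R.map biprod.inl ≫ R.map g)).symm ≪≫ restrictDQ U.ι _ ≪≫
      DerivedCategory.Q.mapIso ((NatIso.mapHomologicalComplex (asIso (CxOX.extZeroAdj U.ι).unit) C).symm.app A₀ ≪≫
        (Functor.mapHomologicalComplexIdIso _ C).app A₀) ≪≫ eA⟩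
  · let R := DCoh.restrictD V.ι
    haveI : ∀ n, IsIso (((resCx V.ι).map μA).f n) := fun n =>
      isIso_restrict_relMu V hU le_rfl (A₀.X n)
    haveI : IsIso ((resCx V.ι).map μA) := HomologicalComplex.Hom.isIso_of_components _
    haveI : IsIso (R.map (DerivedCategory.Q.map μA)) :=
      (NatIso.isIso_map_iff (Scheme.Modules.restrictFunctor V.ι).mapDerivedCategoryFactors μA).2
        (inferInstanceAs (IsIso (DerivedCategory.Q.map ((resCx V.ι).map μA))))
    haveI : IsIso (R.map a ≫ R.map biprod.fst) := by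
      rw [← R.map_comp, biprod.lift_fst]
      infer_instance
    haveI := isIso_of_complement (R.map a) (R.map g) _ (R.map_distinguished _ hT)
      (R.map biprod.inr) (R.map biprod.snd) (R.map biprod.inl) (R.map biprod.fst)
      (by rw [← R.map_comp, biprod.inr_snd, R.map_id]) (by rw [← R.map_comp, biprod.inr_fst, R.map_zero])
      (by rw [← R.map_comp, ← R.map_comp, ← R.map_add, add_comm, biprod.total, R.map_id])
    exact ⟨(asIso (R.map biprod.inr ≫ R.map g)).symm ≪≫ restrictDQ V.ι _ ≪≫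
      DerivedCategory.Q.mapIso ((NatIso.mapHomologicalComplex (asIso (CxOX.extZeroAdj V.ι).unit) C).symm.app B₀ ≪≫
        (Functor.mapHomologicalComplexIdIso _ C).app B₀) ≪≫ eB⟩

end Groth.Agent.DCohLib
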