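import Groth.Agent.DCohLib.MVExtZero
import Groth.Agent.DCohLib.GlueTwo
import Groth.Agent.DCohLib.PCTop
import Groth.Agent.DCohLib.StalkKFlat

/-!
# Objects supported in a closed subset of an open
-/

set_option autoImplicit false
set_option linter.style.haveILetI false

universe u

open CategoryTheory CategoryTheory.Limits AlgebraicGeometry TopologicalSpace Opposite
open CategoryTheory.Pretriangulated
open Groth.Agent.PullbackMod

attribute [local instance] HasDerivedCategory.standard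

noncomputable section

namespace Groth.Agent.DCohLib

variable {X : Scheme.{u}}

theorem subsingleton_stalk_of_isZero {M : X.Modules} (h : IsZero M) (x : X) :
    Subsingleton (M.presheaf.stalk x) :=
  ModuleCat.subsingleton_of_isZero ((stkF x).map_isZero h)

theorem isZero_of_stalks {M : X.Modules} (h : ∀ x : X, Subsingleton (M.presheaf.stalk x)) : IsZero M :=
  (IsZero.iff_id_eq_zero M).2 ((eq_zero_iff_stalk _).2 fun x => LinearMap.ext fun z => (h x).elim _ _)

/-- An object with vanishing cohomology sheaves is zero. -/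
theorem isZero_of_isZero_HD {K : DCoh.D X} (h : ∀ i, IsZero (DCoh.HD K i)) : IsZero K := by
  let F := DerivedCategory.Q.objPreimage K
  have hF : F.Acyclic := fun i => (HomologicalComplex.exactAt_iff_isZero_homology _ i).2
    (((h i).of_iso ((DerivedCategory.homologyFunctor X.Modules i).mapIso
      (DerivedCategory.Q.objObjPreimageIso K))).of_iso ((DerivedCategory.homologyFunctorFactors X.Modules i).app F).symm)
  have hi : IsIso (DerivedCategory.Q.map (0 : F ⟶ F)) := Localization.inverts DerivedCategory.Q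
    (HomologicalComplex.quasiIso X.Modules (ComplexShape.up ℤ)) _ ((HomologicalComplex.mem_quasiIso_iff _).2
      ⟨fun i => (quasiIsoAt_iff_exactAt (0 : F ⟶ F) i (hF i)).2 (hF i)⟩)
  rw [Functor.map_zero] at hi
  exact (IsZero.of_mono_zero (DerivedCategory.Q.obj F) (DerivedCategory.Q.obj F)).of_iso
    (DerivedCategory.Q.objObjPreimageIso K).symm

/-- Restriction to an open on which the support is empty gives zero. -/
theorem isZero_restrictD_of_support {K : DCoh.D X} (W : X.Opens)
    (h : ∀ i, ∀ x ∈ W, x ∉ CohB1.support (DCoh.HD K i)) : IsZero ((DCoh.restrictD W.ι).obj K) :=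
  isZero_of_isZero_HD fun i => (isZero_of_stalks fun y => by
    have hs : Subsingleton ((DCoh.HD K i).presheaf.stalk (W.ι y)) := not_not.1 (h i _ y.2)
    exact ((Scheme.Modules.restrictStalkNatIso W.ι y).app (DCoh.HD K i)).addCommGroupIsoToAddEquiv.toEquiv.subsingleton_congr.2 hs :
      IsZero ((Scheme.Modules.restrictFunctor W.ι).obj (DCoh.HD K i))).of_iso (restrictHDIso W.ι K i)

/-- An object supported in a closed subset of an open is the direct image of its restriction. -/
theorem nonempty_iso_rpush_restrict (U : X.Opens) [DCoh.HasRpush U.ι] (T : Set X) (hT : IsClosed T)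
    (hTU : T ⊆ (U : Set X)) (E : DCoh.D X) (hE : ∀ i : ℤ, CohB1.support (DCoh.HD E i) ⊆ T) :
    Nonempty (E ≅ (DCoh.Rpush U.ι).obj ((DCoh.restrictD U.ι).obj E)) := by
  let V : X.Opens := ⟨Tᶜ, hT.isOpen_compl⟩
  have hUV : U ⊔ V = ⊤ := eq_top_iff.2 fun x _ => by
    by_cases hx : x ∈ T
    · exact Or.inl (hTU hx)
    · exact Or.inr hx
  haveI : DCoh.HasRpush V.ι := Groth.Agent.KInj.hasRightDerivedFunctor (hres_modules _) _
  haveI : DCoh.HasRpush (U ⊓ V).ι := Groth.Agent.KInj.hasRightDerivedFunctor (hres_modules _) _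
  have hz : ∀ W : X.Opens, [DCoh.HasRpush W.ι] → W ≤ V →
      IsZero ((DCoh.Rpush W.ι).obj ((DCoh.restrictD W.ι).obj E)) := fun W _ hW => by
    exact (IsZero.iff_id_eq_zero _).2 (((lpullRpushAdj W.ι).homEquiv _ _).symm.injective
      ((isZero_restrictD_of_support W fun i x hx hs => hW hx (hE i hs)).eq_of_tgt _ _))
  obtain ⟨a, b, c, hT'⟩ := exists_mv_triangle_rpush_open U V hUV E
  haveI : IsIso a := (Triangle.isZero₃_iff_isIso₁ _ hT').1 (hz (U ⊓ V) inf_le_right)
  exact ⟨asIso a ≪≫ (isoBiprodZero (hz V le_rfl)).symm⟩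

theorem subsingleton_stalk_extZero (U : X.Opens) (G : (U : Scheme.{u}).Modules) (x : X) (hx : x ∉ U) :
    Subsingleton (((CxOX.extZero U.ι).obj G).presheaf.stalk x) := by
  let L := (CxOX.extZero U.ι).obj G
  let N := (stkF x).obj L
  have hz : IsZero ((Scheme.Modules.restrictFunctor U.ι).obj (sky x N)) := by
    refine isZero_of_stalks fun y => ⟨fun s t => ?_⟩
    obtain ⟨W, hy, s, rfl⟩ := TopCat.Presheaf.exists_germ_eq _ s
    obtain ⟨W', hy', t, rfl⟩ := TopCat.Presheaf.exists_germ_eq _ t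
    let R := ((Scheme.Modules.restrictFunctor U.ι).obj (sky x N)).presheaf
    rw [← R.germ_res_apply (homOfLE (inf_le_left : W ⊓ W' ≤ W)) y ⟨hy, hy'⟩ s,
      ← R.germ_res_apply (homOfLE (inf_le_right : W ⊓ W' ≤ W')) y ⟨hy, hy'⟩ t]
    refine congrArg _ (show @Eq (SkyObj x N (U.ι ''ᵁ (W ⊓ W'))) _ _ from funext fun h => absurd ?_ hx)
    obtain ⟨w, -, hw⟩ := h.down
    exact hw ▸ w.2
  have h0 : (stalkSkyEquiv x L N) (𝟙 N) = (stalkSkyEquiv x L N) 0 :=
    ((CxOX.extZeroAdj U.ι).homEquiv G (sky x N)).injective (hz.eq_of_tgt _ _)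
  exact ModuleCat.subsingleton_of_isZero ((IsZero.iff_id_eq_zero N).2 ((stalkSkyEquiv x L N).injective h0))

/-- Extension by zero agrees with the direct image for objects supported in a closed subset. -/
theorem nonempty_extZeroD_iso_rpush (U : X.Opens) [DCoh.HasRpush U.ι]
    [PreservesFiniteLimits (CxOX.extZero U.ι)] (T : Set X) (hT : IsClosed T)
    (hTU : T ⊆ (U : Set X)) (F : DCoh.D (U : Scheme.{u}))
    (hF : ∀ i : ℤ, (fun x : (U : Scheme.{u}) => U.ι.base x) '' CohB1.support (DCoh.HD F i) ⊆ T) :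
    Nonempty ((CxOX.extZeroD U.ι).obj F ≅ (DCoh.Rpush U.ι).obj F) := by
  let F₀ := DerivedCategory.Q.objPreimage F
  let eF := DerivedCategory.Q.objObjPreimageIso F
  let E := (CxOX.extZeroD U.ι).obj F
  let C := ComplexShape.up ℤ
  let eE : E ≅ DerivedCategory.Q.obj (((CxOX.extZero U.ι).mapHomologicalComplex C).obj F₀) :=
    (CxOX.extZeroD U.ι).mapIso eF.symm ≪≫ (CxOX.extZero U.ι).mapDerivedCategoryFactors.app F₀
  let eU : (DCoh.restrictD U.ι).obj E ≅ F := (DCoh.restrictD U.ι).mapIso eE ≪≫ restrictDQ U.ι _ ≪≫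
    DerivedCategory.Q.mapIso ((NatIso.mapHomologicalComplex (asIso (CxOX.extZeroAdj U.ι).unit) C).symm.app F₀ ≪≫
      (Functor.mapHomologicalComplexIdIso _ C).app F₀) ≪≫ eF
  have hE : ∀ i : ℤ, CohB1.support (DCoh.HD E i) ⊆ T := fun i x hx => by
    let e : DCoh.HD E i ≅ (CxOX.extZero U.ι).obj (DCoh.HD F i) :=
      (DerivedCategory.homologyFunctor X.Modules i).mapIso eE ≪≫
        (DerivedCategory.homologyFunctorFactors X.Modules i).app _ ≪≫
        ShortComplex.mapHomologyIso (F₀.sc i) (CxOX.extZero U.ι) ≪≫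
        (CxOX.extZero U.ι).mapIso (((DerivedCategory.homologyFunctorFactors _ i).app F₀).symm ≪≫
          (DerivedCategory.homologyFunctor _ i).mapIso eF)
    by_cases hxU : x ∈ U
    · refine hF i ⟨⟨x, hxU⟩, fun hs => hx ?_, rfl⟩
      let y : (U : Scheme.{u}) := ⟨x, hxU⟩
      let e2 := (DerivedCategory.homologyFunctor _ i).mapIso eU.symm ≪≫ restrictHDIso U.ι E i
      have h2 : Subsingleton (((Scheme.Modules.restrictFunctor U.ι).obj (DCoh.HD E i)).presheaf.stalk y) :=
        ((stkF y).mapIso e2).toLinearEquiv.toEquiv.subsingleton_congr.1 hs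
      exact ((Scheme.Modules.restrictStalkNatIso U.ι y).app (DCoh.HD E i)).addCommGroupIsoToAddEquiv.toEquiv.subsingleton_congr.1 h2
    · exact absurd (((stkF x).mapIso e).toLinearEquiv.toEquiv.subsingleton_congr.2
        (subsingleton_stalk_extZero U _ x hxU)) hx
  obtain ⟨r⟩ := nonempty_iso_rpush_restrict U T hT hTU E hE
  exact ⟨r ≪≫ (DCoh.Rpush U.ι).mapIso eU⟩

/-- The zero object is perfect. -/
theorem perfOn_of_isZero {K : DCoh.D X} (h : IsZero K) : PerfOn K := by
  let Z : X.Modules := FlatMod.freeMod X 0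
  have hZ : IsZero Z := (IsZero.iff_id_eq_zero _).2 (Sigma.hom_ext _ _ fun i => i.elim0)
  let E := (HomologicalComplex.single X.Modules (ComplexShape.up ℤ) 0).obj Z
  have hE : ∀ i, IsZero (DCoh.HD (DerivedCategory.Q.obj E) i) := fun i =>
    (((HomologicalComplex.homologyFunctor X.Modules (ComplexShape.up ℤ) i).map_isZero
      ((HomologicalComplex.single X.Modules (ComplexShape.up ℤ) 0).map_isZero hZ))).of_iso
        ((DerivedCategory.homologyFunctorFactors X.Modules i).app E)
  exact ⟨E, isStrictlyPerfect_single (isFinLocFree_freeMod 0), ⟨(isZero_of_isZero_HD hE).iso h⟩⟩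

/-- A perfect object supported in a set closed in the whole scheme pushes forward to a perfect one. -/
theorem isPerfect_rpush_of_support (U : X.Opens) [DCoh.HasRpush U.ι]
    (E : DCoh.D (U : Scheme.{u})) (hE : DCoh.IsPerfect E) (T : Set (U : Scheme.{u}))
    (hjT : IsClosed ((fun x : (U : Scheme.{u}) => U.ι.base x) '' T))
    (hsupp : ∀ i : ℤ, CohB1.support (DCoh.HD E i) ⊆ T) :
    DCoh.IsPerfect ((DCoh.Rpush U.ι).obj E) := by
  obtain ⟨r⟩ := nonempty_extZeroD_iso_rpush U _ hjT (by rintro _ ⟨y, -, rfl⟩; exact y.2) E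
    fun i => Set.image_mono (hsupp i)
  let F₀ := DerivedCategory.Q.objPreimage E
  let eF := DerivedCategory.Q.objObjPreimageIso E
  let C := ComplexShape.up ℤ
  let eU : (DCoh.restrictD U.ι).obj ((CxOX.extZeroD U.ι).obj E) ≅ E :=
    (DCoh.restrictD U.ι).mapIso ((CxOX.extZeroD U.ι).mapIso eF.symm ≪≫
      (CxOX.extZero U.ι).mapDerivedCategoryFactors.app F₀) ≪≫ restrictDQ U.ι _ ≪≫
    DerivedCategory.Q.mapIso ((NatIso.mapHomologicalComplex (asIso (CxOX.extZeroAdj U.ι).unit) C).symm.app F₀ ≪≫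
      (Functor.mapHomologicalComplexIdIso _ C).app F₀) ≪≫ eF
  have hU : DCoh.IsPerfect ((DCoh.restrictD U.ι).obj ((DCoh.Rpush U.ι).obj E)) :=
    isPerfect_iso (eU.symm ≪≫ (DCoh.restrictD U.ι).mapIso r) hE
  refine isPerfect_of_local fun x => ?_
  by_cases hx : x ∈ U
  · exact ⟨U, U.ι, inferInstance, ⟨x, hx⟩, rfl, hU⟩
  · let W : X.Opens := ⟨((fun x : (U : Scheme.{u}) => U.ι.base x) '' T)ᶜ, hjT.isOpen_compl⟩
    refine ⟨W, W.ι, inferInstance, ⟨x, fun ⟨y, _, hy⟩ => hx (hy ▸ y.2)⟩, rfl, isPerfect_of_perfOn ?_⟩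
    refine perfOn_of_isZero (isZero_restrictD_of_support W fun i z hz hs => ?_)
    let e : DCoh.HD ((DCoh.Rpush U.ι).obj E) i ≅ (CxOX.extZero U.ι).obj (DCoh.HD E i) :=
      (DerivedCategory.homologyFunctor X.Modules i).mapIso (r.symm ≪≫ (CxOX.extZeroD U.ι).mapIso eF.symm ≪≫
        (CxOX.extZero U.ι).mapDerivedCategoryFactors.app F₀) ≪≫
        (DerivedCategory.homologyFunctorFactors X.Modules i).app _ ≪≫
        ShortComplex.mapHomologyIso (F₀.sc i) (CxOX.extZero U.ι) ≪≫
        (CxOX.extZero U.ι).mapIso (((DerivedCategory.homologyFunctorFactors _ i).app F₀).symm ≪≫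
          (DerivedCategory.homologyFunctor _ i).mapIso eF)
    by_cases hzU : z ∈ U
    · let y : (U : Scheme.{u}) := ⟨z, hzU⟩
      refine hz ⟨y, hsupp i fun h => hs ?_, rfl⟩
      let e2 := ((DerivedCategory.homologyFunctor _ i).mapIso
        ((DCoh.restrictD U.ι).mapIso r.symm ≪≫ eU)).symm ≪≫ restrictHDIso U.ι _ i
      have h2 : Subsingleton (((Scheme.Modules.restrictFunctor U.ι).obj
          (DCoh.HD ((DCoh.Rpush U.ι).obj E) i)).presheaf.stalk y) :=
        ((stkF y).mapIso e2).toLinearEquiv.toEquiv.subsingleton_congr.1 h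
      exact ((Scheme.Modules.restrictStalkNatIso U.ι y).app _).addCommGroupIsoToAddEquiv.toEquiv.subsingleton_congr.1 h2
    · exact hs (((stkF z).mapIso e).toLinearEquiv.toEquiv.subsingleton_congr.2
        (subsingleton_stalk_extZero U _ z hzU))

end Groth.Agent.DCohLib
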