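import Groth.Agent.DCohLib.TensorExact
import Groth.Agent.DCohLib.TensorPull
import Groth.Agent.DCohLib.PerfLocFree

/-!
# `M ↦ Hᵖ(M ⊗^L F)` is exact where the `p`-th Betti number of `F` is locally constant
-/

set_option autoImplicit false
set_option backward.isDefEq.respectTransparency false
set_option linter.style.haveILetI false

universe u

open CategoryTheory CategoryTheory.Limits AlgebraicGeometry MonoidalCategory

attribute [local instance] HasDerivedCategory.standard

noncomputable section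

namespace Groth.Agent.DCohLib

variable {X U : Scheme.{u}}

theorem splitAt_of_flf {G : CochainComplex X.Modules ℤ} (hG : ∀ n, FlatMod.IsFinLocFree (G.X n)) {j b : ℤ}
    (hb : j + 1 = b) (h : FlatMod.IsFinLocFree (cokernel (G.d j b))) (z : X) : SplitAt G z j := by
  subst hb
  have hex : Function.Exact ((stkF z).map (G.d j (j + 1))).hom
      ((stkF z).map (cokernel.π (G.d j (j + 1)))).hom :=
    (ShortComplex.ShortExact.moduleCat_exact_iff_function_exact _).1
      ((ShortComplex.exact_of_g_is_cokernel (ShortComplex.mk _ _ (cokernel.condition (G.d j (j + 1))))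
        (cokernelIsCokernel _)).map (stkF z))
  have hq : Function.Surjective ((stkF z).map (cokernel.π (G.d j (j + 1)))).hom :=
    (ModuleCat.epi_iff_surjective _).1 inferInstance
  haveI : Module.Free (X.presheaf.stalk z) ((stkF z).obj (G.X (j + 1))) :=
    (free_finite_stalk_of_flf (hG (j + 1)) z).1
  haveI : Module.Free (X.presheaf.stalk z) ((stkF z).obj (cokernel (G.d j (j + 1)))) :=
    (free_finite_stalk_of_flf h z).1
  obtain ⟨σ, hσ⟩ := Module.projective_lifting_property _ LinearMap.id hq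
  let d := ((stkF z).map (G.d j (j + 1))).hom
  let q := ((stkF z).map (cokernel.π (G.d j (j + 1)))).hom
  have hmem : ∀ v, v - σ (q v) ∈ LinearMap.range d := fun v => by
    refine (hex (v - σ (q v))).1 ?_
    show q (v - σ (q v)) = 0
    rw [map_sub, sub_eq_zero]
    exact (LinearMap.congr_fun hσ (q v)).symm
  obtain ⟨s, hs⟩ := Module.projective_lifting_property d.rangeRestrict
    ((LinearMap.id - σ.comp q).codRestrict (LinearMap.range d) hmem) d.surjective_rangeRestrict
  refine ⟨ModuleCat.ofHom s, ?_⟩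
  ext v
  show d (s (d v)) = d v
  have h1 : d (s (d v)) = d v - σ (q (d v)) := congrArg Subtype.val (LinearMap.congr_fun hs (d v))
  rw [h1, show q (d v) = 0 from (hex _).2 ⟨v, rfl⟩, map_zero, sub_zero]

theorem exactAt_tlF {C : CochainComplex X.Modules ℤ} (hC : DCoh.IsKFlat C) (m : ℤ)
    (h : ∀ i, m ≤ i → C.ExactAt i) (N : X.Modules) (i : ℤ) (hi : m ≤ i) : ((tlF C).obj N).ExactAt i := by
  haveI : C.IsLE (m - 1) := (CochainComplex.isLE_iff _ _).2 fun j hj => h j (by omega)
  obtain ⟨W, c, hc, hW, hWb⟩ : ∃ (W : CochainComplex X.Modules ℤ) (c : W ⟶ C.truncLE (m - 1)),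
      QuasiIso c ∧ (∀ n, ModSite.IsFlat (O := X.sheaf) (W.X n)) ∧ ∀ n, m - 1 < n → IsZero (W.X n) :=
    exists_bdd_flat_resolution X.sheaf (C.truncLE (m - 1)) (m - 1)
      (fun n hn => CochainComplex.isZero_of_isStrictlyLE (C.truncLE (m - 1)) (m - 1) n hn)
  haveI := hc
  haveI : QuasiIso (((DCoh.tensorRightMod N).mapHomologicalComplex (ComplexShape.up ℤ)).map
      (c ≫ C.ιTruncLE (m - 1))) :=
    quasiIso_tensorRightMod_map N _ inferInstance
      (isKFlat_of_flat_bddAbove W (m - 1) hWb fun n => (isFlat_iff _).2 (hW n)) hC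
  refine HomologicalComplex.ExactAt.of_iso ?_
    ((NatIso.mapHomologicalComplex ((symmIso X.sheaf).app N).symm (ComplexShape.up ℤ)).app C)
  refine (HomologicalComplex.exactAt_iff_isZero_homology _ _).2 (IsZero.of_iso ?_
    (isoOfQuasiIsoAt (((DCoh.tensorRightMod N).mapHomologicalComplex (ComplexShape.up ℤ)).map
      (c ≫ C.ιTruncLE (m - 1))) i).symm)
  exact ShortComplex.isZero_homology_of_isZero_X₂ _
    ((DCoh.tensorRightMod N).map_isZero (hWb i (by omega)))

theorem isIso_homologyMap_tlMap {R G : CochainComplex X.Modules ℤ} {m : ℤ} (β : G ⟶ R)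
    (hG : DCoh.IsStrictlyPerfect G) (hR : DCoh.IsKFlat R)
    (hβ : MIso m (DerivedCategory.Q.map β)) {p : ℤ} (hp : m < p) (N : X.Modules) :
    IsIso (HomologicalComplex.homologyMap ((tlMap β).app N) p) := by
  let C := CochainComplex.mappingCone β
  have hC : DCoh.IsKFlat C := (isKFlat_iff _).2 ((Groth.Agent.KFlat.twoOfThree_cone X.sheaf β).1
    ((isKFlat_iff _).1 (isKFlat_of_strictlyPerfect hG)) ((isKFlat_iff _).1 hR))
  have hC0 : ∀ i, m ≤ i → C.ExactAt i := fun i hi => by
    rw [HomologicalComplex.exactAt_iff_isZero_homology]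
    exact (MIso.cone (DerivedCategory.Q.mapTriangle.obj (CochainComplex.mappingCone.triangle β))
      (DerivedCategory.mappingCone_triangle_distinguished β) hβ i hi).of_iso
        ((DerivedCategory.homologyFunctorFactors _ i).app C).symm
  let Φ := ((DCoh.tensorBi (X := X)).obj N).mapHomologicalComplex (ComplexShape.up ℤ)
  have h : MIso m (DerivedCategory.Q.map (Φ.map β)) :=
    ⟨_, _, _, DerivedCategory.mappingCone_triangle_distinguished (Φ.map β), fun i hi =>
      ((HomologicalComplex.exactAt_iff_isZero_homology _ _).1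
        (HomologicalComplex.ExactAt.of_iso (exactAt_tlF hC m hC0 N i hi)
          (CochainComplex.mappingCone.mapHomologicalComplexIso β ((DCoh.tensorBi (X := X)).obj N)))).of_iso
        ((DerivedCategory.homologyFunctorFactors _ i).app _)⟩
  exact (map_homologyFunctor_Q _ p).1.1 (((mIso_iff m _).1 h).1 p hp)

/-- An approximation computes `M ↦ Hᵖ(M ⊗ R)`. -/
def hTIso {R G : CochainComplex X.Modules ℤ} {m : ℤ} (β : G ⟶ R) (hG : DCoh.IsStrictlyPerfect G)
    (hR : DCoh.IsKFlat R) (hβ : MIso m (DerivedCategory.Q.map β)) {p : ℤ} (hp : m < p) :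
    hT G p ≅ hT R p :=
  NatIso.ofComponents
    (fun N => @asIso _ _ _ _ (HomologicalComplex.homologyMap ((tlMap β).app N) p)
      (isIso_homologyMap_tlMap β hG hR hβ hp N))
    fun {N N'} f => by
      show HomologicalComplex.homologyMap ((tlF G).map f) p ≫ HomologicalComplex.homologyMap ((tlMap β).app N') p =
        HomologicalComplex.homologyMap ((tlMap β).app N) p ≫ HomologicalComplex.homologyMap ((tlF R).map f) p
      rw [← HomologicalComplex.homologyMap_comp, ← HomologicalComplex.homologyMap_comp, (tlMap β).naturality f]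

/-- Restriction commutes with tensor products, as bifunctors. -/
def restrictTensorBiIso (j : U ⟶ X) [IsOpenImmersion j] (M : X.Modules) :
    (DCoh.tensorBi (X := X)).obj M ⋙ Scheme.Modules.restrictFunctor j ≅
      Scheme.Modules.restrictFunctor j ⋙
        (DCoh.tensorBi (X := U)).obj ((Scheme.Modules.restrictFunctor j).obj M) :=
  Functor.isoWhiskerLeft _ (Scheme.Modules.restrictFunctorIsoPullback j) ≪≫
    (pullTensorBiIsoSch j).app M ≪≫
    Functor.isoWhiskerLeft (Scheme.Modules.pullback j)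
      ((DCoh.tensorBi (X := U)).mapIso ((Scheme.Modules.restrictFunctorIsoPullback j).app M).symm) ≪≫
    Functor.isoWhiskerRight (Scheme.Modules.restrictFunctorIsoPullback j).symm _

theorem restrictTensorBiIso_natural (j : U ⟶ X) [IsOpenImmersion j] {M M' : X.Modules} (f : M ⟶ M')
    (N : X.Modules) :
    (Scheme.Modules.restrictFunctor j).map (((DCoh.tensorBi (X := X)).map f).app N) ≫
        (restrictTensorBiIso j M').hom.app N =
      (restrictTensorBiIso j M).hom.app N ≫
        ((DCoh.tensorBi (X := U)).map ((Scheme.Modules.restrictFunctor j).map f)).app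
          ((Scheme.Modules.restrictFunctor j).obj N) := by
  let ρ := Scheme.Modules.restrictFunctorIsoPullback j
  have h₁ := congrArg (fun t => t.app N) ((pullTensorBiIsoSch j).hom.naturality f)
  have h₂ := ρ.hom.naturality (((DCoh.tensorBi (X := X)).map f).app N)
  have h₃ := congrArg (fun g => ((DCoh.tensorBi (X := U)).map g).app ((Scheme.Modules.pullback j).obj N))
    (ρ.inv.naturality f)
  dsimp at h₁ h₂ h₃
  simp only [Functor.map_comp, NatTrans.comp_app] at h₃
  simp only [restrictTensorBiIso, Iso.trans_hom, NatTrans.comp_app, Functor.isoWhiskerLeft_hom,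
    Functor.isoWhiskerRight_hom, Functor.whiskerLeft_app, Functor.whiskerRight_app, Functor.mapIso_hom,
    Iso.symm_hom, Iso.app_hom, Category.assoc]
  erw [reassoc_of% h₂, reassoc_of% h₁, reassoc_of% h₃]
  erw [((DCoh.tensorBi (X := U)).map ((Scheme.Modules.restrictFunctor j).map f)).naturality (ρ.inv.app N)]
  rfl

/-- Restriction commutes with `M ↦ M ⊗ P`. -/
def restrictTlFIso (j : U ⟶ X) [IsOpenImmersion j] (P : CochainComplex X.Modules ℤ) :
    tlF P ⋙ resCx j ≅ Scheme.Modules.restrictFunctor j ⋙ tlF ((resCx j).obj P) :=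
  NatIso.ofComponents
    (fun M => HomologicalComplex.Hom.isoOfComponents (fun n => (restrictTensorBiIso j M).app (P.X n))
      fun n n' _ => ((restrictTensorBiIso j M).hom.naturality (P.d n n')).symm)
    fun {M M'} f => HomologicalComplex.hom_ext _ _ fun n => restrictTensorBiIso_natural j f (P.X n)

/-- Restriction commutes with `M ↦ Hᵖ(M ⊗ P)`. -/
def restrictHTIso (j : U ⟶ X) [IsOpenImmersion j] (P : CochainComplex X.Modules ℤ) (p : ℤ) :
    hT P p ⋙ Scheme.Modules.restrictFunctor j ≅ Scheme.Modules.restrictFunctor j ⋙ hT ((resCx j).obj P) p :=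
  Functor.associator _ _ _ ≪≫
    Functor.isoWhiskerLeft (tlF P) (mapHomologyNatIso (Scheme.Modules.restrictFunctor j) p).symm ≪≫
    (Functor.associator _ _ _).symm ≪≫
    Functor.isoWhiskerRight (restrictTlFIso j P) _ ≪≫ Functor.associator _ _ _

theorem shortExact_of_local (S : ShortComplex X.Modules)
    (h : ∀ x : X, ∃ (U : Scheme.{u}) (j : U ⟶ X) (_ : IsOpenImmersion j) (y : U), j y = x ∧
      (S.map (Scheme.Modules.restrictFunctor j)).ShortExact) : S.ShortExact := by
  haveI : Mono S.f := Preadditive.mono_of_isZero_kernel _ (isZero_of_local fun x => by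
    obtain ⟨U, j, hj, y, hy, hS⟩ := h x
    haveI : Mono ((Scheme.Modules.restrictFunctor j).map S.f) := hS.mono_f
    exact ⟨U, j, hj, y, hy, (isZero_kernel_of_mono ((Scheme.Modules.restrictFunctor j).map S.f)).of_iso
      (PreservesKernel.iso (Scheme.Modules.restrictFunctor j) S.f)⟩)
  haveI : Epi S.g := Preadditive.epi_of_isZero_cokernel _ (isZero_of_local fun x => by
    obtain ⟨U, j, hj, y, hy, hS⟩ := h x
    haveI : Epi ((Scheme.Modules.restrictFunctor j).map S.g) := hS.epi_g
    exact ⟨U, j, hj, y, hy, (isZero_cokernel_of_epi ((Scheme.Modules.restrictFunctor j).map S.g)).of_iso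
      (PreservesCokernel.iso (Scheme.Modules.restrictFunctor j) S.g)⟩)
  exact { exact := (ShortComplex.exact_iff_isZero_homology _).2 (isZero_of_local fun x => by
            obtain ⟨U, j, hj, y, hy, hS⟩ := h x
            exact ⟨U, j, hj, y, hy, ((ShortComplex.exact_iff_isZero_homology _).1 hS.exact).of_iso
              (S.mapHomologyIso (Scheme.Modules.restrictFunctor j)).symm⟩) }

theorem flf_coker_of_betti [IsReduced U] {G : CochainComplex U.Modules ℤ}
    (hG : ∀ n, FlatMod.IsFinLocFree (G.X n)) {p : ℤ} {β : U → ℕ} (hβ : IsLocallyConstant β)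
    (h : ∀ w, β w + PullbackMod.fibreRank (G.X (p + 1)) w =
      PullbackMod.fibreRank (cokernel (G.d (p - 1) p)) w +
        PullbackMod.fibreRank (cokernel (G.d p (p + 1))) w) :
    FlatMod.IsFinLocFree (cokernel (G.d (p - 1) p)) ∧ FlatMod.IsFinLocFree (cokernel (G.d p (p + 1))) := by
  haveI := isQCoh_coker_d hG (p - 1) p
  haveI := isQCoh_coker_d hG p (p + 1)
  haveI := (PullbackMod.isQCoh_and_isFP_of_isFinLocFree _ (hG (p + 1))).1
  have hr := PullbackMod.isFinLocFree_isLocallyConstant _ (hG (p + 1))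
  have key : ∀ w, ∃ N : Set U, IsOpen N ∧ w ∈ N ∧ ∀ v ∈ N,
      PullbackMod.fibreRank (cokernel (G.d (p - 1) p)) v =
          PullbackMod.fibreRank (cokernel (G.d (p - 1) p)) w ∧
        PullbackMod.fibreRank (cokernel (G.d p (p + 1))) v =
          PullbackMod.fibreRank (cokernel (G.d p (p + 1))) w := by
    intro w
    obtain ⟨N₁, h₁, g₁⟩ := exists_nhd_fibreRank_le _ (isFP_coker_d hG (p - 1) p) w
    obtain ⟨N₂, h₂, g₂⟩ := exists_nhd_fibreRank_le _ (isFP_coker_d hG p (p + 1)) w
    refine ⟨((N₁ : Set U) ∩ N₂) ∩ ((β ⁻¹' {β w}) ∩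
        (PullbackMod.fibreRank (G.X (p + 1)) ⁻¹' {PullbackMod.fibreRank (G.X (p + 1)) w})),
      (N₁.2.inter N₂.2).inter ((hβ _).inter (hr _)), ⟨⟨h₁, h₂⟩, rfl, rfl⟩, ?_⟩
    rintro v ⟨⟨v₁, v₂⟩, (e₁ : β v = β w),
      (e₂ : PullbackMod.fibreRank (G.X (p + 1)) v = PullbackMod.fibreRank (G.X (p + 1)) w)⟩
    have := h v; have := h w; have := g₁ v v₁; have := g₂ v v₂
    omega
  refine ⟨PullbackMod.isFinLocFree_of_fibreRank_of_isReduced _ ?_ ?_,
    PullbackMod.isFinLocFree_of_fibreRank_of_isReduced _ ?_ ?_⟩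
  · haveI := isFP_coker_d hG (p - 1) p
    exact inferInstance
  · exact (IsLocallyConstant.iff_exists_open _).mpr fun w => by
      obtain ⟨N, hN, hw, hv⟩ := key w
      exact ⟨N, hN, hw, fun v hvN => (hv v hvN).1⟩
  · haveI := isFP_coker_d hG p (p + 1)
    exact inferInstance
  · exact (IsLocallyConstant.iff_exists_open _).mpr fun w => by
      obtain ⟨N, hN, hw, hv⟩ := key w
      exact ⟨N, hN, hw, fun v hvN => (hv v hvN).2⟩

variable [∀ x : X, DCoh.HasLpull (X.fromSpecResidueField x)]

/-- `M ↦ Hᵖ(M ⊗ P)` is exact if the `p`-th Betti number is locally constant. -/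
theorem shortExact_hT_of_betti [IsReduced X] (F : CochainComplex X.Modules ℤ) {K : DCoh.D X}
    (e : DerivedCategory.Q.obj ((resX X).obj F) ≅ K) (p : ℤ)
    (hK : DCoh.IsPseudoCoherentD (p - 1) K)
    (hc : IsLocallyConstant (fun x : X => PerfD.betti K x p))
    {S : ShortComplex X.Modules} (hS : S.ShortExact) : (S.map (hT ((resX X).obj F) p)).ShortExact := by
  let P := (resX X).obj F
  refine shortExact_of_local _ fun x => ?_
  obtain ⟨U₀, j₀, hj₀, y₀, rfl, G₀, β₀, hG₀, hβ₀⟩ := exists_approx hK x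
  let R := (resX X).obj (DerivedCategory.Q.objPreimage K)
  let γ : DerivedCategory.Q.obj G₀ ⟶ DerivedCategory.Q.obj ((resCx j₀).obj P) :=
    DerivedCategory.Q.map β₀ ≫ ((restrictDQ j₀ R).symm ≪≫
      (DCoh.restrictD j₀).mapIso (resXIso K ≪≫ e.symm) ≪≫ restrictDQ j₀ P).hom
  have hγ : MIso (p - 1) γ := hβ₀.comp (mIso_of_isIso _ _)
  obtain ⟨W, hW, β, hβ⟩ := exists_open_represent hG₀ γ y₀
  let j : (W : Scheme.{u}) ⟶ X := W.ι ≫ j₀
  haveI : IsReduced (W : Scheme.{u}) := isReduced_of_isOpenImmersion j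
  let G := (resCx W.ι).obj G₀
  have hG : DCoh.IsStrictlyPerfect G := isStrictlyPerfect_restrict W.ι hG₀
  let β₁ : G ⟶ (resCx j).obj P := β ≫ (resCxComp W.ι j₀).inv.app P
  let β₂ : G ⟶ resOpen j K := (resCx W.ι).map β₀ ≫ (resCxComp W.ι j₀).inv.app R
  have hβ₁ : MIso (p - 1) (DerivedCategory.Q.map β₁) := by
    have h1 : DerivedCategory.Q.map β = (restrictDQ W.ι G₀).inv ≫
        (DCoh.restrictD W.ι).map γ ≫ (restrictDQ W.ι _).hom := by
      rw [hβ]
      simp [restrictDQ]
    rw [Functor.map_comp, h1]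
    exact ((mIso_of_isIso _ _).comp ((hγ.restrict W.ι).comp (mIso_of_isIso _ _))).comp (mIso_of_isIso _ _)
  have hβ₂ : MIso (p - 1) (DerivedCategory.Q.map β₂) := by
    have h2 : DerivedCategory.Q.map ((resCx W.ι).map β₀) = (restrictDQ W.ι G₀).inv ≫
        (DCoh.restrictD W.ι).map (DerivedCategory.Q.map β₀) ≫ (restrictDQ W.ι _).hom := by
      rw [Iso.eq_inv_comp]
      exact ((Scheme.Modules.restrictFunctor W.ι).mapDerivedCategoryFactors.hom.naturality β₀).symm
    rw [Functor.map_comp, h2]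
    exact ((mIso_of_isIso _ _).comp ((hβ₀.restrict W.ι).comp (mIso_of_isIso _ _))).comp (mIso_of_isIso _ _)
  obtain ⟨hC₁, hC₂⟩ := flf_coker_of_betti hG.2 (hc.comp_continuous j.continuous)
    fun w => betti_add K j β₂ hG hβ₂ (show p - 1 < p by omega) w
  have hsplit := shortExact_hT_of_splitAt (fun n => isFlat_of_flf (hG.2 n)) p
    (fun z => splitAt_of_flf hG.2 (by omega) hC₁ z) (fun z => splitAt_of_flf hG.2 rfl hC₂ z)
    (hS.map_of_exact (Scheme.Modules.restrictFunctor j))
  have hPj : DCoh.IsKFlat ((resCx j).obj P) := (isKFlat_resCx_resX j F).1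
  exact ⟨_, j, inferInstance, ⟨y₀, hW⟩, rfl, ShortComplex.shortExact_of_iso
    ((S.map (Scheme.Modules.restrictFunctor j)).mapNatIso
        (hTIso β₁ hG hPj hβ₁ (show p - 1 < p by omega)) ≪≫
      (S.mapNatIso (restrictHTIso j P p)).symm) hsplit⟩

end Groth.Agent.DCohLib
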