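import Groth.Agent.DCohLib.ProjPerf
import Groth.Agent.DCohLib.BettiExact
import Groth.Agent.SpSeqLib.AcyclicResolution
import Groth.Agent.SpSeqLib.DerivedComp
import Groth.Agent.SpSeqLib.RightDerived
import Groth.Agent.SiteBase.ModCoh

/-!
# The projection formula for finite locally free modules, one degree at a time
-/

set_option autoImplicit false
set_option backward.isDefEq.respectTransparency false
set_option linter.style.haveILetI false

universe u

open CategoryTheory CategoryTheory.Limits AlgebraicGeometry TopologicalSpace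

attribute [local instance] HasDerivedCategory.standard

noncomputable section

namespace Groth.Agent.DCohLib

variable {X Y : Scheme.{u}}

/-- A morphism of modules is an isomorphism if it is one locally. -/
theorem isIso_of_local {M N : X.Modules} (g : M ⟶ N)
    (h : ∀ x : X, ∃ (U : Scheme.{u}) (j : U ⟶ X) (_ : IsOpenImmersion j) (y : U), j y = x ∧
      IsIso ((Scheme.Modules.restrictFunctor j).map g)) : IsIso g := by
  haveI : Mono g := Preadditive.mono_of_isZero_kernel _ (isZero_of_local fun x => by
    obtain ⟨U, j, hj, y, hy, hg⟩ := h x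
    haveI := hg
    exact ⟨U, j, hj, y, hy, (isZero_kernel_of_mono ((Scheme.Modules.restrictFunctor j).map g)).of_iso
      (PreservesKernel.iso (Scheme.Modules.restrictFunctor j) g)⟩)
  haveI : Epi g := Preadditive.epi_of_isZero_cokernel _ (isZero_of_local fun x => by
    obtain ⟨U, j, hj, y, hy, hg⟩ := h x
    haveI := hg
    exact ⟨U, j, hj, y, hy, (isZero_cokernel_of_epi ((Scheme.Modules.restrictFunctor j).map g)).of_iso
      (PreservesCokernel.iso (Scheme.Modules.restrictFunctor j) g)⟩)
  exact isIso_of_mono_of_epi g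

theorem exact_flip_of_isFlat {E : X.Modules} (hE : FlatMod.IsFlat E) :
    PreservesFiniteLimits ((DCoh.tensorBi (X := X)).flip.obj E) ∧
      PreservesFiniteColimits ((DCoh.tensorBi (X := X)).flip.obj E) := by
  have hgood := Groth.Agent.KFlat.goodObj_of_isFlat X.sheaf ((isFlat_iff E).1 hE)
  haveI : ((DCoh.tensorBi (X := X)).flip.obj E).Additive :=
    Groth.Agent.ModTensor.additive_tensorBi_flip X.sheaf E
  exact ((Functor.exact_tfae ((DCoh.tensorBi (X := X)).flip.obj E)).out 1 3).1 fun S hS => hgood S hS

/-- Tensoring with a finite free module preserves injectives. -/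
theorem injective_tensor_free (I : X.Modules) [Injective I] {n : ℕ} {N : X.Modules}
    (e : N ≅ FlatMod.freeMod X n) : Injective (((DCoh.tensorBi (X := X)).obj I).obj N) := by
  haveI : HasFiniteBiproducts X.Modules := HasFiniteBiproducts.of_hasFiniteProducts
  let T := (DCoh.tensorBi (X := X)).obj I
  let g : Fin n → X.Modules := fun _ => T.obj (Coh.structureModule X)
  haveI : ∀ i, Injective (g i) := fun i =>
    Injective.of_iso ((Groth.Agent.ModTensor.tensorUnitRight X.sheaf).app I).symm inferInstance
  haveI : PreservesColimitsOfShape (Discrete (Fin n)) T := by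
    haveI : PreservesFiniteBiproducts T := inferInstance
    exact preservesCoproductsOfShape_of_preservesBiproductsOfShape T
  exact Injective.of_iso ((biproduct.isoCoproduct g) ≪≫
    (PreservesCoproduct.iso T fun _ : Fin n => Coh.structureModule X).symm ≪≫ T.mapIso e.symm)
      inferInstance

instance preservesFiniteColimits_restrict (V : X.Opens) :
    PreservesFiniteColimits (Scheme.Modules.restrictFunctor V.ι) :=
  haveI : PreservesColimitsOfSize.{u, u} (Scheme.Modules.pullback V.ι) :=
    (Scheme.Modules.pullbackPushforwardAdjunction V.ι).leftAdjoint_preservesColimits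
  haveI : PreservesColimitsOfSize.{0, 0} (Scheme.Modules.pullback V.ι) :=
    preservesColimitsOfSize_shrink.{0, u, 0, u} _
  preservesFiniteColimits_of_natIso (Scheme.Modules.restrictFunctorIsoPullback V.ι).symm

theorem injective_restrict (V : X.Opens) (I : X.Modules) [Injective I] :
    Injective ((Scheme.Modules.restrictFunctor V.ι).obj I) :=
  Injective.injective_of_adjoint (CxOX.extZeroAdj V.ι) I

variable (f : X ⟶ Y)

theorem isIso_projMap_of_flf {E : Y.Modules} (hE : FlatMod.IsFinLocFree E) (M : X.Modules) :
    IsIso (projMap f M E) := by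
  refine isIso_of_local _ fun y => ?_
  obtain ⟨V, n, hy, ⟨e⟩⟩ := hE y
  refine ⟨V, V.ι, inferInstance, ⟨y, hy⟩, rfl, ?_⟩
  let R := Scheme.Modules.restrictFunctor V.ι
  let adj := CxOX.extZeroAdj V.ι
  let c := adj.counit.app E
  let W := f ⁻¹ᵁ V
  haveI : IsIso (adj.unit.app (R.obj E)) := inferInstance
  haveI : IsIso (R.map c) :=
    IsIso.of_isIso_fac_left (adj.right_triangle_components E)
  have h1 : IsIso (R.map (projMap f M ((CxOX.extZero V.ι).obj (R.obj E)))) :=
    isIso_restrict_projTrans_free f V M n e
  have h2 : IsIso (R.map (((DCoh.tensorBi (X := Y)).obj ((Scheme.Modules.pushforward f).obj M)).map c)) :=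
    (NatIso.isIso_map_iff (restrictTensorBiIso V.ι ((Scheme.Modules.pushforward f).obj M)) c).2
      (inferInstanceAs (IsIso (((DCoh.tensorBi (X := (V : Scheme.{u}))).obj
        (R.obj ((Scheme.Modules.pushforward f).obj M))).map (R.map c))))
  have h3 : IsIso ((Scheme.Modules.restrictFunctor W.ι).map ((Scheme.Modules.pullback f).map c)) :=
    (NatIso.isIso_map_iff (pullResIso f V) c).2
      (inferInstanceAs (IsIso ((Scheme.Modules.pullback (f ∣_ V)).map (R.map c))))
  have h4 : IsIso ((Scheme.Modules.restrictFunctor W.ι).map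
      (((DCoh.tensorBi (X := X)).obj M).map ((Scheme.Modules.pullback f).map c))) :=
    haveI := h3
    (NatIso.isIso_map_iff (restrictTensorBiIso W.ι M) _).2
      (inferInstanceAs (IsIso (((DCoh.tensorBi (X := (W : Scheme.{u}))).obj
        ((Scheme.Modules.restrictFunctor W.ι).obj M)).map
          ((Scheme.Modules.restrictFunctor W.ι).map ((Scheme.Modules.pullback f).map c)))))
  have h5 : IsIso (R.map ((Scheme.Modules.pushforward f).map
      (((DCoh.tensorBi (X := X)).obj M).map ((Scheme.Modules.pullback f).map c)))) :=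
    haveI := h4
    (NatIso.isIso_map_iff (restrictPushIso f V) _).2
      (inferInstanceAs (IsIso ((Scheme.Modules.pushforward (f ∣_ V)).map
        ((Scheme.Modules.restrictFunctor W.ι).map
          (((DCoh.tensorBi (X := X)).obj M).map ((Scheme.Modules.pullback f).map c))))))
  have h := congrArg R.map (projMap_natural_right f M c)
  rw [R.map_comp, R.map_comp] at h
  haveI := h1; haveI := h2; haveI := h5
  haveI : IsIso (R.map (projMap f M ((CxOX.extZero V.ι).obj (R.obj E))) ≫
      R.map ((Scheme.Modules.pushforward f).map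
        (((DCoh.tensorBi (X := X)).obj M).map ((Scheme.Modules.pullback f).map c)))) :=
    IsIso.comp_isIso' h1 h5
  exact @IsIso.of_isIso_fac_left _ _ _ _ _ _ _ _ h2 (IsIso.comp_isIso' h1 h5) h

theorem additive_flip_obj (E : X.Modules) : ((DCoh.tensorBi (X := X)).flip.obj E).Additive :=
  Groth.Agent.ModTensor.additive_tensorBi_flip X.sheaf E

/-- `R^q f_*` commutes with restriction to an open of the target. -/
theorem nonempty_rightDerived_restrict [HasInjectiveResolutions X.Modules] (V : Y.Opens) (q : ℕ)
    [HasInjectiveResolutions ((f ⁻¹ᵁ V : X.Opens) : Scheme.{u}).Modules] :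
    Nonempty ((Scheme.Modules.pushforward f).rightDerived q ⋙ Scheme.Modules.restrictFunctor V.ι ≅
      Scheme.Modules.restrictFunctor (f ⁻¹ᵁ V).ι ⋙
        (Scheme.Modules.pushforward (f ∣_ V)).rightDerived q) := by
  refine ⟨(SpSeqLib.rightDerivedPostcompIso (Scheme.Modules.pushforward f)
    (Scheme.Modules.restrictFunctor V.ι) q).symm ≪≫ SpSeqLib.rightDerivedCongr (restrictPushIso f V) q ≪≫
    SpSeqLib.rightDerivedPrecompAcyclicIso (Scheme.Modules.restrictFunctor (f ⁻¹ᵁ V).ι)
      (Scheme.Modules.pushforward (f ∣_ V)) (fun I hI => ?_) q⟩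
  haveI := injective_restrict (f ⁻¹ᵁ V) I
  exact SpSeqLib.isAcyclicFor_of_injective _ _

theorem isAcyclicFor_tensor_flf [HasInjectiveResolutions X.Modules] {E : Y.Modules}
    (hE : FlatMod.IsFinLocFree E) (I : X.Modules) [Injective I] :
    SpSeqLib.IsAcyclicFor (Scheme.Modules.pushforward f)
      (((DCoh.tensorBi (X := X)).flip.obj ((Scheme.Modules.pullback f).obj E)).obj I) := by
  intro p
  refine isZero_of_local fun y => ?_
  obtain ⟨V, n, hy, ⟨e⟩⟩ := hE y
  refine ⟨V, V.ι, inferInstance, ⟨y, hy⟩, rfl, ?_⟩
  let W := f ⁻¹ᵁ V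
  haveI : EnoughInjectives (W : Scheme.{u}).Modules :=
    Groth.Agent.SiteBase.enoughInjectives_sheafOfModules _
  obtain ⟨φ⟩ := nonempty_rightDerived_restrict f V (p + 1)
  haveI := injective_restrict W I
  have hinj : Injective ((Scheme.Modules.restrictFunctor W.ι).obj
      (((DCoh.tensorBi (X := X)).obj I).obj ((Scheme.Modules.pullback f).obj E))) :=
    @Injective.of_iso _ _ _ _
      ((restrictTensorBiIso W.ι I).app ((Scheme.Modules.pullback f).obj E)).symm
      (injective_tensor_free ((Scheme.Modules.restrictFunctor W.ι).obj I)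
        ((pullResIso f V).app E ≪≫ (Scheme.Modules.pullback (f ∣_ V)).mapIso e ≪≫ pullFreeIso (f ∣_ V) n))
  haveI := hinj
  exact ((Scheme.Modules.pushforward (f ∣_ V)).isZero_rightDerived_obj_injective_succ p
    ((Scheme.Modules.restrictFunctor W.ι).obj
      (((DCoh.tensorBi (X := X)).obj I).obj ((Scheme.Modules.pullback f).obj E)))).of_iso (φ.app _)

theorem nonempty_projection_flf [HasInjectiveResolutions X.Modules] (F : X.Modules) {E : Y.Modules}
    (hE : FlatMod.IsFinLocFree E) (q : ℕ) :
    Nonempty (((DCoh.tensorBi (X := Y)).obj ((Coh.Rpush f q).obj F)).obj E ≅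
      (Coh.Rpush f q).obj (((DCoh.tensorBi (X := X)).obj F).obj ((Scheme.Modules.pullback f).obj E))) := by
  have hflat : FlatMod.IsFlat E := fun x => PullbackMod.isFlat_of_isFinLocFree E hE x
  let Φ := (DCoh.tensorBi (X := Y)).flip.obj E
  let Ψ := (DCoh.tensorBi (X := X)).flip.obj ((Scheme.Modules.pullback f).obj E)
  haveI : Φ.Additive := additive_flip_obj E
  haveI : Ψ.Additive := additive_flip_obj _
  obtain ⟨h₁, h₂⟩ := exact_flip_of_isFlat hflat
  obtain ⟨h₃, h₄⟩ := exact_flip_of_isFlat (isFlat_pullback f E hflat)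
  haveI : PreservesFiniteLimits Φ := h₁
  haveI : PreservesFiniteColimits Φ := h₂
  haveI : PreservesFiniteLimits Ψ := h₃
  haveI : PreservesFiniteColimits Ψ := h₄
  let τ : Scheme.Modules.pushforward f ⋙ Φ ≅ Ψ ⋙ Scheme.Modules.pushforward f :=
    NatIso.ofComponents (fun M => @asIso _ _ _ _ (projMap f M E) (isIso_projMap_of_flf f hE M))
      fun g => projMap_natural_left f g E
  exact ⟨((SpSeqLib.rightDerivedPostcompIso (Scheme.Modules.pushforward f) Φ q).symm ≪≫
    SpSeqLib.rightDerivedCongr τ q ≪≫
    SpSeqLib.rightDerivedPrecompAcyclicIso Ψ (Scheme.Modules.pushforward f)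
      (fun I hI => haveI := hI; isAcyclicFor_tensor_flf f hE I) q).app F⟩

end Groth.Agent.DCohLib
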