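import Groth.Agent.DCohLib.PerfPred

/-!
# Strictly perfect complexes are locally complexes of finite free modules
-/

set_option autoImplicit false
set_option linter.style.haveILetI false

universe u

open CategoryTheory CategoryTheory.Limits AlgebraicGeometry TopologicalSpace Opposite

attribute [local instance] HasDerivedCategory.standard

noncomputable section

namespace Groth.Agent.DCohLib

variable {X : Scheme.{u}}

theorem free_mono_open {M : X.Modules} {W V : X.Opens} (h : W ≤ V) {n : ℕ}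
    (e : (Scheme.Modules.restrictFunctor V.ι).obj M ≅ FlatMod.freeMod ↑V n) :
    Nonempty ((Scheme.Modules.restrictFunctor W.ι).obj M ≅ FlatMod.freeMod ↑W n) :=
  ⟨(Scheme.Modules.restrictFunctorCongr (X.homOfLE_ι h).symm ≪≫
      Scheme.Modules.restrictFunctorComp (X.homOfLE h) V.ι).app M ≪≫
    (Scheme.Modules.restrictFunctor (X.homOfLE h)).mapIso e ≪≫ restrictFreeMod _ n⟩

theorem exists_open_free_finset {E : CochainComplex X.Modules ℤ}
    (hE : ∀ i, FlatMod.IsFinLocFree (E.X i)) (x : X) (s : Finset ℤ) :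
    ∃ W : X.Opens, x ∈ W ∧ ∀ i ∈ s, ∃ n : ℕ,
      Nonempty ((Scheme.Modules.restrictFunctor W.ι).obj (E.X i) ≅ FlatMod.freeMod ↑W n) := by
  classical
  induction s using Finset.induction with
  | empty => exact ⟨⊤, trivial, fun i hi => absurd hi (Finset.notMem_empty i)⟩
  | insert i s _ ih =>
    obtain ⟨W, hW, h⟩ := ih
    obtain ⟨U, n, hU, ⟨e⟩⟩ := hE i x
    refine ⟨W ⊓ U, ⟨hW, hU⟩, fun j hj => ?_⟩
    rcases Finset.mem_insert.1 hj with rfl | hj
    · exact ⟨n, free_mono_open inf_le_right e⟩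
    · obtain ⟨m, ⟨e'⟩⟩ := h j hj
      exact ⟨m, free_mono_open inf_le_left e'⟩

theorem exists_open_free {E : CochainComplex X.Modules ℤ} (hE : DCoh.IsStrictlyPerfect E) (x : X) :
    ∃ W : X.Opens, x ∈ W ∧ ∀ i, ∃ n : ℕ,
      Nonempty (((resCx W.ι).obj E).X i ≅ FlatMod.freeMod ↑W n) := by
  obtain ⟨⟨a, b, hab⟩, hf⟩ := hE
  obtain ⟨W, hW, h⟩ := exists_open_free_finset hf x (Finset.Icc a b)
  refine ⟨W, hW, fun i => ?_⟩
  by_cases hi : i ∈ Finset.Icc a b
  · exact h i hi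
  · exact ⟨0, ⟨(isZero_resCx W.ι (hab i (by simp only [Finset.mem_Icc] at hi; omega))).iso
      ((IsZero.iff_id_eq_zero _).2 (Sigma.hom_ext _ _ fun i => i.elim0))⟩⟩

/-- Perfect objects are locally complexes of finite free modules. -/
theorem isPerfect_iff_free (K : DCoh.D X) : DCoh.IsPerfect K ↔
    ∀ x : X, ∃ V : X.Opens, x ∈ V ∧ ∃ P : CochainComplex (V : Scheme.{u}).Modules ℤ,
      (∃ a b : ℤ, DCoh.VanishesOutside P a b) ∧
      (∀ i : ℤ, ∃ n : ℕ, Nonempty (P.X i ≅ FlatMod.freeMod (V : Scheme.{u}) n)) ∧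
      Nonempty (DerivedCategory.Q.obj P ≅ (DCoh.restrictD V.ι).obj K) := by
  rw [isPerfect_iff]
  refine ⟨fun h x => ?_, fun h x => ?_⟩
  · obtain ⟨V, hx, E, hE, ⟨e⟩⟩ := h x
    obtain ⟨W, hW, hfree⟩ := exists_open_free hE ⟨x, hx⟩
    let j : (W : Scheme.{u}) ⟶ X := W.ι ≫ V.ι
    let r := j.isoOpensRange.inv
    refine ⟨j.opensRange, ⟨⟨_, hW⟩, rfl⟩, (resCx r).obj ((resCx W.ι).obj E), ?_, fun i => ?_, ⟨?_⟩⟩
    · obtain ⟨a, b, hab⟩ := hE.1
      exact ⟨a, b, fun i hi => isZero_resCx r (isZero_resCx W.ι (hab i hi))⟩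
    · obtain ⟨n, ⟨i'⟩⟩ := hfree i
      exact ⟨n, ⟨(Scheme.Modules.restrictFunctor r).mapIso i' ≪≫ restrictFreeMod r n⟩⟩
    · exact (restrictDQ r _).symm ≪≫ (DCoh.restrictD r).mapIso
          ((restrictDQ W.ι E).symm ≪≫ (DCoh.restrictD W.ι).mapIso e ≪≫
            ((restrictDComp W.ι V.ι).app K).symm) ≪≫
        ((restrictDCongr j.isoOpensRange_inv_comp.symm ≪≫ restrictDComp r j).app K).symm
  · obtain ⟨V, hx, P, hP, hfree, he⟩ := h x
    exact ⟨V, hx, P, ⟨hP, fun i => by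
      obtain ⟨n, ⟨e⟩⟩ := hfree i
      exact isFinLocFree_iso e.symm (isFinLocFree_freeMod n)⟩, he⟩

end Groth.Agent.DCohLib
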