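import Groth.Agent.DCohLib.LocLift
import Groth.Prelude.Def_DCoh3
import Mathlib.Algebra.Homology.DerivedCategory.Fractions
import Mathlib.Algebra.Homology.DerivedCategory.HomologySequence

/-!
# Local null-homotopies and local factorisations out of strictly perfect complexes
-/

set_option autoImplicit false
set_option linter.style.haveILetI false

universe u

open CategoryTheory CategoryTheory.Limits AlgebraicGeometry TopologicalSpace Opposite
open CategoryTheory.Pretriangulated

attribute [local instance] HasDerivedCategory.standard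

noncomputable section

namespace Groth.Agent.DCohLib

variable {X : Scheme.{u}}

/-- Transport of homotopies along a natural isomorphism of functors on complexes. -/
def homotopyOfNatIso {C D : Type*} [Category C] [Category D] [Preadditive D]
    {G G' : C ⥤ CochainComplex D ℤ} (e : G ≅ G') {A B : C} {f g : A ⟶ B}
    (h : Homotopy (G'.map f) (G'.map g)) : Homotopy (G.map f) (G.map g) :=
  (Homotopy.ofEq (show G.map f = e.hom.app A ≫ G'.map f ≫ e.inv.app B by
      rw [e.inv.naturality f]; simp)).trans
    (((h.compRight (e.inv.app B)).compLeft (e.hom.app A)).trans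
      (Homotopy.ofEq (show e.hom.app A ≫ G'.map g ≫ e.inv.app B = G.map g by
        rw [e.inv.naturality g]; simp)))

/-- Restriction of complexes to the range of an open immersion, through the open immersion. -/
def resCxRangeIso {U : Scheme.{u}} (j : U ⟶ X) [IsOpenImmersion j] :
    DCoh.restrictCx j.opensRange ≅ resCx j ⋙ resCx j.isoOpensRange.inv :=
  resCxCongr j.isoOpensRange_inv_comp.symm ≪≫ resCxComp j.isoOpensRange.inv j

theorem exists_open_homotopy {U : Scheme.{u}} (j : U ⟶ X) [IsOpenImmersion j] (y : U)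
    {E F : CochainComplex X.Modules ℤ} {f g : E ⟶ F}
    (h : Homotopy ((resCx j).map f) ((resCx j).map g)) :
    j y ∈ j.opensRange ∧
      Nonempty (Homotopy ((DCoh.restrictCx j.opensRange).map f) ((DCoh.restrictCx j.opensRange).map g)) :=
  ⟨⟨y, rfl⟩, ⟨homotopyOfNatIso (resCxRangeIso j)
    ((Scheme.Modules.restrictFunctor j.isoOpensRange.inv).mapHomotopy h)⟩⟩

/-- A strictly perfect complex zero below `a` maps null-homotopically, locally, to a complex exact
in degrees `≥ a`. -/
theorem exists_open_homotopy_zero {E F : CochainComplex X.Modules ℤ} (α : E ⟶ F)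
    (hE : DCoh.IsStrictlyPerfect E) (a : ℤ) (hEa : ∀ i, i < a → IsZero (E.X i))
    (hF : ∀ i, a ≤ i → F.ExactAt i) (x : X) :
    ∃ V : X.Opens, x ∈ V ∧ Nonempty (Homotopy ((DCoh.restrictCx V).map α) 0) := by
  obtain ⟨U, j, hj, y, rfl, ⟨H⟩⟩ := exists_homotopy_zero α hE a hEa hF x
  obtain ⟨hy, ⟨H'⟩⟩ := exists_open_homotopy j y (f := α) (g := 0)
    (H.trans (Homotopy.ofEq ((resCx j).map_zero _ _).symm))
  exact ⟨j.opensRange, hy, ⟨H'.trans (Homotopy.ofEq (Functor.map_zero _ _ _))⟩⟩

section Cone

variable {C : Type*} [Category C] [Abelian C] [HasDerivedCategory C]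

open DerivedCategory

theorem map_homologyFunctor_Q {F G : CochainComplex C ℤ} (f : G ⟶ F) (n : ℤ) :
    (IsIso ((homologyFunctor C n).map (Q.map f)) ↔ IsIso (HomologicalComplex.homologyMap f n)) ∧
      (Epi ((homologyFunctor C n).map (Q.map f)) ↔ Epi (HomologicalComplex.homologyMap f n)) ∧
      (Mono ((homologyFunctor C n).map (Q.map f)) ↔ Mono (HomologicalComplex.homologyMap f n)) := by
  let P : MorphismProperty C → Prop := fun W =>
    W ((homologyFunctor C n).map (Q.map f)) ↔ W (HomologicalComplex.homologyMap f n)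
  have e := Arrow.isoMk (f := Arrow.mk ((homologyFunctor C n).map (Q.map f)))
    (g := Arrow.mk (HomologicalComplex.homologyMap f n))
    ((homologyFunctorFactors C n).app G) ((homologyFunctorFactors C n).app F)
    ((homologyFunctorFactors C n).hom.naturality f).symm
  exact ⟨(MorphismProperty.isomorphisms C).arrow_mk_iso_iff e,
    (MorphismProperty.epimorphisms C).arrow_mk_iso_iff e,
    (MorphismProperty.monomorphisms C).arrow_mk_iso_iff e⟩

theorem isZero_homology_obj₃ (T : Triangle (DerivedCategory C)) (hT : T ∈ distTriang _) (n : ℤ)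
    (h : Epi ((homologyFunctor C n).map T.mor₁))
    (h' : Mono ((homologyFunctor C (n + 1)).map T.mor₁)) :
    IsZero ((homologyFunctor C n).obj T.obj₃) :=
  (HomologySequence.exact₃ T hT n (n + 1) rfl).isZero_X₂
    ((HomologySequence.epi_homologyMap_mor₁_iff T hT n).1 h)
    ((HomologySequence.mono_homologyMap_mor₁_iff T hT n (n + 1) rfl).1 h')

theorem exactAt_mappingCone {F G : CochainComplex C ℤ} (f : G ⟶ F) (a : ℤ)
    (hf : ∀ j, a < j → IsIso (HomologicalComplex.homologyMap f j))
    (hfa : Epi (HomologicalComplex.homologyMap f a)) (i : ℤ) (hi : a ≤ i) :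
    (CochainComplex.mappingCone f).ExactAt i := by
  rw [HomologicalComplex.exactAt_iff_isZero_homology]
  refine (isZero_homology_obj₃ (Q.mapTriangle.obj (CochainComplex.mappingCone.triangle f))
    (mappingCone_triangle_distinguished f) i ((map_homologyFunctor_Q f i).2.1.2 ?_)
    ((map_homologyFunctor_Q f (i + 1)).2.2.2 ?_)).of_iso
    ((homologyFunctorFactors C i).app _).symm
  · rcases eq_or_lt_of_le hi with rfl | h
    · exact hfa
    · haveI := hf i h
      infer_instance
  · haveI := hf (i + 1) (by omega)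
    infer_instance

end Cone

/-- Local factorisation through a map inducing isomorphisms on cohomology in degrees `> a` and a
surjection in degree `a`. -/
theorem exists_open_factor {E F G : CochainComplex X.Modules ℤ}
    (α : E ⟶ F) (f : G ⟶ F) (hE : DCoh.IsStrictlyPerfect E) (a : ℤ)
    (hEa : ∀ j : ℤ, j < a → IsZero (E.X j))
    (hf : ∀ j : ℤ, a < j → IsIso (HomologicalComplex.homologyMap f j))
    (hfa : Epi (HomologicalComplex.homologyMap f a)) (x : X) :
    ∃ (V : X.Opens) (β : (DCoh.restrictCx V).obj E ⟶ (DCoh.restrictCx V).obj G), x ∈ V ∧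
      Nonempty (Homotopy (β ≫ (DCoh.restrictCx V).map f) ((DCoh.restrictCx V).map α)) := by
  obtain ⟨V, hV, ⟨H⟩⟩ := exists_open_homotopy_zero (α ≫ CochainComplex.mappingCone.inr f) hE a hEa
    (exactAt_mappingCone f a hf hfa) x
  let R := Scheme.Modules.restrictFunctor V.ι
  let Kh := R.mapHomotopyCategory (ComplexShape.up ℤ)
  let q := HomotopyCategory.quotient (V : Scheme.{u}).Modules (ComplexShape.up ℤ)
  have hT := Kh.map_distinguished _
    (HomotopyCategory.mappingCone_triangleh_distinguished f)
  have h0 := HomotopyCategory.eq_of_homotopy _ _ H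
  obtain ⟨b, hb⟩ := Triangle.coyoneda_exact₂ _ hT
    (show q.obj ((DCoh.restrictCx V).obj E) ⟶ _ from q.map ((DCoh.restrictCx V).map α)) (by
      rw [Functor.map_zero, Functor.map_comp, Functor.map_comp] at h0
      exact h0)
  obtain ⟨β, rfl⟩ := q.map_surjective
    (X := (DCoh.restrictCx V).obj E) (Y := (DCoh.restrictCx V).obj G) b
  refine ⟨V, β, hV, ⟨HomotopyCategory.homotopyOfEq _ _ ?_⟩⟩
  rw [Functor.map_comp]
  exact hb.symm

/-- A morphism in the derived category out of a strictly perfect complex is locally given by a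
morphism of complexes. -/
theorem exists_open_represent {E F : CochainComplex X.Modules ℤ}
    (hE : DCoh.IsStrictlyPerfect E) (α : DCoh.toD X E ⟶ DCoh.toD X F) (x : X) :
    ∃ V : X.Opens, x ∈ V ∧ ∃ β : (DCoh.restrictCx V).obj E ⟶ (DCoh.restrictCx V).obj F,
      (DCoh.restrictD V.ι).map α =
        (Scheme.Modules.restrictFunctor V.ι).mapDerivedCategoryFactors.hom.app E ≫
          DerivedCategory.Q.map β ≫
            (Scheme.Modules.restrictFunctor V.ι).mapDerivedCategoryFactors.inv.app F := by
  obtain ⟨G, s, hs, g, rfl⟩ := DerivedCategory.right_fac α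
  obtain ⟨⟨a, b, hab⟩, -⟩ := id hE
  have hiso : ∀ n, IsIso (HomologicalComplex.homologyMap s n) := fun n =>
    (map_homologyFunctor_Q s n).1.1 inferInstance
  obtain ⟨V, γ, hV, ⟨H⟩⟩ := exists_open_factor (𝟙 E) s hE a (fun j hj => hab j (Or.inl hj))
    (fun j _ => hiso j) (haveI := hiso a; inferInstance) x
  refine ⟨V, hV, γ ≫ (DCoh.restrictCx V).map g, ?_⟩
  let R := Scheme.Modules.restrictFunctor V.ι
  let fac := R.mapDerivedCategoryFactors
  have h1 : DerivedCategory.Q.map γ ≫ DerivedCategory.Q.map ((DCoh.restrictCx V).map s) = 𝟙 _ := by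
    rw [← Functor.map_comp, DerivedCategory.Q_map_eq_of_homotopy _ H, CategoryTheory.Functor.map_id,
      CategoryTheory.Functor.map_id]
  have h2 : ∀ {A B : CochainComplex X.Modules ℤ} (φ : A ⟶ B),
      (DCoh.restrictD V.ι).map (DerivedCategory.Q.map φ) =
        fac.hom.app A ≫ DerivedCategory.Q.map ((DCoh.restrictCx V).map φ) ≫ fac.inv.app B := by
    intro A B φ
    refine Eq.trans ?_ (congrArg (fac.hom.app A ≫ ·) (fac.inv.naturality φ).symm)
    exact (fac.hom_inv_id_app_assoc _ _).symm
  rw [← cancel_epi ((DCoh.restrictD V.ι).map (DerivedCategory.Q.map s)), ← Functor.map_comp,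
    IsIso.hom_inv_id_assoc, h2, h2]
  have h3 : DerivedCategory.Q.map ((DCoh.restrictCx V).map s) ≫ DerivedCategory.Q.map γ = 𝟙 _ := by
    haveI : IsIso (DerivedCategory.Q.map ((DCoh.restrictCx V).map s)) := by
      have h4 : IsIso ((DCoh.restrictD V.ι).map (DerivedCategory.Q.map s)) := inferInstance
      rw [h2] at h4
      exact (isIso_comp_right_iff _ (fac.inv.app E)).1 ((isIso_comp_left_iff (fac.hom.app G) _).1 h4)
    rw [← cancel_mono (DerivedCategory.Q.map ((DCoh.restrictCx V).map s)), Category.assoc, h1,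
      Category.comp_id, Category.id_comp]
  simp only [Category.assoc, Functor.map_comp]
  rw [Iso.inv_hom_id_app_assoc, reassoc_of% h3]

end Groth.Agent.DCohLib
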