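import Groth.Agent.DCohLib.SuppOpen
import Groth.Agent.DCohLib.LocFreeCx
import Groth.Agent.DCohLib.LocHtp

/-!
# Quasi-isomorphisms are local, and local models of perfect complexes
-/

set_option autoImplicit false
set_option linter.style.haveILetI false

universe u

open CategoryTheory CategoryTheory.Limits AlgebraicGeometry TopologicalSpace
open Groth.Agent.PullbackMod

attribute [local instance] HasDerivedCategory.standard

noncomputable section

namespace Groth.Agent.DCohLib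

variable {X U : Scheme.{u}}

theorem isIso_restrict_homologyMap (j : U ⟶ X) [IsOpenImmersion j] {K L : CochainComplex X.Modules ℤ} (φ : K ⟶ L)
    (i : ℤ) (h : QuasiIso ((resCx j).map φ)) :
    IsIso ((Scheme.Modules.restrictFunctor j).map (HomologicalComplex.homologyMap φ i)) := by
  let R := Scheme.Modules.restrictFunctor j
  let S := (HomologicalComplex.shortComplexFunctor X.Modules (ComplexShape.up ℤ) i).map φ
  have h1 := ShortComplex.mapHomologyIso_hom_naturality S R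
  haveI : IsIso (ShortComplex.homologyMap (R.mapShortComplex.map S)) :=
    (quasiIsoAt_iff_isIso_homologyMap ((resCx j).map φ) i).1 (h.quasiIsoAt i)
  exact @IsIso.of_isIso_fac_left _ _ _ _ _ _ _ _ (Iso.isIso_hom _)
    (IsIso.comp_isIso' ((quasiIsoAt_iff_isIso_homologyMap ((resCx j).map φ) i).1 (h.quasiIsoAt i)) (Iso.isIso_hom _))
    h1.symm

/-- Quasi-isomorphisms are local. -/
theorem quasiIso_of_local {K L : CochainComplex X.Modules ℤ} (φ : K ⟶ L)
    (h : ∀ x : X, ∃ V : X.Opens, x ∈ V ∧ QuasiIso ((resCx V.ι).map φ)) : QuasiIso φ := by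
  refine ⟨fun i => (quasiIsoAt_iff_isIso_homologyMap φ i).2 ((isIso_iff_stalk _).2 fun x => ?_)⟩
  obtain ⟨V, hx, hV⟩ := h x
  haveI := isIso_restrict_homologyMap V.ι φ i hV
  let y : (V : Scheme.{u}) := ⟨x, hx⟩
  have h1 : IsIso ((Scheme.Modules.restrictFunctor V.ι ⋙ Scheme.Modules.toPresheaf _ ⋙
      TopCat.Presheaf.stalkFunctor _ y).map (HomologicalComplex.homologyMap φ i)) :=
    @Functor.map_isIso _ _ _ _ _ _ (Scheme.Modules.toPresheaf _ ⋙ TopCat.Presheaf.stalkFunctor _ y) _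
      (isIso_restrict_homologyMap V.ι φ i hV)
  have h2 := (NatIso.isIso_map_iff (Scheme.Modules.restrictStalkNatIso V.ι y)
    (HomologicalComplex.homologyMap φ i)).1 h1
  exact @ConcreteCategory.bijective_of_isIso _ _ _ _ _ _ _ _
    ((Scheme.Modules.toPresheaf _ ⋙ TopCat.Presheaf.stalkFunctor _ x).map
      (HomologicalComplex.homologyMap φ i)) h2

/-- A perfect complex receives, locally, a quasi-isomorphism from a bounded complex of finite free modules. -/
theorem exists_local_free_map {P : CochainComplex X.Modules ℤ}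
    (h : DCoh.IsPerfect (DerivedCategory.Q.obj P)) (x : X) :
    ∃ V : X.Opens, x ∈ V ∧ ∃ (E : CochainComplex (V : Scheme.{u}).Modules ℤ) (β : E ⟶ (resCx V.ι).obj P),
      QuasiIso β ∧ DCoh.IsStrictlyPerfect E ∧
        ∀ i : ℤ, ∃ n : ℕ, Nonempty (E.X i ≅ FlatMod.freeMod (V : Scheme.{u}) n) := by
  obtain ⟨V₀, hx, E₀, hb, hfree, ⟨e⟩⟩ := (isPerfect_iff_free _).1 h x
  have hE₀ : DCoh.IsStrictlyPerfect E₀ := ⟨hb, fun i => by
    obtain ⟨n, ⟨e⟩⟩ := hfree i
    exact isFinLocFree_iso e.symm (isFinLocFree_freeMod n)⟩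
  let φ : DCoh.toD _ E₀ ⟶ DCoh.toD _ ((resCx V₀.ι).obj P) := (e ≪≫ restrictDQ V₀.ι P).hom
  haveI : IsIso φ := inferInstanceAs (IsIso (e ≪≫ restrictDQ V₀.ι P).hom)
  obtain ⟨W, hW, β₀, hβ⟩ := exists_open_represent hE₀ φ ⟨x, hx⟩
  have hq : QuasiIso β₀ := by
    rw [← DerivedCategory.isIso_Q_map_iff_quasiIso]
    have h4 : IsIso ((DCoh.restrictD W.ι).map φ) := inferInstance
    rw [hβ] at h4
    exact (isIso_comp_right_iff _ _).1 ((isIso_comp_left_iff _ _).1 h4)
  let j : (W : Scheme.{u}) ⟶ X := W.ι ≫ V₀.ι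
  let r := j.isoOpensRange.inv
  let ρ : resCx V₀.ι ⋙ resCx W.ι ⋙ resCx r ≅ resCx j.opensRange.ι :=
    NatIso.mapHomologicalComplex
      (Functor.isoWhiskerLeft _ (Scheme.Modules.restrictFunctorComp r W.ι).symm ≪≫
        (Scheme.Modules.restrictFunctorComp (r ≫ W.ι) V₀.ι).symm ≪≫
        Scheme.Modules.restrictFunctorCongr (by simp only [r, Category.assoc]; exact j.isoOpensRange_inv_comp))
      (ComplexShape.up ℤ)
  haveI : QuasiIso ((resCx r).map β₀) := inferInstance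
  refine ⟨j.opensRange, ⟨⟨⟨x, hx⟩, hW⟩, rfl⟩, (resCx r).obj ((resCx W.ι).obj E₀),
    (resCx r).map β₀ ≫ ρ.hom.app P, ?_, ?_⟩
  · exact quasiIso_comp _ _
  · have hfree' : ∀ i : ℤ, ∃ n : ℕ,
        Nonempty (((resCx r).obj ((resCx W.ι).obj E₀)).X i ≅ FlatMod.freeMod (j.opensRange : Scheme.{u}) n) :=
      fun i => by
        obtain ⟨n, ⟨e⟩⟩ := hfree i
        exact ⟨n, ⟨(Scheme.Modules.restrictFunctor r).mapIso
          ((Scheme.Modules.restrictFunctor W.ι).mapIso e ≪≫ restrictFreeMod W.ι n) ≪≫ restrictFreeMod r n⟩⟩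
    obtain ⟨a, b, hab⟩ := hb
    refine ⟨⟨⟨a, b, fun i hi => isZero_resCx r (isZero_resCx W.ι (hab i hi))⟩, fun i => ?_⟩, hfree'⟩
    obtain ⟨n, ⟨e⟩⟩ := hfree' i
    exact isFinLocFree_iso e.symm (isFinLocFree_freeMod n)

end Groth.Agent.DCohLib
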