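import Groth.Agent.DCohLib.PullKFlat
import Groth.Agent.DCohLib.Pullback
import Groth.Agent.DCohLib.PullPerf
import Groth.Agent.KFlat.ModuleQuasiIso

/-!
# Inverse images of quasi-isomorphisms of K-flat complexes
-/

set_option autoImplicit false
set_option linter.style.haveILetI false

universe u v₁ v₂ v u₁ u₂ w

open scoped TensorProduct

open CategoryTheory CategoryTheory.Limits AlgebraicGeometry MonoidalCategory
open Groth.Agent.KFlat

attribute [local instance] HasDerivedCategory.standard

noncomputable section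

namespace Groth.Agent.DCohLib

section Generic

variable {C₁ : Type u₁} [Category.{v₁} C₁] {C₂ : Type u₂} [Category.{v₂} C₂]
  {D : Type w} [Category.{v} D] [Abelian C₁] [Abelian C₂] [Abelian D]
  (F : C₁ ⥤ C₂ ⥤ D) [F.Additive] [∀ X, (F.obj X).Additive]
  [∀ (K₁ : CochainComplex C₁ ℤ) (K₂ : CochainComplex C₂ ℤ), CochainComplex.HasMapBifunctor K₁ K₂ F]
  [∀ (K₁ : CochainComplex C₂ ℤ) (K₂ : CochainComplex C₁ ℤ), CochainComplex.HasMapBifunctor K₁ K₂ F.flip]
  [∀ n : ℤ, HasColimitsOfShape (Discrete (Idx n)) D]
  [∀ n : ℤ, HasExactColimitsOfShape (Discrete (Idx n)) D]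

/-- Tensoring an acyclic K-flat complex with an object gives an acyclic complex. -/
theorem acyclic_map_obj_of_isKFlatFor
    (hres : ∀ G : CochainComplex C₁ ℤ, ∃ (N : CochainComplex C₁ ℤ) (c : N ⟶ G),
      IsKFlatFor F.flip N ∧ QuasiIso c)
    {K : CochainComplex C₂ ℤ} (hK : K.Acyclic) (hK' : IsKFlatFor F K) (M : C₁) :
    (((F.obj M).mapHomologicalComplex (ComplexShape.up ℤ)).obj K).Acyclic := fun n => by
  let L := (HomologicalComplex.single C₁ (ComplexShape.up ℤ) 0).obj M
  have h1 : (CochainComplex.mapBifunctor K L F.flip).ExactAt n :=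
    (acyclic_tot_of_acyclic_of_isKFlatFor F hres L hK hK' n).of_iso ((totRIso F K).app L).symm
  haveI := isIso_singleι F.flip K 0 M (n - 1) (n - 1) (by omega)
  haveI := isIso_singleι F.flip K 0 M n n (by omega)
  haveI := isIso_singleι F.flip K 0 M (n + 1) (n + 1) (by omega)
  rw [HomologicalComplex.exactAt_iff' _ (n - 1) n (n + 1) (by simp) (by simp)] at h1 ⊢
  exact ShortComplex.exact_of_iso
    (S₂ := (K.sc' (n - 1) n (n + 1)).map (F.obj M))
    (ShortComplex.isoMk (@asIso _ _ _ _ _ (isIso_singleι F.flip K 0 M (n - 1) (n - 1) (add_zero _)))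
      (@asIso _ _ _ _ _ (isIso_singleι F.flip K 0 M n n (add_zero _)))
      (@asIso _ _ _ _ _ (isIso_singleι F.flip K 0 M (n + 1) (n + 1) (add_zero _)))
      (singleι_d F.flip K 0 M (n - 1) n (n - 1) n (by omega) (by omega) (by omega))
      (singleι_d F.flip K 0 M n (n + 1) n (n + 1) (by omega) (by omega) (by omega))).symm h1

end Generic

section Ring

variable (A B : Type u) [CommRing A] [CommRing B] [Algebra A B]

/-- `B` as an `A`-module, in two guises. -/
def selfEquiv : B ≃ₗ[A] ↥((resF' A B).obj (ModuleCat.of B B)) where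
  toFun b := b
  invFun b := b
  map_add' _ _ := rfl
  map_smul' a b := Algebra.smul_def a b
  left_inv _ := rfl
  right_inv _ := rfl

/-- Base change followed by restriction of scalars is tensoring. -/
def bcResEquiv (P : ModuleCat.{u} A) :
    ↥((resF' A B).obj ((bcF A B).obj P)) ≃ₗ[A] ↥((resF' A B).obj (ModuleCat.of B B) ⊗ P) :=
  let e : B ⊗[A] (P : Type u) ≃ₗ[A] ↥((resF' A B).obj (ModuleCat.of B B)) ⊗[A] (P : Type u) :=
    TensorProduct.congr (selfEquiv A B) (LinearEquiv.refl A P)
  { toFun := fun z => e (show B ⊗[A] (P : Type u) from z)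
    invFun := fun z => e.symm z
    map_add' := fun z w => map_add e _ _
    map_smul' := fun a z => (congrArg e (algebraMap_smul B a (show B ⊗[A] (P : Type u) from z))).trans
      (map_smul e a _)
    left_inv := fun z => e.symm_apply_apply _
    right_inv := fun z => e.apply_symm_apply _ }

/-- Base change followed by restriction of scalars is tensoring. -/
def bcResIso : bcF A B ⋙ resF' A B ≅
    (curriedTensor (ModuleCat.{u} A)).obj ((resF' A B).obj (ModuleCat.of B B)) :=
  NatIso.ofComponents (fun P => (bcResEquiv A B P).toModuleIso)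
    fun g => ModuleCat.hom_ext (LinearMap.ext fun z => by
      change B ⊗[A] _ at z
      induction z using TensorProduct.induction_on with
      | zero => exact (map_zero _).trans (map_zero _).symm
      | tmul b p => rfl
      | add a b ha hb => exact (map_add _ _ _).trans ((congrArg₂ (· + ·) ha hb).trans (map_add _ _ _).symm))

/-- Base change keeps acyclic K-flat complexes acyclic. -/
theorem acyclic_baseChange {K : DRing.Cx A} (hK : K.Acyclic) (hK' : DRing.IsKFlat A K) :
    (((bcF A B).mapHomologicalComplex (ComplexShape.up ℤ)).obj K).Acyclic := fun n => by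
  have h := acyclic_map_obj_of_isKFlatFor (curriedTensor (ModuleCat.{u} A)) (exists_resolution_flip A)
    hK ((isKFlatFor_iff_isZero_homology _ K).2 hK') ((resF' A B).obj (ModuleCat.of B B)) n
  rw [HomologicalComplex.exactAt_iff] at h ⊢
  exact (ShortComplex.exact_map_iff_of_faithful _ (resF' A B)).1
    (ShortComplex.exact_of_iso ((K.sc n).mapNatIso (bcResIso A B)).symm h)

end Ring

variable {X Y : Scheme.{u}} (f : X ⟶ Y)

theorem acyclic_pullback_of_isKFlat {K : CochainComplex Y.Modules ℤ} (hac : K.Acyclic)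
    (hK : DCoh.IsKFlat K) : ((pullCx f).obj K).Acyclic := fun n => by
  rw [HomologicalComplex.exactAt_iff_isZero_homology, isZero_homology_iff_stkF]
  intro x
  letI := (f.stalkMap x).hom.toAlgebra
  have h := acyclic_baseChange (Y.presheaf.stalk (f x)) (X.presheaf.stalk x)
    (K := ((stkF (f x)).mapHomologicalComplex (ComplexShape.up ℤ)).obj K)
    (fun i => (HomologicalComplex.exactAt_iff_isZero_homology _ i).2
      ((isZero_homology_iff_stkF K i).1 ((HomologicalComplex.exactAt_iff_isZero_homology _ i).1 (hac i)) (f x)))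
    ((isKFlat_iff_stalk K).1 hK (f x)) n
  exact ((HomologicalComplex.exactAt_iff_isZero_homology _ n).1 h).of_iso
    ((HomologicalComplex.homologyFunctor _ _ n).mapIso
      (mapCxSquareIso (Scheme.Modules.pullback f) (stkF x) (stkF (f x))
        (bcF (Y.presheaf.stalk (f x)) (X.presheaf.stalk x)) (pullStalkNatIso f x) K))

/-- Inverse images preserve quasi-isomorphisms between K-flat complexes. -/
theorem quasiIso_pullCx_map {P Q : CochainComplex Y.Modules ℤ} (α : P ⟶ Q) [QuasiIso α]
    (hP : DCoh.IsKFlat P) (hQ : DCoh.IsKFlat Q) : QuasiIso ((pullCx f).map α) := by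
  refine Groth.Agent.KFlat.quasiIso_of_acyclic_cone _ fun n => ?_
  refine HomologicalComplex.ExactAt.of_iso ?_ (CochainComplex.mappingCone.mapHomologicalComplexIso α _)
  exact acyclic_pullback_of_isKFlat f (Groth.Agent.KFlat.acyclic_cone_of_quasiIso α)
    ((Groth.Agent.KFlat.twoOfThree_cone Y.sheaf α).1 hP hQ) n

/-- The derived inverse image of a K-flat complex. -/
theorem isIso_lpullCounit_app_of_isKFlat [DCoh.HasLpull f] (K : CochainComplex Y.Modules ℤ)
    (hK : DCoh.IsKFlat K) :
    IsIso ((lpullCounit f).app ((HomotopyCategory.quotient Y.Modules (ComplexShape.up ℤ)).obj K)) :=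
  (pullAdapted f).isIso_app_of_comp (W' := HomotopyCategory.quasiIso Y.Modules (ComplexShape.up ℤ))
    (HomotopyCategory.quotient Y.Modules (ComplexShape.up ℤ))
    DerivedCategory.Qh (DCoh.Lpull f) (lpullCounit f) K
    (Localization.inverts DerivedCategory.Qh (HomotopyCategory.quasiIso X.Modules (ComplexShape.up ℤ)) _
      ((HomotopyCategory.quotient_map_mem_quasiIso_iff _).2 ((HomologicalComplex.mem_quasiIso_iff _).2
        (haveI := quasiIso_resXπ K
         quasiIso_pullCx_map f ((resXπ Y).app K) (isKFlat_resX K) hK))))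

end Groth.Agent.DCohLib
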