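import Groth.Agent.DCohLib.OpenD
import Groth.Agent.DCohLib.PullQis
import Groth.Agent.DCohLib.SPerf
import Mathlib.Algebra.Homology.DerivedCategory.Fractions

/-!
# Weakly K-injective complexes, and global sections of derived direct images
-/

set_option autoImplicit false
set_option linter.style.haveILetI false

universe u

open CategoryTheory CategoryTheory.Limits AlgebraicGeometry TopologicalSpace
open CategoryTheory.Pretriangulated

attribute [local instance] HasDerivedCategory.standard

noncomputable section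

namespace Groth.Agent.DCohLib

variable {X Y : Scheme.{u}}

/-- The quotient functor to the homotopy category of modules. -/
abbrev quotM (X : Scheme.{u}) : CochainComplex X.Modules ℤ ⥤ HomotopyCategory X.Modules (ComplexShape.up ℤ) :=
  HomotopyCategory.quotient X.Modules (ComplexShape.up ℤ)

/-- `I` is weakly K-injective: maps from acyclic K-flat complexes are null-homotopic. -/
def WKInj (I : CochainComplex X.Modules ℤ) : Prop :=
  ∀ F : CochainComplex X.Modules ℤ, F.Acyclic → DCoh.IsKFlat F →
    ∀ g : (quotM X).obj F ⟶ (quotM X).obj I, g = 0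

theorem wkInj_of_isKInjective (I : CochainComplex X.Modules ℤ) [I.IsKInjective] : WKInj I :=
  fun F hF _ g => by
    obtain ⟨g, rfl⟩ := (quotM X).map_surjective g
    obtain ⟨H⟩ := CochainComplex.IsKInjective.nonempty_homotopy_zero g hF
    exact (HomotopyCategory.eq_of_homotopy _ _ H).trans (Functor.map_zero _ _ _)

theorem wkInj_push (f : X ⟶ Y) (I : CochainComplex X.Modules ℤ) [I.IsKInjective] :
    WKInj (((Scheme.Modules.pushforward f).mapHomologicalComplex (ComplexShape.up ℤ)).obj I) := by
  intro F hF hF' g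
  let adj := Groth.Agent.KInj.homotopyAdjunction (Scheme.Modules.pullbackPushforwardAdjunction f)
  refine (adj.homEquiv ((quotM Y).obj F) ((quotM X).obj I)).symm.injective ?_
  exact (wkInj_of_isKInjective I _ (acyclic_pullback_of_isKFlat f hF hF') (isKFlat_pullback f hF') _).trans
    (wkInj_of_isKInjective I _ (acyclic_pullback_of_isKFlat f hF hF') (isKFlat_pullback f hF') _).symm

theorem WKInj.cone {I J : CochainComplex X.Modules ℤ} (hI : WKInj I) (hJ : WKInj J) (φ : I ⟶ J) :
    WKInj (CochainComplex.mappingCone φ) := by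
  intro F hF hF' g
  let T := CochainComplex.mappingCone.triangleh φ
  obtain ⟨a, ha⟩ := Triangle.coyoneda_exact₃ T (HomotopyCategory.mappingCone_triangleh_distinguished φ)
    (show (quotM X).obj F ⟶ T.obj₃ from g) (by
      let e := ((quotM X).commShiftIso (1 : ℤ))
      have h1 : ∀ h : (quotM X).obj F ⟶ ((quotM X).obj I)⟦(1 : ℤ)⟧, h = 0 := fun h => by
        apply (shiftFunctor (HomotopyCategory X.Modules (ComplexShape.up ℤ)) (-1 : ℤ)).map_injective
        rw [Functor.map_zero, ← cancel_mono ((shiftFunctorCompIsoId _ (1 : ℤ) (-1 : ℤ) (by omega)).app _).hom,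
          ← cancel_epi (((quotM X).commShiftIso (-1 : ℤ)).app F).hom, zero_comp, comp_zero]
        exact hI _ (fun n => by
          rw [HomologicalComplex.exactAt_iff_isZero_homology]
          exact ((HomologicalComplex.exactAt_iff_isZero_homology _ _).1 (hF (-1 + n))).of_iso
            (((HomologicalComplex.homologyFunctor X.Modules (ComplexShape.up ℤ) 0).shiftIso (-1) n (-1 + n) rfl).app F))
          ((isKFlat_iff _).2 ((Groth.Agent.KFlat.isKFlat_iff X.sheaf _).2
            (Groth.Agent.KFlat.isKFlatFor_shift _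
              ((Groth.Agent.KFlat.isKFlat_iff X.sheaf F).1 ((isKFlat_iff F).1 hF')) (-1)))) _
      exact h1 _)
  rw [show g = a ≫ T.mor₂ from ha, hJ F hF hF' a]
  exact zero_comp

/-- A complex representing `O` in degree `n`. -/
abbrev unitAt (X : Scheme.{u}) (n : ℤ) : CochainComplex X.Modules ℤ :=
  (HomologicalComplex.single X.Modules (ComplexShape.up ℤ) n).obj (Coh.structureModule X)

theorem isKFlat_unitAt (n : ℤ) : DCoh.IsKFlat (unitAt X n) :=
  isKFlat_of_flat_bddAbove _ n
    (fun m hm => HomologicalComplex.isZero_single_obj_X _ _ _ _ (by omega))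
    fun m => by
      by_cases h : m = n
      · subst h
        exact isFlat_congr (HomologicalComplex.singleObjXSelf _ _ _).symm
          (isFlat_of_flf (isFinLocFree_iso (coproductUniqueIso (fun _ : Fin 1 => Coh.structureModule X))
            (isFinLocFree_freeMod 1)))
      · exact isFlat_of_flf (isFinLocFree_of_isZero (HomologicalComplex.isZero_single_obj_X _ _ _ _ h))

/-- Maps from a K-flat complex to an acyclic weakly K-injective complex are null-homotopic. -/
theorem eq_zero_of_wkInj {P C : CochainComplex X.Modules ℤ} (hP : DCoh.IsKFlat P) (hC : C.Acyclic)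
    (hC' : WKInj C) (g : (quotM X).obj P ⟶ (quotM X).obj C) : g = 0 := by
  have hq : QuasiIso (0 : C ⟶ C) := ⟨fun i => (quasiIsoAt_iff_exactAt (0 : C ⟶ C) i (hC i)).2 (hC i)⟩
  have hz : IsZero (DerivedCategory.Qh.obj ((quotM X).obj C)) := by
    have hi : IsIso (DerivedCategory.Q.map (0 : C ⟶ C)) := Localization.inverts DerivedCategory.Q
      (HomologicalComplex.quasiIso X.Modules (ComplexShape.up ℤ)) _ ((HomologicalComplex.mem_quasiIso_iff _).2 hq)
    rw [Functor.map_zero] at hi
    exact (IsZero.of_mono_zero (DerivedCategory.Q.obj C) (DerivedCategory.Q.obj C)).of_iso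
      ((DerivedCategory.quotientCompQhIso X.Modules).app C)
  obtain ⟨R, s, hs, hsg⟩ := ((HomotopyCategory.quasiIso X.Modules (ComplexShape.up ℤ)).map_eq_iff_precomp
    DerivedCategory.Qh g 0).1 (hz.eq_of_tgt _ _)
  obtain ⟨R, rfl⟩ : ∃ R', R = (quotM X).obj R' := ⟨R.as, rfl⟩
  obtain ⟨s, rfl⟩ := (quotM X).map_surjective s
  let r := (resXπ X).app R ≫ s
  haveI : QuasiIso s := (HomologicalComplex.mem_quasiIso_iff _).1
    ((HomotopyCategory.quotient_map_mem_quasiIso_iff _).1 hs)
  haveI := quasiIso_resXπ R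
  haveI : QuasiIso r := inferInstance
  let T := CochainComplex.mappingCone.triangleh r
  obtain ⟨b, hb⟩ := Triangle.yoneda_exact₂ T (HomotopyCategory.mappingCone_triangleh_distinguished r)
    (show T.obj₂ ⟶ _ from g) (by
      show (quotM X).map r ≫ g = 0
      rw [Functor.map_comp, Category.assoc, hsg, comp_zero, comp_zero])
  rw [show g = T.mor₂ ≫ b from hb, hC' _ (Groth.Agent.KFlat.acyclic_cone_of_quasiIso r)
    ((isKFlat_iff _).2 ((Groth.Agent.KFlat.twoOfThree_cone X.sheaf r).1
      ((isKFlat_iff _).1 (isKFlat_resX R)) ((isKFlat_iff _).1 hP))) b]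
  exact comp_zero

/-- Global sections of an acyclic weakly K-injective complex are acyclic. -/
theorem acyclic_gamma_of_wkInj {C : CochainComplex X.Modules ℤ} (hC : C.Acyclic) (hC' : WKInj C) :
    (((DCoh.gammaAb X).mapHomologicalComplex (ComplexShape.up ℤ)).obj C).Acyclic := fun n => by
  rw [HomologicalComplex.exactAt_iff' _ (n - 1) n (n + 1) (by simp) (by simp), ShortComplex.ab_exact_iff]
  intro (x : Γ(C.X n, ⊤)) hx
  let t : Coh.structureModule X ⟶ C.X n := secHom (C.X n) x
  have ht : t.app ⊤ (1 : Γ(X, ⊤)) = x := (secHom_app_one _ x ⊤).trans (congr(($((C.X n).presheaf.map_id _)) x))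
  have htd : ∀ k, (ComplexShape.up ℤ).Rel n k → t ≫ C.d n k = 0 := fun k hk => by
    obtain rfl : n + 1 = k := hk
    exact hom_unit_ext ((congrArg ((C.d n (n + 1)).app ⊤) ht).trans hx)
  let φ : unitAt X n ⟶ C := HomologicalComplex.mkHomFromSingle t htd
  obtain ⟨h⟩ : Nonempty (Homotopy φ 0) := ⟨HomotopyCategory.homotopyOfEq _ _ ((eq_zero_of_wkInj
    (isKFlat_unitAt n) hC hC' ((quotM X).map φ)).trans (Functor.map_zero _ _ _).symm)⟩
  have hc := h.comm n
  rw [dNext_eq _ (show (ComplexShape.up ℤ).Rel n (n + 1) from rfl),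
    prevD_eq _ (show (ComplexShape.up ℤ).Rel (n - 1) n from sub_add_cancel n 1)] at hc
  let e := (HomologicalComplex.singleObjXSelf (ComplexShape.up ℤ) n (Coh.structureModule X)).inv
  refine ⟨(e ≫ h.hom n (n - 1)).app ⊤ (1 : Γ(X, ⊤)), ?_⟩
  have h1 : t = (e ≫ h.hom n (n - 1)) ≫ C.d (n - 1) n := by
    have h2 := congrArg (e ≫ ·) hc
    simp [φ, e, HomologicalComplex.mkHomFromSingle_f] at h2
    simpa [e] using h2
  exact (congr(($h1).app ⊤ (1 : Γ(X, ⊤)))).symm.trans ht

/-- Global sections preserve quasi-isomorphisms of weakly K-injective complexes. -/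
theorem quasiIso_gamma_map {I J : CochainComplex X.Modules ℤ} (φ : I ⟶ J) [QuasiIso φ] (hI : WKInj I)
    (hJ : WKInj J) : QuasiIso (((DCoh.gammaAb X).mapHomologicalComplex (ComplexShape.up ℤ)).map φ) := by
  refine Groth.Agent.KFlat.quasiIso_of_acyclic_cone _ fun n => ?_
  refine HomologicalComplex.ExactAt.of_iso ?_ (CochainComplex.mappingCone.mapHomologicalComplexIso φ _)
  exact acyclic_gamma_of_wkInj (Groth.Agent.KFlat.acyclic_cone_of_quasiIso φ) (hI.cone hJ φ) n

/-- The comparison `Qh ∘ Γ ⟶ RΓ ∘ Qh`. -/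
abbrev rgammaUnit (X : Scheme.{u}) [DCoh.HasRΓ X] : DCoh.gammaKh X ⟶ DerivedCategory.Qh ⋙ DCoh.RΓ X :=
  (DCoh.gammaKh X).totalRightDerivedUnit DerivedCategory.Qh (HomotopyCategory.quasiIso X.Modules (ComplexShape.up ℤ))

/-- Weakly K-injective complexes compute derived global sections. -/
theorem isIso_rgammaUnit_app_of_wkInj [DCoh.HasRΓ X] (W : CochainComplex X.Modules ℤ) (hW : WKInj W) :
    IsIso ((rgammaUnit X).app ((quotM X).obj W)) := by
  obtain ⟨J, φ, hJ, hφ⟩ := hres_modules X W
  haveI := hJ
  haveI := hφ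
  haveI := Groth.Agent.KInj.isIso_app_of_isKInjective (hres_modules X) _ _ (rgammaUnit X) J
  haveI : IsIso ((DCoh.gammaKh X).map ((quotM X).map φ)) :=
    Localization.inverts DerivedCategory.Qh (HomotopyCategory.quasiIso AddCommGrpCat.{u} (ComplexShape.up ℤ)) _
      ((HomotopyCategory.quotient_map_mem_quasiIso_iff _).2 ((HomologicalComplex.mem_quasiIso_iff _).2
        (quasiIso_gamma_map φ hW (wkInj_of_isKInjective J))))
  haveI : IsIso ((DerivedCategory.Qh ⋙ DCoh.RΓ X).map ((quotM X).map φ)) := by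
    haveI : IsIso (DerivedCategory.Qh.map ((quotM X).map φ)) :=
      Localization.inverts DerivedCategory.Qh (HomotopyCategory.quasiIso X.Modules (ComplexShape.up ℤ)) _
        ((HomotopyCategory.quotient_map_mem_quasiIso_iff _).2 ((HomologicalComplex.mem_quasiIso_iff _).2 hφ))
    exact inferInstanceAs (IsIso ((DCoh.RΓ X).map (DerivedCategory.Qh.map ((quotM X).map φ))))
  have h := (rgammaUnit X).naturality ((quotM X).map φ)
  haveI : IsIso ((rgammaUnit X).app ((quotM X).obj W) ≫
      (DerivedCategory.Qh ⋙ DCoh.RΓ X).map ((quotM X).map φ)) := h ▸ inferInstance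
  exact IsIso.of_isIso_comp_right _ ((DerivedCategory.Qh ⋙ DCoh.RΓ X).map ((quotM X).map φ))

/-- Derived global sections of a derived direct image. -/
theorem nonempty_rgamma_rpush (f : X ⟶ Y) [DCoh.HasRpush f] [DCoh.HasRΓ X] [DCoh.HasRΓ Y] :
    Nonempty (DCoh.Rpush f ⋙ DCoh.RΓ Y ≅ DCoh.RΓ X) := by
  let W := HomotopyCategory.quasiIso X.Modules (ComplexShape.up ℤ)
  let P := (Scheme.Modules.pushforward f).mapHomotopyCategory (ComplexShape.up ℤ)
  let e : DCoh.gammaKh X ≅ P ⋙ DCoh.gammaKh Y :=
    Functor.isoWhiskerRight (NatIso.ofComponents (F := (DCoh.gammaAb X).mapHomotopyCategory (ComplexShape.up ℤ))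
        (G := P ⋙ (DCoh.gammaAb Y).mapHomotopyCategory (ComplexShape.up ℤ))
        (fun K => (HomotopyCategory.quotient _ _).mapIso
        (HomologicalComplex.Hom.isoOfComponents (fun n => Iso.refl _) (fun _ _ _ =>
          (Category.id_comp _).trans (Category.comp_id _).symm) :
          ((DCoh.gammaAb X).mapHomologicalComplex (ComplexShape.up ℤ)).obj K.as ≅
            ((DCoh.gammaAb Y).mapHomologicalComplex (ComplexShape.up ℤ)).obj
              (((Scheme.Modules.pushforward f).mapHomologicalComplex (ComplexShape.up ℤ)).obj K.as)))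
      fun {K L} φ => by
        obtain ⟨φ, rfl⟩ := (quotM X).map_surjective φ
        refine ((HomotopyCategory.quotient AddCommGrpCat.{u} (ComplexShape.up ℤ)).map_comp _ _).symm.trans
          (Eq.trans ?_ ((HomotopyCategory.quotient AddCommGrpCat.{u} (ComplexShape.up ℤ)).map_comp _ _))
        congr 1)
      DerivedCategory.Qh ≪≫ Functor.associator _ _ _
  let α : DCoh.gammaKh X ⟶ DerivedCategory.Qh ⋙ DCoh.Rpush f ⋙ DCoh.RΓ Y :=
    e.hom ≫ Functor.whiskerLeft P (rgammaUnit Y) ≫ (Functor.associator _ _ _).inv ≫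
      Functor.whiskerRight (rpushUnit f) (DCoh.RΓ Y) ≫ (Functor.associator _ _ _).hom
  haveI : (DCoh.Rpush f ⋙ DCoh.RΓ Y).IsRightDerivedFunctor α W :=
    Groth.Agent.KInj.isRightDerivedFunctor_of_isIso_h (hres_modules X) _ _ fun I hI => by
      haveI := hI
      haveI := isIso_rpushUnit_app f I
      haveI : IsIso ((rgammaUnit Y).app (P.obj ((quotM X).obj I))) :=
        isIso_rgammaUnit_app_of_wkInj _ (wkInj_push f I)
      simp only [α, NatTrans.comp_app, Functor.associator_hom_app, Functor.associator_inv_app,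
        Functor.whiskerRight_app, Functor.whiskerLeft_app]
      infer_instance
  exact ⟨Functor.rightDerivedUnique _ _ α (rgammaUnit X) W⟩

end Groth.Agent.DCohLib
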