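import Groth.Agent.DCohLib.MVSeq
import Groth.Agent.DCohLib.GammaPush
import Groth.Agent.DCohLib.PullPerf

/-!
# Mayer-Vietoris triangles
-/

set_option autoImplicit false
set_option linter.style.haveILetI false

universe u v w

open CategoryTheory CategoryTheory.Limits AlgebraicGeometry TopologicalSpace
open CategoryTheory.Pretriangulated

attribute [local instance] HasDerivedCategory.standard

noncomputable section

namespace Groth.Agent.DCohLib

section Generic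

variable {A : Type w} [Category.{v} A] [Abelian A]

/-- A short exact sequence of complexes with middle term a binary biproduct gives a triangle. -/
theorem exists_triangle_of_bicone {S : ShortComplex (CochainComplex A ℤ)} (hS : S.ShortExact)
    {P Q : CochainComplex A ℤ} (i₁ : P ⟶ S.X₂) (i₂ : Q ⟶ S.X₂) (p₁ : S.X₂ ⟶ P) (p₂ : S.X₂ ⟶ Q)
    (h₁₁ : i₁ ≫ p₁ = 𝟙 P) (h₁₂ : i₁ ≫ p₂ = 0) (h₂₁ : i₂ ≫ p₁ = 0) (h₂₂ : i₂ ≫ p₂ = 𝟙 Q)
    (htot : p₁ ≫ i₁ + p₂ ≫ i₂ = 𝟙 S.X₂)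
    {X₁ Y Z X₃ : DerivedCategory A} (e₁ : X₁ ≅ DerivedCategory.Q.obj S.X₁)
    (eP : DerivedCategory.Q.obj P ≅ Y) (eQ : DerivedCategory.Q.obj Q ≅ Z)
    (e₃ : DerivedCategory.Q.obj S.X₃ ≅ X₃) :
    ∃ (a : X₁ ⟶ Y ⊞ Z) (b : Y ⊞ Z ⟶ X₃) (c : X₃ ⟶ X₁⟦(1 : ℤ)⟧),
      Triangle.mk a b c ∈ distinguishedTriangles := by
  let F := DerivedCategory.Q (C := A)
  let e₂ : F.obj S.X₂ ≅ Y ⊞ Z :=
    { hom := biprod.lift (F.map p₁ ≫ eP.hom) (F.map p₂ ≫ eQ.hom)
      inv := biprod.desc (eP.inv ≫ F.map i₁) (eQ.inv ≫ F.map i₂)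
      hom_inv_id := by
        rw [biprod.lift_desc]
        simp only [Category.assoc, Iso.hom_inv_id_assoc, ← Functor.map_comp, ← Functor.map_add, htot,
          CategoryTheory.Functor.map_id]
      inv_hom_id := by
        apply biprod.hom_ext' <;> apply biprod.hom_ext <;>
          simp [← Functor.map_comp_assoc, h₁₁, h₁₂, h₂₁, h₂₂] }
  refine ⟨_, _, _, isomorphic_distinguished _ (DerivedCategory.triangleOfSES_distinguished hS) _
    (Triangle.isoMk (Triangle.mk (e₁.hom ≫ F.map S.f ≫ e₂.hom) (e₂.inv ≫ F.map S.g ≫ e₃.hom)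
      (e₃.inv ≫ DerivedCategory.triangleOfSESδ hS ≫ e₁.inv⟦(1 : ℤ)⟧'))
      (DerivedCategory.triangleOfSES hS) e₁ e₂.symm e₃.symm ?_ ?_ ?_)⟩
  · show (e₁.hom ≫ F.map S.f ≫ e₂.hom) ≫ e₂.inv = e₁.hom ≫ F.map S.f
    rw [Category.assoc, Category.assoc, e₂.hom_inv_id, Category.comp_id]
  · show (e₂.inv ≫ F.map S.g ≫ e₃.hom) ≫ e₃.inv = e₂.inv ≫ F.map S.g
    rw [Category.assoc, Category.assoc, e₃.hom_inv_id, Category.comp_id]
  · show (e₃.inv ≫ DerivedCategory.triangleOfSESδ hS ≫ e₁.inv⟦(1 : ℤ)⟧') ≫ e₁.hom⟦(1 : ℤ)⟧' = _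
    rw [Category.assoc, Category.assoc, ← Functor.map_comp, e₁.inv_hom_id, CategoryTheory.Functor.map_id]
    exact congrArg (e₃.inv ≫ ·) (Category.comp_id _)

end Generic

variable {X Y : Scheme.{u}} (U V : X.Opens)

instance additive_mvMid : (mvMid U V).Additive where
  map_add {M N f g} := by
    show biprod.map _ _ = biprod.map _ _ + biprod.map _ _
    refine biprod.hom_ext _ _ ?_ ?_ <;>
      refine Eq.trans ?_ (Preadditive.add_comp _ _ _ _ _ _).symm <;> simp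

/-- The Mayer-Vietoris sequence of a complex, after an additive functor. -/
abbrev mvCx {A : Type w} [Category.{v} A] [Abelian A] (G : X.Modules ⥤ A) [G.Additive]
    (I : CochainComplex X.Modules ℤ) : ShortComplex (CochainComplex A ℤ) :=
  (ShortComplex.mk ((NatTrans.mapHomologicalComplex (mvA U V) (ComplexShape.up ℤ)).app I)
    ((NatTrans.mapHomologicalComplex (mvB U V) (ComplexShape.up ℤ)).app I)
    (HomologicalComplex.hom_ext _ _ fun n => congr_app (mvA_mvB U V) (I.X n))).map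
    (G.mapHomologicalComplex (ComplexShape.up ℤ))

theorem shortExact_mvCx (hUV : U ⊔ V = ⊤) {A : Type w} [Category.{v} A] [Abelian A]
    (G : X.Modules ⥤ A) [G.Additive]
    (I : CochainComplex X.Modules ℤ) (hI : ∀ n, Injective (I.X n)) : (mvCx U V G I).ShortExact := by
  refine HomologicalComplex.shortExact_of_degreewise_shortExact _ fun n => ?_
  haveI := hI n
  exact (((shortExact_mvSeq U V hUV (I.X n)).splittingOfInjective).map G).shortExact

theorem exists_mv_triangle (hUV : U ⊔ V = ⊤) {A : Type w} [Category.{v} A] [Abelian A]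
    (G : X.Modules ⥤ A) [G.Additive] (I : CochainComplex X.Modules ℤ) (hI : ∀ n, Injective (I.X n))
    {T₁ T₂ T₂' T₃ : DerivedCategory A}
    (e₁ : T₁ ≅ DerivedCategory.Q.obj ((G.mapHomologicalComplex (ComplexShape.up ℤ)).obj I))
    (eU : DerivedCategory.Q.obj ((G.mapHomologicalComplex (ComplexShape.up ℤ)).obj
      (((jj U).mapHomologicalComplex (ComplexShape.up ℤ)).obj I)) ≅ T₂)
    (eV : DerivedCategory.Q.obj ((G.mapHomologicalComplex (ComplexShape.up ℤ)).obj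
      (((jj V).mapHomologicalComplex (ComplexShape.up ℤ)).obj I)) ≅ T₂')
    (e₃ : DerivedCategory.Q.obj ((G.mapHomologicalComplex (ComplexShape.up ℤ)).obj
      (((jj (U ⊓ V)).mapHomologicalComplex (ComplexShape.up ℤ)).obj I)) ≅ T₃) :
    ∃ (a : T₁ ⟶ T₂ ⊞ T₂') (b : T₂ ⊞ T₂' ⟶ T₃) (c : T₃ ⟶ T₁⟦(1 : ℤ)⟧),
      Triangle.mk a b c ∈ distinguishedTriangles := by
  let inl' : jj U ⟶ mvMid U V := { app := fun M => biprod.inl, naturality := fun _ _ g => (biprod.inl_map _ _).symm }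
  let inr' : jj V ⟶ mvMid U V := { app := fun M => biprod.inr, naturality := fun _ _ g => (biprod.inr_map _ _).symm }
  let fst' : mvMid U V ⟶ jj U := { app := fun M => biprod.fst, naturality := fun _ _ g => biprod.map_fst _ _ }
  let snd' : mvMid U V ⟶ jj V := { app := fun M => biprod.snd, naturality := fun _ _ g => biprod.map_snd _ _ }
  let C := ComplexShape.up ℤ
  refine exists_triangle_of_bicone (shortExact_mvCx U V hUV G I hI)
    ((G.mapHomologicalComplex C).map ((NatTrans.mapHomologicalComplex inl' C).app I))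
    ((G.mapHomologicalComplex C).map ((NatTrans.mapHomologicalComplex inr' C).app I))
    ((G.mapHomologicalComplex C).map ((NatTrans.mapHomologicalComplex fst' C).app I))
    ((G.mapHomologicalComplex C).map ((NatTrans.mapHomologicalComplex snd' C).app I))
    ?_ ?_ ?_ ?_ ?_ e₁ eU eV e₃
  · ext n; exact (G.map_comp _ _).symm.trans ((congrArg G.map biprod.inl_fst).trans (G.map_id _))
  · ext n; exact (G.map_comp _ _).symm.trans ((congrArg G.map biprod.inl_snd).trans (G.map_zero _ _))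
  · ext n; exact (G.map_comp _ _).symm.trans ((congrArg G.map biprod.inr_fst).trans (G.map_zero _ _))
  · ext n; exact (G.map_comp _ _).symm.trans ((congrArg G.map biprod.inr_snd).trans (G.map_id _))
  · ext n
    exact (congrArg₂ (· + ·) (G.map_comp _ _).symm (G.map_comp _ _).symm).trans
      (G.map_add.symm.trans ((congrArg G.map biprod.total).trans (G.map_id _)))

theorem exists_injective_resolution (X : Scheme.{u}) (E : DCoh.D X) :
    ∃ (I : CochainComplex X.Modules ℤ), I.IsKInjective ∧ (∀ n, Injective (I.X n)) ∧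
      Nonempty (E ≅ DerivedCategory.Q.obj I) := by
  obtain ⟨I, φ, h1, h2, -, h3⟩ :=
    Groth.Agent.KInj.exists_isKInjective_resolution (DerivedCategory.Q.objPreimage E)
  haveI := h2
  exact ⟨I, h1, h3, ⟨(DerivedCategory.Q.objObjPreimageIso E).symm ≪≫ asIso (DerivedCategory.Q.map φ)⟩⟩

/-- A K-injective complex computes derived direct images. -/
def rpushInjIso (f : X ⟶ Y) [DCoh.HasRpush f] (I : CochainComplex X.Modules ℤ) [I.IsKInjective] :
    DerivedCategory.Q.obj (((Scheme.Modules.pushforward f).mapHomologicalComplex (ComplexShape.up ℤ)).obj I) ≅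
      (DCoh.Rpush f).obj (DerivedCategory.Q.obj I) :=
  haveI := isIso_rpushUnit_app f I
  (DerivedCategory.quotientCompQhIso Y.Modules).symm.app _ ≪≫
    DerivedCategory.Qh.mapIso (((Scheme.Modules.pushforward f).mapHomotopyCategoryFactors (ComplexShape.up ℤ)).app I).symm ≪≫
    asIso ((rpushUnit f).app ((quotM X).obj I)) ≪≫
    (DCoh.Rpush f).mapIso ((DerivedCategory.quotientCompQhIso X.Modules).app I)

/-- A K-injective complex computes derived global sections. -/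
def rgammaInjIso (X : Scheme.{u}) [DCoh.HasRΓ X] (I : CochainComplex X.Modules ℤ) [I.IsKInjective] :
    DerivedCategory.Q.obj (((DCoh.gammaAb X).mapHomologicalComplex (ComplexShape.up ℤ)).obj I) ≅
      (DCoh.RΓ X).obj (DerivedCategory.Q.obj I) :=
  haveI : IsIso ((rgammaUnit X).app ((quotM X).obj I)) :=
    Groth.Agent.KInj.isIso_app_of_isKInjective (hres_modules X) _ _ (rgammaUnit X) I
  (DerivedCategory.quotientCompQhIso AddCommGrpCat.{u}).symm.app _ ≪≫
    DerivedCategory.Qh.mapIso (((DCoh.gammaAb X).mapHomotopyCategoryFactors (ComplexShape.up ℤ)).app I).symm ≪≫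
    asIso ((rgammaUnit X).app ((quotM X).obj I)) ≪≫
    (DCoh.RΓ X).mapIso ((DerivedCategory.quotientCompQhIso X.Modules).app I)

/-- The Mayer-Vietoris triangle for derived direct images from two opens. -/
theorem exists_mv_triangle_rpush_open (hUV : U ⊔ V = ⊤) [DCoh.HasRpush U.ι] [DCoh.HasRpush V.ι]
    [DCoh.HasRpush (U ⊓ V).ι] (E : DCoh.D X) :
    ∃ (a : E ⟶ ((DCoh.Rpush U.ι).obj ((DCoh.restrictD U.ι).obj E) ⊞ (DCoh.Rpush V.ι).obj ((DCoh.restrictD V.ι).obj E))) (b : ((DCoh.Rpush U.ι).obj ((DCoh.restrictD U.ι).obj E) ⊞ (DCoh.Rpush V.ι).obj ((DCoh.restrictD V.ι).obj E)) ⟶ (DCoh.Rpush (U ⊓ V).ι).obj ((DCoh.restrictD (U ⊓ V).ι).obj E)) (c : (DCoh.Rpush (U ⊓ V).ι).obj ((DCoh.restrictD (U ⊓ V).ι).obj E) ⟶ (E)⟦(1 : ℤ)⟧),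
      Triangle.mk a b c ∈ distinguishedTriangles := by
  obtain ⟨I, hI, hI', ⟨e⟩⟩ := exists_injective_resolution X E
  haveI := hI
  have h : ∀ W : X.Opens, [DCoh.HasRpush W.ι] → Nonempty
      (DerivedCategory.Q.obj (((𝟭 X.Modules).mapHomologicalComplex (ComplexShape.up ℤ)).obj
        (((jj W).mapHomologicalComplex (ComplexShape.up ℤ)).obj I)) ≅
        (DCoh.Rpush W.ι).obj ((DCoh.restrictD W.ι).obj E)) := fun W _ => by
    haveI := isKInjective_restrict W I
    exact ⟨DerivedCategory.Q.mapIso ((Functor.mapHomologicalComplexIdIso _ _).app _) ≪≫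
      rpushInjIso W.ι ((resCx W.ι).obj I) ≪≫
      (DCoh.Rpush W.ι).mapIso ((restrictDQ W.ι I).symm ≪≫ (DCoh.restrictD W.ι).mapIso e.symm)⟩
  obtain ⟨eU⟩ := h U
  obtain ⟨eV⟩ := h V
  obtain ⟨e₃⟩ := h (U ⊓ V)
  exact exists_mv_triangle U V hUV (𝟭 X.Modules) I hI'
    (e ≪≫ (DerivedCategory.Q.mapIso ((Functor.mapHomologicalComplexIdIso _ _).app I)).symm) eU eV e₃

/-- The relative Mayer-Vietoris triangle. -/
theorem exists_mv_triangle_rel (f : X ⟶ Y) (hUV : U ⊔ V = ⊤) [DCoh.HasRpush f] [DCoh.HasRpush (U.ι ≫ f)]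
    [DCoh.HasRpush (V.ι ≫ f)] [DCoh.HasRpush ((U ⊓ V).ι ≫ f)] (E : DCoh.D X) :
    ∃ (a : (DCoh.Rpush f).obj E ⟶ ((DCoh.Rpush (U.ι ≫ f)).obj ((DCoh.restrictD U.ι).obj E) ⊞ (DCoh.Rpush (V.ι ≫ f)).obj ((DCoh.restrictD V.ι).obj E))) (b : ((DCoh.Rpush (U.ι ≫ f)).obj ((DCoh.restrictD U.ι).obj E) ⊞ (DCoh.Rpush (V.ι ≫ f)).obj ((DCoh.restrictD V.ι).obj E)) ⟶ (DCoh.Rpush ((U ⊓ V).ι ≫ f)).obj ((DCoh.restrictD (U ⊓ V).ι).obj E)) (c : (DCoh.Rpush ((U ⊓ V).ι ≫ f)).obj ((DCoh.restrictD (U ⊓ V).ι).obj E) ⟶ ((DCoh.Rpush f).obj E)⟦(1 : ℤ)⟧),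
      Triangle.mk a b c ∈ distinguishedTriangles := by
  obtain ⟨I, hI, hI', ⟨e⟩⟩ := exists_injective_resolution X E
  haveI := hI
  have h : ∀ W : X.Opens, [DCoh.HasRpush (W.ι ≫ f)] → Nonempty
      (DerivedCategory.Q.obj (((Scheme.Modules.pushforward f).mapHomologicalComplex (ComplexShape.up ℤ)).obj
        (((jj W).mapHomologicalComplex (ComplexShape.up ℤ)).obj I)) ≅
        (DCoh.Rpush (W.ι ≫ f)).obj ((DCoh.restrictD W.ι).obj E)) := fun W _ => by
    haveI := isKInjective_restrict W I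
    exact ⟨DerivedCategory.Q.mapIso (HomologicalComplex.Hom.isoOfComponents
        (fun n => (Scheme.Modules.pushforwardComp W.ι f).app _) fun i j _ =>
          ((Scheme.Modules.pushforwardComp W.ι f).hom.naturality _).symm :
        ((Scheme.Modules.pushforward f).mapHomologicalComplex (ComplexShape.up ℤ)).obj
            (((jj W).mapHomologicalComplex (ComplexShape.up ℤ)).obj I) ≅
          ((Scheme.Modules.pushforward (W.ι ≫ f)).mapHomologicalComplex (ComplexShape.up ℤ)).obj ((resCx W.ι).obj I)) ≪≫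
      rpushInjIso (W.ι ≫ f) ((resCx W.ι).obj I) ≪≫
      (DCoh.Rpush (W.ι ≫ f)).mapIso ((restrictDQ W.ι I).symm ≪≫ (DCoh.restrictD W.ι).mapIso e.symm)⟩
  obtain ⟨eU⟩ := h U
  obtain ⟨eV⟩ := h V
  obtain ⟨e₃⟩ := h (U ⊓ V)
  exact exists_mv_triangle U V hUV (Scheme.Modules.pushforward f) I hI'
    ((DCoh.Rpush f).mapIso e ≪≫ (rpushInjIso f I).symm) eU eV e₃

/-- The Mayer-Vietoris triangle for derived global sections. -/
theorem exists_mv_triangle_rgamma (hUV : U ⊔ V = ⊤) [DCoh.HasRΓ X] [DCoh.HasRΓ (U : Scheme.{u})]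
    [DCoh.HasRΓ (V : Scheme.{u})] [DCoh.HasRΓ ((U ⊓ V : X.Opens) : Scheme.{u})] (E : DCoh.D X) :
    ∃ (a : (DCoh.RΓ X).obj E ⟶ ((DCoh.RΓ (U : Scheme.{u})).obj ((DCoh.restrictD U.ι).obj E) ⊞ (DCoh.RΓ (V : Scheme.{u})).obj ((DCoh.restrictD V.ι).obj E))) (b : ((DCoh.RΓ (U : Scheme.{u})).obj ((DCoh.restrictD U.ι).obj E) ⊞ (DCoh.RΓ (V : Scheme.{u})).obj ((DCoh.restrictD V.ι).obj E)) ⟶ (DCoh.RΓ (U ⊓ V : X.Opens)).obj ((DCoh.restrictD (U ⊓ V).ι).obj E)) (c : (DCoh.RΓ (U ⊓ V : X.Opens)).obj ((DCoh.restrictD (U ⊓ V).ι).obj E) ⟶ ((DCoh.RΓ X).obj E)⟦(1 : ℤ)⟧),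
      Triangle.mk a b c ∈ distinguishedTriangles := by
  obtain ⟨I, hI, hI', ⟨e⟩⟩ := exists_injective_resolution X E
  haveI := hI
  have h : ∀ W : X.Opens, [DCoh.HasRΓ (W : Scheme.{u})] → Nonempty
      (DerivedCategory.Q.obj (((DCoh.gammaAb X).mapHomologicalComplex (ComplexShape.up ℤ)).obj
        (((jj W).mapHomologicalComplex (ComplexShape.up ℤ)).obj I)) ≅
        (DCoh.RΓ (W : Scheme.{u})).obj ((DCoh.restrictD W.ι).obj E)) := fun W _ => by
    haveI := isKInjective_restrict W I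
    exact ⟨DerivedCategory.Q.mapIso (HomologicalComplex.Hom.isoOfComponents
        (fun n => Iso.refl _) fun i j _ => (Category.id_comp _).trans (Category.comp_id _).symm :
        ((DCoh.gammaAb X).mapHomologicalComplex (ComplexShape.up ℤ)).obj
            (((jj W).mapHomologicalComplex (ComplexShape.up ℤ)).obj I) ≅
          ((DCoh.gammaAb (W : Scheme.{u})).mapHomologicalComplex (ComplexShape.up ℤ)).obj ((resCx W.ι).obj I)) ≪≫
      rgammaInjIso (W : Scheme.{u}) ((resCx W.ι).obj I) ≪≫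
      (DCoh.RΓ (W : Scheme.{u})).mapIso ((restrictDQ W.ι I).symm ≪≫ (DCoh.restrictD W.ι).mapIso e.symm)⟩
  obtain ⟨eU⟩ := h U
  obtain ⟨eV⟩ := h V
  obtain ⟨e₃⟩ := h (U ⊓ V)
  exact exists_mv_triangle U V hUV (DCoh.gammaAb X) I hI'
    ((DCoh.RΓ X).mapIso e ≪≫ (rgammaInjIso X I).symm) eU eV e₃

end Groth.Agent.DCohLib
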