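import Groth.Agent.DCohLib.TotGen
import Groth.Agent.DCohLib.TensorPerf

/-!
# K-injective complexes tensored with bounded complexes of finite free modules
-/

set_option autoImplicit false
set_option linter.style.haveILetI false

universe u

open CategoryTheory CategoryTheory.Limits AlgebraicGeometry
open Groth.Agent.KFlat

noncomputable section

namespace Groth.Agent.DCohLib

theorem isKInjective_of_isZero {A : Type*} [Category A] [Abelian A] (L : CochainComplex A ℤ)
    (h : ∀ n, IsZero (L.X n)) : L.IsKInjective :=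
  ⟨fun {K} f _ => ⟨Homotopy.ofEq (HomologicalComplex.hom_ext _ _ fun n => (h n).eq_of_tgt _ _)⟩⟩

variable {X : Scheme.{u}} (I : CochainComplex X.Modules ℤ)

/-- Tensoring with a module in degree zero is termwise tensoring. -/
def totSingleIso (M : X.Modules) :
    (((DCoh.tensorBi (X := X)).flip.obj M).mapHomologicalComplex (ComplexShape.up ℤ)).obj I ≅
      (tot (DCoh.tensorBi (X := X)) I).obj
        ((HomologicalComplex.single X.Modules (ComplexShape.up ℤ) 0).obj M) :=
  HomologicalComplex.Hom.isoOfComponents
    (fun n => @asIso _ _ _ _ (singleι (DCoh.tensorBi (X := X)) I 0 M n n (add_zero n))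
      (isIso_singleι _ _ _ _ _ _ _))
    fun i j hij => singleι_d (DCoh.tensorBi (X := X)) I 0 M i j i j (add_zero i) (add_zero j) hij

theorem isKInjective_tot_split (S : ShortComplex (CochainComplex X.Modules ℤ))
    (σ : ∀ q, (S.map (HomologicalComplex.eval X.Modules (ComplexShape.up ℤ) q)).Splitting)
    (h₁ : CochainComplex.IsKInjective ((tot (DCoh.tensorBi (X := X)) I).obj S.X₁))
    (h₃ : CochainComplex.IsKInjective ((tot (DCoh.tensorBi (X := X)) I).obj S.X₃)) :
    CochainComplex.IsKInjective ((tot (DCoh.tensorBi (X := X)) I).obj S.X₂) :=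
  isKInjective_of_degreewiseSplit (S.map (tot (DCoh.tensorBi (X := X)) I))
    (totSplitting _ I S σ) h₁ h₃

theorem isKInjective_tot_of_isZero (E : CochainComplex X.Modules ℤ) (h : ∀ n, IsZero (E.X n)) :
    CochainComplex.IsKInjective ((tot (DCoh.tensorBi (X := X)) I).obj E) :=
  isKInjective_of_isZero _ fun n => (IsZero.iff_id_eq_zero _).2
    (HomologicalComplex.mapBifunctor.hom_ext fun p q _ =>
      (((DCoh.tensorBi (X := X)).obj (I.X p)).map_isZero (h q)).eq_of_src _ _)

theorem isKInjective_tot_single [I.IsKInjective] : ∀ (n : ℕ) (M : X.Modules), (M ≅ FlatMod.freeMod X n) →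
    CochainComplex.IsKInjective ((tot (DCoh.tensorBi (X := X)) I).obj
      ((HomologicalComplex.single X.Modules (ComplexShape.up ℤ) 0).obj M))
  | 0, M, e => isKInjective_tot_of_isZero I _ fun n => by
    have hM : IsZero M := IsZero.of_iso
      ((IsZero.iff_id_eq_zero _).2 (Sigma.hom_ext _ _ fun i => i.elim0)) e
    exact ((HomologicalComplex.single X.Modules (ComplexShape.up ℤ) 0 ⋙
      HomologicalComplex.eval X.Modules (ComplexShape.up ℤ) n).map_isZero hM)
  | n + 1, M, e => by
    let F := DCoh.tensorBi (X := X)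
    let sgl := HomologicalComplex.single X.Modules (ComplexShape.up ℤ) 0
    suffices h : CochainComplex.IsKInjective ((tot F I).obj
        (sgl.obj (FlatMod.freeMod X n ⊞ FlatMod.freeMod X 1))) from
      @CochainComplex.isKInjective_of_iso _ _ _ _ _
        ((tot F I).mapIso (sgl.mapIso (freeModBiprod X n 1 ≪≫ e.symm))) h
    let S₀ := ShortComplex.mk (biprod.inl : FlatMod.freeMod X n ⟶ FlatMod.freeMod X n ⊞ FlatMod.freeMod X 1)
      biprod.snd biprod.inl_snd
    refine isKInjective_tot_split I (S₀.map sgl) (fun q =>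
      (ShortComplex.Splitting.ofHasBinaryBiproduct _ _).map
        (sgl ⋙ HomologicalComplex.eval X.Modules (ComplexShape.up ℤ) q))
      (isKInjective_tot_single n _ (Iso.refl _)) ?_
    let e1 : FlatMod.freeMod X 1 ≅ Coh.structureModule X :=
      { hom := Sigma.desc fun _ => 𝟙 _
        inv := Sigma.ι (fun _ : Fin 1 => Coh.structureModule X) 0
        hom_inv_id := Sigma.hom_ext _ _ fun i => by
          obtain rfl : i = 0 := Subsingleton.elim _ _
          simp
        inv_hom_id := by simp }
    refine @CochainComplex.isKInjective_of_iso _ _ _ _ _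
      ((totSingleIso I (Coh.structureModule X)) ≪≫ (tot F I).mapIso (sgl.mapIso e1.symm)) ?_
    exact @CochainComplex.isKInjective_of_iso _ _ _ I _ ((Functor.mapHomologicalComplexIdIso _ _).symm.app I ≪≫
      (NatIso.mapHomologicalComplex (Groth.Agent.ModTensor.tensorUnitRight X.sheaf).symm
        (ComplexShape.up ℤ)).app I) inferInstance

theorem isKInjective_tot_single' [I.IsKInjective] {n : ℕ} (M : X.Modules) (e : M ≅ FlatMod.freeMod X n) (a : ℤ) :
    CochainComplex.IsKInjective ((tot (DCoh.tensorBi (X := X)) I).obj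
      ((HomologicalComplex.single X.Modules (ComplexShape.up ℤ) a).obj M)) := by
  haveI := isKInjective_tot_single I n M e
  exact @CochainComplex.isKInjective_of_iso _ _ _ _ _
    ((CochainComplex.mapBifunctorShift₂Iso I _ (DCoh.tensorBi (X := X)) (-a)).symm ≪≫
      (tot (DCoh.tensorBi (X := X)) I).mapIso
        (((CochainComplex.singleFunctors X.Modules).shiftIso (-a) a 0 (by omega)).app M))
    (@CochainComplex.instIsKInjectiveObjIntShiftFunctor _ _ _ _ this (-a))

/-- A K-injective complex tensored with a bounded complex of finite free modules is K-injective. -/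
theorem isKInjective_tensor_free [I.IsKInjective] : ∀ (k : ℕ) (a : ℤ) (E : CochainComplex X.Modules ℤ),
    (∀ i, i < a ∨ a + k ≤ i → IsZero (E.X i)) →
    (∀ i, ∃ n : ℕ, Nonempty (E.X i ≅ FlatMod.freeMod X n)) →
    CochainComplex.IsKInjective ((tot (DCoh.tensorBi (X := X)) I).obj E)
  | 0, a, E, h, _ => isKInjective_tot_of_isZero I E fun i => h i (by omega)
  | k + 1, a, E, h, hfree => by
    let B := brutalGE E (a + 1)
    have hg : ∀ i, (ComplexShape.up ℤ).Rel i a → E.d i a ≫ 𝟙 (E.X a) = 0 := fun i hi => by
      have hi' : i + 1 = a := hi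
      exact (h i (by omega)).eq_of_src _ _
    let g := HomologicalComplex.mkHomToSingle (𝟙 (E.X a)) hg
    have hfg : brutalGEι E (a + 1) ≫ g = 0 := HomologicalComplex.hom_ext _ _ fun i => by
      rcases eq_or_ne i a with rfl | hi
      · exact (isZero_brutalGE_X E (i + 1) i (by omega)).eq_of_src _ _
      · exact (HomologicalComplex.isZero_single_obj_X _ _ _ _ hi).eq_of_tgt _ _
    refine isKInjective_tot_split I (ShortComplex.mk (brutalGEι E (a + 1)) g hfg) (fun q => ?_) ?_ ?_
    · by_cases hq : q = a
      · subst hq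
        refine ShortComplex.Splitting.ofIsZeroOfIsIso _ (isZero_brutalGE_X E (q + 1) q (by omega)) ?_
        show IsIso (g.f q)
        rw [HomologicalComplex.mkHomToSingle_f]
        infer_instance
      · refine ShortComplex.Splitting.ofIsIsoOfIsZero _ ?_ (HomologicalComplex.isZero_single_obj_X (ComplexShape.up ℤ) a (E.X a) q hq)
        show IsIso ((brutalGEι E (a + 1)).f q)
        by_cases hq' : a + 1 ≤ q
        · exact isIso_brutalGEι_f E (a + 1) q hq'
        · exact ⟨0, (isZero_brutalGE_X E (a + 1) q (by omega)).eq_of_src _ _, (h q (by omega)).eq_of_src _ _⟩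
    · refine isKInjective_tensor_free k (a + 1) B (fun i hi => ?_) fun i => ?_
      · rcases hi with hi | hi
        · exact isZero_brutalGE_X E (a + 1) i hi
        · exact IsZero.of_mono ((brutalGEι E (a + 1)).f i) (h i (by omega))
      · by_cases hi : a + 1 ≤ i
        · haveI := isIso_brutalGEι_f E (a + 1) i hi
          obtain ⟨n, ⟨e⟩⟩ := hfree i
          exact ⟨n, ⟨asIso ((brutalGEι E (a + 1)).f i) ≪≫ e⟩⟩
        · exact ⟨0, ⟨(isZero_brutalGE_X E (a + 1) i (by omega)).iso
            ((IsZero.iff_id_eq_zero _).2 (Sigma.hom_ext _ _ fun i => i.elim0))⟩⟩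
    · obtain ⟨n, ⟨e⟩⟩ := hfree a
      exact isKInjective_tot_single' I (E.X a) e a

end Groth.Agent.DCohLib
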