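import Groth.Agent.DCohLib.ProjMap
import Groth.Agent.DCohLib.LocalQis
import Groth.Agent.DCohLib.TensorInj
import Groth.Agent.DCohLib.PullQis
import Groth.Agent.DCohLib.LpullTensor
import Groth.Agent.DCohLib.MVTriangle

/-!
# The projection formula for perfect complexes
-/

set_option autoImplicit false
set_option linter.style.haveILetI false

universe u

open CategoryTheory CategoryTheory.Limits AlgebraicGeometry TopologicalSpace
open Groth.Agent.KFlat

attribute [local instance] HasDerivedCategory.standard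

noncomputable section

namespace Groth.Agent.DCohLib

variable {X Y U : Scheme.{u}}

/-- Direct images of complexes. -/
abbrev pfCx (g : X ⟶ Y) : CochainComplex X.Modules ℤ ⥤ CochainComplex Y.Modules ℤ :=
  (Scheme.Modules.pushforward g).mapHomologicalComplex (ComplexShape.up ℤ)

/-- Restriction of complexes as inverse image of complexes. -/
abbrev resPullIso (j : U ⟶ Y) [IsOpenImmersion j] : resCx j ≅ pullCx j :=
  NatIso.mapHomologicalComplex (Scheme.Modules.restrictFunctorIsoPullback j) (ComplexShape.up ℤ)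

theorem quasiIso_resCx_iff (j : U ⟶ Y) [IsOpenImmersion j] {P Q : CochainComplex Y.Modules ℤ} (α : P ⟶ Q) :
    QuasiIso ((resCx j).map α) ↔ QuasiIso ((pullCx j).map α) :=
  (HomologicalComplex.quasiIso U.Modules (ComplexShape.up ℤ)).arrow_mk_iso_iff
    (((Functor.mapArrowFunctor _ _).mapIso (resPullIso j)).app (Arrow.mk α))

theorem isKFlat_resCx (j : U ⟶ Y) [IsOpenImmersion j] {P : CochainComplex Y.Modules ℤ} (hP : DCoh.IsKFlat P) :
    DCoh.IsKFlat ((resCx j).obj P) :=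
  isKFlat_of_iso ((resPullIso j).app P).symm (isKFlat_pullback j hP)

theorem quasiIso_tensor_map_sch {P Q : CochainComplex X.Modules ℤ} (α : P ⟶ Q) (hα : QuasiIso α)
    (hP : DCoh.IsKFlat P) (hQ : DCoh.IsKFlat Q) (A : CochainComplex X.Modules ℤ) :
    QuasiIso ((DCoh.tensorCx.obj A).map α) :=
  @Groth.Agent.KFlat.quasiIso_tensor_of_isKFlat _ _ _ X.sheaf P Q α hα ((isKFlat_iff P).1 hP) ((isKFlat_iff Q).1 hQ) A

theorem quasiIso_of_comm {C : Type*} [Category C] [Abelian C] {A A' B B' : CochainComplex C ℤ} (φ : A ⟶ B)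
    (φ' : A' ⟶ B') (a : A ≅ A') (b : B ≅ B') (h : φ ≫ b.hom = a.hom ≫ φ') (hq : QuasiIso φ') : QuasiIso φ :=
  ((HomologicalComplex.quasiIso C (ComplexShape.up ℤ)).arrow_mk_iso_iff (Arrow.isoMk a b h.symm)).2 hq

theorem pullTensorCxIso_inv_natural (g : X ⟶ Y) (A : CochainComplex Y.Modules ℤ)
    {P Q : CochainComplex Y.Modules ℤ} (α : P ⟶ Q) :
    (DCoh.tensorCx.obj ((pullCx g).obj A)).map ((pullCx g).map α) ≫ (pullTensorCxIso g A Q).inv =
      (pullTensorCxIso g A P).inv ≫ (pullCx g).map ((DCoh.tensorCx.obj A).map α) :=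
  (congrArg (· ≫ _) (tot_map_both (DCoh.tensorBi (X := X)) (Scheme.Modules.pullback g) (Scheme.Modules.pullback g) A α).symm).trans (mapTotHom_natural (pullTensorBiIsoSch g).inv A α)

/-- Over an open, tensoring preserves maps of K-flat complexes that are quasi-isomorphisms there. -/
theorem quasiIso_res_tensor_map (j : U ⟶ Y) [IsOpenImmersion j] (A : CochainComplex Y.Modules ℤ)
    {P Q : CochainComplex Y.Modules ℤ} (α : P ⟶ Q) (hP : DCoh.IsKFlat P) (hQ : DCoh.IsKFlat Q)
    (h : QuasiIso ((resCx j).map α)) : QuasiIso ((resCx j).map ((DCoh.tensorCx.obj A).map α)) := by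
  rw [quasiIso_resCx_iff] at h ⊢
  refine quasiIso_of_comm _ _ (pullTensorCxIso j A P) (pullTensorCxIso j A Q) ?_
    (quasiIso_tensor_map_sch ((pullCx j).map α) h (isKFlat_pullback j hP) (isKFlat_pullback j hQ)
      ((pullCx j).obj A))
  rw [← Iso.eq_comp_inv, Category.assoc, pullTensorCxIso_inv_natural j A α, Iso.hom_inv_id_assoc]

/-- An isomorphism on the summands gives one on a finite coproduct. -/
theorem isIso_app_sigma {C D : Type*} [Category C] [Abelian C] [Category D] [Abelian D] {H₁ H₂ : C ⥤ D}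
    [H₁.Additive] [H₂.Additive] (τ : H₁ ⟶ H₂) {ι : Type} [Finite ι] (g : ι → C) [HasCoproduct g]
    [HasCoproduct fun i => H₁.obj (g i)] [HasCoproduct fun i => H₂.obj (g i)]
    (h : ∀ i, IsIso (τ.app (g i))) : IsIso (τ.app (∐ g)) := by
  haveI := Fintype.ofFinite ι
  haveI h1 := isIso_sigmaComparison_of_finite H₁ g Finset.univ fun i hi => absurd (Finset.mem_univ i) hi
  haveI h2 := isIso_sigmaComparison_of_finite H₂ g Finset.univ fun i hi => absurd (Finset.mem_univ i) hi
  haveI := h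
  have e : sigmaComparison H₁ g ≫ τ.app (∐ g) =
      (Limits.Sigma.mapIso fun i => asIso (τ.app (g i))).hom ≫ sigmaComparison H₂ g := by
    refine Sigma.hom_ext _ _ fun i => ?_
    rw [ι_comp_sigmaComparison_assoc, Limits.Sigma.ι_mapIso_hom_assoc, ι_comp_sigmaComparison]
    exact τ.naturality _
  exact @IsIso.of_isIso_fac_left _ _ _ _ _ _ _ _ h1 (IsIso.comp_isIso' (Iso.isIso_hom _) h2) e

variable (f : X ⟶ Y) (V : Y.Opens)

instance additive_projBi_obj (M : X.Modules) :
    ((DCoh.tensorBi (X := X) ⋙ (Functor.whiskeringLeft _ _ _).obj (Scheme.Modules.pullback f)).obj M).Additive :=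
  inferInstanceAs (Scheme.Modules.pullback f ⋙ (DCoh.tensorBi (X := X)).obj M).Additive

instance additive_projBi'_obj (M : X.Modules) :
    ((Scheme.Modules.pushforward f ⋙ DCoh.tensorBi (X := Y)).obj M).Additive :=
  inferInstanceAs ((DCoh.tensorBi (X := Y)).obj ((Scheme.Modules.pushforward f).obj M)).Additive

instance additive_projBi''_obj (M : X.Modules) :
    (((DCoh.tensorBi (X := X) ⋙ (Functor.whiskeringLeft _ _ _).obj (Scheme.Modules.pullback f)) ⋙
      (Functor.whiskeringRight _ _ _).obj (Scheme.Modules.pushforward f)).obj M).Additive :=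
  inferInstanceAs ((Scheme.Modules.pullback f ⋙ (DCoh.tensorBi (X := X)).obj M) ⋙
    Scheme.Modules.pushforward f).Additive

/-- The inverse image of a finite free module is finite free. -/
def pullFreeIso (g : X ⟶ Y) (n : ℕ) :
    (Scheme.Modules.pullback g).obj (FlatMod.freeMod Y n) ≅ FlatMod.freeMod X n :=
  haveI : PreservesColimitsOfSize.{u, u} (Scheme.Modules.pullback g) :=
    (Scheme.Modules.pullbackPushforwardAdjunction g).leftAdjoint_preservesColimits
  haveI : PreservesColimitsOfSize.{0, 0} (Scheme.Modules.pullback g) := preservesColimitsOfSize_shrink.{0, u, 0, u} _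
  PreservesCoproduct.iso (Scheme.Modules.pullback g) _ ≪≫ Sigma.mapIso fun _ => pullStructureIso g

theorem isIso_restrict_projTrans_free (M : X.Modules) (n : ℕ) {N : (V : Scheme.{u}).Modules}
    (e : N ≅ FlatMod.freeMod (V : Scheme.{u}) n) :
    IsIso ((Scheme.Modules.restrictFunctor V.ι).map
      (((projTrans f).app M).app ((CxOX.extZero V.ι).obj N))) := by
  let τ := Functor.whiskerRight ((projTrans f).app M) (Scheme.Modules.restrictFunctor V.ι)
  haveI : PreservesColimitsOfSize.{u, u} (CxOX.extZero V.ι) :=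
    (CxOX.extZeroAdj V.ι).leftAdjoint_preservesColimits
  haveI : PreservesColimitsOfSize.{0, 0} (CxOX.extZero V.ι) := preservesColimitsOfSize_shrink.{0, u, 0, u} _
  let e' : (∐ fun _ : Fin n => (CxOX.extZero V.ι).obj (Coh.structureModule (V : Scheme.{u}))) ≅
      (CxOX.extZero V.ι).obj N :=
    (PreservesCoproduct.iso (CxOX.extZero V.ι) _).symm ≪≫ (CxOX.extZero V.ι).mapIso e.symm
  refine (NatTrans.isIso_app_iff_of_iso τ e').1 ?_
  refine isIso_app_sigma τ _ fun _ => ?_
  haveI : IsIso ((CxOX.extZeroAdj V.ι).unit.app (Coh.structureModule (V : Scheme.{u}))) := inferInstance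
  exact isIso_restrict_projMap f V M (N := (CxOX.extZero V.ι).obj (Coh.structureModule (V : Scheme.{u})))
    (asIso ((CxOX.extZeroAdj V.ι).unit.app (Coh.structureModule (V : Scheme.{u})))).symm

/-- The comparison map of the projection formula. -/
def projPhi {I J : CochainComplex X.Modules ℤ} (P : CochainComplex Y.Modules ℤ)
    (φ : (DCoh.tensorCx.obj I).obj ((pullCx f).obj P) ⟶ J) :
    (DCoh.tensorCx.obj ((pfCx f).obj I)).obj P ⟶ (pfCx f).obj J :=
  mapTotHom (projTrans f) I P ≫ (pfCx f).map φ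

theorem projPhi_natural {I J : CochainComplex X.Modules ℤ} {P E' : CochainComplex Y.Modules ℤ} (β' : E' ⟶ P)
    (φ : (DCoh.tensorCx.obj I).obj ((pullCx f).obj P) ⟶ J) :
    (DCoh.tensorCx.obj ((pfCx f).obj I)).map β' ≫ projPhi f P φ =
      projPhi f E' ((DCoh.tensorCx.obj I).map ((pullCx f).map β') ≫ φ) := by
  have h := (congrArg (· ≫ mapTotHom (projTrans f) I P)
      (tot_map_left (DCoh.tensorBi (X := Y)) (Scheme.Modules.pushforward f) I β').symm).trans
    ((mapTotHom_natural (projTrans f) I β').trans (congrArg (fun m => mapTotHom (projTrans f) I E' ≫ (pfCx f).map m)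
      (tot_map_right (DCoh.tensorBi (X := X)) I (Scheme.Modules.pullback f) β')))
  show _ ≫ mapTotHom (projTrans f) I P ≫ _ = mapTotHom (projTrans f) I E' ≫ (pfCx f).map (_ ≫ φ)
  rw [(pfCx f).map_comp]
  exact (Category.assoc _ _ _).symm.trans ((congrArg (· ≫ _) h).trans (Category.assoc _ _ _))

theorem isIso_res_mapTotHom (I : CochainComplex X.Modules ℤ) (E : CochainComplex (V : Scheme.{u}).Modules ℤ)
    (a b : ℤ) (hab : DCoh.VanishesOutside E a b)
    (hfree : ∀ i : ℤ, ∃ n : ℕ, Nonempty (E.X i ≅ FlatMod.freeMod (V : Scheme.{u}) n)) :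
    IsIso ((resCx V.ι).map (mapTotHom (projTrans f) I ((extCx V).obj E))) := by
  haveI : PreservesColimitsOfSize.{u, u} (Scheme.Modules.restrictFunctor V.ι) :=
    haveI : PreservesColimitsOfSize.{u, u} (Scheme.Modules.pullback V.ι) :=
      (Scheme.Modules.pullbackPushforwardAdjunction V.ι).leftAdjoint_preservesColimits
    preservesColimits_of_natIso (Scheme.Modules.restrictFunctorIsoPullback V.ι).symm
  haveI : PreservesColimitsOfSize.{0, 0} (Scheme.Modules.restrictFunctor V.ι) :=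
    preservesColimitsOfSize_shrink.{0, u, 0, u} _
  refine isIso_map_mapTotHom (projTrans f) I ((extCx V).obj E) (Scheme.Modules.restrictFunctor V.ι) a b
    (fun q hq => (CxOX.extZero V.ι).map_isZero (hab q hq)) fun p q => ?_
  obtain ⟨n, ⟨e⟩⟩ := hfree q
  exact isIso_restrict_projTrans_free f V (I.X p) n e

/-- The adjunct of a map to a restricted complex. -/
def extAdjunct {P : CochainComplex Y.Modules ℤ} {E : CochainComplex (V : Scheme.{u}).Modules ℤ}
    (β : E ⟶ (resCx V.ι).obj P) : (extCx V).obj E ⟶ P where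
  f n := ((CxOX.extZeroAdj V.ι).homEquiv _ _).symm (β.f n)
  comm' i j _ := by
    show _ ≫ P.d i j = (CxOX.extZero V.ι).map (E.d i j) ≫ _
    rw [← Adjunction.homEquiv_naturality_right_symm, ← Adjunction.homEquiv_naturality_left_symm]
    exact congrArg _ (β.comm i j)

theorem isIso_extUnit (M : (V : Scheme.{u}).Modules) : IsIso ((CxOX.extZeroAdj V.ι).unit.app M) := inferInstance

/-- The unit on complexes. -/
def extUnit (E : CochainComplex (V : Scheme.{u}).Modules ℤ) : E ≅ (resCx V.ι).obj ((extCx V).obj E) :=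
  HomologicalComplex.Hom.isoOfComponents
    (fun n => @asIso _ _ _ _ ((CxOX.extZeroAdj V.ι).unit.app (E.X n)) (isIso_extUnit V (E.X n)))
    fun i j _ => ((CxOX.extZeroAdj V.ι).unit.naturality (E.d i j)).symm

theorem quasiIso_res_extAdjunct {P : CochainComplex Y.Modules ℤ} {E : CochainComplex (V : Scheme.{u}).Modules ℤ}
    (β : E ⟶ (resCx V.ι).obj P) (hβ : QuasiIso β) : QuasiIso ((resCx V.ι).map (extAdjunct V β)) := by
  refine quasiIso_of_comm _ β (extUnit V E).symm (Iso.refl _) (HomologicalComplex.hom_ext _ _ fun n => ?_) hβ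
  haveI := isIso_extUnit V (E.X n)
  show (Scheme.Modules.restrictFunctor V.ι).map (((CxOX.extZeroAdj V.ι).homEquiv _ _).symm (β.f n)) ≫ 𝟙 _ =
    (asIso ((CxOX.extZeroAdj V.ι).unit.app (E.X n))).inv ≫ β.f n
  refine (Category.comp_id _).trans ((IsIso.eq_inv_comp _).2 ?_)
  exact ((CxOX.extZeroAdj V.ι).homEquiv_unit _ _ _).symm.trans (Equiv.apply_symm_apply _ _)

theorem quasiIso_res_pullCx_map {E' P : CochainComplex Y.Modules ℤ} (β' : E' ⟶ P) (hE : DCoh.IsKFlat E')
    (hP : DCoh.IsKFlat P) (h : QuasiIso ((resCx V.ι).map β')) :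
    QuasiIso ((resCx (f ⁻¹ᵁ V).ι).map ((pullCx f).map β')) := by
  let ρ : pullCx f ⋙ resCx (f ⁻¹ᵁ V).ι ≅ resCx V.ι ⋙ pullCx (f ∣_ V) :=
    NatIso.mapHomologicalComplex (pullResIso f V) (ComplexShape.up ℤ)
  haveI := h
  exact quasiIso_of_comm _ _ (ρ.app E') (ρ.app P) (ρ.hom.naturality β')
    (quasiIso_pullCx_map (f ∣_ V) ((resCx V.ι).map β') (isKFlat_resCx V.ι hE) (isKFlat_resCx V.ι hP))

theorem isKInjective_res_tensor (I : CochainComplex X.Modules ℤ) [I.IsKInjective]
    (E : CochainComplex (V : Scheme.{u}).Modules ℤ) (a b : ℤ) (hab : DCoh.VanishesOutside E a b)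
    (hfree : ∀ i : ℤ, ∃ n : ℕ, Nonempty (E.X i ≅ FlatMod.freeMod (V : Scheme.{u}) n)) :
    CochainComplex.IsKInjective
      ((resCx (f ⁻¹ᵁ V).ι).obj ((DCoh.tensorCx.obj I).obj ((pullCx f).obj ((extCx V).obj E)))) := by
  let j := (f ⁻¹ᵁ V).ι
  let E' := (extCx V).obj E
  haveI := isKInjective_restrict (f ⁻¹ᵁ V) I
  have hfree' : ∀ i, ∃ n : ℕ, Nonempty (((pullCx (f ∣_ V)).obj E).X i ≅
      FlatMod.freeMod ((f ⁻¹ᵁ V : X.Opens) : Scheme.{u}) n) := fun i => by
    obtain ⟨n, ⟨e⟩⟩ := hfree i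
    exact ⟨n, ⟨(Scheme.Modules.pullback (f ∣_ V)).mapIso e ≪≫ pullFreeIso (f ∣_ V) n⟩⟩
  have hz : ∀ i, i < a ∨ a + ((b + 1 - a).toNat : ℤ) ≤ i → IsZero (((pullCx (f ∣_ V)).obj E).X i) := fun i hi =>
    (Scheme.Modules.pullback (f ∣_ V)).map_isZero (hab i (by omega))
  let eB : (resCx j).obj ((pullCx f).obj E') ≅ (pullCx (f ∣_ V)).obj E :=
    (NatIso.mapHomologicalComplex (pullResIso f V) (ComplexShape.up ℤ)).app E' ≪≫
      (pullCx (f ∣_ V)).mapIso (extUnit V E).symm
  refine @CochainComplex.isKInjective_of_iso _ _ _ _ _ ?_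
    (isKInjective_tensor_free ((resCx j).obj I) (b + 1 - a).toNat a ((pullCx (f ∣_ V)).obj E) hz hfree')
  exact (DCoh.tensorCx.obj ((resCx j).obj I)).mapIso eB.symm ≪≫
    ((DCoh.tensorCx.mapIso ((resPullIso j).app I)).app _) ≪≫
    (DCoh.tensorCx.obj ((pullCx j).obj I)).mapIso ((resPullIso j).app _) ≪≫
    (pullTensorCxIso j I ((pullCx f).obj E')).symm ≪≫ ((resPullIso j).app _).symm

/-- Direct images of quasi-isomorphisms of K-injective complexes. -/
theorem quasiIso_pfCx_map (g : X ⟶ Y) {A B : CochainComplex X.Modules ℤ} [A.IsKInjective] [B.IsKInjective]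
    (ψ : A ⟶ B) (h : QuasiIso ψ) : QuasiIso ((pfCx g).map ψ) := by
  obtain ⟨he, hhe⟩ := (CochainComplex.IsKInjective.quasiIso_iff ψ).1 h
  exact homotopyEquivalences_le_quasiIso _ _ _
    ⟨(Scheme.Modules.pushforward g).mapHomotopyEquiv he, congrArg (pfCx g).map hhe⟩

theorem quasiIso_res_projPhi {I J : CochainComplex X.Modules ℤ} [I.IsKInjective] [J.IsKInjective]
    (P : CochainComplex Y.Modules ℤ) (hP : DCoh.IsKFlat P)
    (φ : (DCoh.tensorCx.obj I).obj ((pullCx f).obj P) ⟶ J) (hφ : QuasiIso φ)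
    (E : CochainComplex (V : Scheme.{u}).Modules ℤ) (β : E ⟶ (resCx V.ι).obj P) (hβ : QuasiIso β)
    (hE : DCoh.IsStrictlyPerfect E)
    (hfree : ∀ i : ℤ, ∃ n : ℕ, Nonempty (E.X i ≅ FlatMod.freeMod (V : Scheme.{u}) n)) :
    QuasiIso ((resCx V.ι).map (projPhi f P φ)) := by
  obtain ⟨⟨a, b, hab⟩, -⟩ := id hE
  let β' := extAdjunct V β
  have hβ' := quasiIso_res_extAdjunct V β hβ
  have hE'K : DCoh.IsKFlat ((extCx V).obj E) := isKFlat_extCx V (isKFlat_of_strictlyPerfect hE)
  have h1 := quasiIso_res_tensor_map V.ι ((pfCx f).obj I) β' hE'K hP hβ'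
  let ψ := (DCoh.tensorCx.obj I).map ((pullCx f).map β') ≫ φ
  have hψ : QuasiIso ((resCx (f ⁻¹ᵁ V).ι).map ψ) := by
    haveI := quasiIso_res_tensor_map (f ⁻¹ᵁ V).ι I ((pullCx f).map β') (isKFlat_pullback f hE'K)
      (isKFlat_pullback f hP) (quasiIso_res_pullCx_map f V β' hE'K hP hβ')
    haveI := hφ
    rw [(resCx (f ⁻¹ᵁ V).ι).map_comp]
    exact quasiIso_comp _ _
  haveI := isKInjective_restrict (f ⁻¹ᵁ V) J
  haveI := isKInjective_res_tensor f V I E a b hab hfree
  let ρ : pfCx f ⋙ resCx V.ι ≅ resCx (f ⁻¹ᵁ V).ι ⋙ pfCx (f ∣_ V) :=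
    NatIso.mapHomologicalComplex (restrictPushIso f V) (ComplexShape.up ℤ)
  haveI h5 : QuasiIso ((resCx V.ι).map ((pfCx f).map ψ)) :=
    quasiIso_of_comm _ _ (ρ.app _) (ρ.app J) (ρ.hom.naturality ψ) (quasiIso_pfCx_map (f ∣_ V) _ hψ)
  haveI h3 := isIso_res_mapTotHom f V I E a b hab hfree
  haveI := h1
  haveI h2 : QuasiIso ((resCx V.ι).map (mapTotHom (projTrans f) I ((extCx V).obj E)) ≫
      (resCx V.ι).map ((pfCx f).map ψ)) :=
    @quasiIso_comp _ _ _ _ _ _ _ _ ((resCx V.ι).map (mapTotHom (projTrans f) I ((extCx V).obj E)))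
      ((resCx V.ι).map ((pfCx f).map ψ)) _ _ _ inferInstance h5
  haveI : QuasiIso ((resCx V.ι).map ((DCoh.tensorCx.obj ((pfCx f).obj I)).map β') ≫
      (resCx V.ι).map (projPhi f P φ)) := by
    rw [← (resCx V.ι).map_comp, projPhi_natural f β' φ]
    exact ((resCx V.ι).map_comp (mapTotHom (projTrans f) I ((extCx V).obj E)) ((pfCx f).map ψ)).symm ▸ h2
  exact quasiIso_of_comp_left ((resCx V.ι).map ((DCoh.tensorCx.obj ((pfCx f).obj I)).map β')) _

theorem nonempty_lTensor_pfCx [DCoh.HasRpush f] (P : CochainComplex Y.Modules ℤ) (hP : DCoh.IsKFlat P)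
    [DCoh.HasLTensorCx P] (I : CochainComplex X.Modules ℤ) [I.IsKInjective] :
    Nonempty ((DCoh.LTensorCx P).obj ((DCoh.Rpush f).obj (DerivedCategory.Q.obj I)) ≅
      DerivedCategory.Q.obj ((DCoh.tensorCx.obj ((pfCx f).obj I)).obj P)) :=
  ⟨(DCoh.LTensorCx P).mapIso (rpushInjIso f I).symm ≪≫
    @asIso _ _ _ _ ((lTensorCounit P).app ((pfCx f).obj I)) (isIso_lTensorCounit_app_of_isKFlat P hP _)⟩

theorem nonempty_rpush_tensor [DCoh.HasRpush f] (P : CochainComplex X.Modules ℤ) (hP : DCoh.IsKFlat P)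
    [DCoh.HasLTensorCx P] {I J : CochainComplex X.Modules ℤ} [J.IsKInjective]
    (φ : (DCoh.tensorCx.obj I).obj P ⟶ J) (hφ : QuasiIso φ) :
    Nonempty ((DCoh.Rpush f).obj ((DCoh.LTensorCx P).obj (DerivedCategory.Q.obj I)) ≅
      DerivedCategory.Q.obj ((pfCx f).obj J)) := by
  haveI := hφ
  haveI h2 : IsIso ((lTensorCounit P).app I) := isIso_lTensorCounit_app_of_isKFlat P hP _
  exact ⟨(DCoh.Rpush f).mapIso (asIso ((lTensorCounit P).app I) ≪≫ asIso (DerivedCategory.Q.map φ)) ≪≫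
    (rpushInjIso f J).symm⟩

theorem isIso_Q_map_projPhi (P : CochainComplex Y.Modules ℤ) (hP : DCoh.IsKFlat P)
    (hperf : DCoh.IsPerfect (DerivedCategory.Q.obj P)) {I J : CochainComplex X.Modules ℤ} [I.IsKInjective]
    [J.IsKInjective] (φ : (DCoh.tensorCx.obj I).obj ((pullCx f).obj P) ⟶ J) (hφ : QuasiIso φ) :
    IsIso (DerivedCategory.Q.map (projPhi f P φ)) := by
  rw [DerivedCategory.isIso_Q_map_iff_quasiIso]
  refine quasiIso_of_local _ fun y => ?_
  obtain ⟨V, hy, E₀, β, hβ, hE₀, hfree⟩ := exists_local_free_map hperf y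
  exact ⟨V, hy, quasiIso_res_projPhi f V P hP φ hφ E₀ β hβ hE₀ hfree⟩

/-- The projection formula for a perfect complex. -/
theorem nonempty_projection_perfect [DCoh.HasRpush f] (P : CochainComplex Y.Modules ℤ) (hP : DCoh.IsKFlat P)
    (hperf : DCoh.IsPerfect (DerivedCategory.Q.obj P)) [DCoh.HasLTensorCx P]
    [DCoh.HasLTensorCx ((pullCx f).obj P)] (E : DCoh.D X) :
    Nonempty ((DCoh.LTensorCx P).obj ((DCoh.Rpush f).obj E) ≅
      (DCoh.Rpush f).obj ((DCoh.LTensorCx ((pullCx f).obj P)).obj E)) := by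
  obtain ⟨I, hI, -, ⟨e⟩⟩ := exists_injective_resolution X E
  obtain ⟨J, φ, hJ, hφ⟩ := hres_modules X ((DCoh.tensorCx.obj I).obj ((pullCx f).obj P))
  haveI := hI
  haveI := hJ
  haveI := isIso_Q_map_projPhi f P hP hperf φ hφ
  obtain ⟨a⟩ := nonempty_lTensor_pfCx f P hP I
  obtain ⟨b⟩ := nonempty_rpush_tensor f ((pullCx f).obj P) (isKFlat_pullback f hP) φ hφ
  exact ⟨(DCoh.LTensorCx P).mapIso ((DCoh.Rpush f).mapIso e) ≪≫ a ≪≫
    asIso (DerivedCategory.Q.map (projPhi f P φ)) ≪≫ b.symm ≪≫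
    ((DCoh.LTensorCx ((pullCx f).obj P)) ⋙ DCoh.Rpush f).mapIso e.symm⟩

end Groth.Agent.DCohLib
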