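import Groth.Agent.DCohLib.Bidual

/-!
# Derived internal Hom out of a perfect dual
-/

set_option autoImplicit false
set_option linter.style.haveILetI false

universe u

open CategoryTheory CategoryTheory.Limits AlgebraicGeometry

attribute [local instance] HasDerivedCategory.standard

noncomputable section

namespace Groth.Agent.DCohLib

variable {X : Scheme.{u}}

/-- K-flat complexes have derived internal Homs. -/
theorem hasRSheafHom_of_isKFlat (K : CochainComplex X.Modules ℤ) (hK : DCoh.IsKFlat K) [DCoh.HasLTensorCx K] :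
    DCoh.HasRSheafHom K := by
  have hres : ∀ Y : DCoh.D X, ∃ (R : CochainComplex X.Modules ℤ) (_ : R.IsKInjective),
      Nonempty (DerivedCategory.Q.obj R ≅ Y) := fun Y => by
    obtain ⟨R, hR, -, ⟨e⟩⟩ := exists_injective_resolution X Y
    exact ⟨R, hR, ⟨e.symm⟩⟩
  choose R hR hRY using hres
  haveI := hR
  let G : DCoh.D X → DCoh.D X := fun Y => DerivedCategory.Q.obj ((hCx K).obj (R Y))
  let ε : ∀ Y, (DCoh.LTensorCx K).obj (G Y) ⟶ Y := fun Y => epsD K hK (R Y) ≫ (hRY Y).some.hom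
  have hb : ∀ B Y, Function.Bijective (fun g : B ⟶ G Y => (DCoh.LTensorCx K).map g ≫ ε Y) := fun B Y => by
    have h := ((hRY Y).some.homToEquiv (Z := (DCoh.LTensorCx K).obj B)).bijective.comp (bijective_epsD K hK (R Y) B)
    convert h using 1
    funext g
    simp [ε, Function.comp_def]
  exact (Adjunction.adjunctionOfEquivRight (F := DCoh.LTensorCx K) (G_obj := G)
    (fun B Y => (Equiv.ofBijective _ (hb B Y)).symm) fun B' B Y f g => by
      apply (Equiv.ofBijective _ (hb B' Y)).injective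
      rw [Equiv.apply_symm_apply]
      show _ = (DCoh.LTensorCx K).map (f ≫ (Equiv.ofBijective _ (hb B Y)).symm g) ≫ ε Y
      rw [Functor.map_comp, Category.assoc]
      exact congrArg (_ ≫ ·) ((Equiv.ofBijective _ (hb B Y)).apply_symm_apply g).symm).isLeftAdjoint

/-- Derived internal Hom out of a representative of `RHom(K, L)` for perfect `K`. -/
theorem nonempty_rSheafHom_evaluation (K L : CochainComplex X.Modules ℤ) (hK : DCoh.IsKFlat K)
    (hKp : DCoh.IsPerfect (DerivedCategory.Q.obj K)) [DCoh.HasLTensorCx K] [DCoh.HasRSheafHom K]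
    [DCoh.HasLTensorCx L] [DCoh.HasRSheafHom L] (D : CochainComplex X.Modules ℤ)
    (eD : DerivedCategory.Q.obj D ≅ (DCoh.RSheafHom K).obj (DerivedCategory.Q.obj L))
    [DCoh.HasLTensorCx D] [DCoh.HasRSheafHom D] (M : DCoh.D X) :
    Nonempty ((DCoh.LTensorCx K).obj ((DCoh.RSheafHom L).obj M) ≅ (DCoh.RSheafHom D).obj M) := by
  obtain ⟨J, η, hJ, hη⟩ := hres_modules X (unitCx X)
  haveI := hJ
  haveI : IsIso (DerivedCategory.Q.map η) := (DerivedCategory.isIso_Q_map_iff_quasiIso (C := X.Modules) _).2 hη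
  let D₀ := (resX X).obj ((hCx K).obj J)
  have hD₀ : DCoh.IsKFlat D₀ := isKFlat_resX _
  haveI : IsIso (DerivedCategory.Q.map ((resXπ X).app ((hCx K).obj J))) := isIso_Q_resXπ _
  obtain ⟨eJ⟩ := nonempty_rSheafHom_hCx K hK J
  let e₀ : DerivedCategory.Q.obj D₀ ≅ (DCoh.RSheafHom K).obj
      ((DerivedCategory.singleFunctor X.Modules 0).obj (Coh.structureModule X)) :=
    asIso (DerivedCategory.Q.map ((resXπ X).app ((hCx K).obj J))) ≪≫ eJ ≪≫
      (DCoh.RSheafHom K).mapIso ((asIso (DerivedCategory.Q.map η)).symm ≪≫ unitDIso.symm)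
  haveI := hasRSheafHom_of_isKFlat D₀ hD₀
  have hD₀p : DCoh.IsPerfect (DerivedCategory.Q.obj D₀) :=
    isPerfect_iso e₀.symm (isPerfect_rSheafHom_unit K hK hKp)
  haveI : IsIso (DerivedCategory.Q.map (bidualC K J)) :=
    (DerivedCategory.isIso_Q_map_iff_quasiIso (C := X.Modules) _).2 (quasiIso_bidual hK hKp η hη)
  obtain ⟨eJ₀⟩ := nonempty_rSheafHom_hCx D₀ hD₀ J
  let eK : DerivedCategory.Q.obj K ≅ (DCoh.RSheafHom D₀).obj
      ((DerivedCategory.singleFunctor X.Modules 0).obj (Coh.structureModule X)) :=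
    asIso (DerivedCategory.Q.map (bidualC K J)) ≪≫ eJ₀ ≪≫
      (DCoh.RSheafHom D₀).mapIso ((asIso (DerivedCategory.Q.map η)).symm ≪≫ unitDIso.symm)
  let L' := (resX X).obj L
  have hL' : DCoh.IsKFlat L' := isKFlat_resX L
  haveI := hasRSheafHom_of_isKFlat L' hL'
  have hT : DCoh.IsKFlat ((DCoh.tensorCx.obj D₀).obj L') := isKFlat_tensorCx hD₀ hL'
  haveI := hasRSheafHom_of_isKFlat _ hT
  obtain ⟨t₁⟩ := nonempty_lTensor_dual K hK hKp D₀ hD₀ e₀ (DerivedCategory.Q.obj L)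
  haveI := isIso_Q_resXπ L
  obtain ⟨t₂⟩ := nonempty_lTensor_of_iso (E := D) (E' := (DCoh.tensorCx.obj D₀).obj L')
    (DerivedCategory.Q.mapIso (symS D₀ L') ≪≫ ((lTensorQIso D₀ hD₀).app L').symm ≪≫
      (DCoh.LTensorCx D₀).mapIso (asIso (DerivedCategory.Q.map ((resXπ X).app L))) ≪≫ t₁ ≪≫ eD.symm)
  obtain ⟨t₃⟩ := nonempty_lTensor_of_qis ((resXπ X).app L) (quasiIso_resXπ L)
  obtain ⟨c⟩ := nonempty_rSheafHomCompIso D₀ L' hL'
  let uL : DCoh.RSheafHom L' ≅ DCoh.RSheafHom L :=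
    (DCoh.RSheafHomAdj L').rightAdjointUniq ((DCoh.RSheafHomAdj L).ofNatIsoLeft t₃.symm)
  let uD : DCoh.RSheafHom ((DCoh.tensorCx.obj D₀).obj L') ≅ DCoh.RSheafHom D :=
    (DCoh.RSheafHomAdj _).rightAdjointUniq ((DCoh.RSheafHomAdj D).ofNatIsoLeft t₂.symm)
  obtain ⟨t₄⟩ := nonempty_lTensor_dual D₀ hD₀ hD₀p K hK eK ((DCoh.RSheafHom L').obj M)
  exact ⟨(DCoh.LTensorCx K).mapIso (uL.app M).symm ≪≫ t₄ ≪≫ (c.app M).symm ≪≫ uD.app M⟩

end Groth.Agent.DCohLib
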