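import Groth.Agent.DCohLib.StalkPush
import Groth.Agent.DCohLib.FlatAmp

/-!
# Tor amplitude is tested on quasi-coherent modules
-/

set_option autoImplicit false
set_option backward.isDefEq.respectTransparency false
set_option linter.style.haveILetI false

universe u

open CategoryTheory CategoryTheory.Limits AlgebraicGeometry TopologicalSpace Opposite MonoidalCategory

attribute [local instance] HasDerivedCategory.standard

noncomputable section

namespace Groth.Agent.DCohLib

variable {X : Scheme.{u}}

/-- The stalk of `- ⊗ F`. -/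
def stalkTensorRightIso (z : X) (F : X.Modules) :
    DCoh.tensorRightMod F ⋙ stkF z ≅ stkF z ⋙ tensorRight ((stkF z).obj F) :=
  NatIso.ofComponents (fun M => ((stalkTensorNatIso z).app M).app F) fun {M N} g => by
    exact congrArg (fun t => t.app F) ((stalkTensorNatIso z).hom.naturality g)

theorem hasTorAmplitudeIn_of_qcoh [QuasiSeparatedSpace ↥X] (E : DCoh.D X) (a b : ℤ)
    (h : ∀ (F : X.Modules), Coh.IsQCoh F → ∀ [DCoh.HasLTensorMod F] (i : ℤ), (i < a ∨ b < i) →
      IsZero (DCoh.HD ((DCoh.LTensorMod F).obj E) i)) : DCoh.HasTorAmplitudeIn a b E := by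
  let P := (resX X).obj (DerivedCategory.Q.objPreimage E)
  let e : ∀ (F : X.Modules) [DCoh.HasLTensorMod F] (i : ℤ), DCoh.HD ((DCoh.LTensorMod F).obj E) i ≅
      (((DCoh.tensorRightMod F).mapHomologicalComplex (ComplexShape.up ℤ)).obj P).homology i :=
    fun F _ i => (DerivedCategory.homologyFunctor X.Modules i).mapIso
        ((DCoh.LTensorMod F).mapIso (resXIso E).symm ≪≫ lTensorModIso F P (isKFlat_resX _)) ≪≫
      (DerivedCategory.homologyFunctorFactors X.Modules i).app _
  let st : ∀ (z : X) (F : X.Modules),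
      ((stkF z).mapHomologicalComplex (ComplexShape.up ℤ)).obj
        (((DCoh.tensorRightMod F).mapHomologicalComplex (ComplexShape.up ℤ)).obj P) ≅
      ((tensorRight ((stkF z).obj F)).mapHomologicalComplex (ComplexShape.up ℤ)).obj
        (((stkF z).mapHomologicalComplex (ComplexShape.up ℤ)).obj P) :=
    fun z F => (NatIso.mapHomologicalComplex (stalkTensorRightIso z F) (ComplexShape.up ℤ)).app P
  intro F _ i hi
  refine IsZero.of_iso ?_ (e F i)
  rw [isZero_homology_iff_stkF]
  intro z
  obtain ⟨G, hG, ⟨eG⟩⟩ := exists_qcoh_stalk_iso z ((stkF z).obj F)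
  have hz := (isZero_homology_iff_stkF _ i).1 ((h G hG i hi).of_iso (e G i).symm) z
  refine hz.of_iso ((HomologicalComplex.homologyFunctor _ _ i).mapIso (st z F ≪≫ ?_ ≪≫ (st z G).symm))
  exact (NatIso.mapHomologicalComplex ((tensoringRight (ModuleCat.{u} (X.presheaf.stalk z))).mapIso eG.symm)
    (ComplexShape.up ℤ)).app _

end Groth.Agent.DCohLib
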