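import Groth.Agent.DCohLib.GammaPush
import Groth.Agent.DCohLib.MVTriangle
import Groth.Agent.SiteBase.ModCoh
import Mathlib.Algebra.Homology.DerivedCategory.Ext.EnoughInjectives
import Mathlib.Algebra.Homology.DerivedCategory.Ext.ExactSequences
import Mathlib.Algebra.Homology.DerivedCategory.TStructure

/-!
# Global sections of complexes cohomologically far to the left vanish in finite dimension
-/

set_option autoImplicit false
set_option linter.style.haveILetI false

universe u

open CategoryTheory CategoryTheory.Limits AlgebraicGeometry TopologicalSpace Abelian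

attribute [local instance] HasDerivedCategory.standard

noncomputable section

namespace Groth.Agent.DCohLib

variable {X : Scheme.{u}}

theorem subsingleton_ext_unit (M : X.Modules) (p : ℕ) (h : Subsingleton (Coh.HH X M p)) :
    Subsingleton (Ext.{u} (Coh.structureModule X) M p) := by
  obtain ⟨e⟩ := Groth.Agent.SiteBase.nonempty_ext_unit_H X.ringCatSheaf M p
  exact e.toEquiv.subsingleton_congr.2 h

theorem shortExact_cyclesAt (C : CochainComplex X.Modules ℤ) (n : ℤ) (h : C.ExactAt (n + 1)) :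
    (ShortComplex.mk (kernel.ι (C.d n (n + 1))) (kernel.lift (C.d (n + 1) (n + 1 + 1)) (C.d n (n + 1)) (C.d_comp_d _ _ _))
      (by rw [← cancel_mono (kernel.ι _), Category.assoc, kernel.lift_ι, kernel.condition, zero_comp])).ShortExact := by
  rw [HomologicalComplex.exactAt_iff' _ n (n + 1) (n + 1 + 1) (by simp) (by simp)] at h
  haveI hepi := (HomologicalComplex.sc' C n (n + 1) (n + 1 + 1)).exact_iff_epi_kernel_lift.1 h
  refine { exact := ?_, mono_f := inferInstance, epi_g := hepi }
  refine ShortComplex.exact_of_f_is_kernel _ (KernelFork.IsLimit.ofι' _ _ fun {M} k hk => ?_)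
  have hk' : k ≫ C.d n (n + 1) = 0 := by
    simpa using congrArg (· ≫ kernel.ι _) hk
  exact ⟨kernel.lift _ k hk', kernel.lift_ι _ _ _⟩

variable (d : ℕ) (hd : ∀ (F : X.Modules) (i : ℕ), d < i → Subsingleton (Coh.HH X F i))

include hd in
theorem subsingleton_ext_cycles (I : CochainComplex X.Modules ℤ) (hI : ∀ n, Injective (I.X n))
    (hex : ∀ n : ℤ, -(d : ℤ) - 1 < n → n ≤ 0 → I.ExactAt n) :
    ∀ k : ℕ, k ≤ d → Subsingleton (Ext.{u} (Coh.structureModule X) (kernel (I.d (-(d : ℤ) - 1 + k) (-(d : ℤ) - 1 + k + 1))) (d + 1 - k)) := by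
  intro k
  induction k with
  | zero => exact fun _ => subsingleton_ext_unit _ _ (hd _ _ (by omega))
  | succ k ih =>
    intro hk
    have hS := shortExact_cyclesAt I (-(d : ℤ) - 1 + k) (hex _ (by omega) (by omega))
    have h0 := ih (by omega)
    have e : -(d : ℤ) - 1 + ((k + 1 : ℕ) : ℤ) = -(d : ℤ) - 1 + k + 1 := by push_cast; omega
    rw [e]
    obtain ⟨p, hp⟩ : ∃ p, d + 1 - (k + 1) = p + 1 := ⟨d - (k + 1), by omega⟩
    have hp' : d + 1 - k = p + 1 + 1 := by omega
    rw [hp'] at h0
    rw [hp]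
    refine ⟨fun a b => sub_eq_zero.1 ?_⟩
    obtain ⟨x₂, hx₂⟩ := Ext.covariant_sequence_exact₃ _ hS (a - b) rfl (h0.elim _ _)
    haveI := hI (-(d : ℤ) - 1 + k)
    rw [← hx₂, Ext.eq_zero_of_injective x₂, Ext.zero_comp]

include hd in
/-- Maps from the structure sheaf into objects far to the left vanish in finite cohomological dimension. -/
theorem eq_zero_of_isLE (Z : DCoh.D X) (hZ : Z.IsLE (-(d : ℤ) - 1))
    (f : DerivedCategory.Q.obj (unitAt X 0) ⟶ Z) : f = 0 := by
  obtain ⟨I, hI, hinj, ⟨e⟩⟩ := exists_injective_resolution X Z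
  haveI := hI
  have hex : ∀ n : ℤ, -(d : ℤ) - 1 < n → I.ExactAt n := fun n hn => by
    rw [HomologicalComplex.exactAt_iff_isZero_homology]
    exact ((Z.isZero_of_isLE (-(d : ℤ) - 1) n hn).of_iso
      (((DerivedCategory.homologyFunctor X.Modules n).mapIso e).symm)).of_iso
      ((DerivedCategory.homologyFunctorFactors X.Modules n).app I).symm
  obtain ⟨g, hg⟩ : ∃ g : unitAt X 0 ⟶ I, DerivedCategory.Q.map g = f ≫ e.hom := by
    obtain ⟨g', hg'⟩ := (CochainComplex.IsKInjective.Qh_map_bijective ((quotM X).obj (unitAt X 0)) I).surjective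
      ((DerivedCategory.quotientCompQhIso X.Modules).hom.app _ ≫ (f ≫ e.hom) ≫
        (DerivedCategory.quotientCompQhIso X.Modules).inv.app I)
    obtain ⟨g, rfl⟩ := (quotM X).map_surjective g'
    refine ⟨g, ?_⟩
    rw [← cancel_epi ((DerivedCategory.quotientCompQhIso X.Modules).hom.app (unitAt X 0)),
      ← (DerivedCategory.quotientCompQhIso X.Modules).hom.naturality g]
    dsimp only [Functor.comp_map]
    rw [hg']
    simp
  let s := HomologicalComplex.singleObjXSelf (ComplexShape.up ℤ) 0 (Coh.structureModule X)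
  let t : Coh.structureModule X ⟶ I.X 0 := s.inv ≫ g.f 0
  have ht : t ≫ I.d 0 1 = 0 := by
    simp only [t, Category.assoc, g.comm]
    refine (congrArg (s.inv ≫ ·) ((congrArg (· ≫ g.f _) ?_).trans zero_comp)).trans comp_zero
    exact HomologicalComplex.single_obj_d _ _ _ _ _
  have hS := shortExact_cyclesAt I (-1) (hex (-1 + 1) (by omega))
  have h1 := subsingleton_ext_cycles d hd I hinj (fun n hn _ => hex n hn) d le_rfl
  rw [show -(d : ℤ) - 1 + d = -1 by omega, show d + 1 - d = 1 by omega] at h1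
  let t' : Coh.structureModule X ⟶ kernel (I.d (-1 + 1) (-1 + 1 + 1)) := kernel.lift _ t ht
  obtain ⟨x₂, hx₂⟩ := Ext.covariant_sequence_exact₃ _ hS (Ext.mk₀ t') rfl (h1.elim _ _)
  obtain ⟨v, rfl⟩ := (Ext.mk₀_bijective _ _).surjective x₂
  rw [Ext.mk₀_comp_mk₀] at hx₂
  have hv : v ≫ I.d (-1) 0 = t := by
    have := congrArg (· ≫ kernel.ι _) ((Ext.mk₀_bijective _ _).injective hx₂)
    simp only [t', Category.assoc, kernel.lift_ι] at this
    exact this
  let h : ∀ i j, (unitAt X 0).X i ⟶ I.X j := fun i j =>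
    if hij : i = 0 ∧ j = -1 then
      eqToHom (by rw [hij.1]) ≫ s.hom ≫ v ≫ eqToHom (by rw [hij.2]) else 0
  have H : Homotopy g 0 := by
    refine ⟨h, fun i j hij => dif_neg ?_, fun i => ?_⟩
    · rintro ⟨rfl, rfl⟩
      exact hij rfl
    · rcases eq_or_ne i 0 with rfl | hi
      · rw [dNext_eq h (show (ComplexShape.up ℤ).Rel 0 1 from rfl),
          prevD_eq h (show (ComplexShape.up ℤ).Rel (-1) 0 from rfl), HomologicalComplex.zero_f, add_zero]
        have hd0 : (unitAt X 0).d 0 1 = 0 := HomologicalComplex.single_obj_d _ _ _ _ _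
        have hh : h 0 (-1) = s.hom ≫ v := by simp [h]
        rw [hd0, zero_comp, zero_add, hh, Category.assoc, hv]
        simp only [t]
        rw [s.hom_inv_id_assoc]
      · exact (HomologicalComplex.isZero_single_obj_X _ _ _ _ hi).eq_of_src _ _
  rw [← cancel_mono e.hom, ← hg, zero_comp, DerivedCategory.Q_map_eq_of_homotopy _ H, Functor.map_zero]

end Groth.Agent.DCohLib
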