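import Groth.Agent.DCohLib.CompactD
import Groth.Agent.DCohLib.DualEval
import Groth.Agent.DCohLib.GammaVanish
import Groth.Agent.BrownRep.Coproduct

/-!
# Perfect objects are compact
-/

set_option autoImplicit false
set_option linter.style.haveILetI false

universe u

open CategoryTheory CategoryTheory.Limits AlgebraicGeometry TopologicalSpace
open CategoryTheory.Pretriangulated

attribute [local instance] HasDerivedCategory.standard

noncomputable section

namespace Groth.Agent.DCohLib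

variable {X Y : Scheme.{u}}

theorem isZero_tensor_X {L E : CochainComplex Y.Modules ℤ} (c b : ℤ) (hL : ∀ i, c < i → IsZero (L.X i))
    (hE : ∀ i, b < i → IsZero (E.X i)) (n : ℤ) (hn : c + b < n) :
    IsZero (((DCoh.tensorCx.obj L).obj E).X n) :=
  (IsZero.iff_id_eq_zero _).2 (HomologicalComplex.mapBifunctor.hom_ext fun p q hpq => by
    have hpq' : p + q = n := hpq
    by_cases hp : c < p
    · exact (((DCoh.tensorBi (X := Y)).map_isZero (hL p hp)).obj (E.X q)).eq_of_src _ _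
    · exact (((DCoh.tensorBi (X := Y)).obj (L.X p)).map_isZero (hE q (by omega))).eq_of_src _ _)

/-- A perfect object on a quasi-compact scheme has uniformly bounded local models. -/
theorem exists_bound_perfect [CompactSpace X] {K : DCoh.D X} (hK : DCoh.IsPerfect K) :
    ∃ B : ℤ, ∀ x : X, ∃ V : X.Opens, x ∈ V ∧ ∃ E : CochainComplex (V : Scheme.{u}).Modules ℤ,
      DCoh.IsStrictlyPerfect E ∧ (∀ i, B < i → IsZero (E.X i)) ∧
      Nonempty (DerivedCategory.Q.obj E ≅ (DCoh.restrictD V.ι).obj K) := by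
  classical
  choose V hx E hE hi using fun x => (isPerfect_iff K).1 hK x
  choose a b hab using fun x => (hE x).1
  obtain ⟨t, ht⟩ := isCompact_univ.elim_finite_subcover (fun x : X => (V x : Set X)) (fun x => (V x).2)
    (fun y _ => Set.mem_iUnion.2 ⟨y, hx y⟩)
  obtain ⟨B, hB⟩ := (t.image b).bddAbove
  refine ⟨B, fun x => ?_⟩
  obtain ⟨y, hy, hxy⟩ := Set.mem_iUnion₂.1 (ht (Set.mem_univ x))
  exact ⟨V y, hxy, E y, hE y,
    fun i hi' => hab y i (Or.inr (lt_of_le_of_lt (hB (Finset.mem_image_of_mem b hy)) hi')), hi y⟩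

/-- Tensoring with a perfect complex moves the upper bound by a fixed amount. -/
theorem exists_isLE_lTensor [CompactSpace X] (N : CochainComplex X.Modules ℤ) (hN : DCoh.IsKFlat N)
    (hNp : DCoh.IsPerfect (DerivedCategory.Q.obj N)) :
    ∃ B : ℤ, ∀ (c : ℤ) (Z : DCoh.D X), Z.IsLE c → ((DCoh.LTensorCx N).obj Z).IsLE (c + B) := by
  obtain ⟨B, hB⟩ := exists_bound_perfect hNp
  refine ⟨B, fun c Z hZ => (DerivedCategory.isLE_iff _ _).2 fun i hi => isZero_of_stalks fun x => ?_⟩
  obtain ⟨V, hx, E, hE, hEB, ⟨e⟩⟩ := hB x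
  obtain ⟨P, hP, ⟨eP⟩⟩ := DerivedCategory.exists_iso_Q_obj_of_isLE Z c
  have hEK := isKFlat_of_strictlyPerfect hE
  obtain ⟨t⟩ := nonempty_lTensor_of_iso (E := E) (E' := (resCx V.ι).obj N)
    ((restrictDQ V.ι N).symm ≪≫ e.symm)
  let a : (DCoh.restrictD V.ι).obj ((DCoh.LTensorCx N).obj Z) ≅
      DerivedCategory.Q.obj ((DCoh.tensorCx.obj ((resCx V.ι).obj P)).obj E) :=
    ((restrictLTensorIso V N hN).app Z).symm ≪≫ t.app _ ≪≫
      (DCoh.LTensorCx E).mapIso ((DCoh.restrictD V.ι).mapIso eP ≪≫ restrictDQ V.ι P) ≪≫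
      (lTensorQIso E hEK).app ((resCx V.ι).obj P)
  have h0 : IsZero (DCoh.HD ((DCoh.restrictD V.ι).obj ((DCoh.LTensorCx N).obj Z)) i) := by
    refine IsZero.of_iso ?_ ((DerivedCategory.homologyFunctor _ i).mapIso a ≪≫
      (DerivedCategory.homologyFunctorFactors _ i).app _)
    exact (HomologicalComplex.exactAt_iff_isZero_homology _ _).1
      (HomologicalComplex.ExactAt.of_isZero (isZero_tensor_X c B
        (fun k hk => isZero_resCx V.ι (P.isZero_of_isStrictlyLE c k hk)) hEB i hi))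
  let y : (V : Scheme.{u}) := ⟨x, hx⟩
  have h1 : IsZero ((Scheme.Modules.restrictFunctor V.ι).obj (DCoh.HD ((DCoh.LTensorCx N).obj Z) i)) :=
    h0.of_iso (restrictHDIso V.ι _ i).symm
  exact ((Scheme.Modules.restrictStalkNatIso V.ι y).app
    (DCoh.HD ((DCoh.LTensorCx N).obj Z) i)).addCommGroupIsoToAddEquiv.toEquiv.subsingleton_congr.1
      (subsingleton_stalk_of_isZero h1 y)

/-- In finite dimension maps out of a perfect object into objects far to the left vanish. -/
theorem exists_vanishing_of_isPerfect [CompactSpace X] {K : DCoh.D X} (hK : DCoh.IsPerfect K) (d : ℕ)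
    (hd : ∀ (F : X.Modules) (i : ℕ), d < i → Subsingleton (Coh.HH X F i)) :
    ∃ b : ℤ, ∀ Z : DCoh.D X, Z.IsLE b → ∀ f : K ⟶ Z, f = 0 := by
  let K' := (resX X).obj (DerivedCategory.Q.objPreimage K)
  let eK : DerivedCategory.Q.obj K' ≅ K := resXIso K
  have hK' : DCoh.IsKFlat K' := isKFlat_resX _
  have hKp : DCoh.IsPerfect (DerivedCategory.Q.obj K') := isPerfect_iso eK.symm hK
  haveI := hasRSheafHom_of_isKFlat K' hK'
  let O := (DerivedCategory.singleFunctor X.Modules 0).obj (Coh.structureModule X)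
  let D₀ := (resX X).obj (DerivedCategory.Q.objPreimage ((DCoh.RSheafHom K').obj O))
  let eD : DerivedCategory.Q.obj D₀ ≅ (DCoh.RSheafHom K').obj O := resXIso _
  have hD₀ : DCoh.IsKFlat D₀ := isKFlat_resX _
  obtain ⟨B, hB⟩ := exists_isLE_lTensor D₀ hD₀
    (isPerfect_iso eD.symm (isPerfect_rSheafHom_unit K' hK' hKp))
  refine ⟨-(d : ℤ) - 1 - B, fun Z hZ f => ?_⟩
  obtain ⟨t⟩ := nonempty_lTensor_dual K' hK' hKp D₀ hD₀ eD Z
  have hle : ((DCoh.LTensorCx D₀).obj Z).IsLE (-(d : ℤ) - 1) := by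
    have := hB _ Z hZ
    rwa [sub_add_cancel] at this
  let u : (DCoh.LTensorCx K').obj (DerivedCategory.Q.obj (unitCx X)) ≅ K :=
    lTensorIso K' (unitCx X) isKFlat_unitCx ≪≫
      DerivedCategory.Q.mapIso (symS (unitCx X) K' ≪≫ tensorUnitCxIso.app K') ≪≫ eK
  let adj := DCoh.RSheafHomAdj K'
  have h0 : adj.homEquiv _ _ (u.hom ≫ f) = 0 := by
    rw [← cancel_mono t.inv, zero_comp]
    exact eq_zero_of_isLE d hd _ hle _
  haveI : (DCoh.RSheafHom K').IsRightAdjoint := adj.isRightAdjoint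
  rw [← cancel_epi u.hom, comp_zero]
  apply (adj.homEquiv _ _).injective
  rw [h0, Adjunction.homEquiv_unit, Functor.map_zero, comp_zero]

instance hasCoproductsOfShape_uliftModules (I : Type u) :
    HasCoproductsOfShape (ULift.{u + 1} I) X.Modules :=
  hasColimitsOfShape_of_equivalence (Discrete.equivalence Equiv.ulift.{u + 1}.symm)

theorem exists_cofan_cx {I : Type u} (F : ULift.{u + 1} I → CochainComplex X.Modules ℤ) :
    ∃ c₀ : Cofan F, Nonempty (IsColimit c₀) := by
  let c := colimit.cocone (Discrete.functor fun i : I => F ⟨i⟩)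
  refine ⟨Cofan.mk c.pt fun i => c.ι.app ⟨i.down⟩, ⟨?_⟩⟩
  exact mkCofanColimit _ (fun s => Sigma.desc (fun i : I => s.inj ⟨i⟩)) (fun s i => Sigma.ι_desc _ i.down)
    fun s m hm => Sigma.hom_ext _ _ fun i => (hm ⟨i⟩).trans (Sigma.ι_desc (fun i : I => s.inj ⟨i⟩) i).symm

theorem hasCoproduct_D {I : Type u} (M : ULift.{u + 1} I → DCoh.D X) : HasCoproduct M := by
  obtain ⟨c₀, ⟨hc₀⟩⟩ := exists_cofan_cx fun i => DerivedCategory.Q.objPreimage (M i)
  obtain ⟨hQ⟩ := nonempty_isColimit_Q M hc₀ fun i => (DerivedCategory.Q.objObjPreimageIso (M i)).symm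
  exact ⟨⟨⟨_, hQ⟩⟩⟩

theorem isLE_coproduct {I : Type u} (M : ULift.{u + 1} I → DCoh.D X) [HasCoproduct M] (b : ℤ)
    (hM : ∀ i, (M i).IsLE b) : (∐ M).IsLE b := by
  choose F hF hFe using fun i => @DerivedCategory.exists_iso_Q_obj_of_isLE _ _ _ _ (M i) b (hM i)
  obtain ⟨c₀, ⟨hc₀⟩⟩ := exists_cofan_cx F
  obtain ⟨hQ⟩ := nonempty_isColimit_Q M hc₀ fun i => (hFe i).some
  haveI : c₀.pt.IsStrictlyLE b := (CochainComplex.isStrictlyLE_iff _ _).2 fun k hk =>
    (IsZero.iff_id_eq_zero _).2 (Cofan.IsColimit.hom_ext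
      (isColimitCofanMkObjOfIsColimit (HomologicalComplex.eval X.Modules (ComplexShape.up ℤ) k) _ _
        (hc₀.ofIsoColimit (Cofan.ext (Iso.refl _) (by simp) : c₀ ≅ Cofan.mk c₀.pt c₀.inj))) _ _
      fun i => (@CochainComplex.isZero_of_isStrictlyLE _ _ _ (F i) b k hk (hF i)).eq_of_src _ _)
  exact ⟨c₀.pt, (coproductIsCoproduct M).coconePointUniqueUpToIso hQ, inferInstance⟩

variable [CompactSpace X] [QuasiSeparatedSpace X]

theorem absorbs_of_family_isGE {K : DCoh.D X} (hK : DCoh.IsPerfect K) {I : Type u}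
    (M : ULift.{u + 1} I → DCoh.D X) [HasCoproduct M] (a : ℤ) (hM : ∀ i, (M i).IsGE a) :
    Absorbs (sigmaTrunc (coproductIsCoproduct M)) K := by
  have h : ∀ i, ∃ F : CochainComplex X.Modules ℤ, (∀ n, Injective (F.X n)) ∧
      (∀ n, n < a → IsZero (F.X n)) ∧ Nonempty (M i ≅ DerivedCategory.Q.obj F) := fun i => by
    obtain ⟨P, hP, ⟨e⟩⟩ := @DerivedCategory.exists_iso_Q_obj_of_isGE _ _ _ _ (M i) a (hM i)
    haveI := hP
    obtain ⟨J, s, hs, hJ, hJa⟩ := CochainComplex.Plus.modelCategoryQuillen.exists_quasiIso_injective P a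
    haveI := hJa
    haveI : IsIso (DerivedCategory.Q.map s) := (DerivedCategory.isIso_Q_map_iff_quasiIso (C := X.Modules) s).2 hs
    exact ⟨J, hJ, fun n hn => J.isZero_of_isStrictlyGE a n hn, ⟨e ≪≫ asIso (DerivedCategory.Q.map s)⟩⟩
  choose F hinj hge he using h
  obtain ⟨c₀, ⟨hc₀⟩⟩ := exists_cofan_cx F
  exact absorbs_of_isGE (coproductIsCoproduct M) hK a hinj hge hc₀ fun i => (he i).some

theorem absorbs_of_dimension {K : DCoh.D X} (hK : DCoh.IsPerfect K) (d : ℕ)
    (hd : ∀ (F : X.Modules) (i : ℕ), d < i → Subsingleton (Coh.HH X F i)) {I : Type u}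
    (M : ULift.{u + 1} I → DCoh.D X) [HasCoproduct M] :
    Absorbs (sigmaTrunc (coproductIsCoproduct M)) K := by
  classical
  obtain ⟨b, hb⟩ := exists_vanishing_of_isPerfect hK d hd
  choose A B hA hB p q r hT using fun i =>
    DerivedCategory.TStructure.t.exists_triangle (M i) b (b + 1) rfl
  haveI := hasCoproduct_D A
  haveI := hasCoproduct_D B
  let T := fun i => Triangle.mk (p i) (q i) (r i)
  haveI : HasCoproduct fun i => (T i).obj₁ := inferInstanceAs (HasCoproduct A)
  haveI : HasCoproduct fun i => (T i).obj₂ := inferInstanceAs (HasCoproduct M)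
  haveI : HasCoproduct fun i => (T i).obj₃ := inferInstanceAs (HasCoproduct B)
  have hd' := Groth.Agent.BrownRep.coproductTriangle_distinguished T hT
  let π : (∐ M) ⟶ ∐ B := Limits.Sigma.map q
  intro f
  obtain ⟨S, hS⟩ := absorbs_of_family_isGE hK B (b + 1) (fun i => ⟨hB i⟩) (f ≫ π)
  refine ⟨S, ?_⟩
  have hπ : sigmaTrunc (coproductIsCoproduct M) S ≫ π = π ≫ sigmaTrunc (coproductIsCoproduct B) S := by
    refine Sigma.hom_ext _ _ fun i => ?_
    have h1 := inj_sigmaTrunc (coproductIsCoproduct M) S i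
    have h2 := inj_sigmaTrunc (coproductIsCoproduct B) S i
    simp only [cofan_mk_inj] at h1 h2
    rw [← Category.assoc, h1, Limits.Sigma.ι_map_assoc, h2]
    split_ifs with h
    · exact Limits.Sigma.ι_map _ _
    · rw [zero_comp, comp_zero]
  have h0 : (f - f ≫ sigmaTrunc (coproductIsCoproduct M) S) ≫ π = 0 := by
    rw [Preadditive.sub_comp, Category.assoc, hπ, ← Category.assoc, hS, sub_self]
  obtain ⟨g, hg⟩ := Triangle.coyoneda_exact₂ _ hd' (f - f ≫ sigmaTrunc (coproductIsCoproduct M) S) h0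
  exact (sub_eq_zero.1 (hg.trans ((congrArg (· ≫ _) (hb _ (isLE_coproduct A b fun i => ⟨hA i⟩) g)).trans
    zero_comp))).symm

/-- Perfect objects commute with sums of uniformly bounded below families, and with all sums in finite
dimension. -/
theorem perfect_isCompact (K : DCoh.D X) (hK : DCoh.IsPerfect K) :
    (∀ (I : Type u) (M : I → DCoh.D X) [HasCoproduct fun i : ULift.{u + 1} I => M i.down] (a : ℤ),
      (∀ i, (M i).IsGE a) →
      Function.Bijective (CohDer.homSumToHomCoprod K (fun i : ULift.{u + 1} I => M i.down))) ∧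
    ((∃ d : ℕ, ∀ (F : X.Modules) (i : ℕ), d < i → Subsingleton (Coh.HH X F i)) →
      ∀ (I : Type u) (M : I → DCoh.D X) [HasCoproduct fun i : ULift.{u + 1} I => M i.down],
      Function.Bijective (CohDer.homSumToHomCoprod K (fun i : ULift.{u + 1} I => M i.down))) :=
  ⟨fun _ _ _ a hM => bijective_homSumToHomCoprod K _ (absorbs_of_family_isGE hK _ a fun i => hM i.down),
    fun ⟨d, hd⟩ _ _ _ => bijective_homSumToHomCoprod K _ (absorbs_of_dimension hK d hd _)⟩

end Groth.Agent.DCohLib
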