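import Groth.Agent.DCohLib.PCTop
import Groth.Agent.DCohLib.QCohAbelian
import Groth.Agent.QCohLib.Criterion

/-!
# Quasi-coherence is local; cohomology of pseudo-coherent objects
-/

set_option autoImplicit false
set_option linter.style.haveILetI false
set_option backward.isDefEq.respectTransparency false

universe u

open CategoryTheory CategoryTheory.Limits AlgebraicGeometry TopologicalSpace Opposite

attribute [local instance] HasDerivedCategory.standard

noncomputable section

namespace Groth.Agent.DCohLib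

variable {X : Scheme.{u}}

theorem isQCoh_of_local {M : X.Modules}
    (h : ∀ x : X, ∃ V : X.Opens, x ∈ V ∧ Coh.IsQCoh ((Scheme.Modules.restrictFunctor V.ι).obj M)) :
    Coh.IsQCoh M := by
  have hD : ∀ x : X, ∃ W : X.affineOpens, x ∈ (W : X.Opens) ∧
      IsIso (Scheme.Modules.fromTildeΓ (M.restrict W.2.fromSpec)) := by
    intro x
    obtain ⟨V, hx, hV⟩ := h x
    obtain ⟨_, ⟨W : X.Opens, (hW : IsAffineOpen W), rfl⟩, hxW, hWV⟩ :=
      X.isBasis_affineOpens.exists_subset_of_mem_open (a := x) (u := (V : Set X)) hx V.2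
    have hr : Set.range hW.fromSpec ⊆ Set.range V.ι := by
      rw [IsAffineOpen.range_fromSpec, Scheme.Opens.range_ι]
      exact hWV
    let v := IsOpenImmersion.lift V.ι hW.fromSpec hr
    have hv : v ≫ V.ι = hW.fromSpec := IsOpenImmersion.lift_fac V.ι hW.fromSpec hr
    haveI : IsOpenImmersion (v ≫ V.ι) := by rw [hv]; infer_instance
    haveI : IsOpenImmersion v := IsOpenImmersion.of_comp v V.ι
    let N := (Scheme.Modules.restrictFunctor v).obj ((Scheme.Modules.restrictFunctor V.ι).obj M)
    haveI : Coh.IsQCoh N := inferInstance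
    haveI := Scheme.Modules.isIso_fromTildeΓ_of_isQuasicoherent (R := Γ(X, W)) N
    refine ⟨⟨W, hW⟩, hxW, isIso_fromTildeΓ_iff.2 ?_⟩
    exact Functor.essImage.ofIso (((Scheme.Modules.restrictFunctorComp v V.ι).symm ≪≫
      Scheme.Modules.restrictFunctorCongr hv).app M) (isIso_fromTildeΓ_iff.1 this)
  choose W hW hiso using hD
  let P : ∀ a, (M.restrict (W a).1.ι).Presentation := fun a =>
    SheafOfModules.Presentation.ofIsIso.{u, u, u}
      (((Scheme.Modules.restrictFunctorComp (W a).2.isoSpec.hom (W a).2.fromSpec).symm ≪≫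
        Scheme.Modules.restrictFunctorCongr (W a).2.isoSpec_hom_fromSpec).app M).hom
      (Scheme.Modules.presentationRestrict (W a).2.isoSpec.hom
        (SheafOfModules.Presentation.ofIsIso.{u, u, u}
          (@asIso _ _ _ _ (Scheme.Modules.fromTildeΓ (M.restrict (W a).2.fromSpec)) (hiso a)).hom
          (presentationTilde.{u} _ .univ (by simp) _ (Submodule.span_eq _))))
  exact SheafOfModules.QuasicoherentData.isQuasicoherent (R := X.ringCatSheaf) (M := M)
    { I := X
      X := fun a => (W a).1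
      coversTop := by
        rw [Opens.coversTop_iff, IsOpenCover]
        exact eq_top_iff.mpr fun x _ => Opens.mem_iSup.mpr ⟨x, hW x⟩
      presentation := fun a => Groth.Agent.QCohLib.presentationOver M (W a).1 (P a) }

theorem isQCoh_homology_of_terms {C : CochainComplex X.Modules ℤ}
    (hC : ∀ i, Coh.IsQCoh (C.X i)) (i : ℤ) : Coh.IsQCoh (C.homology i) := by
  have hZ : Coh.IsQCoh (C.cycles i) := isQCoh_of_iso'
    ((kernelIsKernel _).conePointUniqueUpToIso (C.cyclesIsKernel i (i + 1) (by simp)))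
    (Groth.Agent.QCohLib.isQCoh_image (C.d i (i + 1)) (hC i) (hC (i + 1))).1
  exact isQCoh_of_iso'
    ((cokernelIsCokernel _).coconePointUniqueUpToIso (C.homologyIsCokernel (i - 1) i (by simp)))
    (Groth.Agent.QCohLib.isQCoh_image (C.toCycles (i - 1) i) (hC (i - 1)) hZ).2

theorem isQCoh_HD_of_pseudoCoherent {m : ℤ} {K : DCoh.D X} (hK : DCoh.IsPseudoCoherentD m K) :
    (∀ i, m < i → Coh.IsQCoh (DCoh.HD K i)) ∧
      ∀ x : X, ∃ (V : X.Opens) (Q : (V : Scheme.{u}).Modules)
        (π : Q ⟶ (Scheme.Modules.restrictFunctor V.ι).obj (DCoh.HD K m)),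
        x ∈ V ∧ Coh.IsQCoh Q ∧ Epi π := by
  have h := (isPseudoCoherentD_iff m K).1 hK
  choose V hV E α hE hα using h
  have hq : ∀ x i, Coh.IsQCoh ((E x).homology i) := fun x =>
    isQCoh_homology_of_terms fun j =>
      (PullbackMod.isQCoh_and_isFP_of_isFinLocFree _ ((hE x).2 j)).1
  let g : ∀ (x : X) (i : ℤ), (E x).homology i ⟶
      (Scheme.Modules.restrictFunctor (V x).ι).obj (DCoh.HD K i) := fun x i =>
    (((DerivedCategory.homologyFunctorFactors _ i).app (E x)).inv ≫
      (DerivedCategory.homologyFunctor _ i).map (α x)) ≫ (restrictHDIso (V x).ι K i).hom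
  refine ⟨fun i hi => isQCoh_of_local fun x => ⟨V x, hV x, ?_⟩,
    fun x => ⟨V x, _, g x m, hV x, hq x m, ?_⟩⟩
  · haveI := ((mIso_iff m (α x)).1 (hα x)).1 i hi
    exact isQCoh_of_iso' (asIso (g x i)) (hq x i)
  · exact epi_comp' (epi_comp' inferInstance ((mIso_iff m (α x)).1 (hα x)).2) inferInstance

end Groth.Agent.DCohLib
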