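import Groth.Agent.DCohLib.CompactD
import Groth.Agent.DCohLib.QCohHD
import Groth.Agent.KFlat.Exact
import Groth.Agent.TildeD.TensorQCoh
import Mathlib.Algebra.Homology.GrothendieckAbelian

/-!
# Cohomology sheaves of coproducts
-/

set_option autoImplicit false
set_option linter.style.haveILetI false

universe u

open CategoryTheory CategoryTheory.Limits AlgebraicGeometry TopologicalSpace Opposite

attribute [local instance] HasDerivedCategory.standard

noncomputable section

namespace Groth.Agent.DCohLib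

variable {X : Scheme.{u}} {ι : Type u}

theorem isQCoh_sigma_modules (f : ι → X.Modules) (h : ∀ i, Coh.IsQCoh (f i)) : Coh.IsQCoh (∐ f) := by
  refine isQCoh_of_local fun x => ?_
  obtain ⟨_, ⟨W : X.Opens, (hW : IsAffineOpen W), rfl⟩, hx, -⟩ :=
    X.isBasis_affineOpens.exists_subset_of_mem_open (Set.mem_univ x) isOpen_univ
  refine ⟨W, hx, ?_⟩
  let R := Scheme.Modules.restrictFunctor hW.fromSpec
  haveI : PreservesColimitsOfSize.{u, u} R :=
    (Scheme.Modules.restrictAdjunction hW.fromSpec).leftAdjoint_preservesColimits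
  have h1 : Coh.IsQCoh (R.obj (∐ f)) :=
    isQCoh_of_iso' (PreservesCoproduct.iso R f).symm
      (Groth.Agent.TildeD.isQCoh_sigma' (R := Γ(X, W)) (fun i => R.obj (f i)) fun i => by
        haveI := h i; infer_instance)
  haveI := h1
  exact isQCoh_of_iso' (((Scheme.Modules.restrictFunctorComp hW.isoSpec.hom hW.fromSpec).symm ≪≫
      Scheme.Modules.restrictFunctorCongr hW.isoSpec_hom_fromSpec).app (∐ f))
    (inferInstanceAs (Coh.IsQCoh ((Scheme.Modules.restrictFunctor hW.isoSpec.hom).obj (R.obj (∐ f)))))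

theorem exists_homology_coprod (F : ι → CochainComplex X.Modules ℤ) {c₀ : Cofan F} (hc₀ : IsColimit c₀)
    (n : ℤ) : Nonempty (c₀.pt.homology n ≅ ∐ fun i => (F i).homology n) := by
  let K := Discrete.functor F
  let c := ComplexShape.up ℤ
  let E := fun m => HomologicalComplex.eval X.Modules c m
  let e : ∀ m, colimit (K ⋙ E m) ≅ c₀.pt.X m := fun m =>
    (colimit.isColimit _).coconePointUniqueUpToIso (isColimitOfPreserves (E m) hc₀)
  have he : ∀ m i, colimit.ι (K ⋙ E m) i ≫ (e m).hom = (c₀.ι.app i).f m := fun m i =>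
    IsColimit.comp_coconePointUniqueUpToIso_hom _ _ i
  let dnat : ∀ a b, K ⋙ E a ⟶ K ⋙ E b := fun a b =>
    { app := fun i => (K.obj i).d a b
      naturality := fun i j f => (K.map f).comm a b }
  let S : ShortComplex (Discrete ι ⥤ X.Modules) :=
    ShortComplex.mk (dnat (c.prev n) n) (dnat n (c.next n))
      (NatTrans.ext (funext fun i => (K.obj i).d_comp_d _ _ _))
  have comm : ∀ a b, colim.map (dnat a b) ≫ (e b).hom = (e a).hom ≫ c₀.pt.d a b := fun a b => by
    refine colimit.hom_ext fun i => ?_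
    rw [show colim.map (dnat a b) = colimMap (dnat a b) from rfl, ι_colimMap_assoc, he,
      reassoc_of% (he a i)]
    refine Eq.trans ?_ ((c₀.ι.app i).comm a b).symm
    rfl
  let i1 : S.map colim ≅ c₀.pt.sc n :=
    ShortComplex.isoMk (e (c.prev n)) (e n) (e (c.next n)) (comm _ _).symm (comm _ _).symm
  exact ⟨(ShortComplex.homologyMapIso i1).symm ≪≫ S.mapHomologyIso colim ≪≫
    HasColimit.isoOfNatIso (Discrete.natIso fun i =>
      (S.mapHomologyIso ((evaluation (Discrete ι) X.Modules).obj i)).symm)⟩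

theorem isQCohD_coproduct (K : ι → DCoh.D X) (hK : ∀ i, DCoh.IsQCohD (K i)) [HasCoproduct K] :
    DCoh.IsQCohD (∐ K) := by
  let F := fun i => DerivedCategory.Q.objPreimage (K i)
  let c₀ : Cofan F := Cofan.mk (∐ F) (Sigma.ι F)
  let hc₀ : IsColimit c₀ := coproductIsCoproduct F
  obtain ⟨hQ⟩ := nonempty_isColimit_Q K hc₀ fun i => (DerivedCategory.Q.objObjPreimageIso (K i)).symm
  intro n
  obtain ⟨e⟩ := exists_homology_coprod F hc₀ n
  refine isQCoh_of_iso' ((DerivedCategory.homologyFunctor X.Modules n).mapIso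
      ((coproductIsCoproduct K).coconePointUniqueUpToIso hQ) ≪≫
    (DerivedCategory.homologyFunctorFactors X.Modules n).app c₀.pt ≪≫ e).symm ?_
  exact isQCoh_sigma_modules _ fun i => isQCoh_of_iso'
    ((DerivedCategory.homologyFunctor X.Modules n).mapIso (DerivedCategory.Q.objObjPreimageIso (K i)).symm ≪≫
      (DerivedCategory.homologyFunctorFactors X.Modules n).app (F i)) (hK i n)

end Groth.Agent.DCohLib
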