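import Mathlib

/-!
# Composites of maps which vanish in cohomology
-/

set_option autoImplicit false
set_option linter.style.haveILetI false

universe w v u

open CategoryTheory CategoryTheory.Limits Pretriangulated

noncomputable section

namespace Groth.Agent.DCohLib

variable {C : Type u} [Category.{v} C] [Abelian C] [HasDerivedCategory.{w} C]

open DerivedCategory


theorem zero_of_single_degree {X Y : DerivedCategory C} (n : ℤ) [X.IsGE n] [X.IsLE n] [Y.IsGE n]
    [Y.IsLE n] (f : X ⟶ Y) (h : (homologyFunctor C n).map f = 0) : f = 0 := by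
  obtain ⟨A, ⟨eA⟩⟩ := exists_iso_singleFunctor_obj_of_isGE_of_isLE X n
  obtain ⟨B, ⟨eB⟩⟩ := exists_iso_singleFunctor_obj_of_isGE_of_isLE Y n
  obtain ⟨g, hg⟩ := (singleFunctor C n).map_surjective (eA.inv ≫ f ≫ eB.hom)
  have h0 : (singleFunctor C n ⋙ homologyFunctor C n).map g = 0 := by
    rw [Functor.comp_map, hg, Functor.map_comp, Functor.map_comp, h, zero_comp, comp_zero]
  have hg0 : g = 0 := by
    rw [← cancel_epi ((DerivedCategory.singleFunctorCompHomologyFunctorIso C n).hom.app A), comp_zero]
    exact ((DerivedCategory.singleFunctorCompHomologyFunctorIso C n).hom.naturality g).symm.trans (by rw [h0, zero_comp])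
  rw [hg0, Functor.map_zero] at hg
  rw [← cancel_epi eA.inv, ← cancel_mono eB.hom, Category.assoc, ← hg]
  simp

theorem isIso_homology_truncLTι (X : DerivedCategory C) (b i : ℤ) (hi : i < b) :
    IsIso ((homologyFunctor C i).map (((TStructure.t (C := C)).truncLTι b).app X)) := by
  have hT := (TStructure.t (C := C)).triangleLTGE_distinguished b X
  haveI : Mono ((homologyFunctor C i).map (((TStructure.t (C := C)).triangleLTGE b).obj X).mor₁) :=
    (HomologySequence.mono_homologyMap_mor₁_iff _ hT (i - 1) i (by omega)).2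
      ((isZero_of_isGE (((TStructure.t (C := C)).truncGE b).obj X) b (i - 1) (by omega)).eq_of_src _ _)
  haveI : Epi ((homologyFunctor C i).map (((TStructure.t (C := C)).triangleLTGE b).obj X).mor₁) :=
    (HomologySequence.epi_homologyMap_mor₁_iff _ hT i).2
      ((isZero_of_isGE (((TStructure.t (C := C)).truncGE b).obj X) b i hi).eq_of_tgt _ _)
  exact isIso_of_mono_of_epi ((homologyFunctor C i).map (((TStructure.t (C := C)).triangleLTGE b).obj X).mor₁)

theorem isIso_homology_truncGEπ (X : DerivedCategory C) (b i : ℤ) (hi : b ≤ i) :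
    IsIso ((homologyFunctor C i).map (((TStructure.t (C := C)).truncGEπ b).app X)) := by
  have hT := (TStructure.t (C := C)).triangleLTGE_distinguished b X
  haveI : Epi ((homologyFunctor C i).map (((TStructure.t (C := C)).triangleLTGE b).obj X).mor₂) :=
    (HomologySequence.epi_homologyMap_mor₂_iff _ hT i (i + 1) rfl).2
      ((isZero_of_isLE (((TStructure.t (C := C)).truncLT b).obj X) (b - 1) (i + 1) (by omega)).eq_of_tgt _ _)
  haveI : Mono ((homologyFunctor C i).map (((TStructure.t (C := C)).triangleLTGE b).obj X).mor₂) :=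
    (HomologySequence.mono_homologyMap_mor₂_iff _ hT i).2
      ((isZero_of_isLE (((TStructure.t (C := C)).truncLT b).obj X) (b - 1) i (by omega)).eq_of_src _ _)
  exact isIso_of_mono_of_epi ((homologyFunctor C i).map (((TStructure.t (C := C)).triangleLTGE b).obj X).mor₂)

/-- A map from an object in degrees `≤ b` to one in degrees `≥ b` is detected by `H^b`. -/
theorem zero_of_homology_zero {X Y : DerivedCategory C} (b : ℤ) [X.IsLE b] [Y.IsGE b] (f : X ⟶ Y)
    (h : (homologyFunctor C b).map f = 0) : f = 0 := by
  let g₁ := (TStructure.t (C := C)).descTruncGE f b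
  let g := (TStructure.t (C := C)).liftTruncLT g₁ b (b + 1) rfl
  haveI hP1 : IsGE (((TStructure.t (C := C)).truncGE b).obj X) b := inferInstanceAs ((TStructure.t (C := C)).IsGE (((TStructure.t (C := C)).truncGE b).obj X) b)
  haveI hP2 : IsLE (((TStructure.t (C := C)).truncGE b).obj X) b := inferInstanceAs ((TStructure.t (C := C)).IsLE (((TStructure.t (C := C)).truncGE b).obj X) b)
  haveI hQ2 : IsLE (((TStructure.t (C := C)).truncLT (b + 1)).obj Y) b := inferInstanceAs ((TStructure.t (C := C)).IsLE (((TStructure.t (C := C)).truncLT (b + 1)).obj Y) b)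
  haveI hQ1 : IsGE (((TStructure.t (C := C)).truncLT (b + 1)).obj Y) b := (isGE_iff _ _).2 fun i hi => by
    haveI := isIso_homology_truncLTι Y (b + 1) i (by omega)
    exact (isZero_of_isGE Y b i hi).of_iso (asIso ((homologyFunctor C i).map (((TStructure.t (C := C)).truncLTι (b + 1)).app Y)))
  have hf : ((TStructure.t (C := C)).truncGEπ b).app X ≫ g ≫ ((TStructure.t (C := C)).truncLTι (b + 1)).app Y = f := by
    rw [(TStructure.t (C := C)).liftTruncLT_ι]
    exact (TStructure.t (C := C)).π_descTruncGE f b
  have hg : g = 0 := zero_of_single_degree b g (by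
    haveI := isIso_homology_truncGEπ X b b le_rfl
    haveI := isIso_homology_truncLTι Y (b + 1) b (by omega)
    have e := congr_arg (homologyFunctor C b).map hf
    rw [Functor.map_comp, Functor.map_comp, h] at e
    rw [← cancel_epi ((homologyFunctor C b).map (((TStructure.t (C := C)).truncGEπ b).app X)),
      ← cancel_mono ((homologyFunctor C b).map (((TStructure.t (C := C)).truncLTι (b + 1)).app Y)), Category.assoc, e]
    simp)
  rw [← hf, hg]
  simp

theorem map_zero_le_eq_zero (n : ℕ) : ∀ (a : ℤ) (K : ℕ ⥤ DerivedCategory C),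
    (∀ i : ℕ, i ≤ n + 1 → (K.obj i).IsGE a) → (∀ i : ℕ, i ≤ n + 1 → (K.obj i).IsLE (a + n)) →
    (∀ i : ℕ, i ≤ n → ∀ q : ℤ, (homologyFunctor C q).map (K.map (homOfLE (Nat.le_succ i))) = 0) →
    K.map (homOfLE (Nat.zero_le (n + 1))) = 0 := by
  induction n with
  | zero =>
    intro a K hGE hLE hz
    haveI := hLE 0 (by omega)
    haveI := hGE 1 (by omega)
    haveI : (K.obj 0).IsLE a := by simpa using hLE 0 (by omega)
    exact zero_of_homology_zero a _ (hz 0 le_rfl a)
  | succ m ih =>
    intro a K hGE hLE hz
    let b : ℤ := a + (m + 1)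
    let f := K.map (homOfLE (Nat.le_succ 0))
    haveI : (K.obj 0).IsLE b := by
      have := hLE 0 (by omega)
      simpa [b] using this
    have h0 : f ≫ ((TStructure.t (C := C)).truncGEπ b).app (K.obj 1) = 0 := by
      haveI : IsGE (((TStructure.t (C := C)).truncGE b).obj (K.obj 1)) b := inferInstanceAs ((TStructure.t (C := C)).IsGE (((TStructure.t (C := C)).truncGE b).obj (K.obj 1)) b)
      refine zero_of_homology_zero b _ ?_
      rw [Functor.map_comp, hz 0 (by omega) b, zero_comp]
    obtain ⟨g, hg⟩ := Triangle.coyoneda_exact₂ _ ((TStructure.t (C := C)).triangleLTGE_distinguished b (K.obj 1)) f h0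
    let K' : ℕ ⥤ DerivedCategory C :=
      (Monotone.functor (f := fun i : ℕ => i + 1) fun i j h => Nat.add_le_add_right h 1) ⋙ K ⋙ (TStructure.t (C := C)).truncLT b
    have key : K'.map (homOfLE (Nat.zero_le (m + 1))) = 0 := by
      refine ih a K' (fun i hi => (isGE_iff _ _).2 fun q hq => ?_) (fun i hi => ?_) fun i hi q => ?_
      · haveI := hGE (i + 1) (by omega)
        have hiso := isIso_homology_truncLTι (K.obj (i + 1)) b q (by omega)
        exact (isZero_of_isGE (K.obj (i + 1)) a q hq).of_iso
          (@asIso _ _ _ _ ((homologyFunctor C q).map (((TStructure.t (C := C)).truncLTι b).app (K.obj (i + 1)))) hiso)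
      · exact (TStructure.t (C := C)).isLE_truncLT_obj (K.obj (i + 1)) b (a + m) (by omega)
      · show (homologyFunctor C q).map
          (((TStructure.t (C := C)).truncLT b).map (K.map (homOfLE (Nat.le_succ (i + 1))))) = 0
        by_cases hq : q < b
        · haveI := isIso_homology_truncLTι (K.obj (i + 1 + 1)) b q hq
          rw [← cancel_mono ((homologyFunctor C q).map (((TStructure.t (C := C)).truncLTι b).app (K.obj (i + 1 + 1)))), zero_comp]
          have e := ((TStructure.t (C := C)).truncLTι b).naturality (K.map (homOfLE (Nat.le_succ (i + 1))))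
          refine ((homologyFunctor C q).map_comp _ _).symm.trans ?_
          refine (congr_arg (homologyFunctor C q).map e).trans ?_
          rw [Functor.map_comp, Functor.id_map, hz (i + 1) (by omega) q, comp_zero]
        · haveI : IsLE (((TStructure.t (C := C)).truncLT b).obj (K.obj (i + 1))) (b - 1) :=
            (TStructure.t (C := C)).isLE_truncLT_obj (K.obj (i + 1)) b (b - 1)
          exact (isZero_of_isLE (((TStructure.t (C := C)).truncLT b).obj (K.obj (i + 1))) (b - 1) q (by omega)).eq_of_src _ _
    rw [show (homOfLE (Nat.zero_le (m + 1 + 1)) : 0 ⟶ m + 1 + 1) =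
      homOfLE (Nat.le_succ 0) ≫ homOfLE (by omega : 1 ≤ m + 1 + 1) from rfl, Functor.map_comp]
    show f ≫ _ = 0
    rw [hg]
    refine (Category.assoc _ _ _).trans ?_
    have e := ((TStructure.t (C := C)).truncLTι b).naturality (K.map (homOfLE (by omega : 1 ≤ m + 1 + 1)))
    refine (congr_arg (g ≫ ·) e.symm).trans ?_
    have key' : ((TStructure.t (C := C)).truncLT b).map (K.map (homOfLE (by omega : 1 ≤ m + 1 + 1))) = 0 := key
    rw [key', zero_comp]
    exact comp_zero

end Groth.Agent.DCohLib
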