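import Groth.Agent.DCohLib.PerfPred

/-!
# Two out of three for perfect and pseudo-coherent objects
-/

set_option autoImplicit false
set_option linter.style.haveILetI false

universe u

open CategoryTheory CategoryTheory.Limits AlgebraicGeometry TopologicalSpace Opposite
open CategoryTheory.Pretriangulated

attribute [local instance] HasDerivedCategory.standard

noncomputable section

namespace Groth.Agent.DCohLib

variable {X U : Scheme.{u}}

/-- Morphisms from a strictly perfect complex zero below `a` to an object without cohomology in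
degrees `≥ a` vanish locally. -/
theorem exists_local_zero {E : CochainComplex X.Modules ℤ} (hE : DCoh.IsStrictlyPerfect E) (a : ℤ)
    (hEa : ∀ i, i < a → IsZero (E.X i)) {C : DCoh.D X} (hC : AboveZero a C)
    (f : DerivedCategory.Q.obj E ⟶ C) (x : X) :
    ∃ (U : Scheme.{u}) (j : U ⟶ X) (_ : IsOpenImmersion j) (y : U), j y = x ∧
      (DCoh.restrictD j).map f = 0 := by
  let F := DerivedCategory.Q.objPreimage C
  have e : DerivedCategory.Q.obj F ≅ C := DerivedCategory.Q.objObjPreimageIso C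
  have hF : ∀ i, a ≤ i → F.ExactAt i := fun i hi =>
    (HomologicalComplex.exactAt_iff_isZero_homology _ _).2
      ((hC.of_iso e i hi).of_iso ((DerivedCategory.homologyFunctorFactors _ i).app F).symm)
  obtain ⟨V, hV, β, hβ⟩ := exists_open_represent hE (f ≫ e.inv) x
  obtain ⟨W, hW, ⟨H⟩⟩ := exists_open_homotopy_zero β (isStrictlyPerfect_restrict V.ι hE) a
    (fun i hi => isZero_resCx V.ι (hEa i hi)) (fun i hi => exactAt_resCx V.ι (hF i hi)) ⟨x, hV⟩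
  refine ⟨W, W.ι ≫ V.ι, inferInstance, ⟨⟨x, hV⟩, hW⟩, rfl, ?_⟩
  have h0 : DerivedCategory.Q.map ((DCoh.restrictCx W).map β) = 0 := by
    rw [DerivedCategory.Q_map_eq_of_homotopy _ H, Functor.map_zero]
  have h1 : (DCoh.restrictD W.ι).map (DerivedCategory.Q.map β) = 0 := by
    refine (cancel_mono (restrictDQ W.ι _).hom).1 (Eq.trans ?_ zero_comp.symm)
    exact ((Scheme.Modules.restrictFunctor W.ι).mapDerivedCategoryFactors.hom.naturality β).trans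
      ((congrArg (_ ≫ ·) h0).trans comp_zero)
  have h2 : (DCoh.restrictD W.ι).map ((DCoh.restrictD V.ι).map (f ≫ e.inv)) = 0 := by
    rw [hβ, Functor.map_comp, Functor.map_comp, h1, zero_comp, comp_zero]
  have h3 : (DCoh.restrictD W.ι).map ((DCoh.restrictD V.ι).map f) = 0 := by
    refine (cancel_mono ((DCoh.restrictD W.ι).map ((DCoh.restrictD V.ι).map e.inv))).1 ?_
    rw [zero_comp, ← Functor.map_comp, ← Functor.map_comp]
    exact h2
  refine (cancel_mono ((restrictDComp W.ι V.ι).hom.app C)).1 (Eq.trans ?_ zero_comp.symm)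
  exact ((restrictDComp W.ι V.ι).hom.naturality f).trans ((congrArg (_ ≫ ·) h3).trans comp_zero)

/-- A compatible pair of approximations induces one on cones. -/
theorem exists_mIso_cone {m : ℤ} (T : Triangle (DCoh.D X)) (hT : T ∈ distTriang _)
    {A B G : DCoh.D X} {a : A ⟶ T.obj₁} {b : B ⟶ T.obj₂} (ha : MIso (m + 1) a) (hb : MIso m b)
    (g : A ⟶ B) (w : g ≫ b = a ≫ T.mor₁) {p : B ⟶ G} {q : G ⟶ A⟦(1 : ℤ)⟧}
    (hG : Triangle.mk g p q ∈ distTriang _) : ∃ c : G ⟶ T.obj₃, MIso m c := by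
  obtain ⟨Ca, ga, ka, hA, hA0⟩ := ha
  obtain ⟨Cb, gb, kb, hB, hB0⟩ := hb
  obtain ⟨D, gd, kd, hD⟩ := distinguished_cocone_triangle (g ≫ b)
  let o₁ := Triangulated.someOctahedron rfl hG hB hD
  have hT' : Triangle.mk T.mor₁ T.mor₂ T.mor₃ ∈ distTriang _ := hT
  let o₂ := Triangulated.someOctahedron w.symm hA hT' hD
  have h1 : MIso m o₁.m₁ := ⟨_, _, _, o₁.mem, hB0⟩
  have h2 : MIso m o₂.m₃ := by
    refine ⟨_, _, _, rot_of_distTriang _ o₂.mem, ?_⟩
    refine (aboveZero_shift_iff m 1 Ca).2 ?_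
    exact hA0.mono (by omega)
  exact ⟨_, h1.comp h2⟩

/-- The key case: obj₁ `(m+1)`-pseudo-coherent and obj₂ `m`-pseudo-coherent. -/
theorem isPseudoCoherentD_obj₃ {m : ℤ} (T : Triangle (DCoh.D X)) (hT : T ∈ distTriang _)
    (h₁ : DCoh.IsPseudoCoherentD (m + 1) T.obj₁) (h₂ : DCoh.IsPseudoCoherentD m T.obj₂) :
    DCoh.IsPseudoCoherentD m T.obj₃ := by
  refine isPseudoCoherentD_of_local fun x => ?_
  obtain ⟨V₁, hx₁, hV₁⟩ := (isPseudoCoherentD_iff _ _).1 h₁ x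
  obtain ⟨V₂, hx₂, hV₂⟩ := (isPseudoCoherentD_iff _ _).1 h₂ x
  obtain ⟨V, l₁, l₂, hxV⟩ : ∃ V : X.Opens, V ≤ V₁ ∧ V ≤ V₂ ∧ x ∈ V :=
    ⟨V₁ ⊓ V₂, inf_le_left, inf_le_right, hx₁, hx₂⟩
  obtain ⟨A, a, hA, hA0, ha⟩ := (pcOn_mono_open l₁ hV₁).exists_brutal
  obtain ⟨B, b, hB, hb⟩ := pcOn_mono_open l₂ hV₂
  let R := DCoh.restrictD V.ι
  let T₁ := R.mapTriangle.obj T
  have hT₁ : T₁ ∈ distTriang _ := R.map_distinguished T hT
  obtain ⟨Cb, gb, kb, hCb, hCb0⟩ := id hb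
  obtain ⟨W, j, hj, y, hy, hz⟩ := exists_local_zero hA (m + 1) hA0 (hCb0.mono (by omega))
    (a ≫ T₁.mor₁ ≫ gb) (⟨x, hxV⟩ : V)
  let R' := DCoh.restrictD j
  let A' := (resCx j).obj A
  let B' := (resCx j).obj B
  let eA := restrictDQ j A
  let eB := restrictDQ j B
  obtain ⟨g, hg⟩ : ∃ g : DerivedCategory.Q.obj A' ⟶ R'.obj (DerivedCategory.Q.obj B),
      eA.inv ≫ R'.map (a ≫ T₁.mor₁) = g ≫ R'.map b :=
    Triangle.coyoneda_exact₂ _ (R'.map_distinguished _ hCb)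
    (eA.inv ≫ R'.map (a ≫ T₁.mor₁)) (by
      show (eA.inv ≫ R'.map (a ≫ T₁.mor₁)) ≫ R'.map gb = 0
      rw [Category.assoc, ← R'.map_comp, Category.assoc, hz, comp_zero])
  obtain ⟨O, hO, β, hβ⟩ := exists_open_represent (isStrictlyPerfect_restrict j hA)
    (show DerivedCategory.Q.obj A' ⟶ DerivedCategory.Q.obj B' from g ≫ eB.hom) y
  refine ⟨O, O.ι ≫ j ≫ V.ι, inferInstance, ⟨y, hO⟩, ?_, ?_⟩
  · show V.ι (j y) = x
    rw [hy]
    rfl
  let R'' := DCoh.restrictD O.ι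
  let T₂ := R''.mapTriangle.obj (R'.mapTriangle.obj T₁)
  have hT₂ : T₂ ∈ distTriang _ := R''.map_distinguished _ (R'.map_distinguished _ hT₁)
  let a' := (restrictDQ O.ι A').inv ≫ R''.map (eA.inv ≫ R'.map a)
  let b' := (restrictDQ O.ι B').inv ≫ R''.map (eB.inv ≫ R'.map b)
  have ha' : MIso (m + 1) a' :=
    (mIso_of_isIso _ _).comp (((mIso_of_isIso _ _).comp (ha.restrict j)).restrict O.ι)
  have hb' : MIso m b' :=
    (mIso_of_isIso _ _).comp (((mIso_of_isIso _ _).comp (hb.restrict j)).restrict O.ι)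
  have w : DerivedCategory.Q.map β ≫ b' = a' ≫ T₂.mor₁ := by
    have hQ : DerivedCategory.Q.map β =
        (restrictDQ O.ι A').inv ≫ R''.map (g ≫ eB.hom) ≫ (restrictDQ O.ι B').hom := by
      rw [show R''.map (g ≫ eB.hom) = _ from hβ]
      simp [restrictDQ]
      exact ((restrictDQ O.ι A').inv_hom_id_assoc _).symm
    have h' : g ≫ R'.map b = eA.inv ≫ R'.map (a ≫ T₁.mor₁) := hg.symm
    simp only [a', b', hQ, Category.assoc, Iso.hom_inv_id_assoc]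
    rw [← Functor.map_comp, Category.assoc, eB.hom_inv_id_assoc, h', Functor.map_comp R' a T₁.mor₁,
      ← Category.assoc eA.inv]
    refine congrArg ((restrictDQ O.ι A').inv ≫ ·) ((R''.map_comp _ _).trans ?_)
    rfl
  obtain ⟨c, hc⟩ := exists_mIso_cone T₂ hT₂ ha' hb' _ w
    (DerivedCategory.mappingCone_triangle_distinguished β)
  have hP : PCOn m T₂.obj₃ :=
    ⟨_, c, isStrictlyPerfect_mappingCone β (isStrictlyPerfect_restrict O.ι (isStrictlyPerfect_restrict j hA))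
      (isStrictlyPerfect_restrict O.ι (isStrictlyPerfect_restrict j hB)), hc⟩
  have e : (DCoh.restrictD (O.ι ≫ j ≫ V.ι)).obj T.obj₃ ≅ T₂.obj₃ :=
    (restrictDComp O.ι (j ≫ V.ι)).app _ ≪≫ R''.mapIso ((restrictDComp j V.ι).app _)
  rw [isPseudoCoherentD_iff]
  exact fun z => ⟨⊤, trivial, (hP.of_iso e.symm).restrict _⟩

theorem isPseudoCoherentD_iso {m : ℤ} {K L : DCoh.D X} (e : K ≅ L)
    (h : DCoh.IsPseudoCoherentD m K) : DCoh.IsPseudoCoherentD m L := by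
  rw [isPseudoCoherentD_iff] at h ⊢
  intro x
  obtain ⟨V, hx, hV⟩ := h x
  exact ⟨V, hx, hV.of_iso ((DCoh.restrictD V.ι).mapIso e)⟩

theorem isPerfect_iso {K L : DCoh.D X} (e : K ≅ L) (h : DCoh.IsPerfect K) : DCoh.IsPerfect L := by
  rw [isPerfect_iff] at h ⊢
  intro x
  obtain ⟨V, hx, hV⟩ := h x
  exact ⟨V, hx, hV.of_iso ((DCoh.restrictD V.ι).mapIso e)⟩

theorem isPseudoCoherentD_mono {m m' : ℤ} {K : DCoh.D X} (hm : m ≤ m')
    (h : DCoh.IsPseudoCoherentD m K) : DCoh.IsPseudoCoherentD m' K := by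
  rw [isPseudoCoherentD_iff] at h ⊢
  intro x
  obtain ⟨V, hx, hV⟩ := h x
  exact ⟨V, hx, hV.mono hm⟩

theorem isPseudoCoherentD_shift {m m' : ℤ} {K : DCoh.D X} (h : DCoh.IsPseudoCoherentD m K) (n : ℤ)
    (hm : m - n ≤ m') : DCoh.IsPseudoCoherentD m' (K⟦n⟧) := by
  rw [isPseudoCoherentD_iff] at h ⊢
  intro x
  obtain ⟨V, hx, hV⟩ := h x
  exact ⟨V, hx, ((hV.shift n).mono hm).of_iso (((DCoh.restrictD V.ι).commShiftIso n).app K).symm⟩

theorem isPerfect_shift {K : DCoh.D X} (h : DCoh.IsPerfect K) (n : ℤ) :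
    DCoh.IsPerfect (K⟦n⟧) := by
  rw [isPerfect_iff] at h ⊢
  intro x
  obtain ⟨V, hx, hV⟩ := h x
  exact ⟨V, hx, (hV.shift n).of_iso (((DCoh.restrictD V.ι).commShiftIso n).app K).symm⟩

theorem isPseudoCoherentD_obj₂ {m : ℤ} (T : Triangle (DCoh.D X)) (hT : T ∈ distTriang _)
    (h₁ : DCoh.IsPseudoCoherentD m T.obj₁) (h₃ : DCoh.IsPseudoCoherentD m T.obj₃) :
    DCoh.IsPseudoCoherentD m T.obj₂ :=
  isPseudoCoherentD_obj₃ T.invRotate (inv_rot_of_distTriang T hT)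
    (isPseudoCoherentD_shift h₃ (-1) (by omega)) h₁

theorem isPseudoCoherentD_obj₁ {m : ℤ} (T : Triangle (DCoh.D X)) (hT : T ∈ distTriang _)
    (h₂ : DCoh.IsPseudoCoherentD (m + 1) T.obj₂) (h₃ : DCoh.IsPseudoCoherentD m T.obj₃) :
    DCoh.IsPseudoCoherentD (m + 1) T.obj₁ :=
  isPseudoCoherentD_iso ((shiftEquiv (DCoh.D X) (1 : ℤ)).unitIso.app T.obj₁).symm
    (isPseudoCoherentD_shift (isPseudoCoherentD_obj₃ T.rotate (rot_of_distTriang T hT) h₂ h₃) (-1)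
      (by omega))

theorem isPerfect_obj₃ (T : Triangle (DCoh.D X)) (hT : T ∈ distTriang _)
    (h₁ : DCoh.IsPerfect T.obj₁) (h₂ : DCoh.IsPerfect T.obj₂) : DCoh.IsPerfect T.obj₃ := by
  refine isPerfect_of_local fun x => ?_
  obtain ⟨V₁, hx₁, hV₁⟩ := (isPerfect_iff _).1 h₁ x
  obtain ⟨V₂, hx₂, hV₂⟩ := (isPerfect_iff _).1 h₂ x
  obtain ⟨V, l₁, l₂, hxV⟩ : ∃ V : X.Opens, V ≤ V₁ ∧ V ≤ V₂ ∧ x ∈ V :=
    ⟨V₁ ⊓ V₂, inf_le_left, inf_le_right, hx₁, hx₂⟩
  obtain ⟨A, hA, ⟨a⟩⟩ := perfOn_mono_open l₁ hV₁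
  obtain ⟨B, hB, ⟨b⟩⟩ := perfOn_mono_open l₂ hV₂
  let R := DCoh.restrictD V.ι
  let T₁ := R.mapTriangle.obj T
  have hT₁ : T₁ ∈ distTriang _ := R.map_distinguished T hT
  obtain ⟨O, hO, β, hβ⟩ := exists_open_represent hA (a.hom ≫ T₁.mor₁ ≫ b.inv) (⟨x, hxV⟩ : V)
  refine ⟨O, O.ι ≫ V.ι, inferInstance, ⟨_, hO⟩, rfl, ?_⟩
  let R'' := DCoh.restrictD O.ι
  have hT₂ := R''.map_distinguished _ hT₁
  let i := isoTriangleOfIso₁₂ _ _ (DerivedCategory.mappingCone_triangle_distinguished β) hT₂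
    ((restrictDQ O.ι A).symm ≪≫ R''.mapIso a) ((restrictDQ O.ι B).symm ≪≫ R''.mapIso b)
    (show DerivedCategory.Q.map β ≫ ((restrictDQ O.ι B).inv ≫ R''.map b.hom) =
      ((restrictDQ O.ι A).inv ≫ R''.map a.hom) ≫ R''.map T₁.mor₁ by
      have hQ : DerivedCategory.Q.map β = (restrictDQ O.ι A).inv ≫
          R''.map (a.hom ≫ T₁.mor₁ ≫ b.inv) ≫ (restrictDQ O.ι B).hom := by
        rw [show R''.map (a.hom ≫ T₁.mor₁ ≫ b.inv) = _ from hβ]
        simp [restrictDQ]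
      simp only [hQ, Category.assoc, Iso.hom_inv_id_assoc]
      rw [← Functor.map_comp, ← Functor.map_comp]
      exact congrArg (fun t => (restrictDQ O.ι A).inv ≫ R''.map t)
        (((Category.assoc _ _ _).trans (congrArg (a.hom ≫ ·) (Category.assoc _ _ _))).trans
          (congrArg (a.hom ≫ ·) ((congrArg (T₁.mor₁ ≫ ·) b.inv_hom_id).trans (Category.comp_id _)))))
  rw [isPerfect_iff]
  exact fun z => ⟨⊤, trivial, PerfOn.restrict _ (K := (DCoh.restrictD (O.ι ≫ V.ι)).obj T.obj₃)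
    ⟨_, isStrictlyPerfect_mappingCone β (isStrictlyPerfect_restrict O.ι hA)
      (isStrictlyPerfect_restrict O.ι hB),
      ⟨Triangle.π₃.mapIso i ≪≫ ((restrictDComp O.ι V.ι).app T.obj₃).symm⟩⟩⟩

theorem isPerfect_obj₂ (T : Triangle (DCoh.D X)) (hT : T ∈ distTriang _)
    (h₁ : DCoh.IsPerfect T.obj₁) (h₃ : DCoh.IsPerfect T.obj₃) : DCoh.IsPerfect T.obj₂ :=
  isPerfect_obj₃ T.invRotate (inv_rot_of_distTriang T hT) (isPerfect_shift h₃ (-1)) h₁

theorem isPerfect_obj₁ (T : Triangle (DCoh.D X)) (hT : T ∈ distTriang _)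
    (h₂ : DCoh.IsPerfect T.obj₂) (h₃ : DCoh.IsPerfect T.obj₃) : DCoh.IsPerfect T.obj₁ :=
  isPerfect_iso ((shiftEquiv (DCoh.D X) (1 : ℤ)).unitIso.app T.obj₁).symm
    (isPerfect_shift (isPerfect_obj₃ T.rotate (rot_of_distTriang T hT) h₂ h₃) (-1))

end Groth.Agent.DCohLib
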