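import Groth.Agent.DCohLib.MVTriangle

/-!
# The Mayer-Vietoris triangle for extensions by zero
-/

set_option autoImplicit false
set_option linter.style.haveILetI false

universe u v w

open CategoryTheory CategoryTheory.Limits AlgebraicGeometry TopologicalSpace
open CategoryTheory.Pretriangulated

attribute [local instance] HasDerivedCategory.standard

noncomputable section

namespace Groth.Agent.DCohLib

section Test

variable {A : Type w} [Category.{v} A] [Abelian A] [EnoughInjectives A]

/-- Short exactness can be tested with maps into injectives. -/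
theorem shortExact_of_injective_test (S : ShortComplex A)
    (h₁ : ∀ (I : A), Injective I → ∀ φ : S.X₁ ⟶ I, ∃ w : S.X₂ ⟶ I, S.f ≫ w = φ)
    (h₂ : ∀ (I : A), Injective I → ∀ w : S.X₂ ⟶ I, S.f ≫ w = 0 → ∃ v : S.X₃ ⟶ I, S.g ≫ v = w)
    (h₃ : ∀ (I : A), Injective I → ∀ v : S.X₃ ⟶ I, S.g ≫ v = 0 → v = 0) : S.ShortExact := by
  haveI : Mono S.f := by
    obtain ⟨w, hw⟩ := h₁ _ inferInstance (Injective.ι S.X₁)
    exact mono_of_mono_fac hw
  haveI : Epi S.g := Preadditive.epi_of_cancel_zero _ fun {P} h hh =>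
    (cancel_mono (Injective.ι P)).1 ((h₃ _ inferInstance _ (by rw [← Category.assoc, hh, zero_comp])).trans
      zero_comp.symm)
  refine { exact := ?_, mono_f := inferInstance, epi_g := inferInstance }
  rw [S.exact_iff_kernel_ι_comp_cokernel_π_zero, ← cancel_mono (Injective.ι (cokernel S.f)), zero_comp]
  obtain ⟨v, hv⟩ := h₂ _ inferInstance (cokernel.π S.f ≫ Injective.ι (cokernel S.f))
    (by rw [← Category.assoc, cokernel.condition, zero_comp])
  rw [Category.assoc, ← hv, kernel.condition_assoc, zero_comp]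

end Test

variable {X : Scheme.{u}}

/-- `M ↦ j_! (M|_W)`. -/
abbrev jl (W : X.Opens) : X.Modules ⥤ X.Modules :=
  Scheme.Modules.restrictFunctor W.ι ⋙ CxOX.extZero W.ι

/-- `j_! j^*` is left adjoint to `j_* j^*`. -/
def jlAdj (W : X.Opens) : jl W ⊣ jj W :=
  (Scheme.Modules.restrictAdjunction W.ι).comp (CxOX.extZeroAdj W.ι)

/-- The inclusion of `j'_!` in `j_!`. -/
def rhoL {W' W : X.Opens} (h : W' ≤ W) : jl W' ⟶ jl W :=
  (conjugateEquiv (jlAdj W) (jlAdj W')).symm (rho h)

/-- The counit `j_! j^* ⟶ 𝟭`. -/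
def jlCounit (W : X.Opens) : jl W ⟶ 𝟭 X.Modules :=
  (conjugateEquiv Adjunction.id (jlAdj W)).symm (jjUnit W)

theorem homEquiv_mate {L₁ L₂ R₁ R₂ : X.Modules ⥤ X.Modules} (adj₁ : L₁ ⊣ R₁) (adj₂ : L₂ ⊣ R₂)
    (β : R₁ ⟶ R₂) {M I : X.Modules} (g : L₁.obj M ⟶ I) :
    adj₂.homEquiv M I (((conjugateEquiv adj₁ adj₂).symm β).app M ≫ g) = adj₁.homEquiv M I g ≫ β.app I := by
  rw [adj₂.homEquiv_unit, adj₁.homEquiv_unit, Functor.map_comp, ← Category.assoc,
    ← unit_conjugateEquiv_symm, Category.assoc, ← β.naturality, Category.assoc]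

theorem homEquiv_rhoL {W' W : X.Opens} (h : W' ≤ W) {M I : X.Modules} (g : (jl W).obj M ⟶ I) :
    (jlAdj W').homEquiv M I ((rhoL h).app M ≫ g) = (jlAdj W).homEquiv M I g ≫ (rho h).app I :=
  homEquiv_mate (jlAdj W) (jlAdj W') (rho h) g

theorem homEquiv_jlCounit (W : X.Opens) {M I : X.Modules} (v : M ⟶ I) :
    (jlAdj W).homEquiv M I ((jlCounit W).app M ≫ v) = v ≫ (jjUnit W).app I := by
  refine (homEquiv_mate Adjunction.id (jlAdj W) (jjUnit W) (M := M) (I := I) v).trans ?_
  exact congrArg (· ≫ (jjUnit W).app I) (((Adjunction.id).homEquiv_unit M I v).trans (Category.id_comp _))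

/-- The middle term of the dual Mayer-Vietoris sequence. -/
def mvMidL (U V : X.Opens) : X.Modules ⥤ X.Modules where
  obj M := (jl U).obj M ⊞ (jl V).obj M
  map g := biprod.map ((jl U).map g) ((jl V).map g)
  map_id M := by apply biprod.hom_ext <;> simp
  map_comp g g' := by apply biprod.hom_ext <;> simp

instance additive_mvMidL (U V : X.Opens) : (mvMidL U V).Additive where
  map_add {M N f g} := by
    show biprod.map _ _ = biprod.map _ _ + biprod.map _ _
    refine biprod.hom_ext _ _ ?_ ?_ <;>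
      refine Eq.trans ?_ (Preadditive.add_comp _ _ _ _ _ _).symm <;> simp

/-- The first map of the dual Mayer-Vietoris sequence. -/
def mvLA (U V : X.Opens) : jl (U ⊓ V) ⟶ mvMidL U V where
  app M := biprod.lift ((rhoL inf_le_left).app M) (-(rhoL inf_le_right).app M)
  naturality {M N} g := by
    have h1 := (rhoL (inf_le_left : U ⊓ V ≤ U)).naturality g
    have h2 := (rhoL (inf_le_right : U ⊓ V ≤ V)).naturality g
    simp only [Functor.comp_map] at h1 h2
    apply biprod.hom_ext <;> simp [mvMidL, h1, h2]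

/-- The second map of the dual Mayer-Vietoris sequence. -/
def mvLB (U V : X.Opens) : mvMidL U V ⟶ 𝟭 X.Modules where
  app M := biprod.desc ((jlCounit U).app M) ((jlCounit V).app M)
  naturality {M N} g := by
    have h1 := (jlCounit U).naturality g
    have h2 := (jlCounit V).naturality g
    simp only [Functor.comp_map, Functor.id_map] at h1 h2
    apply biprod.hom_ext' <;> simp [mvMidL, h1, h2]

theorem mvLA_mvLB (U V : X.Opens) : mvLA U V ≫ mvLB U V = 0 := by
  refine NatTrans.ext (funext fun M => ?_)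
  simp only [NatTrans.comp_app, mvLA, mvLB, NatTrans.app_zero]
  refine biprod.lift_desc.trans ((jlAdj (U ⊓ V)).homEquiv M _ |>.injective ?_)
  haveI := (jlAdj (U ⊓ V)).right_adjoint_additive
  rw [Adjunction.homEquiv_unit, Adjunction.homEquiv_unit, Preadditive.neg_comp, Functor.map_add,
    Functor.map_neg, Preadditive.comp_add, Preadditive.comp_neg, Functor.map_zero, comp_zero]
  rw [← Adjunction.homEquiv_unit, ← Adjunction.homEquiv_unit, homEquiv_rhoL, homEquiv_rhoL]
  have h1 := congr_app (rho_unit (inf_le_left : U ⊓ V ≤ U)) M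
  have h2 := congr_app (rho_unit (inf_le_right : U ⊓ V ≤ V)) M
  have e1 := (homEquiv_jlCounit U (𝟙 M)).trans (Category.id_comp _)
  have e2 := (homEquiv_jlCounit V (𝟙 M)).trans (Category.id_comp _)
  have e1' := (congrArg ((jlAdj U).homEquiv M M) (Category.comp_id ((jlCounit U).app M))).symm.trans e1
  have e2' := (congrArg ((jlAdj V).homEquiv M M) (Category.comp_id ((jlCounit V).app M))).symm.trans e2
  erw [e1', e2']
  exact (sub_eq_add_neg _ _).symm.trans (sub_eq_zero.2 (h1.trans h2.symm))

theorem shortExact_mvLSeq (U V : X.Opens) (hUV : U ⊔ V = ⊤) (M : X.Modules) :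
    (ShortComplex.mk ((mvLA U V).app M) ((mvLB U V).app M) (congr_app (mvLA_mvLB U V) M)).ShortExact := by
  haveI : IsGrothendieckAbelian.{u} X.Modules := inferInstance
  haveI := (jlAdj (U ⊓ V)).right_adjoint_additive
  have key : ∀ (I : X.Modules) (a : (jl U).obj M ⟶ I) (b : (jl V).obj M ⟶ I),
      (jlAdj (U ⊓ V)).homEquiv M I
        (biprod.lift ((rhoL inf_le_left).app M) (-(rhoL inf_le_right).app M) ≫ biprod.desc a b) =
      biprod.lift ((jlAdj U).homEquiv M I a) ((jlAdj V).homEquiv M I b) ≫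
        biprod.desc ((rho (inf_le_left : U ⊓ V ≤ U)).app I) (-(rho (inf_le_right : U ⊓ V ≤ V)).app I) := by
    intro I a b
    rw [biprod.lift_desc, biprod.lift_desc, Adjunction.homEquiv_unit, Preadditive.neg_comp, Functor.map_add,
      Functor.map_neg, Preadditive.comp_add, Preadditive.comp_neg, Preadditive.comp_neg,
      ← Adjunction.homEquiv_unit, ← Adjunction.homEquiv_unit, homEquiv_rhoL, homEquiv_rhoL]
  refine shortExact_of_injective_test _ (fun I hI φ => ?_) (fun I hI w hw => ?_) (fun I hI v hv => ?_)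
  · haveI := hI
    have hS := shortExact_mvSeq U V hUV I
    let s := hS.splittingOfInjective
    let t : M ⟶ (jj U).obj I ⊞ (jj V).obj I := (jlAdj (U ⊓ V)).homEquiv M I φ ≫ s.s
    refine ⟨biprod.desc (((jlAdj U).homEquiv M I).symm (t ≫ biprod.fst))
      (((jlAdj V).homEquiv M I).symm (t ≫ biprod.snd)), ((jlAdj (U ⊓ V)).homEquiv M I).injective ?_⟩
    refine (key I _ _).trans ?_
    rw [Equiv.apply_symm_apply, Equiv.apply_symm_apply]
    refine (congrArg (· ≫ _) (show biprod.lift (t ≫ biprod.fst) (t ≫ biprod.snd) = t by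
      apply biprod.hom_ext <;> simp)).trans ?_
    exact (Category.assoc _ _ _).trans ((congrArg (_ ≫ ·) s.s_g).trans (Category.comp_id _))
  · haveI := hI
    obtain ⟨a, b, rfl⟩ : ∃ (a : (jl U).obj M ⟶ I) (b : (jl V).obj M ⟶ I), biprod.desc a b = w :=
      ⟨biprod.inl ≫ w, biprod.inr ≫ w, biprod.hom_ext' _ _ (biprod.inl_desc _ _) (biprod.inr_desc _ _)⟩
    have h0 := (key I a b).symm.trans ((congrArg ((jlAdj (U ⊓ V)).homEquiv M I) hw).trans
      (by rw [Adjunction.homEquiv_unit, Functor.map_zero, comp_zero]))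
    have hS := shortExact_mvSeq U V hUV I
    haveI := hS.mono_f
    let v := hS.exact.lift _ h0
    have hv : v ≫ biprod.lift ((jjUnit U).app I) ((jjUnit V).app I) = _ := hS.exact.lift_f _ h0
    refine ⟨v, biprod.hom_ext' _ _ ?_ ?_⟩
    · refine (((Category.assoc _ _ _).symm.trans (congrArg (· ≫ v) (biprod.inl_desc _ _))).trans
        ((jlAdj U).homEquiv M I |>.injective ?_)).trans (biprod.inl_desc _ _).symm
      refine (homEquiv_jlCounit U v).trans ?_
      have h := congrArg (· ≫ biprod.fst) hv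
      simpa using h
    · refine (((Category.assoc _ _ _).symm.trans (congrArg (· ≫ v) (biprod.inr_desc _ _))).trans
        ((jlAdj V).homEquiv M I |>.injective ?_)).trans (biprod.inr_desc _ _).symm
      refine (homEquiv_jlCounit V v).trans ?_
      have h := congrArg (· ≫ biprod.snd) hv
      simpa using h
  · haveI := mono_mvA U V hUV I
    rw [← cancel_mono ((mvA U V).app I), zero_comp]
    show v ≫ biprod.lift _ _ = 0
    haveI := (jlAdj U).right_adjoint_additive
    haveI := (jlAdj V).right_adjoint_additive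
    have hu : (jlCounit U).app M ≫ v = 0 :=
      ((congrArg (· ≫ v) (biprod.inl_desc _ _).symm).trans (Category.assoc _ _ _)).trans
        ((congrArg (biprod.inl ≫ ·) hv).trans comp_zero)
    have hw : (jlCounit V).app M ≫ v = 0 :=
      ((congrArg (· ≫ v) (biprod.inr_desc _ _).symm).trans (Category.assoc _ _ _)).trans
        ((congrArg (biprod.inr ≫ ·) hv).trans comp_zero)
    apply biprod.hom_ext <;> rw [Category.assoc, zero_comp]
    · rw [biprod.lift_fst]
      refine (homEquiv_jlCounit U v).symm.trans ?_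
      refine (congrArg ((jlAdj U).homEquiv M I) hu).trans ?_
      rw [Adjunction.homEquiv_unit, Functor.map_zero, comp_zero]
    · rw [biprod.lift_snd]
      refine (homEquiv_jlCounit V v).symm.trans ?_
      refine (congrArg ((jlAdj V).homEquiv M I) hw).trans ?_
      rw [Adjunction.homEquiv_unit, Functor.map_zero, comp_zero]

/-- The Mayer-Vietoris triangle for extensions by zero. -/
theorem exists_mv_triangle_extZero (U V : X.Opens) (hUV : U ⊔ V = ⊤)
    [PreservesFiniteLimits (CxOX.extZero U.ι)] [PreservesFiniteLimits (CxOX.extZero V.ι)]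
    [PreservesFiniteLimits (CxOX.extZero (U ⊓ V).ι)] (E : DCoh.D X) :
    ∃ (a : (CxOX.extZeroD (U ⊓ V).ι).obj ((DCoh.restrictD (U ⊓ V).ι).obj E) ⟶ ((CxOX.extZeroD U.ι).obj ((DCoh.restrictD U.ι).obj E) ⊞ (CxOX.extZeroD V.ι).obj ((DCoh.restrictD V.ι).obj E))) (b : ((CxOX.extZeroD U.ι).obj ((DCoh.restrictD U.ι).obj E) ⊞ (CxOX.extZeroD V.ι).obj ((DCoh.restrictD V.ι).obj E)) ⟶ E) (c : E ⟶ ((CxOX.extZeroD (U ⊓ V).ι).obj ((DCoh.restrictD (U ⊓ V).ι).obj E))⟦(1 : ℤ)⟧),
      Triangle.mk a b c ∈ distinguishedTriangles := by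
  let F := DerivedCategory.Q.objPreimage E
  let eE := DerivedCategory.Q.objObjPreimageIso E
  let C := ComplexShape.up ℤ
  have h : ∀ W : X.Opens, [PreservesFiniteLimits (CxOX.extZero W.ι)] → Nonempty
      (DerivedCategory.Q.obj (((jl W).mapHomologicalComplex C).obj F) ≅
        (CxOX.extZeroD W.ι).obj ((DCoh.restrictD W.ι).obj E)) := fun W _ =>
    ⟨((CxOX.extZero W.ι).mapDerivedCategoryFactors.app ((resCx W.ι).obj F)).symm ≪≫
      (CxOX.extZeroD W.ι).mapIso ((restrictDQ W.ι F).symm ≪≫ (DCoh.restrictD W.ι).mapIso eE)⟩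
  obtain ⟨eU⟩ := h U
  obtain ⟨eV⟩ := h V
  obtain ⟨e₁⟩ := h (U ⊓ V)
  haveI : (jl (U ⊓ V)).PreservesZeroMorphisms := inferInstance
  let S : ShortComplex (CochainComplex X.Modules ℤ) :=
    ShortComplex.mk ((NatTrans.mapHomologicalComplex (mvLA U V) C).app F)
      ((NatTrans.mapHomologicalComplex (mvLB U V) C).app F ≫ (Functor.mapHomologicalComplexIdIso _ C).hom.app F)
      (HomologicalComplex.hom_ext _ _ fun n =>
        (Category.assoc _ _ _).symm.trans (((congrArg (· ≫ _) (congr_app (mvLA_mvLB U V) (F.X n)))).trans zero_comp))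
  have hS : S.ShortExact := HomologicalComplex.shortExact_of_degreewise_shortExact _ fun n =>
    ShortComplex.shortExact_of_iso (ShortComplex.isoMk (Iso.refl _) (Iso.refl _) (Iso.refl _)
      (by simp [S]) (by simp [S])) (shortExact_mvLSeq U V hUV (F.X n))
  let inl' : jl U ⟶ mvMidL U V := { app := fun M => biprod.inl, naturality := fun _ _ g => (biprod.inl_map _ _).symm }
  let inr' : jl V ⟶ mvMidL U V := { app := fun M => biprod.inr, naturality := fun _ _ g => (biprod.inr_map _ _).symm }
  let fst' : mvMidL U V ⟶ jl U := { app := fun M => biprod.fst, naturality := fun _ _ g => biprod.map_fst _ _ }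
  let snd' : mvMidL U V ⟶ jl V := { app := fun M => biprod.snd, naturality := fun _ _ g => biprod.map_snd _ _ }
  refine exists_triangle_of_bicone hS
    ((NatTrans.mapHomologicalComplex inl' C).app F) ((NatTrans.mapHomologicalComplex inr' C).app F)
    ((NatTrans.mapHomologicalComplex fst' C).app F) ((NatTrans.mapHomologicalComplex snd' C).app F)
    ?_ ?_ ?_ ?_ ?_ e₁.symm eU eV eE
  · exact HomologicalComplex.hom_ext _ _ fun n =>
      biprod.inl_fst (X := (jl U).obj (F.X n)) (Y := (jl V).obj (F.X n))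
  · exact HomologicalComplex.hom_ext _ _ fun n =>
      biprod.inl_snd (X := (jl U).obj (F.X n)) (Y := (jl V).obj (F.X n))
  · exact HomologicalComplex.hom_ext _ _ fun n =>
      biprod.inr_fst (X := (jl U).obj (F.X n)) (Y := (jl V).obj (F.X n))
  · exact HomologicalComplex.hom_ext _ _ fun n =>
      biprod.inr_snd (X := (jl U).obj (F.X n)) (Y := (jl V).obj (F.X n))
  · exact HomologicalComplex.hom_ext _ _ fun n =>
      biprod.total (X := (jl U).obj (F.X n)) (Y := (jl V).obj (F.X n))

end Groth.Agent.DCohLib
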