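import Groth.Agent.DCohLib.CompactLocal
import Groth.Agent.DCohLib.LocFreeCx
import Groth.Agent.DCohLib.MVExtZero
import Groth.Agent.DCohLib.SuppOpen
import Groth.Agent.KInj.Products

/-!
# Perfect objects absorb partial sums of bounded below families
-/

set_option autoImplicit false
set_option linter.style.haveILetI false

universe u w

open CategoryTheory CategoryTheory.Limits AlgebraicGeometry TopologicalSpace
open CategoryTheory.Pretriangulated

attribute [local instance] HasDerivedCategory.standard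

noncomputable section

namespace Groth.Agent.DCohLib

variable {X Y : Scheme.{u}} {ι : Type w}

theorem absorbs_congr {D : Type*} [Category D] [Preadditive D] {A B : D} (e : A ≅ B)
    {P : Finset ι → (A ⟶ A)} {P' : Finset ι → (B ⟶ B)} (he : ∀ T, P T ≫ e.hom = e.hom ≫ P' T)
    {x : D} (h : Absorbs P' x) : Absorbs P x := fun f => by
  obtain ⟨T, hT⟩ := h (f ≫ e.hom)
  exact ⟨T, by rw [← cancel_mono e.hom, Category.assoc, he, ← Category.assoc, hT]⟩

theorem quotM_eq_of_Q_map_eq {A J : CochainComplex X.Modules ℤ} [J.IsKInjective] {g g' : A ⟶ J}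
    (h : DerivedCategory.Q.map g = DerivedCategory.Q.map g') : (quotM X).map g = (quotM X).map g' := by
  have n1 := fun k : A ⟶ J => (DerivedCategory.quotientCompQhIso X.Modules).hom.naturality k
  dsimp only [Functor.comp_map] at n1
  refine (CochainComplex.IsKInjective.Qh_map_bijective ((quotM X).obj A) J).injective ?_
  rw [← cancel_mono ((DerivedCategory.quotientCompQhIso X.Modules).hom.app J), n1, n1, h]

/-- A coproduct of complexes represents the coproduct in the derived category. -/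
theorem nonempty_isColimit_Q (M : ι → DCoh.D X) {F : ι → CochainComplex X.Modules ℤ} {c₀ : Cofan F}
    (hc₀ : IsColimit c₀) (eM : ∀ i, M i ≅ DerivedCategory.Q.obj (F i)) [HasCoproductsOfShape ι X.Modules] :
    Nonempty (IsColimit (Cofan.mk (f := M) (DerivedCategory.Q.obj c₀.pt)
      fun i => (eM i).hom ≫ DerivedCategory.Q.map (c₀.inj i))) := by
  have key : ∀ (Z : DCoh.D X) (k : ∀ i, M i ⟶ Z), ∃! m : DerivedCategory.Q.obj c₀.pt ⟶ Z,
      ∀ i, ((eM i).hom ≫ DerivedCategory.Q.map (c₀.inj i)) ≫ m = k i := by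
    intro Z k
    obtain ⟨R, hR, -, ⟨e⟩⟩ := exists_injective_resolution X Z
    haveI := hR
    choose g hg using fun i => exists_Q_map_kinj ((eM i).inv ≫ k i ≫ e.hom)
    let G := Cofan.IsColimit.desc hc₀ g
    have hG : ∀ i, c₀.inj i ≫ G = g i := fun i => Cofan.IsColimit.fac hc₀ g i
    refine ⟨DerivedCategory.Q.map G ≫ e.inv, fun i => ?_, fun m hm => ?_⟩
    · rw [Category.assoc, ← Functor.map_comp_assoc, hG, hg, Category.assoc, Category.assoc, e.hom_inv_id,
        Category.comp_id, Iso.hom_inv_id_assoc]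
    · obtain ⟨G', hG'⟩ := exists_Q_map_kinj (m ≫ e.hom)
      obtain ⟨H⟩ := Groth.Agent.KInj.homotopic_zero_of_coproduct hc₀ (G' - G) fun i => by
        have h1 : (quotM X).map (c₀.inj i ≫ G') = (quotM X).map (c₀.inj i ≫ G) := quotM_eq_of_Q_map_eq (by
          rw [hG, hg, DerivedCategory.Q.map_comp, hG', ← hm i]
          simp)
        refine ⟨(Homotopy.ofEq (Preadditive.comp_sub _ _ _)).trans
          (Homotopy.equivSubZero (HomotopyCategory.homotopyOfEq _ _ h1))⟩
      rw [← cancel_mono e.hom, ← hG', Category.assoc, e.inv_hom_id, Category.comp_id]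
      exact DerivedCategory.Q_map_eq_of_homotopy _ (Homotopy.equivSubZero.symm H)
  choose m hm hu using fun (s : Cofan M) => key s.pt s.inj
  exact ⟨mkCofanColimit _ m hm hu⟩

variable (X) in
/-- Restriction along the identity is the identity on derived categories. -/
def restrictDId : DCoh.restrictD (𝟙 X) ≅ 𝟭 (DCoh.D X) :=
  letI : Localization.Lifting DerivedCategory.Q (HomologicalComplex.quasiIso X.Modules (ComplexShape.up ℤ))
      (resCx (𝟙 X) ⋙ DerivedCategory.Q) (DCoh.restrictD (𝟙 X)) :=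
    ⟨(Scheme.Modules.restrictFunctor (𝟙 X)).mapDerivedCategoryFactors⟩
  letI : Localization.Lifting DerivedCategory.Q (HomologicalComplex.quasiIso X.Modules (ComplexShape.up ℤ))
      DerivedCategory.Q (𝟭 (DCoh.D X)) := ⟨Functor.rightUnitor _⟩
  Localization.liftNatIso DerivedCategory.Q (HomologicalComplex.quasiIso X.Modules (ComplexShape.up ℤ))
    (resCx (𝟙 X) ⋙ DerivedCategory.Q) DerivedCategory.Q _ _
    (Functor.isoWhiskerRight (NatIso.mapHomologicalComplex Scheme.Modules.restrictFunctorId (ComplexShape.up ℤ) ≪≫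
      Functor.mapHomologicalComplexIdIso _ _) _ ≪≫ Functor.leftUnitor _)

/-- The object over `j` is represented by a bounded complex of finite free modules. -/
def FreeModel (x : DCoh.D Y) : Prop :=
  ∃ E : CochainComplex Y.Modules ℤ, (∃ a b : ℤ, DCoh.VanishesOutside E a b) ∧
    (∀ i : ℤ, ∃ n : ℕ, Nonempty (E.X i ≅ FlatMod.freeMod Y n)) ∧ Nonempty (DerivedCategory.Q.obj E ≅ x)

theorem FreeModel.of_iso {x y : DCoh.D Y} (h : FreeModel x) (e : x ≅ y) : FreeModel y := by
  obtain ⟨E, h1, h2, ⟨i⟩⟩ := h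
  exact ⟨E, h1, h2, ⟨i ≪≫ e⟩⟩

theorem FreeModel.restrict {U : Scheme.{u}} (l : U ⟶ Y) [IsOpenImmersion l] {x : DCoh.D Y} (h : FreeModel x) :
    FreeModel ((DCoh.restrictD l).obj x) := by
  obtain ⟨E, ⟨a, b, hab⟩, h2, ⟨i⟩⟩ := h
  refine ⟨(resCx l).obj E, ⟨a, b, fun k hk => isZero_resCx l (hab k hk)⟩, fun k => ?_,
    ⟨(restrictDQ l E).symm ≪≫ (DCoh.restrictD l).mapIso i⟩⟩
  obtain ⟨n, ⟨e⟩⟩ := h2 k
  exact ⟨n, ⟨(Scheme.Modules.restrictFunctor l).mapIso e ≪≫ restrictFreeMod l n⟩⟩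

theorem FreeModel.shift {x : DCoh.D Y} (h : FreeModel x) (n : ℤ) : FreeModel (x⟦n⟧) := by
  obtain ⟨E, ⟨a, b, hab⟩, h2, ⟨i⟩⟩ := h
  exact ⟨E⟦n⟧, ⟨a - n, b - n, fun k hk => hab (k + n) (by omega)⟩, fun k => h2 (k + n),
    ⟨((DerivedCategory.Q).commShiftIso n).app E ≪≫ (shiftFunctor (DCoh.D Y) n).mapIso i⟩⟩

theorem exists_freeModel_chart {K : DCoh.D X} (hK : DCoh.IsPerfect K) (x : X) :
    ∃ V : X.Opens, x ∈ V ∧ IsCompact (V : Set X) ∧ FreeModel ((DCoh.restrictD V.ι).obj K) := by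
  obtain ⟨V, hx, h⟩ := (isPerfect_iff_free K).1 hK x
  obtain ⟨W, hle, hxW, hW⟩ := exists_qc_le hx
  exact ⟨W, hxW, hW, (FreeModel.restrict (X.homOfLE hle) h).of_iso ((restrictDLE hle).app K).symm⟩

variable (K : DCoh.D X) {M : ι → DCoh.D X} {c : Cofan M} (hc : IsColimit c)

/-- Maps from the shifts of `K` into the coproduct absorb partial sums over `j`. -/
def Good (j : Y ⟶ X) [IsOpenImmersion j] : Prop :=
  ∀ n : ℤ, Absorbs (fun T => (DCoh.restrictD j).map (sigmaTrunc hc T)) ((DCoh.restrictD j).obj (K⟦n⟧))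

variable {K} [QuasiSeparatedSpace X]

theorem good_of_freeModel {F : ι → CochainComplex X.Modules ℤ} (a : ℤ)
    (hinj : ∀ i n, Injective ((F i).X n)) (hge : ∀ i n, n < a → IsZero ((F i).X n))
    {c₀ : Cofan F} (hc₀ : IsColimit c₀) (eM : ∀ i, M i ≅ DerivedCategory.Q.obj (F i))
    [HasCoproductsOfShape ι X.Modules]
    (j : Y ⟶ X) [IsOpenImmersion j] [CompactSpace Y] (hK : FreeModel ((DCoh.restrictD j).obj K)) :
    Good K hc j := by
  classical
  intro n
  haveI : QuasiSeparatedSpace Y := j.isOpenEmbedding.quasiSeparatedSpace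
  obtain ⟨hQ⟩ := nonempty_isColimit_Q M hc₀ eM
  let eQ : c.pt ≅ DerivedCategory.Q.obj c₀.pt := hc.coconePointUniqueUpToIso hQ
  have heQ : ∀ i, c.inj i ≫ eQ.hom = (eM i).hom ≫ DerivedCategory.Q.map (c₀.inj i) := fun i =>
    hc.comp_coconePointUniqueUpToIso_hom hQ ⟨i⟩
  have hT : ∀ T, sigmaTrunc hc T ≫ eQ.hom = eQ.hom ≫ DerivedCategory.Q.map (sigmaTrunc hc₀ T) := fun T => by
    refine Cofan.IsColimit.hom_ext hc _ _ fun i => ?_
    rw [← Category.assoc, inj_sigmaTrunc, reassoc_of% (heQ i), ← DerivedCategory.Q.map_comp, inj_sigmaTrunc]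
    split_ifs with h
    · exact heQ i
    · rw [zero_comp, Functor.map_zero, comp_zero]
  let hcn := fun k => isColimitCofanMkObjOfIsColimit (HomologicalComplex.eval X.Modules (ComplexShape.up ℤ) k) _ _
    (hc₀.ofIsoColimit (Cofan.ext (Iso.refl _) (by simp) : c₀ ≅ Cofan.mk c₀.pt c₀.inj))
  let P : Finset ι → ((resCx j).obj c₀.pt ⟶ (resCx j).obj c₀.pt) := fun T => (resCx j).map (sigmaTrunc hc₀ T)
  have hP : ∀ T T', T ⊆ T' → P T ≫ P T' = P T := fun T T' h => by
    simp only [P, ← Functor.map_comp, sigmaTrunc_comp_of_subset hc₀ h]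
  have hq : ∀ k, QcFlasque (((resCx j).obj c₀.pt).X k) := fun k =>
    qcFlasque_restrict j (qcFlasque_coproduct (hcn k) fun i => @qcFlasque_of_injective _ ((F i).X k) (hinj i k))
  have ha : ∀ k, k < a → IsZero (((resCx j).obj c₀.pt).X k) := fun k hk =>
    (Scheme.Modules.restrictFunctor j).map_isZero ((IsZero.iff_id_eq_zero _).2
      (Cofan.IsColimit.hom_ext (hcn k) _ _ fun i => (hge i k hk).eq_of_src _ _))
  have hsec : ∀ k (s : Γ(((resCx j).obj c₀.pt).X k, ⊤)), ∃ T, ((P T).f k).app ⊤ s = s := by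
    intro k s
    obtain ⟨T, hT'⟩ := exists_trunc_app (hcn k) (j ''ᵁ ⊤) (isCompact_univ.image j.continuous) s
    refine ⟨T, Eq.trans ?_ hT'⟩
    have h := map_sigmaTrunc hc₀ (HomologicalComplex.eval X.Modules (ComplexShape.up ℤ) k) (hcn k) (Iso.refl _)
      (fun i => Category.comp_id _) T
    rw [Iso.refl_hom, Category.comp_id, Category.id_comp] at h
    exact congr(($h).app (j ''ᵁ ⊤) s)
  have h0 := absorbs_free hq a ha P hP hsec
  obtain ⟨E, ⟨e₁, e₂, hE⟩, hfree, ⟨eE⟩⟩ := FreeModel.shift hK n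
  refine Absorbs.of_iso (eE ≪≫ ((DCoh.restrictD j).commShiftIso n).symm.app K) ?_
  refine absorbs_congr ((DCoh.restrictD j).mapIso eQ ≪≫ restrictDQ j c₀.pt) (fun T => ?_)
    (h0.of_free hE hfree)
  simp only [Iso.trans_hom, Functor.mapIso_hom, Category.assoc, ← Functor.map_comp_assoc, hT]
  rw [Functor.map_comp_assoc]
  refine congrArg (_ ≫ ·) ?_
  exact (Scheme.Modules.restrictFunctor j).mapDerivedCategoryFactors.hom.naturality (sigmaTrunc hc₀ T)

theorem absorbs_piece (j : Y ⟶ X) [IsOpenImmersion j] (U : Y.Opens) (h : Good K hc (U.ι ≫ j)) (m : ℤ) :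
    Absorbs (fun T => (DCoh.restrictD j).map (sigmaTrunc hc T))
      ((CxOX.extZeroD U.ι).obj ((DCoh.restrictD U.ι).obj ((DCoh.restrictD j).obj (K⟦m⟧)))) := by
  intro f
  obtain ⟨adj⟩ := nonempty_extZeroD_adj U
  have h' : Absorbs (fun T => (DCoh.restrictD U.ι).map ((DCoh.restrictD j).map (sigmaTrunc hc T)))
      ((DCoh.restrictD U.ι).obj ((DCoh.restrictD j).obj (K⟦m⟧))) :=
    (absorbs_congr ((restrictDComp U.ι j).app c.pt).symm
      (fun T => ((restrictDComp U.ι j).inv.naturality (sigmaTrunc hc T))) (h m)).of_iso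
      ((restrictDComp U.ι j).app _)
  obtain ⟨T, hT⟩ := h' (adj.homEquiv _ _ f)
  refine ⟨T, (adj.homEquiv _ _).injective ?_⟩
  rw [Adjunction.homEquiv_naturality_right]
  exact hT

theorem good_of_cover (j : Y ⟶ X) [IsOpenImmersion j] (U V : Y.Opens) (hUV : U ⊔ V = ⊤)
    (hU : Good K hc (U.ι ≫ j)) (hV : Good K hc (V.ι ≫ j)) (hI : Good K hc ((U ⊓ V).ι ≫ j)) :
    Good K hc j := by
  intro n
  have hP : ∀ T T', T ⊆ T' → (DCoh.restrictD j).map (sigmaTrunc hc T) ≫ (DCoh.restrictD j).map (sigmaTrunc hc T') =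
      (DCoh.restrictD j).map (sigmaTrunc hc T) := fun T T' h => by
    rw [← Functor.map_comp, sigmaTrunc_comp_of_subset hc h]
  let E := (DCoh.restrictD j).obj (K⟦n⟧)
  obtain ⟨a, b, d, hd⟩ := exists_mv_triangle_extZero U V hUV E
  refine absorbs_obj₂ hP _ (rot_of_distTriang _ hd) (absorbs_biprod hP (absorbs_piece hc j U hU n)
    (absorbs_piece hc j V hV n)) ?_
  refine (absorbs_piece hc j (U ⊓ V) hI (n + 1)).of_iso ?_
  let W := U ⊓ V
  exact (CxOX.extZeroD W.ι).mapIso ((DCoh.restrictD W.ι).mapIso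
      ((DCoh.restrictD j).mapIso ((shiftFunctorAdd' (DCoh.D X) n 1 (n + 1) rfl).app K) ≪≫
        ((DCoh.restrictD j).commShiftIso 1).app (K⟦n⟧)) ≪≫ ((DCoh.restrictD W.ι).commShiftIso 1).app E) ≪≫
    ((CxOX.extZeroD W.ι).commShiftIso 1).app ((DCoh.restrictD W.ι).obj E)

theorem isZero_of_isEmpty [IsEmpty Y] (x : DCoh.D Y) : IsZero x :=
  isZero_of_isZero_HD fun _ => isZero_of_stalks fun y => isEmptyElim y

theorem good_of_charts {F : ι → CochainComplex X.Modules ℤ} (a : ℤ)
    (hinj : ∀ i n, Injective ((F i).X n)) (hge : ∀ i n, n < a → IsZero ((F i).X n))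
    {c₀ : Cofan F} (hc₀ : IsColimit c₀) (eM : ∀ i, M i ≅ DerivedCategory.Q.obj (F i))
    [HasCoproductsOfShape ι X.Modules] (S : Finset X.Opens)
    (hS : ∀ V ∈ S, IsCompact (V : Set X) ∧ FreeModel ((DCoh.restrictD V.ι).obj K)) :
    ∀ {Y : Scheme.{u}} (j : Y ⟶ X) [IsOpenImmersion j] [CompactSpace Y],
      Set.range j ⊆ ((S.sup id : X.Opens) : Set X) → Good K hc j := by
  classical
  induction S using Finset.induction_on with
  | empty =>
    intro Y j _ _ h n
    haveI : IsEmpty Y := ⟨fun y => by simpa using h ⟨y, rfl⟩⟩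
    exact absorbs_of_isZero (isZero_of_isEmpty _)
  | insert V S hV ih =>
    intro Y j _ _ h
    obtain ⟨hVc, hVf⟩ := hS V (Finset.mem_insert_self V S)
    have hsub : ∀ {Z : Scheme.{u}} (l : Z ⟶ X) [IsOpenImmersion l] [CompactSpace Z],
        Set.range l ⊆ (V : Set X) → Good K hc l := fun {Z} l _ _ hl => by
      have hl' : Set.range l ⊆ Set.range V.ι := by simpa using hl
      let k := IsOpenImmersion.lift V.ι l hl'
      have hk : k ≫ V.ι = l := IsOpenImmersion.lift_fac _ _ _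
      haveI : IsOpenImmersion (k ≫ V.ι) := hk ▸ ‹IsOpenImmersion l›
      haveI : IsOpenImmersion k := IsOpenImmersion.of_comp k V.ι
      exact good_of_freeModel hc a hinj hge hc₀ eM l ((hVf.restrict k).of_iso
        ((restrictDCongr hk.symm ≪≫ restrictDComp k V.ι).app K).symm)
    let W : X.Opens := S.sup id
    have hWc : IsCompact (W : Set X) := by
      have : ∀ T : Finset X.Opens, (∀ O ∈ T, IsCompact (O : Set X)) → IsCompact ((T.sup id : X.Opens) : Set X) := by
        intro T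
        induction T using Finset.induction_on with
        | empty => intro _; simp
        | insert O T hO ih' =>
          intro hT
          rw [Finset.sup_insert]
          simpa using (hT O (Finset.mem_insert_self O T)).union (ih' fun O' hO' => hT O' (Finset.mem_insert_of_mem hO'))
      exact this S fun O hO => (hS O (Finset.mem_insert_of_mem hO)).1
    have hpre : ∀ O : X.Opens, IsCompact (O : Set X) → IsCompact ((j ⁻¹ᵁ O : Y.Opens) : Set Y) := fun O hO => by
      rw [j.isOpenEmbedding.isEmbedding.isInducing.isCompact_iff]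
      have : j '' ((j ⁻¹ᵁ O : Y.Opens) : Set Y) = (O : Set X) ∩ Set.range j := Set.image_preimage_eq_inter_range
      rw [this]
      exact QuasiSeparatedSpace.inter_isCompact _ _ O.2 hO j.isOpenEmbedding.isOpen_range
        (isCompact_range j.continuous)
    haveI : CompactSpace ((j ⁻¹ᵁ V : Y.Opens) : Scheme.{u}) := isCompact_iff_compactSpace.1 (hpre V hVc)
    haveI : CompactSpace ((j ⁻¹ᵁ W : Y.Opens) : Scheme.{u}) := isCompact_iff_compactSpace.1 (hpre W hWc)
    haveI : QuasiSeparatedSpace Y := j.isOpenEmbedding.quasiSeparatedSpace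
    haveI : CompactSpace ((j ⁻¹ᵁ V ⊓ j ⁻¹ᵁ W : Y.Opens) : Scheme.{u}) :=
      isCompact_iff_compactSpace.1 (isCompact_inf (hpre V hVc) (hpre W hWc))
    refine good_of_cover hc j (j ⁻¹ᵁ V) (j ⁻¹ᵁ W) (Opens.ext (Set.eq_univ_of_forall fun y => ?_)) (hsub _ ?_)
      (ih (fun O hO => hS O (Finset.mem_insert_of_mem hO)) _ ?_) (hsub _ ?_)
    · have := h ⟨y, rfl⟩
      rw [Finset.sup_insert] at this
      exact this
    · rintro _ ⟨y, rfl⟩
      exact y.2
    · rintro _ ⟨y, rfl⟩
      exact y.2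
    · rintro _ ⟨y, rfl⟩
      exact y.2.1

variable [CompactSpace X]

include hc in
/-- Perfect objects absorb partial sums of uniformly bounded below families. -/
theorem absorbs_of_isGE (hK : DCoh.IsPerfect K) {F : ι → CochainComplex X.Modules ℤ} (a : ℤ)
    (hinj : ∀ i n, Injective ((F i).X n)) (hge : ∀ i n, n < a → IsZero ((F i).X n))
    {c₀ : Cofan F} (hc₀ : IsColimit c₀) (eM : ∀ i, M i ≅ DerivedCategory.Q.obj (F i))
    [HasCoproductsOfShape ι X.Modules] : Absorbs (sigmaTrunc hc) K := by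
  classical
  choose V hx hV using fun x => exists_freeModel_chart hK x
  obtain ⟨t, ht⟩ := isCompact_univ.elim_finite_subcover (fun x : X => (V x : Set X)) (fun x => (V x).2)
    (fun y _ => Set.mem_iUnion.2 ⟨y, hx y⟩)
  have h := good_of_charts hc a hinj hge hc₀ eM (t.image V)
    (fun O hO => by
      obtain ⟨x, -, rfl⟩ := Finset.mem_image.1 hO
      exact hV x) (𝟙 X) (fun y _ => by
      obtain ⟨x, hx', hy⟩ := Set.mem_iUnion₂.1 (ht (Set.mem_univ y))
      exact (Finset.le_sup (f := id) (Finset.mem_image_of_mem V hx')) hy) 0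
  intro f
  let R := DCoh.restrictD (𝟙 X)
  haveI : R.Faithful := Functor.Faithful.of_iso (restrictDId X).symm
  obtain ⟨T, hT⟩ := h (R.map ((shiftFunctorZero (DCoh.D X) ℤ).hom.app K ≫ f))
  refine ⟨T, (cancel_epi ((shiftFunctorZero (DCoh.D X) ℤ).hom.app K)).1 (R.map_injective ?_)⟩
  rw [← Category.assoc, R.map_comp]
  exact hT

end Groth.Agent.DCohLib
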