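import Groth.Agent.DCohLib.MVTriangle

/-!
# Derived direct images of distinguished triangles and of products
-/

set_option autoImplicit false
set_option linter.style.haveILetI false

universe u v w

open CategoryTheory CategoryTheory.Limits AlgebraicGeometry TopologicalSpace
open CategoryTheory.Pretriangulated

attribute [local instance] HasDerivedCategory.standard

noncomputable section

namespace Groth.Agent.DCohLib

/-- The mapping cone of a map of K-injective complexes is K-injective. -/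
theorem isKInjective_mappingCone {A : Type w} [Category.{v} A] [Abelian A] {I J : CochainComplex A ℤ}
    (φ : I ⟶ J) [I.IsKInjective] [J.IsKInjective] : (CochainComplex.mappingCone φ).IsKInjective := by
  rw [CochainComplex.isKInjective_iff_rightOrthogonal]
  exact ObjectProperty.ext_of_isTriangulatedClosed₃ _ _
    (HomotopyCategory.mappingCone_triangleh_distinguished φ)
    (CochainComplex.IsKInjective.rightOrthogonal I) (CochainComplex.IsKInjective.rightOrthogonal J)

variable {X Y : Scheme.{u}} (f : X ⟶ Y) [DCoh.HasRpush f]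

theorem rpushInjIso_natural {I J : CochainComplex X.Modules ℤ} [I.IsKInjective] [J.IsKInjective] (ψ : I ⟶ J) :
    DerivedCategory.Q.map (((Scheme.Modules.pushforward f).mapHomologicalComplex (ComplexShape.up ℤ)).map ψ) ≫
        (rpushInjIso f J).hom =
      (rpushInjIso f I).hom ≫ (DCoh.Rpush f).map (DerivedCategory.Q.map ψ) := by
  have h1 := (DerivedCategory.quotientCompQhIso Y.Modules).inv.naturality
    (((Scheme.Modules.pushforward f).mapHomologicalComplex (ComplexShape.up ℤ)).map ψ)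
  have h2 := congrArg DerivedCategory.Qh.map
    (((Scheme.Modules.pushforward f).mapHomotopyCategoryFactors (ComplexShape.up ℤ)).inv.naturality ψ)
  have h3 := (rpushUnit f).naturality ((quotM X).map ψ)
  have h4 := congrArg (DCoh.Rpush f).map ((DerivedCategory.quotientCompQhIso X.Modules).hom.naturality ψ)
  simp only [CategoryTheory.Functor.map_comp] at h2 h4
  dsimp only [Functor.comp_map] at h1 h2 h3 h4
  simp only [rpushInjIso, Iso.trans_hom, Iso.app_hom, Iso.symm_hom, Functor.mapIso_hom, asIso_hom,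
    Category.assoc]
  exact (reassoc_of% h1) _ |>.trans (congrArg (_ ≫ ·) (((reassoc_of% h2) _).trans
    (congrArg (_ ≫ ·) (((reassoc_of% h3) _).trans (congrArg (_ ≫ ·) h4)))))

/-- Derived direct images send distinguished triangles to distinguished triangles. -/
theorem exists_rpush_triangle {L P P' : DCoh.D X} (a : L ⟶ P) (b : P ⟶ P') (c : P' ⟶ L⟦(1 : ℤ)⟧)
    (h : Triangle.mk a b c ∈ distinguishedTriangles) :
    ∃ c', Triangle.mk ((DCoh.Rpush f).map a) ((DCoh.Rpush f).map b) c' ∈ distinguishedTriangles := by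
  obtain ⟨I, hI, -, ⟨eI⟩⟩ := exists_injective_resolution X L
  obtain ⟨J, hJ, -, ⟨eJ⟩⟩ := exists_injective_resolution X P
  haveI := hI
  haveI := hJ
  obtain ⟨φ', hφ'⟩ := (CochainComplex.IsKInjective.Qh_map_bijective ((quotM X).obj I) J).surjective
    ((DerivedCategory.quotientCompQhIso X.Modules).hom.app I ≫ eI.inv ≫ a ≫ eJ.hom ≫
      (DerivedCategory.quotientCompQhIso X.Modules).inv.app J)
  obtain ⟨φ, rfl⟩ := (quotM X).map_surjective φ'
  have hφ : a ≫ eJ.hom = eI.hom ≫ DerivedCategory.Q.map φ := by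
    rw [← cancel_epi eI.inv, eI.inv_hom_id_assoc,
      ← cancel_epi ((DerivedCategory.quotientCompQhIso X.Modules).hom.app I),
      ← (DerivedCategory.quotientCompQhIso X.Modules).hom.naturality φ]
    dsimp only [Functor.comp_map]
    rw [hφ']
    simp
  let T := DerivedCategory.Q.mapTriangle.obj (CochainComplex.mappingCone.triangle φ)
  have hT : T ∈ distinguishedTriangles := (DerivedCategory.mem_distTriang_iff _).2 ⟨_, _, φ, ⟨Iso.refl _⟩⟩
  let e := isoTriangleOfIso₁₂ (Triangle.mk a b c) T h hT eI eJ hφ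
  haveI := isKInjective_mappingCone φ
  let G := (Scheme.Modules.pushforward f).mapHomologicalComplex (ComplexShape.up ℤ)
  let T' := DerivedCategory.Q.mapTriangle.obj (CochainComplex.mappingCone.triangle (G.map φ))
  have hT' : T' ∈ distinguishedTriangles :=
    (DerivedCategory.mem_distTriang_iff _).2 ⟨_, _, G.map φ, ⟨Iso.refl _⟩⟩
  let e₃ : P' ≅ DerivedCategory.Q.obj (CochainComplex.mappingCone φ) := Triangle.π₃.mapIso e
  have hb : b ≫ e₃.hom = eJ.hom ≫ DerivedCategory.Q.map (CochainComplex.mappingCone.inr φ) := e.hom.comm₂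
  let E₁ := (DCoh.Rpush f).mapIso eI ≪≫ (rpushInjIso f I).symm
  let E₂ := (DCoh.Rpush f).mapIso eJ ≪≫ (rpushInjIso f J).symm
  let E₃ : (DCoh.Rpush f).obj P' ≅ DerivedCategory.Q.obj (CochainComplex.mappingCone (G.map φ)) :=
    (DCoh.Rpush f).mapIso e₃ ≪≫ (rpushInjIso f (CochainComplex.mappingCone φ)).symm ≪≫
      DerivedCategory.Q.mapIso (CochainComplex.mappingCone.mapHomologicalComplexIso φ _)
  have comm : ∀ {A B : DCoh.D X} {I' J' : CochainComplex X.Modules ℤ} [I'.IsKInjective] [J'.IsKInjective]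
      (g : A ⟶ B) (i : A ≅ DerivedCategory.Q.obj I') (j : B ≅ DerivedCategory.Q.obj J') (ψ : I' ⟶ J'),
      g ≫ j.hom = i.hom ≫ DerivedCategory.Q.map ψ →
      (DCoh.Rpush f).map g ≫ (DCoh.Rpush f).map j.hom ≫ (rpushInjIso f J').inv =
        ((DCoh.Rpush f).map i.hom ≫ (rpushInjIso f I').inv) ≫ DerivedCategory.Q.map (G.map ψ) := by
    intro A B I' J' _ _ g i j ψ hg
    rw [← Category.assoc, ← CategoryTheory.Functor.map_comp, hg, CategoryTheory.Functor.map_comp,
      Category.assoc, Category.assoc]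
    refine congrArg (_ ≫ ·) ?_
    rw [Iso.comp_inv_eq, Category.assoc, rpushInjIso_natural f ψ, Iso.inv_hom_id_assoc]
  refine ⟨E₃.hom ≫ T'.mor₃ ≫ E₁.inv⟦(1 : ℤ)⟧', isomorphic_distinguished _ hT' _
    (Triangle.isoMk _ _ E₁ E₂ E₃ (comm a eI eJ φ hφ) ?_ ?_)⟩
  · show (DCoh.Rpush f).map b ≫ (DCoh.Rpush f).map e₃.hom ≫ (rpushInjIso f _).inv ≫
        DerivedCategory.Q.map (CochainComplex.mappingCone.mapHomologicalComplexIso φ _).hom =
      ((DCoh.Rpush f).map eJ.hom ≫ (rpushInjIso f J).inv) ≫ DerivedCategory.Q.map _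
    have := comm b eJ e₃ _ hb
    rw [reassoc_of% this, ← CategoryTheory.Functor.map_comp, CochainComplex.mappingCone.map_inr]
    simp only [Category.assoc]
    rfl
  · show (E₃.hom ≫ T'.mor₃ ≫ E₁.inv⟦(1 : ℤ)⟧') ≫ E₁.hom⟦(1 : ℤ)⟧' = E₃.hom ≫ T'.mor₃
    refine ((Category.assoc _ _ _).trans (congrArg (E₃.hom ≫ ·) ?_))
    exact (Category.assoc _ _ _).trans ((congrArg (T'.mor₃ ≫ ·)
      (((shiftFunctor (DCoh.D Y) (1 : ℤ)).map_comp _ _).symm.trans
        ((congrArg _ E₁.inv_hom_id).trans ((shiftFunctor (DCoh.D Y) (1 : ℤ)).map_id _)))).trans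
      (Category.comp_id _))

/-- Derived direct images commute with derived limits of sequences. -/
theorem rpush_isRlim (K : ℕ → DCoh.D X) (t : ∀ n, K (n + 1) ⟶ K n) [HasProduct K]
    [HasProduct fun n => (DCoh.Rpush f).obj (K n)] (L : DCoh.D X) (hL : DCoh.IsRlim K t L) :
    DCoh.IsRlim (fun n => (DCoh.Rpush f).obj (K n)) (fun n => (DCoh.Rpush f).map (t n))
      ((DCoh.Rpush f).obj L) := by
  obtain ⟨a, c, h⟩ := hL
  obtain ⟨c', h'⟩ := exists_rpush_triangle f a _ c h
  haveI := hasLpull f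
  haveI : PreservesLimitsOfSize.{0, 0} (DCoh.Rpush f) := (lpullRpushAdj f).rightAdjoint_preservesLimits
  haveI : (DCoh.Rpush f).Additive := CategoryTheory.Functor.additive_of_preserves_binary_products _
  let e := PreservesProduct.iso (DCoh.Rpush f) K
  refine ⟨(DCoh.Rpush f).map a ≫ e.hom, e.inv ≫ c', isomorphic_distinguished _ h' _
    (Triangle.isoMk _ _ (Iso.refl _) e.symm e.symm ?_ ?_ ?_)⟩
  · show ((DCoh.Rpush f).map a ≫ e.hom) ≫ e.inv = 𝟙 _ ≫ (DCoh.Rpush f).map a
    rw [Category.assoc, e.hom_inv_id, Category.comp_id, Category.id_comp]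
  · show Pi.lift _ ≫ e.inv = e.inv ≫ (DCoh.Rpush f).map _
    rw [Iso.comp_inv_eq, Category.assoc, PreservesProduct.iso_hom, map_lift_piComparison]
    refine Pi.hom_ext _ _ fun n => ?_
    rw [Category.assoc, limit.lift_π, limit.lift_π, Iso.eq_inv_comp, PreservesProduct.iso_hom]
    simp [piComparison_comp_π_assoc, Functor.map_sub]
  · show (e.inv ≫ c') ≫ (𝟙 _)⟦(1 : ℤ)⟧' = e.inv ≫ c'
    rw [CategoryTheory.Functor.map_id]
    exact Category.comp_id _

end Groth.Agent.DCohLib
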