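import Groth.Agent.DCohLib.Symm
import Groth.Agent.DCohLib.Bridge

/-!
# Naturality of the symmetry of tensor products of complexes
-/

set_option autoImplicit false
set_option linter.style.haveILetI false
set_option linter.unusedSectionVars false

universe v₁ v₂ v u₁ u₂ u

open CategoryTheory Limits HomologicalComplex AlgebraicGeometry
open Groth.Agent.KFlat

noncomputable section

namespace Groth.Agent.DCohLib

section Bifunctor

variable {C₁ : Type u₁} [Category.{v₁} C₁] {C₂ : Type u₂} [Category.{v₂} C₂]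
  {D : Type u} [Category.{v} D] [Abelian C₁] [Abelian C₂] [Abelian D]
  {F G : C₁ ⥤ C₂ ⥤ D} [F.Additive] [∀ X, (F.obj X).Additive] [G.Additive] [∀ X, (G.obj X).Additive]
  [∀ (K₁ : CochainComplex C₁ ℤ) (K₂ : CochainComplex C₂ ℤ), CochainComplex.HasMapBifunctor K₁ K₂ F]
  [∀ (K₁ : CochainComplex C₁ ℤ) (K₂ : CochainComplex C₂ ℤ), CochainComplex.HasMapBifunctor K₁ K₂ G]

theorem totIso_natural (τ : F ≅ G) {K₁ K₁' : CochainComplex C₁ ℤ} {K₂ K₂' : CochainComplex C₂ ℤ}
    (f : K₁ ⟶ K₁') (g : K₂ ⟶ K₂') :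
    mapBifunctorMap f g F (ComplexShape.up ℤ) ≫ (totIso τ K₁' K₂').hom =
      (totIso τ K₁ K₂).hom ≫ mapBifunctorMap f g G (ComplexShape.up ℤ) := by
  refine hom_ext _ _ fun n => mapBifunctor.hom_ext fun p q h => ?_
  have hι : ∀ (A : CochainComplex C₁ ℤ) (B : CochainComplex C₂ ℤ),
      ιMapBifunctor A B F (ComplexShape.up ℤ) p q n h ≫ (totIso τ A B).hom.f n =
        (τ.hom.app (A.X p)).app (B.X q) ≫ ιMapBifunctor A B G (ComplexShape.up ℤ) p q n h := fun A B =>
    HomologicalComplex₂.ιTotal_map _ _ (bicomplexIso τ A B).hom (ComplexShape.up ℤ) p q n h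
  have e1 := congr_app (τ.hom.naturality (f.f p)) (K₂.X q)
  have e2 := (τ.hom.app (K₁'.X p)).naturality (g.f q)
  dsimp at e1 e2
  calc ιMapBifunctor K₁ K₂ F (ComplexShape.up ℤ) p q n h ≫
        (mapBifunctorMap f g F (ComplexShape.up ℤ) ≫ (totIso τ K₁' K₂').hom).f n
      = (F.map (f.f p)).app (K₂.X q) ≫ (F.obj (K₁'.X p)).map (g.f q) ≫
          ιMapBifunctor K₁' K₂' F (ComplexShape.up ℤ) p q n h ≫ (totIso τ K₁' K₂').hom.f n :=
        (congrArg (_ ≫ ·) (comp_f _ _ _)).trans (ι_mapBifunctorMap_assoc f g F _ p q n h _)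
    _ = (τ.hom.app (K₁.X p)).app (K₂.X q) ≫ (G.map (f.f p)).app (K₂.X q) ≫
          (G.obj (K₁'.X p)).map (g.f q) ≫ ιMapBifunctor K₁' K₂' G (ComplexShape.up ℤ) p q n h :=
        (congrArg (fun t => _ ≫ _ ≫ t) (hι K₁' K₂')).trans
          ((congrArg (_ ≫ ·) ((reassoc_of% e2) _)).trans ((reassoc_of% e1) _))
    _ = (τ.hom.app (K₁.X p)).app (K₂.X q) ≫ ιMapBifunctor K₁ K₂ G (ComplexShape.up ℤ) p q n h ≫
          (mapBifunctorMap f g G (ComplexShape.up ℤ)).f n :=
        congrArg (_ ≫ ·) (ι_mapBifunctorMap f g G _ p q n h).symm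
    _ = ιMapBifunctor K₁ K₂ F (ComplexShape.up ℤ) p q n h ≫
          ((totIso τ K₁ K₂).hom ≫ mapBifunctorMap f g G (ComplexShape.up ℤ)).f n :=
        ((Category.assoc _ _ _).symm.trans ((congrArg (· ≫ _) (hι K₁ K₂).symm).trans
          (Category.assoc _ _ _))).trans (congrArg (_ ≫ ·) (comp_f _ _ _).symm)

end Bifunctor

/-- Symmetry on a site. -/
def symSite {C : Type u} [SmallCategory C] {J : GrothendieckTopology C} (O : Sheaf J CommRingCat.{u})
    (P A : CochainComplex (ModSite.Mod O) ℤ) :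
    ((ModSite.tensorCx O).obj P).obj A ≅ ((ModSite.tensorCx O).obj A).obj P :=
  totIso (symmIso O) P A ≪≫ mapBifunctorFlipIso A P (ModSite.tensorBi O) (ComplexShape.up ℤ)

theorem symSite_natural {C : Type u} [SmallCategory C] {J : GrothendieckTopology C}
    (O : Sheaf J CommRingCat.{u}) {P P' A A' : CochainComplex (ModSite.Mod O) ℤ} (f : P ⟶ P') (g : A ⟶ A') :
    mapBifunctorMap f g (ModSite.tensorBi O) (ComplexShape.up ℤ) ≫
        (totIso (symmIso O) P' A' ≪≫ mapBifunctorFlipIso A' P' (ModSite.tensorBi O) (ComplexShape.up ℤ)).hom =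
      (totIso (symmIso O) P A ≪≫ mapBifunctorFlipIso A P (ModSite.tensorBi O) (ComplexShape.up ℤ)).hom ≫
        mapBifunctorMap g f (ModSite.tensorBi O) (ComplexShape.up ℤ) := by
  simp only [Iso.trans_hom, Category.assoc]
  refine (Category.assoc _ _ _).symm.trans ((congrArg (· ≫ _) (totIso_natural (symmIso O) f g)).trans ?_)
  refine (Category.assoc _ _ _).trans (congrArg (_ ≫ ·) ?_)
  exact mapBifunctorFlipIso_hom_naturality g f (ModSite.tensorBi O) (ComplexShape.up ℤ)

variable {X : Scheme.{u}}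

/-- Symmetry of the tensor product of complexes. -/
def symS (P A : CochainComplex X.Modules ℤ) :
    (DCoh.tensorCx.obj P).obj A ≅ (DCoh.tensorCx.obj A).obj P :=
  symSite X.sheaf P A

theorem symS_natural_right (P : CochainComplex X.Modules ℤ) {A A' : CochainComplex X.Modules ℤ} (g : A ⟶ A') :
    (DCoh.tensorCx.obj P).map g ≫ (symS P A').hom =
      (symS P A).hom ≫ (DCoh.tensorCx.map g).app P :=
  symSite_natural X.sheaf (𝟙 P) g

theorem symS_natural_left {P P' : CochainComplex X.Modules ℤ} (f : P ⟶ P') (A : CochainComplex X.Modules ℤ) :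
    (DCoh.tensorCx.map f).app A ≫ (symS P' A).hom =
      (symS P A).hom ≫ (DCoh.tensorCx.obj A).map f :=
  symSite_natural X.sheaf f (𝟙 A)

attribute [irreducible] symS

end Groth.Agent.DCohLib
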