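import Groth.Agent.DCohLib.TensorInj
import Groth.Agent.DCohLib.TensorComp
import Groth.Agent.DCohLib.LpullTensor
import Groth.Agent.DCohLib.ExtTensor
import Groth.Agent.DCohLib.PullPerf
import Groth.Agent.DCohLib.MapTotNat

/-!
# Derived tensor products with K-flat complexes, restriction, and invertibility of shifts
-/

set_option autoImplicit false
set_option linter.style.haveILetI false

universe u

open CategoryTheory CategoryTheory.Limits AlgebraicGeometry
open Groth.Agent.KFlat

attribute [local instance] HasDerivedCategory.standard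

noncomputable section

namespace Groth.Agent.DCohLib

variable {X Y U : Scheme.{u}}

/-- The derived tensor product with a K-flat complex is the tensor product. -/
def lTensorQIso (E : CochainComplex X.Modules ℤ) [DCoh.HasLTensorCx E] (hE : DCoh.IsKFlat E) :
    DerivedCategory.Q ⋙ DCoh.LTensorCx E ≅ DCoh.tensorCxQ E :=
  @asIso _ _ _ _ (lTensorCounit E)
    (@NatIso.isIso_of_isIso_app _ _ _ _ _ _ _ fun K => isIso_lTensorCounit_app_of_isKFlat E hE K)

/-- Isomorphic K-flat tensor functors have isomorphic derived functors. -/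
def lTensorCongr (E E' : CochainComplex X.Modules ℤ) [DCoh.HasLTensorCx E] [DCoh.HasLTensorCx E']
    (hE : DCoh.IsKFlat E) (hE' : DCoh.IsKFlat E') (e : DCoh.tensorCxQ E ≅ DCoh.tensorCxQ E') :
    DCoh.LTensorCx E ≅ DCoh.LTensorCx E' :=
  letI : Localization.Lifting DerivedCategory.Q (HomologicalComplex.quasiIso X.Modules (ComplexShape.up ℤ))
      (DCoh.tensorCxQ E) (DCoh.LTensorCx E) := ⟨lTensorQIso E hE⟩
  letI : Localization.Lifting DerivedCategory.Q (HomologicalComplex.quasiIso X.Modules (ComplexShape.up ℤ))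
      (DCoh.tensorCxQ E') (DCoh.LTensorCx E') := ⟨lTensorQIso E' hE'⟩
  Localization.liftNatIso DerivedCategory.Q (HomologicalComplex.quasiIso X.Modules (ComplexShape.up ℤ))
    (DCoh.tensorCxQ E) (DCoh.tensorCxQ E') _ _ e

/-- The unit complex. -/
abbrev unitCx (X : Scheme.{u}) : CochainComplex X.Modules ℤ :=
  (HomologicalComplex.single X.Modules (ComplexShape.up ℤ) 0).obj (Coh.structureModule X)

/-- Tensoring with the unit complex does nothing. -/
def tensorUnitCxIso : DCoh.tensorCx.flip.obj (unitCx X) ≅ 𝟭 (CochainComplex X.Modules ℤ) :=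
  (NatIso.ofComponents
    (F := ((DCoh.tensorBi (X := X)).flip.obj (Coh.structureModule X)).mapHomologicalComplex (ComplexShape.up ℤ))
    (fun I => totSingleIso I (Coh.structureModule X))
    fun {I I'} φ => HomologicalComplex.hom_ext _ _ fun n => by
      show ((DCoh.tensorBi (X := X)).map (φ.f n)).app (Coh.structureModule X) ≫
          singleι (DCoh.tensorBi (X := X)) I' 0 (Coh.structureModule X) n n (add_zero n) =
        singleι (DCoh.tensorBi (X := X)) I 0 (Coh.structureModule X) n n (add_zero n) ≫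
          (HomologicalComplex.mapBifunctorMap φ (𝟙 _) (DCoh.tensorBi (X := X)) (ComplexShape.up ℤ)).f n
      simp only [singleι, Category.assoc]
      erw [HomologicalComplex.ι_mapBifunctorMap]
      simp only [HomologicalComplex.id_f, CategoryTheory.Functor.map_id, Category.id_comp]
      exact ((reassoc_of% ((DCoh.tensorBi (X := X)).map (φ.f n)).naturality
        (HomologicalComplex.singleObjXSelf (ComplexShape.up ℤ) 0 (Coh.structureModule X)).inv) _).symm).symm ≪≫
    NatIso.mapHomologicalComplex (F := (DCoh.tensorBi (X := X)).flip.obj (Coh.structureModule X))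
      (G := 𝟭 X.Modules) (Groth.Agent.ModTensor.tensorUnitRight X.sheaf) (ComplexShape.up ℤ) ≪≫ Functor.mapHomologicalComplexIdIso _ _

theorem isKFlat_unitCx : DCoh.IsKFlat (unitCx X) := fun L hL i =>
  (hL i).of_iso ((HomologicalComplex.homologyFunctor _ _ i).mapIso (tensorUnitCxIso.app L))

/-- The derived tensor product with the unit complex is the identity. -/
def lTensorUnitIso [DCoh.HasLTensorCx (unitCx X)] : DCoh.LTensorCx (unitCx X) ≅ 𝟭 (DCoh.D X) :=
  letI : Localization.Lifting DerivedCategory.Q (HomologicalComplex.quasiIso X.Modules (ComplexShape.up ℤ))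
      (DCoh.tensorCxQ (unitCx X)) (DCoh.LTensorCx (unitCx X)) := ⟨lTensorQIso (unitCx X) isKFlat_unitCx⟩
  letI : Localization.Lifting DerivedCategory.Q (HomologicalComplex.quasiIso X.Modules (ComplexShape.up ℤ))
      DerivedCategory.Q (𝟭 (DCoh.D X)) := ⟨Functor.rightUnitor _⟩
  Localization.liftNatIso DerivedCategory.Q (HomologicalComplex.quasiIso X.Modules (ComplexShape.up ℤ))
    (DCoh.tensorCxQ (unitCx X)) DerivedCategory.Q _ _
    (Functor.isoWhiskerRight tensorUnitCxIso _ ≪≫ Functor.leftUnitor _)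

/-- The unit module in degree `a`. -/
abbrev shiftUnitCx (X : Scheme.{u}) (a : ℤ) : CochainComplex X.Modules ℤ :=
  ((CochainComplex.singleFunctors X.Modules).functor a).obj (Coh.structureModule X)

theorem isStrictlyPerfect_shiftUnitCx (a : ℤ) : DCoh.IsStrictlyPerfect (shiftUnitCx X a) := by
  refine ⟨⟨a, a, fun i hi => HomologicalComplex.isZero_single_obj_X _ _ _ _ (by omega)⟩, fun i => ?_⟩
  rcases eq_or_ne i a with rfl | hi
  · refine isFinLocFree_iso (e := (?_ : FlatMod.freeMod X 1 ≅ _)) (isFinLocFree_freeMod 1)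
    refine ?_ ≪≫ (HomologicalComplex.singleObjXSelf (ComplexShape.up ℤ) i (Coh.structureModule X)).symm
    exact { hom := Sigma.desc fun _ => 𝟙 _
            inv := Sigma.ι (fun _ : Fin 1 => Coh.structureModule X) 0
            hom_inv_id := Sigma.hom_ext _ _ fun i => by
              obtain rfl : i = 0 := Subsingleton.elim _ _
              simp
            inv_hom_id := by simp }
  · exact isFinLocFree_of_isZero (HomologicalComplex.isZero_single_obj_X _ _ _ _ hi)

/-- Opposite shifts of the unit tensor to the unit. -/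
def shiftUnitTensorIso (a : ℤ) :
    (DCoh.tensorCx.obj (shiftUnitCx X a)).obj (shiftUnitCx X (-a)) ≅ unitCx X :=
  (tot (DCoh.tensorBi (X := X)) (shiftUnitCx X a)).mapIso
      (((CochainComplex.singleFunctors X.Modules).shiftIso a (-a) 0 (by omega)).app (Coh.structureModule X)).symm ≪≫
    CochainComplex.mapBifunctorShift₂Iso (shiftUnitCx X a) _ (DCoh.tensorBi (X := X)) a ≪≫
    (shiftFunctor (CochainComplex X.Modules ℤ) a).mapIso (tensorUnitCxIso.app (shiftUnitCx X a)) ≪≫
    ((CochainComplex.singleFunctors X.Modules).shiftIso a 0 a (by omega)).app (Coh.structureModule X)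

theorem nonempty_lTensor_shiftUnit_comp (a : ℤ) [DCoh.HasLTensorCx (shiftUnitCx X a)]
    [DCoh.HasLTensorCx (shiftUnitCx X (-a))] :
    Nonempty (DCoh.LTensorCx (shiftUnitCx X a) ⋙ DCoh.LTensorCx (shiftUnitCx X (-a)) ≅ 𝟭 (DCoh.D X)) := by
  let T := (DCoh.tensorCx.obj (shiftUnitCx X a)).obj (shiftUnitCx X (-a))
  have h1 := isKFlat_of_strictlyPerfect (isStrictlyPerfect_shiftUnitCx (X := X) a)
  have h2 := isKFlat_of_strictlyPerfect (isStrictlyPerfect_shiftUnitCx (X := X) (-a))
  obtain ⟨e⟩ := nonempty_lTensorCompIso (shiftUnitCx X a) (shiftUnitCx X (-a)) h2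
  exact ⟨e ≪≫ lTensorCongr T (unitCx X) (isKFlat_tensorCx h1 h2) isKFlat_unitCx
    (Functor.isoWhiskerRight ((DCoh.tensorCx (X := X)).flip.mapIso (shiftUnitTensorIso a)) DerivedCategory.Q) ≪≫
    lTensorUnitIso⟩

/-- Tensoring with a shift of the unit is an equivalence. -/
theorem isEquivalence_lTensor_shiftUnit (a : ℤ) [DCoh.HasLTensorCx (shiftUnitCx X a)] :
    (DCoh.LTensorCx (shiftUnitCx X a)).IsEquivalence := by
  obtain ⟨e1⟩ := nonempty_lTensor_shiftUnit_comp (X := X) a
  obtain ⟨e2⟩ : Nonempty (DCoh.LTensorCx (shiftUnitCx X (-a)) ⋙ DCoh.LTensorCx (shiftUnitCx X a) ≅ 𝟭 (DCoh.D X)) := by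
    have := nonempty_lTensor_shiftUnit_comp (X := X) (-a)
    simp only [neg_neg] at this
    exact this
  exact (CategoryTheory.Equivalence.mk (DCoh.LTensorCx (shiftUnitCx X a)) (DCoh.LTensorCx (shiftUnitCx X (-a))) e1.symm e2).isEquivalence_functor

theorem pullTensorCxIso_hom_natural_left (g : X ⟶ Y) (N : CochainComplex Y.Modules ℤ)
    {A A' : CochainComplex Y.Modules ℤ} (φ : A ⟶ A') :
    (pullCx g).map ((DCoh.tensorCx.map φ).app N) ≫ (pullTensorCxIso g A' N).hom =
      (pullTensorCxIso g A N).hom ≫ (DCoh.tensorCx.map ((pullCx g).map φ)).app ((pullCx g).obj N) := by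
  haveI : PreservesColimitsOfSize.{u, u} (Scheme.Modules.pullback g) :=
    (Scheme.Modules.pullbackPushforwardAdjunction g).leftAdjoint_preservesColimits
  haveI : PreservesColimitsOfSize.{0, 0} (Scheme.Modules.pullback g) := preservesColimitsOfSize_shrink.{0, u, 0, u} _
  have h := Groth.Agent.KFlat.mapTotIso_inv_natural (G := Scheme.Modules.pullback g) (pullTensorBiIsoSch g) N φ
  rw [← cancel_epi (pullTensorCxIso g A N).inv, Iso.inv_hom_id_assoc, ← Category.assoc]
  refine (congrArg (· ≫ _) h.symm).trans ((Category.assoc _ _ _).trans ?_)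
  refine ((congrArg (_ ≫ ·) (pullTensorCxIso g A' N).inv_hom_id).trans (Category.comp_id _)).trans ?_
  exact map₂_map_both (DCoh.tensorBi (X := X)) (Scheme.Modules.pullback g) (Scheme.Modules.pullback g) φ N

/-- Restriction commutes with tensor products of complexes, naturally in the first one. -/
def restrictTensorNat (j : U ⟶ Y) [IsOpenImmersion j] (N : CochainComplex Y.Modules ℤ) :
    DCoh.tensorCx.flip.obj N ⋙ resCx j ≅ resCx j ⋙ DCoh.tensorCx.flip.obj ((resCx j).obj N) :=
  let r : resCx j ≅ pullCx j :=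
    NatIso.mapHomologicalComplex (Scheme.Modules.restrictFunctorIsoPullback j) (ComplexShape.up ℤ)
  let T := DCoh.tensorCx (X := U)
  Functor.isoWhiskerLeft _ r ≪≫
    NatIso.ofComponents (G := pullCx j ⋙ T.flip.obj ((pullCx j).obj N)) (fun A => pullTensorCxIso j A N)
      (fun {A A'} φ => pullTensorCxIso_hom_natural_left j N φ) ≪≫
    Functor.isoWhiskerRight r.symm _ ≪≫ Functor.isoWhiskerLeft _ (T.flip.mapIso (r.symm.app N))

end Groth.Agent.DCohLib
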