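import Groth.Agent.KFlat.ResolutionMain

/-!
# Functorial K-flat resolutions

A functorial cover by good objects makes the stages of the construction of `KFlat.Resolution`
functorial in the complex which is resolved.
-/

set_option linter.style.haveILetI false
set_option linter.unusedSectionVars false

universe v₁ v₂ v u₁ u₂ u

open CategoryTheory Limits ZeroObject

noncomputable section

namespace Groth.Agent.DCohLib

open CochainComplex HomComplex
open Groth.Agent.KFlat

variable {C : Type u₂} [Category.{v₂} C] [Abelian C] (cov : C ⥤ C) (π : cov ⟶ 𝟭 C)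
  {G G' G'' : CochainComplex C ℤ}

/-- The cover as a function. -/
abbrev covO : C → C := cov.obj

/-- The cover maps as a function. -/
abbrev covπ : ∀ X, covO cov X ⟶ X := π.app

section Step

variable (q : Stage G) (q' : Stage G') (a : q.1 ⟶ q'.1) (g : G ⟶ G') (h : q.2 ≫ g = a ≫ q'.2)

/-- The map on cells. -/
def cellsMap (m : ℤ) : cells (covO cov) q m ⟶ cells (covO cov) q' m :=
  cov.map (HomologicalComplex.cyclesMap (mappingCone.map q.2 q'.2 a g h) (m - 1))

@[reassoc]
theorem cellsMap_π (m : ℤ) :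
    cellsMap cov q q' a g h m ≫ π.app ((mappingCone q'.2).cycles (m - 1)) ≫
        (mappingCone q'.2).iCycles (m - 1) =
      π.app ((mappingCone q.2).cycles (m - 1)) ≫ (mappingCone q.2).iCycles (m - 1) ≫ (mappingCone.map q.2 q'.2 a g h).f (m - 1) := by
  have e := π.naturality (HomologicalComplex.cyclesMap (mappingCone.map q.2 q'.2 a g h) (m - 1))
  rw [cellsMap, reassoc_of% e]
  exact congr_arg (π.app _ ≫ ·) (HomologicalComplex.cyclesMap_i _ _)

theorem map_fst (p n : ℤ) (hpn : p + 1 = n) :
    (mappingCone.map q.2 q'.2 a g h).f p ≫ (mappingCone.fst q'.2).1.v p n hpn =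
      (mappingCone.fst q.2).1.v p n hpn ≫ a.f n := by
  refine mappingCone.ext_from q.2 n p hpn ?_ ?_ <;> simp [mappingCone.map]

theorem map_snd (p : ℤ) :
    (mappingCone.map q.2 q'.2 a g h).f p ≫ (mappingCone.snd q'.2).v p p (add_zero p) =
      (mappingCone.snd q.2).v p p (add_zero p) ≫ g.f p := by
  refine mappingCone.ext_from q.2 (p + 1) p rfl ?_ ?_ <;> simp [mappingCone.map]

theorem cellsMap_cellZ (m : ℤ) :
    cellsMap cov q q' a g h m ≫ cellZ (covO cov) (covπ cov π) q' m =
      cellZ (covO cov) (covπ cov π) q m ≫ a.f m := by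
  refine (cellsMap_π_assoc cov π q q' a g h m _).trans ?_
  refine Eq.trans (congr_arg (fun k => π.app ((mappingCone q.2).cycles (m - 1)) ≫ (mappingCone q.2).iCycles (m - 1) ≫ k)
    (map_fst q q' a g h (m - 1) m (by omega))) ?_
  simp only [cellZ, Category.assoc]

theorem cellsMap_cellW (m n : ℤ) (hn : n + 1 = m) :
    cellsMap cov q q' a g h m ≫ cellW (covO cov) (covπ cov π) q' m n hn =
      cellW (covO cov) (covπ cov π) q m n hn ≫ g.f n := by
  obtain rfl : n = m - 1 := by omega
  simp only [cellW, HomologicalComplex.XIsoOfEq_rfl, Iso.refl_hom, Category.comp_id]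
  refine (cellsMap_π_assoc cov π q q' a g h m _).trans ?_
  refine Eq.trans (congr_arg (fun k => π.app ((mappingCone q.2).cycles (m - 1)) ≫ (mappingCone q.2).iCycles (m - 1) ≫ k)
    (map_snd q q' a g h (m - 1))) ?_
  simp only [Category.assoc]

/-- The map on attached complexes. -/
def zMap : zeroDiff (cells (covO cov) q) ⟶ zeroDiff (cells (covO cov) q') where
  f m := cellsMap cov q q' a g h m
  comm' _ _ _ := comp_zero.trans zero_comp.symm

theorem attach_natural :
    attach (covO cov) (covπ cov π) q ≫ a = zMap cov q q' a g h ≫ attach (covO cov) (covπ cov π) q' := by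
  ext m
  exact (cellsMap_cellZ cov π q q' a g h m).symm

/-- The map on next stages. -/
def nextLeft : nextObj (covO cov) (covπ cov π) q ⟶ nextObj (covO cov) (covπ cov π) q' :=
  mappingCone.map _ _ (zMap cov q q' a g h) a (attach_natural cov π q q' a g h)

theorem nextLeft_comp :
    nextMap (covO cov) (covπ cov π) q ≫ g = nextLeft cov π q q' a g h ≫ nextMap (covO cov) (covπ cov π) q' := by
  ext n
  refine mappingCone.ext_from _ (n + 1) n rfl ?_ ?_
  · simp [nextLeft, mappingCone.map, nextMap, attachHomotopy, zMap]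
    exact (Preadditive.neg_comp _ _).trans ((congr_arg Neg.neg
      (cellsMap_cellW cov π q q' a g h (n + 1) n rfl).symm).trans (Preadditive.comp_neg _ _).symm)
  · simp [nextLeft, mappingCone.map, nextMap]
    exact congr_arg (fun k : q.1 ⟶ G' => k.f n) h

theorem toNext_nextLeft :
    toNext (covO cov) (covπ cov π) q ≫ nextLeft cov π q q' a g h =
      a ≫ toNext (covO cov) (covπ cov π) q' := by
  simp [toNext, nextLeft, mappingCone.map]

theorem nextLeft_id (h : q.2 ≫ 𝟙 G = 𝟙 q.1 ≫ q.2) :
    nextLeft cov π q q (𝟙 _) (𝟙 _) h = 𝟙 _ := by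
  have e : zMap cov q q (𝟙 _) (𝟙 _) h = 𝟙 _ := by
    ext m
    show cov.map _ = 𝟙 _
    rw [mappingCone.map_id, HomologicalComplex.cyclesMap_id, cov.map_id]
  simp only [nextLeft, e]
  exact mappingCone.map_id _

theorem nextLeft_map_comp (q'' : Stage G'') (a' : q'.1 ⟶ q''.1) (g' : G' ⟶ G'')
    (h' : q'.2 ≫ g' = a' ≫ q''.2) (hh : q.2 ≫ g ≫ g' = (a ≫ a') ≫ q''.2) :
    nextLeft cov π q q'' (a ≫ a') (g ≫ g') hh =
      nextLeft cov π q q' a g h ≫ nextLeft cov π q' q'' a' g' h' := by
  have e : zMap cov q q'' (a ≫ a') (g ≫ g') hh = zMap cov q q' a g h ≫ zMap cov q' q'' a' g' h' := by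
    ext m
    show cov.map _ = cov.map _ ≫ cov.map _
    rw [← cov.map_comp, ← HomologicalComplex.cyclesMap_comp]
    exact congr_arg (fun k => cov.map (HomologicalComplex.cyclesMap k (m - 1)))
      (mappingCone.map_comp _ _ _ a g h a' g' h')
  simp only [nextLeft, e]
  exact mappingCone.map_comp _ _ _ _ _ _ _ _ _

theorem nextLeft_congr (b : q.1 ⟶ q'.1) (hb : q.2 ≫ g = b ≫ q'.2) (h : q.2 ≫ g = a ≫ q'.2) (e : a = b) :
    nextLeft cov π q q' a g h = nextLeft cov π q q' b g hb := by
  subst e; rfl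

end Step

variable [∀ X, Epi (covπ cov π X)]

/-- The initial stage. -/
def stage₀ (G : CochainComplex C ℤ) : Stage G :=
  ⟨zeroDiff fun _ => (0 : C), 0⟩

/-- The `i`-th stage of the resolution of `G`. -/
abbrev st (G : CochainComplex C ℤ) (i : ℕ) : Stage G :=
  stage (covO cov) (covπ cov π) (stage₀ G) i

theorem hom_stage₀_eq (K : CochainComplex C ℤ) (f f' : (stage₀ G).1 ⟶ K) : f = f' := by
  ext n
  exact (isZero_zero C).eq_of_src _ _

/-- The maps between stages. -/
def stMap (g : G ⟶ G') : ∀ i : ℕ,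
    { a : (st cov π G i).1 ⟶ (st cov π G' i).1 // (st cov π G i).2 ≫ g = a ≫ (st cov π G' i).2 }
  | 0 => ⟨0, hom_stage₀_eq _ _ _⟩
  | i + 1 => ⟨nextLeft cov π _ _ (stMap g i).1 g (stMap g i).2, nextLeft_comp cov π _ _ _ _ _⟩

theorem stMap_id (i : ℕ) : (stMap cov π (𝟙 G) i).1 = 𝟙 _ := by
  induction i with
  | zero => exact hom_stage₀_eq _ _ _
  | succ i ih => exact (nextLeft_congr cov π _ _ _ _ (𝟙 _) (by rw [Category.comp_id, Category.id_comp]) _ ih).trans (nextLeft_id cov π _ _)

theorem stMap_comp (g : G ⟶ G') (g' : G' ⟶ G'') (i : ℕ) :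
    (stMap cov π (g ≫ g') i).1 = (stMap cov π g i).1 ≫ (stMap cov π g' i).1 := by
  induction i with
  | zero => exact hom_stage₀_eq _ _ _
  | succ i ih =>
    have h := (stMap cov π (g ≫ g') i).2
    rw [ih] at h
    exact (nextLeft_congr cov π _ _ _ _ _ h _ ih).trans
      (nextLeft_map_comp cov π _ _ _ _ (stMap cov π g i).2 _ _ _ (stMap cov π g' i).2 h)

/-- The stages as functors of `G`. -/
def seqMap (g : G ⟶ G') :
    stageSeq (covO cov) (covπ cov π) (stage₀ G) ⟶ stageSeq (covO cov) (covπ cov π) (stage₀ G') :=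
  NatTrans.ofSequence (fun i => (stMap cov π g i).1) fun i => by
    rw [stageSeq_map, stageSeq_map]
    exact toNext_nextLeft cov π _ _ _ _ _

variable [HasColimitsOfShape ℕ C]

/-- The functorial resolution. -/
def res : CochainComplex C ℤ ⥤ CochainComplex C ℤ where
  obj G := colimit (stageSeq (covO cov) (covπ cov π) (stage₀ G))
  map g := colimMap (seqMap cov π g)
  map_id G := colimit.hom_ext fun i => by
    rw [ι_colimMap, show (seqMap cov π (𝟙 G)).app i = 𝟙 _ from stMap_id cov π i]
    simp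
  map_comp {G G' G''} g g' := colimit.hom_ext fun i => by
    rw [ι_colimMap, show (seqMap cov π (g ≫ g')).app i = (seqMap cov π g).app i ≫ (seqMap cov π g').app i
      from stMap_comp cov π g g' i]
    simp

/-- The map from the functorial resolution. -/
def resπ : res cov π ⟶ 𝟭 (CochainComplex C ℤ) where
  app G := colimMap' (covO cov) (covπ cov π) (stage₀ G)
  naturality G G' g := colimit.hom_ext fun i =>
    (ι_colimMap_assoc (seqMap cov π g) i (colimMap' (covO cov) (covπ cov π) (stage₀ G'))).trans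
      ((congr_arg ((seqMap cov π g).app i ≫ ·)
        (ι_colimMap' (covO cov) (covπ cov π) (stage₀ G') i)).trans
      ((stMap cov π g i).2.symm.trans
      ((congr_arg (· ≫ g) (ι_colimMap' (covO cov) (covπ cov π) (stage₀ G) i).symm).trans
        (Category.assoc _ _ _))))

theorem quasiIso_resπ [HasExactColimitsOfShape ℕ C] (G : CochainComplex C ℤ) :
    QuasiIso ((resπ cov π).app G) := by
  exact quasiIso_colimMap' (covO cov) (covπ cov π) (stage₀ G)

section Flat

variable {C₁ : Type u₁} [Category.{v₁} C₁] {D : Type u} [Category.{v} D] [Abelian C₁] [Abelian D]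
  {F : C₁ ⥤ C ⥤ D} [F.Additive] [∀ X, (F.obj X).Additive]
  [∀ (K₁ : CochainComplex C₁ ℤ) (K₂ : CochainComplex C ℤ), CochainComplex.HasMapBifunctor K₁ K₂ F]
  [∀ n : ℤ, HasColimitsOfShape (Discrete (Idx n)) D]
  [∀ n : ℤ, HasExactColimitsOfShape (Discrete (Idx n)) D]
  [HasColimitsOfShape ℕ D] [HasExactColimitsOfShape ℕ D]
  [∀ X, PreservesColimitsOfShape ℕ (F.obj X)]
  [HasColimitsOfShape (Discrete ℤ) C] [HasColimitsOfShape (Discrete ℤ) D]
  [HasExactColimitsOfShape (Discrete ℤ) D] [∀ X, PreservesColimitsOfShape (Discrete ℤ) (F.obj X)]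
  {Φ : C → Prop}

theorem res_X_flat (hΦ : FlatClass F Φ) (hcov : ∀ X, Φ (cov.obj X)) (G : CochainComplex C ℤ) (n : ℤ) :
    Φ (((res cov π).obj G).X n) := by
  have hterm : ∀ i n, Φ ((st cov π G i).1.X n) := fun i => by
    induction i with
    | zero => exact fun m => hΦ.zero (isZero_zero C)
    | succ i ih => exact hΦ.cone _ (fun m => hcov _) ih
  exact hΦ.seq _ _ (isColimitOfPreserves (HomologicalComplex.eval C (ComplexShape.up ℤ) n)
    (colimit.isColimit _)) fun i => hterm i n

theorem isKFlatFor_res (hΦ : FlatClass F Φ) (hcov : ∀ X, Φ (cov.obj X)) (G : CochainComplex C ℤ) :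
    IsKFlatFor F ((res cov π).obj G) := by
  have hflat : ∀ i, IsKFlatFor F (st cov π G i).1 := fun i => by
    induction i with
    | zero => exact isKFlatFor_zeroDiff F _ fun m => hΦ.good _ (hΦ.zero (isZero_zero C))
    | succ i ih =>
      exact (twoOfThree_mappingCone F _).1
        (isKFlatFor_zeroDiff F _ fun m => hΦ.good _ (hcov _)) ih
  exact isKFlatFor_of_isColimit F _ (colimit.cocone _) (colimit.isColimit _) hflat

end Flat

end Groth.Agent.DCohLib
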