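import Groth.Agent.DCohLib.TensorLinv
import Groth.Agent.DCohLib.ProjPerf

/-!
# Dependence of derived tensor functors on the complex
-/

set_option autoImplicit false
set_option linter.style.haveILetI false

universe u

open CategoryTheory CategoryTheory.Limits AlgebraicGeometry
open Groth.Agent.KFlat

attribute [local instance] HasDerivedCategory.standard

noncomputable section

namespace Groth.Agent.DCohLib

variable {X : Scheme.{u}}

/-- Derived tensor products only depend on the complex up to quasi-isomorphism. -/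
theorem nonempty_lTensor_of_qis {E E' : CochainComplex X.Modules ℤ} [DCoh.HasLTensorCx E] [DCoh.HasLTensorCx E']
    (s : E' ⟶ E) (hs : QuasiIso s) : Nonempty (DCoh.LTensorCx E' ≅ DCoh.LTensorCx E) := by
  let τ : DCoh.tensorCxQ E' ⟶ DCoh.tensorCxQ E :=
    Functor.whiskerRight ((DCoh.tensorCx (X := X)).flip.map s) DerivedCategory.Q
  haveI : (DCoh.LTensorCx E').IsLeftDerivedFunctor (lTensorCounit E' ≫ τ)
      (HomologicalComplex.quasiIso X.Modules (ComplexShape.up ℤ)) := by
    refine (tensorAdapted E).isLeftDerivedFunctor DerivedCategory.Q _ _ fun A => ?_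
    rw [NatTrans.comp_app]
    refine IsIso.comp_isIso' (isIso_lTensorCounit_app E' _ (isKFlat_resX A)) ?_
    exact (DerivedCategory.isIso_Q_map_iff_quasiIso (C := X.Modules) _).2
      (quasiIso_tensorCx_obj_map (isKFlat_resX A) s hs)
  exact ⟨(Functor.leftDerivedUnique (DCoh.LTensorCx E) (DCoh.LTensorCx E') (lTensorCounit E' ≫ τ)
    (lTensorCounit E) (HomologicalComplex.quasiIso X.Modules (ComplexShape.up ℤ)))⟩

/-- Derived tensor products only depend on the class in the derived category. -/
theorem nonempty_lTensor_of_iso {E E' : CochainComplex X.Modules ℤ} [DCoh.HasLTensorCx E] [DCoh.HasLTensorCx E']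
    (e : DerivedCategory.Q.obj E' ≅ DerivedCategory.Q.obj E) :
    Nonempty (DCoh.LTensorCx E' ≅ DCoh.LTensorCx E) := by
  obtain ⟨Z, s, hs, g, hg⟩ := DerivedCategory.right_fac e.hom
  haveI := hs
  haveI : IsIso (DerivedCategory.Q.map g) := by
    have hcomp : IsIso (inv (DerivedCategory.Q.map s) ≫ DerivedCategory.Q.map g) := hg ▸ e.isIso_hom
    exact (isIso_comp_left_iff _ _).1 hcomp
  obtain ⟨a⟩ := nonempty_lTensor_of_qis s ((DerivedCategory.isIso_Q_map_iff_quasiIso (C := X.Modules) s).1 hs)
  obtain ⟨b⟩ := nonempty_lTensor_of_qis g ((DerivedCategory.isIso_Q_map_iff_quasiIso (C := X.Modules) g).1 ‹_›)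
  exact ⟨a.symm ≪≫ b⟩

end Groth.Agent.DCohLib
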