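import Groth.Agent.DCohLib.OpenD
import Groth.Agent.SiteBase.SuppSeq
import Groth.Agent.DCohLib.SPerf

/-!
# The Mayer-Vietoris sequence of an open covering by two opens
-/

set_option autoImplicit false
set_option linter.style.haveILetI false

universe u

open CategoryTheory CategoryTheory.Limits AlgebraicGeometry TopologicalSpace Opposite

noncomputable section

namespace Groth.Agent.DCohLib

theorem ofNatIsoRight_counit {C D : Type*} [Category C] [Category D] {F : C ⥤ D} {G G' : D ⥤ C}
    (adj : F ⊣ G) (e : G ≅ G') (A : D) :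
    (adj.ofNatIsoRight e).counit.app A = F.map (e.inv.app A) ≫ adj.counit.app A := by
  simp only [Adjunction.ofNatIsoRight, Adjunction.mkOfHomEquiv_counit_app]
  simp [Adjunction.ofNatIsoRight, Adjunction.equivHomsetRightOfNatIso, Adjunction.homEquiv_counit]

variable {X : Scheme.{u}}

theorem mono_extZero_counit (W : X.Opens) (A : X.Modules) : Mono ((CxOX.extZeroAdj W.ι).counit.app A) := by
  let adj' := (((Scheme.Modules.overEquiv W).symm.toAdjunction).comp (ModSite.extZeroAdj X.sheaf W)).ofNatIsoRight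
    (Scheme.Modules.overFunctorEquiv W)
  rw [← Adjunction.leftAdjointUniq_hom_app_counit (CxOX.extZeroAdj W.ι) adj' A]
  haveI : Mono ((ModSite.extZeroAdj X.sheaf W).counit.app A) :=
    Groth.Agent.SiteBase.SuppSeq.mono_counit X.sheaf W (fun V => inferInstance) A
  haveI : Mono (adj'.counit.app A) := by
    rw [ofNatIsoRight_counit, Adjunction.comp_counit_app]
    haveI h1 : IsIso ((Scheme.Modules.overEquiv W).symm.toAdjunction.counit.app ((ModSite.restr X.sheaf W).obj A)) :=
      ((Scheme.Modules.overEquiv W).symm.counitIso.app _).isIso_hom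
    exact @mono_comp _ _ _ _ _ _ (@IsIso.mono_of_iso _ _ _ _ _ (Functor.map_isIso _ _)) _
      (@mono_comp _ _ _ _ _ _ (@IsIso.mono_of_iso _ _ _ _ _ (@Functor.map_isIso _ _ _ _ _ _ _ _ h1)) _
        this)
  exact @mono_comp _ _ _ _ _ _ (@IsIso.mono_of_iso _ _ _ _ _
    (((CxOX.extZeroAdj W.ι).leftAdjointUniq adj').app _).isIso_hom) _ ‹Mono (adj'.counit.app A)›

/-- Injective modules are flasque. -/
theorem surjective_res_injective (M : X.Modules) [Injective M] (W : X.Opens) (s : Γ(M, W)) :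
    ∃ t : Γ(M, ⊤), M.presheaf.map (homOfLE (le_top : W ≤ ⊤)).op t = s := by
  let O := Coh.structureModule X
  have hW : W.ι ''ᵁ ⊤ = W := W.ι_image_top
  let s' : Γ((Scheme.Modules.restrictFunctor W.ι).obj M, ⊤) := M.presheaf.map (eqToHom hW).op s
  let φ : (Scheme.Modules.restrictFunctor W.ι).obj O ⟶ (Scheme.Modules.restrictFunctor W.ι).obj M :=
    (restrictUnit W.ι).hom ≫ secHom _ s'
  let adj := CxOX.extZeroAdj W.ι
  haveI : Mono (adj.counit.app ((𝟭 X.Modules).obj O)) := mono_extZero_counit W O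
  let χ := @Injective.factorThru _ _ M _ _ inferInstance ((adj.homEquiv _ M).symm φ) (adj.counit.app O) (mono_extZero_counit W O)
  have hχ : (Scheme.Modules.restrictFunctor W.ι).map χ = φ := by
    apply (adj.homEquiv _ M).symm.injective
    rw [adj.homEquiv_counit]
    exact (adj.counit.naturality χ).trans (Injective.comp_factorThru _ _)
  refine ⟨χ.app ⊤ (1 : Γ(X, ⊤)), ?_⟩
  rw [app_one_natural χ le_top]
  have h := congr(($hχ).app ⊤ ((restrictUnit W.ι).inv.app ⊤ (1 : Γ((W : Scheme.{u}), ⊤))))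
  have h2 : φ.app ⊤ ((restrictUnit W.ι).inv.app ⊤ (1 : Γ((W : Scheme.{u}), ⊤))) = s' := by
    refine Eq.trans ?_ ((secHom_app_one _ s' ⊤).trans
      (congr(($(((Scheme.Modules.restrictFunctor W.ι).obj M).presheaf.map_id _)) s')))
    exact congrArg (fun z => (secHom _ s').app ⊤ z)
      (congr(($((restrictUnit W.ι).inv_hom_id)).app ⊤ (1 : Γ((W : Scheme.{u}), ⊤))))
  have h3 := h.trans h2
  have h4 : χ.app (W.ι ''ᵁ ⊤) (1 : Γ(X, W.ι ''ᵁ ⊤)) = s' := by
    refine Eq.trans ?_ h3
    exact congrArg (χ.app (W.ι ''ᵁ ⊤)) (map_one (W.ι.appIso ⊤).inv.hom).symm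
  rw [← app_one_natural χ hW.ge, h4]
  show M.presheaf.map _ (M.presheaf.map (eqToHom hW).op s) = s
  rw [← ConcreteCategory.comp_apply, ← M.presheaf.map_comp, ← op_comp]
  exact (congr(M.presheaf.map $(Subsingleton.elim _ (𝟙 W)).op s)).trans (congr(($(M.presheaf.map_id _)) s))

theorem surjective_res_injective' (M : X.Modules) [Injective M] {W V : X.Opens} (h : W ≤ V) (s : Γ(M, W)) :
    ∃ t : Γ(M, V), M.presheaf.map (homOfLE h).op t = s := by
  obtain ⟨t, rfl⟩ := surjective_res_injective M W s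
  refine ⟨M.presheaf.map (homOfLE (le_top : V ≤ ⊤)).op t, ?_⟩
  rw [← ConcreteCategory.comp_apply, ← M.presheaf.map_comp]
  rfl

end Groth.Agent.DCohLib
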