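import Groth.Agent.DCohLib.SigmaSections
import Groth.Agent.DCohLib.MVOpen
import Mathlib.Algebra.Homology.HomotopyCategory.KInjective

/-!
# Modules flasque with respect to quasi-compact opens
-/

set_option autoImplicit false
set_option linter.style.haveILetI false

universe u w

open CategoryTheory CategoryTheory.Limits AlgebraicGeometry TopologicalSpace Opposite
open Groth.Agent.PullbackMod

noncomputable section

namespace Groth.Agent.DCohLib

variable {X : Scheme.{u}}

/-- Restriction between quasi-compact opens is surjective. -/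
def QcFlasque (M : X.Modules) : Prop :=
  ∀ ⦃W' W : X.Opens⦄ (h : W' ≤ W), IsCompact (W' : Set X) → IsCompact (W : Set X) →
    ∀ s : Γ(M, W'), ∃ t : Γ(M, W), M.presheaf.map (homOfLE h).op t = s

theorem qcFlasque_of_injective (M : X.Modules) [Injective M] : QcFlasque M :=
  fun _ _ h _ _ s => surjective_res_injective' M h s

theorem qcFlasque_of_iso {M N : X.Modules} (e : M ≅ N) (hM : QcFlasque M) : QcFlasque N := by
  intro W' W h hW' hW s
  obtain ⟨t, ht⟩ := hM h hW' hW (e.inv.app W' s)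
  refine ⟨e.hom.app W t, ?_⟩
  rw [← app_natural e.hom h, ht]
  exact congr(($(e.inv_hom_id)).app W' s)

theorem qcFlasque_of_isZero {M : X.Modules} (hM : IsZero M) : QcFlasque M := by
  intro W' W h _ _ s
  refine ⟨0, ?_⟩
  rw [map_zero]
  exact ((congr(($(hM.eq_of_src (𝟙 M) 0)).app W' s)).trans
    (congr(($(Scheme.Modules.Hom.zero_app (M := M) (N := M) (U := W'))) s))).symm

theorem qcFlasque_biprod {M N : X.Modules} (hM : QcFlasque M) (hN : QcFlasque N) : QcFlasque (M ⊞ N) := by
  intro W' W h hW' hW s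
  obtain ⟨a, ha⟩ := hM h hW' hW ((biprod.fst : M ⊞ N ⟶ M).app W' s)
  obtain ⟨b, hb⟩ := hN h hW' hW ((biprod.snd : M ⊞ N ⟶ N).app W' s)
  refine ⟨(biprod.inl : M ⟶ M ⊞ N).app W a + (biprod.inr : N ⟶ M ⊞ N).app W b, ?_⟩
  rw [map_add, ← app_natural, ← app_natural, ha, hb]
  exact congr(($(biprod.total (X := M) (Y := N))).app W' s)

/-- Coproducts of qc-flasque modules are qc-flasque. -/
theorem qcFlasque_coproduct {ι : Type w} {F : ι → X.Modules} {c : Cofan F} (hc : IsColimit c)
    (hF : ∀ i, QcFlasque (F i)) : QcFlasque c.pt := by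
  classical
  intro W' W h hW' hW s
  obtain ⟨T, hT⟩ := exists_trunc_app hc W' hW' s
  choose t ht using fun i => hF i h hW' hW ((sigmaProj hc i).app W' s)
  refine ⟨∑ i ∈ T, (c.inj i).app W (t i), ?_⟩
  rw [map_sum]
  refine Eq.trans ?_ hT
  have e : ∀ T : Finset ι, (sigmaTrunc hc T).app W' s = ∑ i ∈ T, (c.inj i).app W' ((sigmaProj hc i).app W' s) := by
    intro T
    unfold sigmaTrunc
    induction T using Finset.induction_on with
    | empty =>
      rw [Finset.sum_empty, Finset.sum_empty]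
      exact congr(($(Scheme.Modules.Hom.zero_app (M := c.pt) (N := c.pt) (U := W'))) s)
    | insert a T ha ih =>
      rw [Finset.sum_insert ha, Finset.sum_insert ha, ← ih]
      rfl
  rw [e T]
  exact Finset.sum_congr rfl fun i _ => by rw [← app_natural, ht]

theorem exists_section_X₁ {S : ShortComplex X.Modules} (hS : S.Exact) [Mono S.f] (W : X.Opens) (s : Γ(S.X₂, W))
    (hs : S.g.app W s = 0) : ∃ r : Γ(S.X₁, W), S.f.app W r = s := by
  let R := Scheme.Modules.restrictFunctor W.ι
  haveI : Mono (R.map S.f) := inferInstance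
  have hW : W.ι ''ᵁ ⊤ = W := W.ι_image_top
  let s' : Γ(R.obj S.X₂, ⊤) := S.X₂.presheaf.map (eqToHom hW).op s
  have h0 : secHom (R.obj S.X₂) s' ≫ R.map S.g = 0 := by
    refine hom_unit_ext ?_
    refine (congrArg (S.g.app (W.ι ''ᵁ ⊤)) (secHom_restrict_app_one s')).trans ?_
    refine (ConcreteCategory.congr_hom (S.g.mapPresheaf.naturality (eqToHom hW).op) s).trans ?_
    refine (congrArg (S.X₃.presheaf.map (eqToHom hW).op) hs).trans ((map_zero _).trans ?_)
    exact (congr(($(Scheme.Modules.Hom.zero_app (M := Coh.structureModule (W : Scheme.{u})) (N := R.obj S.X₃)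
      (U := ⊤))) (1 : Γ((W : Scheme.{u}), ⊤)))).symm
  haveI : Mono (S.map R).f := inferInstanceAs (Mono (R.map S.f))
  let l := (hS.map R).lift (secHom (R.obj S.X₂) s') h0
  have hl : l ≫ R.map S.f = secHom (R.obj S.X₂) s' := (hS.map R).lift_f _ h0
  let r' : Γ(S.X₁, W.ι ''ᵁ ⊤) := l.app ⊤ (1 : Γ((W : Scheme.{u}), ⊤))
  have e : S.f.app (W.ι ''ᵁ ⊤) r' = S.X₂.presheaf.map (eqToHom hW).op s :=
    (congr(($hl).app ⊤ (1 : Γ((W : Scheme.{u}), ⊤)))).trans (secHom_restrict_app_one s')
  refine ⟨S.X₁.presheaf.map (eqToHom hW.symm).op r', ?_⟩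
  refine (ConcreteCategory.congr_hom (S.f.mapPresheaf.naturality (eqToHom hW.symm).op) r').trans ?_
  refine (congrArg (S.X₂.presheaf.map (eqToHom hW.symm).op) e).trans ?_
  rw [← ConcreteCategory.comp_apply, ← S.X₂.presheaf.map_comp, ← op_comp, eqToHom_trans, eqToHom_refl]
  exact congr(($(S.X₂.presheaf.map_id (op W))) s)

theorem exists_qc_le {W : X.Opens} {x : X} (hx : x ∈ W) :
    ∃ V : X.Opens, V ≤ W ∧ x ∈ V ∧ IsCompact (V : Set X) := by
  obtain ⟨V, hV, hxV, hle⟩ := Opens.isBasis_iff_nbhd.1 X.isBasis_affineOpens hx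
  exact ⟨V, hle, hxV, hV.isCompact⟩

theorem res_res (M : X.Modules) {U V W : X.Opens} (f : V ⟶ U) (g : W ⟶ V) (h : W ⟶ U) (s : Γ(M, U)) :
    M.presheaf.map g.op (M.presheaf.map f.op s) = M.presheaf.map h.op s := by
  rw [← ConcreteCategory.comp_apply, ← M.presheaf.map_comp, ← op_comp, Subsingleton.elim (g ≫ f) h]

theorem res_self (M : X.Modules) {U : X.Opens} (f : U ⟶ U) (s : Γ(M, U)) : M.presheaf.map f.op s = s := by
  rw [Subsingleton.elim f (𝟙 U), op_id, M.presheaf.map_id]
  rfl

variable [QuasiSeparatedSpace X]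

theorem isCompact_inf {U V : X.Opens} (hU : IsCompact (U : Set X)) (hV : IsCompact (V : Set X)) :
    IsCompact ((U ⊓ V : X.Opens) : Set X) :=
  QuasiSeparatedSpace.inter_isCompact (U : Set X) V U.2 hU V.2 hV

/-- Sections over quasi-compact opens are exact on sequences starting with a qc-flasque module. -/
theorem surjective_app_of_qcFlasque {S : ShortComplex X.Modules} (hS : S.ShortExact) (h1 : QcFlasque S.X₁)
    (W : X.Opens) (hW : IsCompact (W : Set X)) (t : Γ(S.X₃, W)) : ∃ s : Γ(S.X₂, W), S.g.app W s = t := by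
  classical
  haveI := hS.mono_f
  haveI := hS.epi_g
  have hloc : ∀ x : W, ∃ (V : X.Opens) (hV : V ≤ W), x.1 ∈ V ∧ IsCompact (V : Set X) ∧
      ∃ s : Γ(S.X₂, V), S.g.app V s = S.X₃.presheaf.map (homOfLE hV).op t := by
    intro x
    obtain ⟨z, hz⟩ := (epi_iff_stalk S.g).1 inferInstance x.1 (S.X₃.presheaf.germ W x.1 x.2 t)
    obtain ⟨U, hxU, m, rfl⟩ := TopCat.Presheaf.exists_germ_eq S.X₂.presheaf z
    rw [stalkLin_germ] at hz
    obtain ⟨V', hxV', iU, iW, e⟩ := TopCat.Presheaf.germ_eq S.X₃.presheaf x.1 hxU x.2 _ _ hz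
    obtain ⟨V, hVV', hxV, hV⟩ := exists_qc_le hxV'
    refine ⟨V, hVV'.trans iW.le, hxV, hV, S.X₂.presheaf.map (homOfLE (hVV'.trans iU.le)).op m, ?_⟩
    rw [app_natural]
    exact ((res_res S.X₃ iU (homOfLE hVV') _ _).symm.trans (congrArg (S.X₃.presheaf.map (homOfLE hVV').op) e)).trans
      (res_res S.X₃ iW (homOfLE hVV') _ _)
  choose V hV hxV hVc s hs using hloc
  obtain ⟨T, hT⟩ := hW.elim_finite_subcover (fun x : W => (V x : Set X)) (fun x => (V x).2)
    (fun y hy => Set.mem_iUnion.2 ⟨⟨y, hy⟩, hxV ⟨y, hy⟩⟩)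
  suffices key : ∀ T : Finset W, IsCompact ((T.sup V : X.Opens) : Set X) ∧
      ∃ (hle : T.sup V ≤ W) (σ : Γ(S.X₂, T.sup V)),
        S.g.app (T.sup V) σ = S.X₃.presheaf.map (homOfLE hle).op t by
    obtain ⟨-, hle, σ, hσ⟩ := key T
    have hW' : W ≤ T.sup V := fun y hy => by
      obtain ⟨x, hx, hy'⟩ := Set.mem_iUnion₂.1 (hT hy)
      exact (Finset.le_sup (f := V) hx) hy'
    refine ⟨S.X₂.presheaf.map (homOfLE hW').op σ, ?_⟩
    exact (app_natural S.g hW' σ).trans ((congrArg (S.X₃.presheaf.map (homOfLE hW').op) hσ).trans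
      ((res_res S.X₃ (homOfLE hle) (homOfLE hW') (𝟙 W) t).trans (res_self S.X₃ _ t)))
  intro T
  induction T using Finset.induction_on with
  | empty =>
    refine ⟨by simp, bot_le, 0, ?_⟩
    refine TopCat.Sheaf.eq_of_locally_eq' ⟨S.X₃.presheaf, S.X₃.isSheaf⟩ (fun e : Empty => e.elim) _
      (fun e => e.elim) (fun y hy => absurd hy (by simp)) _ _ fun e => e.elim
  | insert a T ha ih =>
    obtain ⟨hc, hle, σ, hσ⟩ := ih
    rw [Finset.sup_insert]
    refine ⟨by simpa using (hVc a).union hc, sup_le (hV a) hle, ?_⟩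
    let U := V a
    let U' := T.sup V
    let d : Γ(S.X₂, U ⊓ U') := S.X₂.presheaf.map (homOfLE inf_le_left).op (s a) -
      S.X₂.presheaf.map (homOfLE inf_le_right).op σ
    have hd : S.g.app (U ⊓ U') d = 0 := by
      simp only [d, map_sub]
      rw [app_natural, app_natural, hs, hσ, ← ConcreteCategory.comp_apply, ← S.X₃.presheaf.map_comp,
        ← ConcreteCategory.comp_apply, ← S.X₃.presheaf.map_comp, sub_eq_zero]
      exact congr(S.X₃.presheaf.map $(Subsingleton.elim _ _) t)
    obtain ⟨r, hr⟩ := exists_section_X₁ hS.exact (U ⊓ U') d hd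
    obtain ⟨r', hr'⟩ := h1 (inf_le_left : U ⊓ U' ≤ U) (isCompact_inf (hVc a) hc) (hVc a) r
    let σa : Γ(S.X₂, U) := s a - S.f.app U r'
    have hga : S.g.app U σa = S.X₃.presheaf.map (homOfLE (hV a)).op t := by
      refine (map_sub (S.g.app U).hom _ _).trans ((congrArg₂ (· - ·) (hs a) rfl).trans (sub_eq_self.2 ?_))
      refine Eq.trans ?_ (congr(($(Scheme.Modules.Hom.zero_app (M := S.X₁) (N := S.X₃) (U := U))) r'))
      exact congr(($(S.zero)).app U r')
    have hcompat : S.X₂.presheaf.map (homOfLE (inf_le_left : U ⊓ U' ≤ U)).op σa =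
        S.X₂.presheaf.map (homOfLE (inf_le_right : U ⊓ U' ≤ U')).op σ := by
      simp only [σa, map_sub]
      rw [← app_natural S.f, hr', hr]
      simp only [d]
      abel
    let Us : Bool → X.Opens := fun b => cond b U U'
    let sf : ∀ b, Γ(S.X₂, Us b) := fun b => match b with
      | true => σa
      | false => σ
    have hcov : U ⊔ U' ≤ iSup Us := sup_le (le_iSup Us true) (le_iSup Us false)
    have hUs : ∀ b, Us b ≤ U ⊔ U' := fun b => match b with
      | true => le_sup_left
      | false => le_sup_right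
    obtain ⟨gl, hgl, -⟩ := TopCat.Sheaf.existsUnique_gluing' ⟨S.X₂.presheaf, S.X₂.isSheaf⟩ Us (U ⊔ U')
      (fun b => homOfLE (hUs b)) hcov sf (fun i j => by
        cases i <;> cases j
        · exact congr(S.X₂.presheaf.map $(Subsingleton.elim _ _) σ)
        · have h2 := congrArg (S.X₂.presheaf.map (homOfLE (inf_comm (a := U') (b := U)).le).op) hcompat
          rw [← ConcreteCategory.comp_apply, ← S.X₂.presheaf.map_comp, ← ConcreteCategory.comp_apply,
            ← S.X₂.presheaf.map_comp] at h2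
          exact h2.symm
        · exact hcompat
        · exact congr(S.X₂.presheaf.map $(Subsingleton.elim _ _) σa))
    refine ⟨gl, ?_⟩
    refine TopCat.Sheaf.eq_of_locally_eq' ⟨S.X₃.presheaf, S.X₃.isSheaf⟩ Us _ (fun b => homOfLE (hUs b)) hcov _ _
      fun b => ?_
    show S.X₃.presheaf.map (homOfLE (hUs b)).op (S.g.app _ gl) =
      S.X₃.presheaf.map (homOfLE (hUs b)).op (S.X₃.presheaf.map _ t)
    rw [← app_natural, show S.X₂.presheaf.map (homOfLE (hUs b)).op gl = sf b from hgl b,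
      ← ConcreteCategory.comp_apply, ← S.X₃.presheaf.map_comp]
    cases b
    · exact hσ.trans congr(S.X₃.presheaf.map $(Subsingleton.elim _ _) t)
    · exact hga.trans congr(S.X₃.presheaf.map $(Subsingleton.elim _ _) t)

theorem qcFlasque_X₃ {S : ShortComplex X.Modules} (hS : S.ShortExact) (h1 : QcFlasque S.X₁)
    (h2 : QcFlasque S.X₂) : QcFlasque S.X₃ := by
  intro W' W h hW' hW t
  obtain ⟨s, rfl⟩ := surjective_app_of_qcFlasque hS h1 W' hW' t
  obtain ⟨s', rfl⟩ := h2 h hW' hW s
  exact ⟨S.g.app W s', (app_natural S.g h s').symm⟩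

omit [QuasiSeparatedSpace X] in
/-- The sequence of cycles of an acyclic complex. -/
theorem shortExact_cycles {C : CochainComplex X.Modules ℤ} (hC : C.Acyclic) (n : ℤ) :
    (ShortComplex.mk (kernel.ι (C.d n (n + 1))) (kernel.lift (C.d (n + 1) (n + 1 + 1)) (C.d n (n + 1)) (C.d_comp_d _ _ _))
      (by rw [← cancel_mono (kernel.ι _), Category.assoc, kernel.lift_ι, kernel.condition, zero_comp])).ShortExact := by
  have h := hC (n + 1)
  rw [HomologicalComplex.exactAt_iff' _ n (n + 1) (n + 1 + 1) (by simp) (by simp)] at h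
  haveI hepi := (HomologicalComplex.sc' C n (n + 1) (n + 1 + 1)).exact_iff_epi_kernel_lift.1 h
  refine { exact := ?_, mono_f := inferInstance, epi_g := hepi }
  refine ShortComplex.exact_of_f_is_kernel _ (KernelFork.IsLimit.ofι' _ _ fun {M} k hk => ?_)
  have hk' : k ≫ C.d n (n + 1) = 0 := by
    simpa using congrArg (· ≫ kernel.ι _) hk
  exact ⟨kernel.lift _ k hk', kernel.lift_ι _ _ _⟩

/-- Cycles of a bounded below acyclic complex of qc-flasque modules are qc-flasque. -/
theorem qcFlasque_cycles {C : CochainComplex X.Modules ℤ} (hC : C.Acyclic) (hq : ∀ n, QcFlasque (C.X n))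
    (a : ℤ) (ha : ∀ n, n < a → IsZero (C.X n)) (n : ℤ) : QcFlasque (kernel (C.d n (n + 1))) := by
  suffices h : ∀ (k : ℕ), ∀ m < a + k, QcFlasque (kernel (C.d m (m + 1))) from h (n + 1 - a).toNat n (by omega)
  intro k
  induction k with
  | zero => exact fun m hm => qcFlasque_of_isZero (IsZero.of_mono (kernel.ι _) (ha m (by omega)))
  | succ k ih =>
    intro m hm
    by_cases hm' : m < a + k
    · exact ih m hm'
    · have h := qcFlasque_X₃ (shortExact_cycles hC (m - 1)) (ih (m - 1) (by omega)) (hq _)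
      have e : m - 1 + 1 = m := by omega
      dsimp only at h
      rw [e] at h
      exact h

/-- In a bounded below acyclic complex of qc-flasque modules, cycles over a quasi-compact open are boundaries. -/
theorem exists_boundary {C : CochainComplex X.Modules ℤ} (hC : C.Acyclic) (hq : ∀ n, QcFlasque (C.X n))
    (a : ℤ) (ha : ∀ n, n < a → IsZero (C.X n)) (W : X.Opens) (hW : IsCompact (W : Set X)) (n : ℤ)
    (s : Γ(C.X (n + 1), W)) (hs : (C.d (n + 1) (n + 1 + 1)).app W s = 0) :
    ∃ t : Γ(C.X n, W), (C.d n (n + 1)).app W t = s := by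
  obtain ⟨r, rfl⟩ := exists_section_X₁ (shortExact_cycles hC (n + 1)).exact W s (by
    apply Function.Injective.eq_iff (f := (kernel.ι (C.d (n + 1 + 1) (n + 1 + 1 + 1))).app W) ?_ |>.1
    · rw [map_zero]
      exact (congr(($(kernel.lift_ι _ _ (C.d_comp_d (n + 1) (n + 1 + 1) (n + 1 + 1 + 1)))).app W s)).trans hs
    · exact Groth.Agent.QCohLib.app_injective (shortExact_cycles hC (n + 1 + 1)) W)
  obtain ⟨t, ht⟩ := surjective_app_of_qcFlasque (shortExact_cycles hC n) (qcFlasque_cycles hC hq a ha n) W hW r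
  refine ⟨t, ?_⟩
  rw [← ht]
  exact (congr(($(kernel.lift_ι _ _ (C.d_comp_d n (n + 1) (n + 1 + 1)))).app W t)).symm

end Groth.Agent.DCohLib
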