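import Groth.Agent.PullbackMod.Hom

/-!
# Sections of coproducts of modules over compact opens
-/

set_option autoImplicit false
set_option backward.isDefEq.respectTransparency false
set_option linter.style.haveILetI false

universe u w

open CategoryTheory CategoryTheory.Limits AlgebraicGeometry TopologicalSpace Opposite
open Groth.Agent.PullbackMod

noncomputable section

namespace Groth.Agent.DCohLib

section Proj

variable {C : Type*} [Category C] [Preadditive C] {ι : Type w} {F : ι → C} {c : Cofan F} (hc : IsColimit c)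

open Classical in
/-- The projection of a coproduct to a summand. -/
def sigmaProj (i : ι) : c.pt ⟶ F i :=
  Cofan.IsColimit.desc hc fun j => if h : j = i then eqToHom (congrArg F h) else 0

theorem inj_sigmaProj_self (i : ι) : c.inj i ≫ sigmaProj hc i = 𝟙 _ := by
  simp [sigmaProj, Cofan.IsColimit.fac]

theorem inj_sigmaProj_ne {i j : ι} (h : j ≠ i) : c.inj j ≫ sigmaProj hc i = 0 := by
  simp [sigmaProj, Cofan.IsColimit.fac, h]

/-- The projection of a coproduct to a finite partial sum. -/
def sigmaTrunc (T : Finset ι) : c.pt ⟶ c.pt :=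
  ∑ i ∈ T, sigmaProj hc i ≫ c.inj i

open Classical in
theorem inj_sigmaTrunc (T : Finset ι) (j : ι) :
    c.inj j ≫ sigmaTrunc hc T = if j ∈ T then c.inj j else 0 := by
  rw [sigmaTrunc, Preadditive.comp_sum]
  split_ifs with h
  · rw [Finset.sum_eq_single j]
    · rw [← Category.assoc, inj_sigmaProj_self, Category.id_comp]
    · intro b _ hb
      rw [← Category.assoc, inj_sigmaProj_ne hc (Ne.symm hb), zero_comp]
    · exact fun hj => absurd h hj
  · refine Finset.sum_eq_zero fun b hb => ?_
    rw [← Category.assoc, inj_sigmaProj_ne hc (fun e => h (by rw [e]; exact hb)), zero_comp]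

theorem sigmaTrunc_comp_of_subset {T T' : Finset ι} (h : T ⊆ T') :
    sigmaTrunc hc T ≫ sigmaTrunc hc T' = sigmaTrunc hc T := by
  classical
  refine Cofan.IsColimit.hom_ext hc _ _ fun j => ?_
  rw [← Category.assoc, inj_sigmaTrunc]
  split_ifs with hj
  · rw [inj_sigmaTrunc, if_pos (h hj)]
  · rw [zero_comp]

end Proj

variable {X : Scheme.{u}} {ι : Type w} {F : ι → X.Modules} {c : Cofan F} (hc : IsColimit c)

theorem app_trunc_of_subset {T T' : Finset ι} (h : T ⊆ T') (U : X.Opens) {s : Γ(c.pt, U)}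
    (hs : (sigmaTrunc hc T).app U s = s) : (sigmaTrunc hc T').app U s = s := by
  have e := congr(($(sigmaTrunc_comp_of_subset hc h)).app U s)
  rw [hs] at e
  refine Eq.trans ?_ e
  exact (congrArg ((sigmaTrunc hc T').app U) hs).symm

include hc in
/-- Near a point a section of a coproduct comes from a finite partial sum. -/
theorem exists_trunc_stalk (x : X) (z : c.pt.presheaf.stalk x) :
    ∃ T : Finset ι, stalkLin (sigmaTrunc hc T) x z = z := by
  classical
  let S := Submodule.span (X.presheaf.stalk x) (⋃ i, Set.range (stalkLin (c.inj i) x))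
  let q := Submodule.mkQ S
  have h0 : ∀ i, c.inj i ≫ toSky q = 0 := fun i => by
    refine Scheme.Modules.hom_ext _ _ fun U => ?_
    refine AddCommGrpCat.hom_ext (AddMonoidHom.ext fun m => ?_)
    funext hx
    show q (c.pt.presheaf.germ U x hx.down ((c.inj i).app U m)) = 0
    rw [← stalkLin_germ]
    exact (Submodule.Quotient.mk_eq_zero _).mpr (Submodule.subset_span (Set.mem_iUnion.2 ⟨i, ⟨_, rfl⟩⟩))
  have h1 : toSky q = 0 := Cofan.IsColimit.hom_ext hc _ _ fun i => (h0 i).trans comp_zero.symm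
  have hz : z ∈ S := by
    obtain ⟨U, hx, m, rfl⟩ := TopCat.Presheaf.exists_germ_eq c.pt.presheaf z
    rw [← Submodule.Quotient.mk_eq_zero]
    show q (c.pt.presheaf.germ U x hx m) = 0
    rw [← toSky_app q U m ⟨hx⟩, h1]
    rfl
  have hmono : ∀ T T' : Finset ι, T ⊆ T' → ∀ w, stalkLin (sigmaTrunc hc T) x w = w →
      stalkLin (sigmaTrunc hc T') x w = w := fun T T' h w hw => by
    conv_lhs => rw [← hw]
    rw [← LinearMap.comp_apply, ← stalkLin_comp, sigmaTrunc_comp_of_subset hc h, hw]
  induction hz using Submodule.span_induction with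
  | mem w hw =>
    obtain ⟨i, v, rfl⟩ := Set.mem_iUnion.1 hw
    refine ⟨{i}, ?_⟩
    rw [← LinearMap.comp_apply, ← stalkLin_comp, inj_sigmaTrunc, if_pos (Finset.mem_singleton_self i)]
  | zero => exact ⟨∅, map_zero _⟩
  | add a b _ _ ha hb =>
    obtain ⟨T, hT⟩ := ha
    obtain ⟨T', hT'⟩ := hb
    refine ⟨T ∪ T', ?_⟩
    rw [map_add, hmono T _ Finset.subset_union_left a hT, hmono T' _ Finset.subset_union_right b hT']
  | smul r a _ ha =>
    obtain ⟨T, hT⟩ := ha
    exact ⟨T, by rw [map_smul, hT]⟩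

include hc in
/-- Over a compact open a section of a coproduct comes from a finite partial sum. -/
theorem exists_trunc_app (U : X.Opens) (hU : IsCompact (U : Set X)) (s : Γ(c.pt, U)) :
    ∃ T : Finset ι, (sigmaTrunc hc T).app U s = s := by
  classical
  have h : ∀ x : U, ∃ (V : X.Opens) (hV : V ≤ U), x.1 ∈ V ∧ ∃ T : Finset ι,
      (sigmaTrunc hc T).app V (c.pt.presheaf.map (homOfLE hV).op s) = c.pt.presheaf.map (homOfLE hV).op s := by
    intro x
    obtain ⟨T, hT⟩ := exists_trunc_stalk hc x.1 (c.pt.presheaf.germ U x.1 x.2 s)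
    rw [stalkLin_germ] at hT
    obtain ⟨V, hxV, iV, iV', e⟩ := TopCat.Presheaf.germ_eq c.pt.presheaf x.1 x.2 x.2 _ _ hT
    refine ⟨V, iV.le, hxV, T, ?_⟩
    rw [Subsingleton.elim iV' iV] at e
    exact (ConcreteCategory.congr_hom ((sigmaTrunc hc T).mapPresheaf.naturality (homOfLE iV.le).op) s).trans e
  choose V hV hxV T hT using h
  obtain ⟨t, ht⟩ := hU.elim_finite_subcover (fun x : U => (V x : Set X)) (fun x => (V x).2)
    (fun y hy => Set.mem_iUnion.2 ⟨⟨y, hy⟩, hxV ⟨y, hy⟩⟩)
  refine ⟨t.biUnion T, ?_⟩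
  refine TopCat.Sheaf.eq_of_locally_eq' ⟨c.pt.presheaf, c.pt.isSheaf⟩ (fun x : t => V x.1) U
    (fun x => homOfLE (hV x.1)) (fun y hy => ?_) _ _ fun x => ?_
  · obtain ⟨x, hx, hy'⟩ := Set.mem_iUnion₂.1 (ht hy)
    exact Opens.mem_iSup.2 ⟨⟨x, hx⟩, hy'⟩
  · refine Eq.trans ?_ (app_trunc_of_subset hc (Finset.subset_biUnion_of_mem T x.2) _ (hT x.1))
    exact (ConcreteCategory.congr_hom ((sigmaTrunc hc _).mapPresheaf.naturality (homOfLE (hV x.1)).op) s).symm

end Groth.Agent.DCohLib
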