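import Groth.Agent.DCohLib.PerfCrit
import Groth.Agent.PullbackMod.Props

/-!
# Modules of finite type and of finite presentation: local criteria
-/

set_option autoImplicit false
set_option backward.isDefEq.respectTransparency false
set_option linter.style.haveILetI false

universe u

open CategoryTheory CategoryTheory.Limits AlgebraicGeometry TopologicalSpace Opposite

attribute [local instance] HasDerivedCategory.standard

noncomputable section

namespace Groth.Agent.DCohLib

variable {X : Scheme.{u}}

/-- The free sheaf on a finite type is some `O^n`. -/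
def freeIsoFreeMod (Y : Scheme.{u}) {I : Type u} {n : ℕ} (e : I ≃ Fin n) :
    (SheafOfModules.free (R := Y.ringCatSheaf) I : Y.Modules) ≅ FlatMod.freeMod Y n :=
  Sigma.whiskerEquiv (C := Y.Modules) (f := fun _ : I => Coh.structureModule Y)
    (g := fun _ : Fin n => Coh.structureModule Y) e fun _ => Iso.refl _

/-- A module of finite type is locally a quotient of a finite free module. -/
theorem exists_free_epi {M : X.Modules} (hM : CohB1.IsFT M) (x : X) :
    ∃ (V : X.Opens) (n : ℕ) (p : FlatMod.freeMod ↑V n ⟶ (Scheme.Modules.restrictFunctor V.ι).obj M),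
      x ∈ V ∧ Epi p := by
  obtain ⟨σ, hσ⟩ := hM.exists_localGeneratorsData
  have hcov : ⨆ i, σ.X i = ⊤ := by
    have := σ.coversTop
    rwa [Opens.coversTop_iff, IsOpenCover] at this
  obtain ⟨i, hi⟩ := Opens.mem_iSup.mp (hcov.ge (trivial : x ∈ (⊤ : X.Opens)))
  let U : X.Opens := σ.X i
  let e := Scheme.Modules.overEquiv U
  let η : e.functor.obj (SheafOfModules.unit (X.ringCatSheaf.over U)) ≅
      SheafOfModules.unit (U : Scheme.{u}).ringCatSheaf :=
    (Scheme.Modules.overFunctorEquiv U).app (SheafOfModules.unit X.ringCatSheaf) ≪≫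
      Scheme.Modules.restrictUnitIso U.ι
  let G : SheafOfModules.GeneratingSections (R := (U : Scheme.{u}).ringCatSheaf) (M.restrict U.ι) :=
    ((σ.generators i).map e.functor η.symm).ofEpi ((Scheme.Modules.overFunctorEquiv U).app M).hom
  haveI : Finite G.I := (hσ.isFiniteType i).finite
  let f := freeIsoFreeMod (U : Scheme.{u}) (Finite.equivFin G.I)
  exact ⟨U, Nat.card G.I, f.inv ≫ G.π, hi, epi_comp' inferInstance G.epi⟩

/-- Finite type may be checked by local surjections from finite free modules. -/
theorem isFT_of_local_epi {M : X.Modules}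
    (h : ∀ x : X, ∃ (U : Scheme.{u}) (j : U ⟶ X) (_ : IsOpenImmersion j) (y : U) (n : ℕ)
      (p : FlatMod.freeMod U n ⟶ (Scheme.Modules.restrictFunctor j).obj M), j y = x ∧ Epi p) :
    CohB1.IsFT M := by
  have hG : ∀ x : X, ∃ V : X.Opens, x ∈ V ∧
      ∃ G : (SheafOfModules.over (R := X.ringCatSheaf) M V).GeneratingSections, G.IsFiniteType := by
    intro x
    obtain ⟨U, j, hj, y, n, p, rfl, hp⟩ := h x
    let V := j.opensRange
    let r := j.isoOpensRange.inv
    let R := Scheme.Modules.restrictFunctor r
    let q : SheafOfModules.free (R := (V : Scheme.{u}).ringCatSheaf) (ULift.{u} (Fin n)) ⟶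
        M.restrict V.ι :=
      (freeIsoFreeMod (V : Scheme.{u}) Equiv.ulift).hom ≫ (restrictFreeMod r n).inv ≫ R.map p ≫
        ((Scheme.Modules.restrictFunctorCongr j.isoOpensRange_inv_comp.symm ≪≫
          Scheme.Modules.restrictFunctorComp r j).app M).inv
    haveI : Epi (R.map p) := inferInstance
    haveI : Epi q := inferInstance
    let G : SheafOfModules.GeneratingSections (R := (V : Scheme.{u}).ringCatSheaf) (M.restrict V.ι) :=
      { I := ULift.{u} (Fin n)
        s := SheafOfModules.freeHomEquiv _ q
        epi := by rw [Equiv.symm_apply_apply]; infer_instance }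
    let e := Scheme.Modules.overEquiv V
    let η : e.functor.obj (SheafOfModules.unit (X.ringCatSheaf.over V)) ≅
        SheafOfModules.unit (V : Scheme.{u}).ringCatSheaf :=
      (Scheme.Modules.overFunctorEquiv V).app (SheafOfModules.unit X.ringCatSheaf) ≪≫
        Scheme.Modules.restrictUnitIso V.ι
    exact ⟨V, ⟨y, rfl⟩, (G.map e.inverse (e.unitIso.app _ ≪≫ e.inverse.mapIso η)).ofEpi
      (e.inverse.mapIso ((Scheme.Modules.overFunctorEquiv V).app M).symm ≪≫
        (e.unitIso.app _).symm).hom, ⟨inferInstanceAs (Finite (ULift.{u} (Fin n)))⟩⟩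
  choose V hV G hG using hG
  let σ : SheafOfModules.LocalGeneratorsData.{u} (R := X.ringCatSheaf) M :=
    { I := ↥X
      X := V
      coversTop := by
        rw [Opens.coversTop_iff, IsOpenCover]
        exact eq_top_iff.mpr fun x _ => Opens.mem_iSup.mpr ⟨x, hV x⟩
      generators := G }
  constructor
  refine ⟨σ, ?_⟩
  constructor
  exact fun a => hG a

/-- Finite presentation is local. -/
theorem isFP_of_local {M : X.Modules}
    (h : ∀ x : X, ∃ (U : Scheme.{u}) (j : U ⟶ X) (_ : IsOpenImmersion j) (y : U), j y = x ∧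
      CohB1.IsFP ((Scheme.Modules.restrictFunctor j).obj M)) : CohB1.IsFP M := by
  have hD : ∀ x : X, ∃ (D : X.Opens) (hD : IsAffineOpen D), x ∈ D ∧
      IsIso (M.restrict hD.fromSpec).fromTildeΓ ∧
      Module.FinitePresentation Γ(X, D) Γ(M.restrict hD.fromSpec, ⊤) := by
    intro x
    obtain ⟨U, j, hj, y, rfl, hP⟩ := h x
    obtain ⟨σ, hσ⟩ := hP.exists_quasicoherentData
    have hcov : ⨆ i, σ.X i = ⊤ := by
      have := σ.coversTop
      rwa [Opens.coversTop_iff, IsOpenCover] at this
    obtain ⟨i, hi⟩ := Opens.mem_iSup.mp (hcov.ge (trivial : y ∈ (⊤ : U.Opens)))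
    let Wi : U.Opens := σ.X i
    let k := Wi.ι ≫ j
    obtain ⟨_, ⟨D : X.Opens, (hD : IsAffineOpen D), rfl⟩, hxD, hDU⟩ :=
      X.isBasis_affineOpens.exists_subset_of_mem_open (a := j y) (u := ↑k.opensRange)
        ⟨⟨y, hi⟩, rfl⟩ k.opensRange.2
    have hr : Set.range hD.fromSpec ⊆ Set.range k := by
      rw [IsAffineOpen.range_fromSpec]
      exact hDU
    let v := IsOpenImmersion.lift k hD.fromSpec hr
    have hv : v ≫ k = hD.fromSpec := IsOpenImmersion.lift_fac k hD.fromSpec hr
    haveI : IsOpenImmersion (v ≫ k) := by rw [hv]; infer_instance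
    haveI : IsOpenImmersion v := IsOpenImmersion.of_comp v k
    haveI : PreservesColimitsOfSize.{u, u} (Scheme.Modules.restrictFunctor v) :=
      (Scheme.Modules.restrictAdjunction v).leftAdjoint_preservesColimits
    let N := (Scheme.Modules.restrictFunctor j).obj M
    let F := (Scheme.Modules.overEquiv Wi).functor ⋙ Scheme.Modules.restrictFunctor v
    let iso : F.obj (SheafOfModules.over (R := U.ringCatSheaf) N Wi) ≅ M.restrict hD.fromSpec :=
      (Scheme.Modules.restrictFunctor v).mapIso
          ((Scheme.Modules.overFunctorEquiv Wi).app N ≪≫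
            ((Scheme.Modules.restrictFunctorComp Wi.ι j).app M).symm) ≪≫
        ((Scheme.Modules.restrictFunctorComp v k).symm ≪≫
          Scheme.Modules.restrictFunctorCongr hv).app M
    haveI : (σ.presentation i).IsFinite := hσ.isFinite_presentation i
    let P₂ : SheafOfModules.Presentation.{u, u, u} (R := (Spec Γ(X, D)).ringCatSheaf)
        (M.restrict hD.fromSpec) :=
      SheafOfModules.Presentation.ofIsIso.{u, u, u} iso.hom
        ((σ.presentation i).map F (((Scheme.Modules.overFunctorEquiv Wi).app
            (SheafOfModules.unit U.ringCatSheaf) ≪≫ Scheme.Modules.restrictUnitIso Wi.ι).symm |>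
          fun η => (Scheme.Modules.restrictUnitIso v).symm ≪≫
            (Scheme.Modules.restrictFunctor v).mapIso η))
    haveI : P₂.IsFinite := ⟨⟨inferInstanceAs (Finite (σ.presentation i).generators.I)⟩,
      ⟨inferInstanceAs (Finite (σ.presentation i).relations.I)⟩⟩
    haveI hq : (M.restrict hD.fromSpec).IsQuasicoherent :=
      SheafOfModules.Presentation.isQuasicoherent.{u, u, u} P₂
    haveI hiso : IsIso (M.restrict hD.fromSpec).fromTildeΓ :=
      (isQuasicoherent_iff_isIso_fromTildeΓ _).mp hq
    exact ⟨D, hD, hxD, hiso, QCohLib.finitePresentation_of_presentation _ P₂⟩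
  choose D hD hx hiso hfp using hD
  have hcov : ⨆ x, D x = ⊤ := eq_top_iff.mpr fun x _ => Opens.mem_iSup.mpr ⟨x, hx x⟩
  haveI : Coh.IsQCoh M := PullbackMod.isQCoh_of_isIso_fromTildeΓ M D hD hcov hiso
  exact PullbackMod.isFP_of_finitePresentation M D hD hcov fun x =>
    haveI := hfp x
    Module.FinitePresentation.of_equiv (QCohLib.topEquiv M (hD x))

theorem isFP_iso {M N : X.Modules} (e : M ≅ N) (h : CohB1.IsFP M) : CohB1.IsFP N := by
  haveI := h
  haveI hM : Coh.IsQCoh M := inferInstanceAs (SheafOfModules.IsQuasicoherent (R := X.ringCatSheaf) M)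
  haveI hN : Coh.IsQCoh N := (SheafOfModules.isQuasicoherent.{u} _).prop_of_iso e hM
  refine PullbackMod.isFP_of_finitePresentation N (fun W : X.affineOpens => (W : X.Opens))
    (fun W => W.2) (iSup_affineOpens_eq_top X) fun W => ?_
  haveI := QCohLib.finitePresentation_sections M h W.2
  exact Module.FinitePresentation.of_equiv (LinearEquiv.ofBijective (FlatLocus.appL e.hom (W : X.Opens))
    ((ConcreteCategory.isIso_iff_bijective _).mp (show IsIso (Scheme.Modules.Hom.app e.hom (W : X.Opens)) from inferInstance)))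

end Groth.Agent.DCohLib
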