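import Groth.Agent.DCohLib.TensorMod

/-!
# Distinguished triangles and tor amplitude
-/

set_option autoImplicit false
set_option linter.style.haveILetI false

universe u

open CategoryTheory Limits AlgebraicGeometry CategoryTheory.Pretriangulated

attribute [local instance] HasDerivedCategory.standard

noncomputable section

namespace Groth.Agent.DCohLib

variable {X : Scheme.{u}}

theorem isKFlat_cone {P Q : CochainComplex X.Modules ℤ} (φ : P ⟶ Q) (hP : DCoh.IsKFlat P)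
    (hQ : DCoh.IsKFlat Q) : DCoh.IsKFlat (CochainComplex.mappingCone φ) :=
  (isKFlat_iff _).2 ((Groth.Agent.KFlat.twoOfThree_cone X.sheaf φ).1 ((isKFlat_iff _).1 hP) ((isKFlat_iff _).1 hQ))

theorem isIso_Q_resXπ (K : CochainComplex X.Modules ℤ) :
    IsIso (DerivedCategory.Q.map ((resXπ X).app K)) :=
  Localization.inverts DerivedCategory.Q (HomologicalComplex.quasiIso X.Modules (ComplexShape.up ℤ)) _
    ((HomologicalComplex.mem_quasiIso_iff _).2 (quasiIso_resXπ K))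

/-- Every object is represented by its resolution. -/
def resXIso (K : DCoh.D X) :
    DCoh.toD X ((resX X).obj (DerivedCategory.Q.objPreimage K)) ≅ K :=
  @asIso _ _ _ _ _ (isIso_Q_resXπ (DerivedCategory.Q.objPreimage K)) ≪≫ DerivedCategory.Q.objObjPreimageIso K

theorem exists_resolved (T : Triangle (DCoh.D X)) (hT : T ∈ distinguishedTriangles) :
    ∃ (P Q : CochainComplex X.Modules ℤ) (φ : P ⟶ Q), DCoh.IsKFlat P ∧ DCoh.IsKFlat Q ∧
      (∀ i, FlatMod.IsFlat (P.X i)) ∧ (∀ i, FlatMod.IsFlat (Q.X i)) ∧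
      Nonempty (DerivedCategory.Q.mapTriangle.obj (CochainComplex.mappingCone.triangle φ) ≅ T) := by
  obtain ⟨A, B, f, ⟨e⟩⟩ := (DerivedCategory.mem_distTriang_iff T).1 hT
  refine ⟨_, _, (resX X).map f, isKFlat_resX A, isKFlat_resX B, isFlat_resX A, isFlat_resX B, ⟨?_⟩⟩
  let T' := DerivedCategory.Q.mapTriangle.obj (CochainComplex.mappingCone.triangle ((resX X).map f))
  let e₁ : DCoh.toD X ((resX X).obj A) ≅ DCoh.toD X A := @asIso _ _ _ _ _ (isIso_Q_resXπ A)
  let e₂ : DCoh.toD X ((resX X).obj B) ≅ DCoh.toD X B := @asIso _ _ _ _ _ (isIso_Q_resXπ B)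
  exact isoTriangleOfIso₁₂ T' _ (DerivedCategory.mappingCone_triangle_distinguished _)
    (DerivedCategory.mappingCone_triangle_distinguished f) e₁ e₂
    ((DerivedCategory.Q.map_comp _ _).symm.trans ((congr_arg DerivedCategory.Q.map
      ((resXπ X).naturality f)).trans (DerivedCategory.Q.map_comp _ _))) ≪≫ e.symm

variable (F : X.Modules) [DCoh.HasLTensorMod F]

/-- The cohomology of a triangle after `- ⊗^L F`. -/
theorem exists_lTensor_triangle (T : Triangle (DCoh.D X)) (hT : T ∈ distinguishedTriangles) :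
    ∃ T' : Triangle (DCoh.D X), T' ∈ distinguishedTriangles ∧
      Nonempty (T'.obj₁ ≅ (DCoh.LTensorMod F).obj T.obj₁) ∧
      Nonempty (T'.obj₂ ≅ (DCoh.LTensorMod F).obj T.obj₂) ∧
      Nonempty (T'.obj₃ ≅ (DCoh.LTensorMod F).obj T.obj₃) := by
  obtain ⟨P, Q, φ, hP, hQ, -, -, ⟨e⟩⟩ := exists_resolved T hT
  refine ⟨DerivedCategory.Q.mapTriangle.obj (CochainComplex.mappingCone.triangle
      (((DCoh.tensorRightMod F).mapHomologicalComplex (ComplexShape.up ℤ)).map φ)),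
    DerivedCategory.mappingCone_triangle_distinguished _,
    ⟨(lTensorModIso F P hP).symm ≪≫ (DCoh.LTensorMod F).mapIso (Triangle.π₁.mapIso e)⟩,
    ⟨(lTensorModIso F Q hQ).symm ≪≫ (DCoh.LTensorMod F).mapIso (Triangle.π₂.mapIso e)⟩,
    ⟨DerivedCategory.Q.mapIso (CochainComplex.mappingCone.mapHomologicalComplexIso φ _).symm ≪≫
      (lTensorModIso F _ (isKFlat_cone φ hP hQ)).symm ≪≫ (DCoh.LTensorMod F).mapIso (Triangle.π₃.mapIso e)⟩⟩

end Groth.Agent.DCohLib

namespace Groth.Agent.DCohLib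

variable {X : Scheme.{u}} {T : Triangle (DCoh.D X)} (hT : T ∈ distinguishedTriangles) {a b : ℤ}
include hT

theorem torAmplitude₃ (h₁ : DCoh.HasTorAmplitudeIn (a + 1) (b + 1) T.obj₁)
    (h₂ : DCoh.HasTorAmplitudeIn a b T.obj₂) : DCoh.HasTorAmplitudeIn a b T.obj₃ := by
  intro F _ i hi
  obtain ⟨T', hT', ⟨e₁⟩, ⟨e₂⟩, ⟨e₃⟩⟩ := exists_lTensor_triangle F T hT
  refine IsZero.of_iso ?_ ((DerivedCategory.homologyFunctor X.Modules i).mapIso e₃.symm)
  refine (DerivedCategory.HomologySequence.exact₃ T' hT' i (i + 1) rfl).isZero_of_both_zeros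
    (IsZero.eq_of_src ?_ _ _) (IsZero.eq_of_tgt ?_ _ _)
  · exact (h₂ F i hi).of_iso ((DerivedCategory.homologyFunctor X.Modules i).mapIso e₂)
  · exact (h₁ F (i + 1) (by omega)).of_iso ((DerivedCategory.homologyFunctor X.Modules (i + 1)).mapIso e₁)

theorem torAmplitude₂ (h₁ : DCoh.HasTorAmplitudeIn a b T.obj₁)
    (h₃ : DCoh.HasTorAmplitudeIn a b T.obj₃) : DCoh.HasTorAmplitudeIn a b T.obj₂ := by
  intro F _ i hi
  obtain ⟨T', hT', ⟨e₁⟩, ⟨e₂⟩, ⟨e₃⟩⟩ := exists_lTensor_triangle F T hT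
  refine IsZero.of_iso ?_ ((DerivedCategory.homologyFunctor X.Modules i).mapIso e₂.symm)
  refine (DerivedCategory.HomologySequence.exact₂ T' hT' i).isZero_of_both_zeros
    (IsZero.eq_of_src ?_ _ _) (IsZero.eq_of_tgt ?_ _ _)
  · exact (h₁ F i hi).of_iso ((DerivedCategory.homologyFunctor X.Modules i).mapIso e₁)
  · exact (h₃ F i hi).of_iso ((DerivedCategory.homologyFunctor X.Modules i).mapIso e₃)

theorem torAmplitude₁ (h₂ : DCoh.HasTorAmplitudeIn (a + 1) (b + 1) T.obj₂)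
    (h₃ : DCoh.HasTorAmplitudeIn a b T.obj₃) : DCoh.HasTorAmplitudeIn (a + 1) (b + 1) T.obj₁ := by
  intro F _ i hi
  obtain ⟨T', hT', ⟨e₁⟩, ⟨e₂⟩, ⟨e₃⟩⟩ := exists_lTensor_triangle F T hT
  refine IsZero.of_iso ?_ ((DerivedCategory.homologyFunctor X.Modules i).mapIso e₁.symm)
  refine (DerivedCategory.HomologySequence.exact₁ T' hT' (i - 1) i (by omega)).isZero_of_both_zeros
    (IsZero.eq_of_src ?_ _ _) (IsZero.eq_of_tgt ?_ _ _)
  · exact (h₃ F (i - 1) (by omega)).of_iso ((DerivedCategory.homologyFunctor X.Modules (i - 1)).mapIso e₃)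
  · exact (h₂ F i hi).of_iso ((DerivedCategory.homologyFunctor X.Modules i).mapIso e₂)

end Groth.Agent.DCohLib
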