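import Groth.Agent.DCohLib.TensorLinv

/-!
# Induction over bounded complexes of finite free modules
-/

set_option autoImplicit false
set_option linter.style.haveILetI false

universe u

open CategoryTheory CategoryTheory.Limits AlgebraicGeometry

noncomputable section

namespace Groth.Agent.DCohLib

variable {X : Scheme.{u}}

/-- A property of complexes of modules closed under isomorphisms and degreewise split extensions,
holding for zero complexes and shifts of the unit. -/
structure FreeClosed (P : CochainComplex X.Modules ℤ → Prop) : Prop where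
  iso : ∀ {E E' : CochainComplex X.Modules ℤ}, (E ≅ E') → P E → P E'
  zero : ∀ E : CochainComplex X.Modules ℤ, (∀ n, IsZero (E.X n)) → P E
  unit : ∀ a : ℤ, P (shiftUnitCx X a)
  split : ∀ S : ShortComplex (CochainComplex X.Modules ℤ),
    (∀ q, (S.map (HomologicalComplex.eval X.Modules (ComplexShape.up ℤ) q)).Splitting) →
      P S.X₁ → P S.X₃ → P S.X₂

/-- A free module of rank one is the structure module. -/
def freeModOne (X : Scheme.{u}) : FlatMod.freeMod X 1 ≅ Coh.structureModule X where
  hom := Sigma.desc fun _ => 𝟙 _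
  inv := Sigma.ι (fun _ : Fin 1 => Coh.structureModule X) 0
  hom_inv_id := Sigma.hom_ext _ _ fun i => by
    obtain rfl : i = 0 := Subsingleton.elim _ _
    simp
  inv_hom_id := by simp

variable {P : CochainComplex X.Modules ℤ → Prop}

theorem FreeClosed.single (hP : FreeClosed P) : ∀ (n : ℕ) (a : ℤ) (M : X.Modules), (M ≅ FlatMod.freeMod X n) →
    P ((HomologicalComplex.single X.Modules (ComplexShape.up ℤ) a).obj M)
  | 0, a, M, e => hP.zero _ fun q => by
    have hM : IsZero M := IsZero.of_iso
      ((IsZero.iff_id_eq_zero _).2 (Sigma.hom_ext _ _ fun i => i.elim0)) e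
    exact ((HomologicalComplex.single X.Modules (ComplexShape.up ℤ) a ⋙
      HomologicalComplex.eval X.Modules (ComplexShape.up ℤ) q).map_isZero hM)
  | n + 1, a, M, e => by
    let sgl := HomologicalComplex.single X.Modules (ComplexShape.up ℤ) a
    refine hP.iso (sgl.mapIso (freeModBiprod X n 1 ≪≫ e.symm)) ?_
    let S₀ := ShortComplex.mk (biprod.inl : FlatMod.freeMod X n ⟶ FlatMod.freeMod X n ⊞ FlatMod.freeMod X 1)
      biprod.snd biprod.inl_snd
    refine hP.split (S₀.map sgl) (fun q =>
      (ShortComplex.Splitting.ofHasBinaryBiproduct _ _).map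
        (sgl ⋙ HomologicalComplex.eval X.Modules (ComplexShape.up ℤ) q))
      (hP.single n a _ (Iso.refl _)) ?_
    exact hP.iso (sgl.mapIso (freeModOne X).symm) (hP.unit a)

theorem FreeClosed.bounded (hP : FreeClosed P) : ∀ (k : ℕ) (a : ℤ) (E : CochainComplex X.Modules ℤ),
    (∀ i, i < a ∨ a + k ≤ i → IsZero (E.X i)) →
    (∀ i, ∃ n : ℕ, Nonempty (E.X i ≅ FlatMod.freeMod X n)) → P E
  | 0, a, E, h, _ => hP.zero E fun i => h i (by omega)
  | k + 1, a, E, h, hfree => by
    let B := brutalGE E (a + 1)
    have hg : ∀ i, (ComplexShape.up ℤ).Rel i a → E.d i a ≫ 𝟙 (E.X a) = 0 := fun i hi => by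
      have hi' : i + 1 = a := hi
      exact (h i (by omega)).eq_of_src _ _
    let g := HomologicalComplex.mkHomToSingle (𝟙 (E.X a)) hg
    have hfg : brutalGEι E (a + 1) ≫ g = 0 := HomologicalComplex.hom_ext _ _ fun i => by
      rcases eq_or_ne i a with rfl | hi
      · exact (isZero_brutalGE_X E (i + 1) i (by omega)).eq_of_src _ _
      · exact (HomologicalComplex.isZero_single_obj_X _ _ _ _ hi).eq_of_tgt _ _
    refine hP.split (ShortComplex.mk (brutalGEι E (a + 1)) g hfg) (fun q => ?_) ?_ ?_
    · by_cases hq : q = a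
      · subst hq
        refine ShortComplex.Splitting.ofIsZeroOfIsIso _ (isZero_brutalGE_X E (q + 1) q (by omega)) ?_
        show IsIso (g.f q)
        rw [HomologicalComplex.mkHomToSingle_f]
        infer_instance
      · refine ShortComplex.Splitting.ofIsIsoOfIsZero _ ?_
          (HomologicalComplex.isZero_single_obj_X (ComplexShape.up ℤ) a (E.X a) q hq)
        show IsIso ((brutalGEι E (a + 1)).f q)
        by_cases hq' : a + 1 ≤ q
        · exact isIso_brutalGEι_f E (a + 1) q hq'
        · exact ⟨0, (isZero_brutalGE_X E (a + 1) q (by omega)).eq_of_src _ _, (h q (by omega)).eq_of_src _ _⟩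
    · refine hP.bounded k (a + 1) B (fun i hi => ?_) fun i => ?_
      · rcases hi with hi | hi
        · exact isZero_brutalGE_X E (a + 1) i hi
        · exact IsZero.of_mono ((brutalGEι E (a + 1)).f i) (h i (by omega))
      · by_cases hi : a + 1 ≤ i
        · haveI := isIso_brutalGEι_f E (a + 1) i hi
          obtain ⟨n, ⟨e⟩⟩ := hfree i
          exact ⟨n, ⟨asIso ((brutalGEι E (a + 1)).f i) ≪≫ e⟩⟩
        · exact ⟨0, ⟨(isZero_brutalGE_X E (a + 1) i (by omega)).iso
            ((IsZero.iff_id_eq_zero _).2 (Sigma.hom_ext _ _ fun i => i.elim0))⟩⟩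
    · obtain ⟨n, ⟨e⟩⟩ := hfree a
      exact hP.single n a (E.X a) e

/-- Strictly perfect complexes with free terms have every such property. -/
theorem FreeClosed.of_free (hP : FreeClosed P) {E : CochainComplex X.Modules ℤ} {a b : ℤ}
    (hab : DCoh.VanishesOutside E a b)
    (hfree : ∀ i : ℤ, ∃ n : ℕ, Nonempty (E.X i ≅ FlatMod.freeMod X n)) : P E :=
  hP.bounded (b + 1 - a).toNat a E (fun i hi => hab i (by omega)) hfree

end Groth.Agent.DCohLib
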