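import Groth.Agent.DCohLib.ExtTensor
import Groth.Agent.DCohLib.LpullTensor
import Groth.Agent.DCohLib.OpenD

/-!
# Extension by zero and derived tensor products on derived categories
-/

set_option autoImplicit false
set_option linter.style.haveILetI false

universe u

open CategoryTheory CategoryTheory.Limits AlgebraicGeometry TopologicalSpace

attribute [local instance] HasDerivedCategory.standard

noncomputable section

namespace Groth.Agent.DCohLib

variable {X : Scheme.{u}} (U : X.Opens)

/-- The projection formula for extension by zero, natural in the first complex. -/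
def extTensorFunIso (K : CochainComplex X.Modules ℤ) :
    DCoh.tensorCx.flip.obj ((resCx U.ι).obj K) ⋙ extCx U ≅ extCx U ⋙ DCoh.tensorCx.flip.obj K :=
  (NatIso.ofComponents (fun L => (extTensorCxIso U L K).symm)
    fun φ => extTensorCxIso_inv_natural U φ K).symm

variable [PreservesFiniteLimits (CxOX.extZero U.ι)]

/-- `N ↦ j_! (N ⊗ K|_U)` with values in the derived category. -/
abbrev extTensorQ (K : CochainComplex X.Modules ℤ) : CochainComplex (U : Scheme.{u}).Modules ℤ ⥤ DCoh.D X :=
  DCoh.tensorCxQ ((resCx U.ι).obj K) ⋙ CxOX.extZeroD U.ι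

/-- The resolution adapted to `extTensorQ`. -/
def extTensorAdapted (K : CochainComplex X.Modules ℤ) :
    Adapted (HomologicalComplex.quasiIso (U : Scheme.{u}).Modules (ComplexShape.up ℤ)) (extTensorQ U K) where
  P := (tensorAdapted ((resCx U.ι).obj K)).P
  ψ := (tensorAdapted ((resCx U.ι).obj K)).ψ
  hψ := (tensorAdapted ((resCx U.ι).obj K)).hψ
  inverts A B f hf := by
    haveI := (tensorAdapted ((resCx U.ι).obj K)).inverts f hf
    exact inferInstanceAs (IsIso ((CxOX.extZeroD U.ι).map
      (((tensorAdapted ((resCx U.ι).obj K)).P ⋙ DCoh.tensorCxQ ((resCx U.ι).obj K)).map f)))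
  isIso_map A := by
    haveI := (tensorAdapted ((resCx U.ι).obj K)).isIso_map A
    exact inferInstanceAs (IsIso ((CxOX.extZeroD U.ι).map
      ((DCoh.tensorCxQ ((resCx U.ι).obj K)).map
        ((tensorAdapted ((resCx U.ι).obj K)).ψ.app ((tensorAdapted ((resCx U.ι).obj K)).P.obj A)))))

/-- Extension by zero commutes with derived tensor products. -/
theorem nonempty_extZeroD_lTensor (K : CochainComplex X.Modules ℤ) [DCoh.HasLTensorCx K]
    [DCoh.HasLTensorCx ((resCx U.ι).obj K)] :
    Nonempty (DCoh.LTensorCx ((resCx U.ι).obj K) ⋙ CxOX.extZeroD U.ι ≅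
      CxOX.extZeroD U.ι ⋙ DCoh.LTensorCx K) := by
  let W := HomologicalComplex.quasiIso (U : Scheme.{u}).Modules (ComplexShape.up ℤ)
  let R := extTensorAdapted U K
  let α₁ : DerivedCategory.Q ⋙ DCoh.LTensorCx ((resCx U.ι).obj K) ⋙ CxOX.extZeroD U.ι ⟶ extTensorQ U K :=
    (Functor.associator _ _ _).inv ≫ Functor.whiskerRight (lTensorCounit ((resCx U.ι).obj K)) _
  let eF : extCx U ⋙ DCoh.tensorCxQ K ≅ extTensorQ U K :=
    (Functor.associator _ _ _).symm ≪≫ Functor.isoWhiskerRight (extTensorFunIso U K).symm _ ≪≫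
      Functor.associator _ _ _ ≪≫
      Functor.isoWhiskerLeft _ (CxOX.extZero U.ι).mapDerivedCategoryFactors.symm ≪≫
      (Functor.associator _ _ _).symm
  let α₂ : DerivedCategory.Q ⋙ CxOX.extZeroD U.ι ⋙ DCoh.LTensorCx K ⟶ extTensorQ U K :=
    (Functor.associator _ _ _).inv ≫
      Functor.whiskerRight (CxOX.extZero U.ι).mapDerivedCategoryFactors.hom _ ≫
      (Functor.associator _ _ _).hom ≫ Functor.whiskerLeft (extCx U) (lTensorCounit K) ≫ eF.hom
  haveI : (DCoh.LTensorCx ((resCx U.ι).obj K) ⋙ CxOX.extZeroD U.ι).IsLeftDerivedFunctor α₁ W :=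
    R.isLeftDerivedFunctor _ _ α₁ fun A => by
      haveI := isIso_lTensorCounit_app ((resCx U.ι).obj K) _ (isKFlat_resX A)
      show IsIso (α₁.app ((resX (U : Scheme.{u})).obj A))
      simp only [α₁, NatTrans.comp_app, Functor.associator_inv_app, Functor.whiskerRight_app]
      infer_instance
  haveI : (CxOX.extZeroD U.ι ⋙ DCoh.LTensorCx K).IsLeftDerivedFunctor α₂ W :=
    R.isLeftDerivedFunctor _ _ α₂ fun A => by
      haveI := isIso_lTensorCounit_app K _ (isKFlat_extCx U (isKFlat_resX A))
      show IsIso (α₂.app ((resX (U : Scheme.{u})).obj A))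
      simp only [α₂, NatTrans.comp_app, Functor.associator_inv_app, Functor.associator_hom_app,
        Functor.whiskerRight_app, Functor.whiskerLeft_app]
      infer_instance
  exact ⟨Functor.leftDerivedUnique _ _ α₁ α₂ W⟩

/-- Internal homs commute with restriction to opens. -/
theorem nonempty_restrictD_rSheafHom (K : CochainComplex X.Modules ℤ) [DCoh.HasLTensorCx K]
    [DCoh.HasRSheafHom K] [DCoh.HasLTensorCx ((resCx U.ι).obj K)] [DCoh.HasRSheafHom ((resCx U.ι).obj K)]
    [PreservesFiniteLimits (Scheme.Modules.restrictFunctor U.ι)] :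
    Nonempty (DCoh.RSheafHom K ⋙ DCoh.restrictD U.ι ≅
      DCoh.restrictD U.ι ⋙ DCoh.RSheafHom ((resCx U.ι).obj K)) := by
  obtain ⟨adj⟩ := nonempty_extZeroD_adj U
  obtain ⟨e⟩ := nonempty_extZeroD_lTensor U K
  exact ⟨((adj.comp (DCoh.RSheafHomAdj K)).ofNatIsoLeft e.symm).rightAdjointUniq
    ((DCoh.RSheafHomAdj ((resCx U.ι).obj K)).comp adj)⟩

end Groth.Agent.DCohLib
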