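import Groth.Agent.DCohLib.DualCx
import Groth.Agent.DCohLib.TensorLinv
import Groth.Agent.DCohLib.ExtTensorD
import Groth.Agent.DCohLib.ProjPerf

/-!
# Evaluation is an isomorphism where the first complex is invertible
-/

set_option autoImplicit false
set_option linter.style.haveILetI false

universe u

open CategoryTheory CategoryTheory.Limits AlgebraicGeometry TopologicalSpace

attribute [local instance] HasDerivedCategory.standard

noncomputable section

namespace Groth.Agent.DCohLib

variable {X : Scheme.{u}}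

/-- Tensoring with a K-flat complex preserves quasi-isomorphisms over an open. -/
theorem quasiIso_res_tensor_map_of_isKFlat {U : Scheme.{u}} (j : U ⟶ X) [IsOpenImmersion j]
    {A : CochainComplex X.Modules ℤ} (hA : DCoh.IsKFlat A) {P Q : CochainComplex X.Modules ℤ} (α : P ⟶ Q)
    (h : QuasiIso ((resCx j).map α)) : QuasiIso ((resCx j).map ((DCoh.tensorCx.obj A).map α)) := by
  rw [quasiIso_resCx_iff] at h ⊢
  refine quasiIso_of_comm _ _ (pullTensorCxIso j A P) (pullTensorCxIso j A Q) ?_
    (quasiIso_tensorCx_obj_map (isKFlat_pullback j hA) ((pullCx j).map α) h)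
  rw [← Iso.eq_comp_inv, Category.assoc, pullTensorCxIso_inv_natural j A α, Iso.hom_inv_id_assoc]

variable (V : X.Opens)

/-- Restriction commutes with the derived tensor product by a K-flat complex. -/
def restrictLTensorIso (N : CochainComplex X.Modules ℤ) (hN : DCoh.IsKFlat N) :
    DCoh.restrictD V.ι ⋙ DCoh.LTensorCx ((resCx V.ι).obj N) ≅ DCoh.LTensorCx N ⋙ DCoh.restrictD V.ι :=
  let fac := (Scheme.Modules.restrictFunctor V.ι).mapDerivedCategoryFactors
  letI : Localization.Lifting DerivedCategory.Q (HomologicalComplex.quasiIso X.Modules (ComplexShape.up ℤ))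
      (resCx V.ι ⋙ tenR ((resCx V.ι).obj N) ⋙ DerivedCategory.Q)
      (DCoh.restrictD V.ι ⋙ DCoh.LTensorCx ((resCx V.ι).obj N)) :=
    ⟨(Functor.associator _ _ _).symm ≪≫ Functor.isoWhiskerRight fac _ ≪≫ Functor.associator _ _ _ ≪≫
      Functor.isoWhiskerLeft _ (lTensorQIso ((resCx V.ι).obj N) (isKFlat_resCx V.ι hN))⟩
  letI : Localization.Lifting DerivedCategory.Q (HomologicalComplex.quasiIso X.Modules (ComplexShape.up ℤ))
      (tenR N ⋙ resCx V.ι ⋙ DerivedCategory.Q) (DCoh.LTensorCx N ⋙ DCoh.restrictD V.ι) :=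
    ⟨(Functor.associator _ _ _).symm ≪≫ Functor.isoWhiskerRight (lTensorQIso N hN) _ ≪≫
      Functor.associator _ _ _ ≪≫ Functor.isoWhiskerLeft _ fac⟩
  Localization.liftNatIso DerivedCategory.Q (HomologicalComplex.quasiIso X.Modules (ComplexShape.up ℤ))
    (resCx V.ι ⋙ tenR ((resCx V.ι).obj N) ⋙ DerivedCategory.Q) (tenR N ⋙ resCx V.ι ⋙ DerivedCategory.Q) _ _
    ((Functor.associator _ _ _).symm ≪≫ Functor.isoWhiskerRight (restrictTensorNat V.ι N).symm _ ≪≫
      Functor.associator _ _ _)

/-- Restriction after extension by zero is the identity on derived categories. -/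
def extRestrictDIso : CxOX.extZeroD V.ι ⋙ DCoh.restrictD V.ι ≅ 𝟭 (DCoh.D (V : Scheme.{u})) :=
  let C := ComplexShape.up ℤ
  letI : Localization.Lifting DerivedCategory.Q (HomologicalComplex.quasiIso (V : Scheme.{u}).Modules C)
      (extCx V ⋙ resCx V.ι ⋙ DerivedCategory.Q) (CxOX.extZeroD V.ι ⋙ DCoh.restrictD V.ι) :=
    ⟨(Functor.associator _ _ _).symm ≪≫
      Functor.isoWhiskerRight (CxOX.extZero V.ι).mapDerivedCategoryFactors _ ≪≫ Functor.associator _ _ _ ≪≫
      Functor.isoWhiskerLeft _ (Scheme.Modules.restrictFunctor V.ι).mapDerivedCategoryFactors⟩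
  letI : Localization.Lifting DerivedCategory.Q (HomologicalComplex.quasiIso (V : Scheme.{u}).Modules C)
      DerivedCategory.Q (𝟭 (DCoh.D (V : Scheme.{u}))) := ⟨Functor.rightUnitor _⟩
  Localization.liftNatIso DerivedCategory.Q (HomologicalComplex.quasiIso (V : Scheme.{u}).Modules C)
    (extCx V ⋙ resCx V.ι ⋙ DerivedCategory.Q) DerivedCategory.Q _ _
    ((Functor.associator _ _ _).symm ≪≫
      Functor.isoWhiskerRight (NatIso.ofComponents (fun E => (extUnit V E).symm) fun {E E'} φ =>
        HomologicalComplex.hom_ext _ _ fun n => by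
          haveI := isIso_extUnit V (E.X n)
          haveI := isIso_extUnit V (E'.X n)
          show (Scheme.Modules.restrictFunctor V.ι).map ((CxOX.extZero V.ι).map (φ.f n)) ≫
              inv ((CxOX.extZeroAdj V.ι).unit.app (E'.X n)) = inv ((CxOX.extZeroAdj V.ι).unit.app (E.X n)) ≫ φ.f n
          rw [IsIso.comp_inv_eq, Category.assoc, IsIso.eq_inv_comp]
          exact ((CxOX.extZeroAdj V.ι).unit.naturality (φ.f n)).symm :
          extCx V ⋙ resCx V.ι ≅ 𝟭 _) _ ≪≫ Functor.leftUnitor _)

/-- Maps out of extensions by zero are detected on the open. -/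
theorem bijective_restrictD_map {x : DCoh.D X} {M : DCoh.D (V : Scheme.{u})}
    (e : x ≅ (CxOX.extZeroD V.ι).obj M) (Y : DCoh.D X) :
    Function.Bijective (fun g : x ⟶ Y => (DCoh.restrictD V.ι).map g) := by
  obtain ⟨adj⟩ := nonempty_extZeroD_adj V
  haveI : IsIso adj.unit := adj.isIso_unit_of_iso (extRestrictDIso V)
  have h : Function.Bijective (fun g : (CxOX.extZeroD V.ι).obj M ⟶ Y => (DCoh.restrictD V.ι).map g) := by
    have : (fun g : (CxOX.extZeroD V.ι).obj M ⟶ Y => (DCoh.restrictD V.ι).map g) =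
        (fun k => inv (adj.unit.app M) ≫ k) ∘ adj.homEquiv M Y := by
      funext g
      simp [Adjunction.homEquiv_unit]
    rw [this]
    exact ((asIso (adj.unit.app M)).homFromEquiv.bijective).comp (adj.homEquiv M Y).bijective
  have e' : (fun g : x ⟶ Y => (DCoh.restrictD V.ι).map g) =
      (fun k => (DCoh.restrictD V.ι).map e.hom ≫ k) ∘ (fun g => (DCoh.restrictD V.ι).map g) ∘ (fun g => e.inv ≫ g) := by
    funext g
    simp [← Functor.map_comp]
  rw [e']
  exact ((((DCoh.restrictD V.ι).mapIso e).symm.homFromEquiv).bijective).comp (h.comp e.homFromEquiv.bijective)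

theorem exists_Q_map {A J : CochainComplex X.Modules ℤ} [J.IsKInjective]
    (k : DerivedCategory.Q.obj A ⟶ DerivedCategory.Q.obj J) : ∃ g : A ⟶ J, DerivedCategory.Q.map g = k := by
  obtain ⟨g', hg'⟩ := (CochainComplex.IsKInjective.Qh_map_bijective ((quotM X).obj A) J).surjective
    ((DerivedCategory.quotientCompQhIso X.Modules).hom.app A ≫ k ≫
      (DerivedCategory.quotientCompQhIso X.Modules).inv.app J)
  obtain ⟨g, rfl⟩ := (quotM X).map_surjective g'
  refine ⟨g, ?_⟩
  rw [← cancel_epi ((DerivedCategory.quotientCompQhIso X.Modules).hom.app A),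
    ← (DerivedCategory.quotientCompQhIso X.Modules).hom.naturality g]
  dsimp only [Functor.comp_map]
  rw [hg']
  simp

theorem Q_map_eq_iff {A J : CochainComplex X.Modules ℤ} [J.IsKInjective] (g g' : A ⟶ J) :
    DerivedCategory.Q.map g = DerivedCategory.Q.map g' ↔ (quotM X).map g = (quotM X).map g' := by
  have h := fun k : A ⟶ J => (DerivedCategory.quotientCompQhIso X.Modules).hom.naturality k
  dsimp only [Functor.comp_map] at h
  refine ⟨fun e => (CochainComplex.IsKInjective.Qh_map_bijective ((quotM X).obj A) J).injective ?_, fun e => ?_⟩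
  · rw [← cancel_mono ((DerivedCategory.quotientCompQhIso X.Modules).hom.app J), h, h, e]
  · rw [← cancel_epi ((DerivedCategory.quotientCompQhIso X.Modules).hom.app A), ← h, ← h, e]

/-- Evaluation in the derived category. -/
def epsD (N : CochainComplex X.Modules ℤ) (hN : DCoh.IsKFlat N) (R : CochainComplex X.Modules ℤ) :
    (DCoh.LTensorCx N).obj (DerivedCategory.Q.obj ((hCx N).obj R)) ⟶ DerivedCategory.Q.obj R :=
  (lTensorQIso N hN).hom.app ((hCx N).obj R) ≫ DerivedCategory.Q.map ((hAdj N).counit.app R)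

theorem lTensor_map_epsD (N : CochainComplex X.Modules ℤ) (hN : DCoh.IsKFlat N)
    {P R : CochainComplex X.Modules ℤ} (g : P ⟶ (hCx N).obj R) :
    (DCoh.LTensorCx N).map (DerivedCategory.Q.map g) ≫ epsD N hN R =
      (lTensorQIso N hN).hom.app P ≫ DerivedCategory.Q.map (((hAdj N).homEquiv P R).symm g) := by
  rw [Adjunction.homEquiv_counit, DerivedCategory.Q.map_comp, epsD, ← Category.assoc, ← Category.assoc]
  refine congrArg (· ≫ _) ?_
  exact (lTensorQIso N hN).hom.naturality g

/-- The derived adjunction for a K-flat complex. -/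
theorem bijective_epsD (N : CochainComplex X.Modules ℤ) (hN : DCoh.IsKFlat N)
    (R : CochainComplex X.Modules ℤ) [R.IsKInjective] (B : DCoh.D X) :
    Function.Bijective (fun g : B ⟶ DerivedCategory.Q.obj ((hCx N).obj R) =>
      (DCoh.LTensorCx N).map g ≫ epsD N hN R) := by
  obtain ⟨P, ⟨e⟩⟩ : ∃ P : CochainComplex X.Modules ℤ, Nonempty (DerivedCategory.Q.obj P ≅ B) :=
    ⟨DerivedCategory.Q.objPreimage B, ⟨DerivedCategory.Q.objObjPreimageIso B⟩⟩
  haveI := isKInjective_hCx hN R
  have h : Function.Bijective (fun g : DerivedCategory.Q.obj P ⟶ DerivedCategory.Q.obj ((hCx N).obj R) =>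
      (DCoh.LTensorCx N).map g ≫ epsD N hN R) := by
    refine ⟨fun a b hab => ?_, fun k => ?_⟩
    · obtain ⟨a, rfl⟩ := exists_Q_map a
      obtain ⟨b, rfl⟩ := exists_Q_map b
      dsimp only at hab
      rw [lTensor_map_epsD, lTensor_map_epsD, cancel_epi, Q_map_eq_iff] at hab
      exact (Q_map_eq_iff a b).2 ((quotient_symm_eq_iff a b).2 hab)
    · obtain ⟨h, hh⟩ := exists_Q_map ((lTensorQIso N hN).inv.app P ≫ k)
      refine ⟨DerivedCategory.Q.map ((hAdj N).homEquiv P R h), ?_⟩
      dsimp only
      rw [lTensor_map_epsD, Equiv.symm_apply_apply, hh, Iso.hom_inv_id_app_assoc]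
  have e' : (fun g : B ⟶ DerivedCategory.Q.obj ((hCx N).obj R) => (DCoh.LTensorCx N).map g ≫ epsD N hN R) =
      (fun k => (DCoh.LTensorCx N).map e.inv ≫ k) ∘
        (fun g => (DCoh.LTensorCx N).map g ≫ epsD N hN R) ∘ (fun g => e.hom ≫ g) := by
    funext g
    simp only [Function.comp_apply]
    rw [← Category.assoc, ← (DCoh.LTensorCx N).map_comp, e.inv_hom_id_assoc]
  rw [e']
  exact ((((DCoh.LTensorCx N).mapIso e).homFromEquiv).bijective).comp (h.comp e.symm.homFromEquiv.bijective)

variable {V} (N : CochainComplex X.Modules ℤ) (hN : DCoh.IsKFlat N)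
  [(DCoh.LTensorCx ((resCx V.ι).obj N)).IsEquivalence]

include hN in
/-- On the open where `N` is invertible, tensoring is fully faithful from extensions by zero. -/
theorem bijective_lTensor_map {x : DCoh.D X} {M : DCoh.D (V : Scheme.{u})}
    (e : x ≅ (CxOX.extZeroD V.ι).obj M) (Y : DCoh.D X) :
    Function.Bijective (fun g : x ⟶ Y => (DCoh.LTensorCx N).map g) := by
  let c := restrictLTensorIso V N hN
  let F := DCoh.LTensorCx ((resCx V.ι).obj N)
  obtain ⟨t⟩ := nonempty_extZeroD_lTensor V N
  have h₁ := bijective_restrictD_map V ((DCoh.LTensorCx N).mapIso e ≪≫ (t.app M).symm) ((DCoh.LTensorCx N).obj Y)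
  refine (h₁.of_comp_iff' _).1 ?_
  have e' : (fun g => (DCoh.restrictD V.ι).map g) ∘ (fun g : x ⟶ Y => (DCoh.LTensorCx N).map g) =
      (fun k => c.inv.app x ≫ k ≫ c.hom.app Y) ∘ (fun g => F.map g) ∘ (fun g => (DCoh.restrictD V.ι).map g) := by
    funext g
    exact (NatIso.naturality_1 c g).symm
  rw [e']
  exact ((Iso.homCongr (c.app x) (c.app Y)).bijective).comp
    ((Functor.FullyFaithful.ofFullyFaithful F).map_bijective _ _ |>.comp (bijective_restrictD_map V e Y))

include hN in
/-- Evaluation is an isomorphism over the open where `N` is invertible. -/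
theorem isIso_restrict_epsD (R : CochainComplex X.Modules ℤ) [R.IsKInjective] :
    IsIso ((DCoh.restrictD V.ι).map (epsD N hN R)) := by
  let G := DCoh.LTensorCx N
  let res := DCoh.restrictD V.ι
  let F := DCoh.LTensorCx ((resCx V.ι).obj N)
  rw [isIso_iff_yoneda_map_bijective]
  intro B
  let M := F.objPreimage B
  let x := (CxOX.extZeroD V.ι).obj M
  obtain ⟨t⟩ := nonempty_extZeroD_lTensor V N
  let eB : res.obj (G.obj x) ≅ B := (restrictLTensorIso V N hN).symm.app x ≪≫
    F.mapIso ((extRestrictDIso V).app M) ≪≫ F.objObjPreimageIso B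
  have hG : ∀ Z, Function.Bijective (fun k : G.obj x ⟶ Z => res.map k) := fun Z =>
    bijective_restrictD_map V (t.app M).symm Z
  have h1 : Function.Bijective (fun k : G.obj x ⟶ G.obj (DerivedCategory.Q.obj ((hCx N).obj R)) => k ≫ epsD N hN R) :=
    ((bijective_lTensor_map N hN (Iso.refl x) _).of_comp_iff _).1 (bijective_epsD N hN R x)
  have h2 : Function.Bijective (fun k : res.obj (G.obj x) ⟶ res.obj (G.obj (DerivedCategory.Q.obj ((hCx N).obj R))) =>
      k ≫ res.map (epsD N hN R)) := by
    refine ((hG _).of_comp_iff _).1 ?_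
    have e' : (fun k => k ≫ res.map (epsD N hN R)) ∘ (fun k : G.obj x ⟶ _ => res.map k) =
        (fun k => res.map k) ∘ (fun k => k ≫ epsD N hN R) := by
      funext k
      exact (res.map_comp _ _).symm
    rw [e']
    exact (hG _).comp h1
  have e' : (fun k : B ⟶ res.obj (G.obj (DerivedCategory.Q.obj ((hCx N).obj R))) => k ≫ res.map (epsD N hN R)) =
      (fun k => eB.inv ≫ k) ∘ (fun k => k ≫ res.map (epsD N hN R)) ∘ (fun k => eB.hom ≫ k) := by
    funext k
    simp
  rw [e']
  exact (eB.homFromEquiv.bijective).comp (h2.comp eB.symm.homFromEquiv.bijective)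

include hN in
/-- The evaluation map is a quasi-isomorphism over the open where `N` is invertible. -/
theorem quasiIso_res_eps (R : CochainComplex X.Modules ℤ) [R.IsKInjective] :
    QuasiIso ((resCx V.ι).map ((hAdj N).counit.app R)) := by
  rw [← DerivedCategory.isIso_Q_map_iff_quasiIso]
  haveI := isIso_restrict_epsD N hN R (V := V)
  haveI h : IsIso ((DCoh.restrictD V.ι).map (DerivedCategory.Q.map ((hAdj N).counit.app R))) := by
    have e : (DCoh.restrictD V.ι).map ((lTensorQIso N hN).hom.app ((hCx N).obj R)) ≫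
        (DCoh.restrictD V.ι).map (DerivedCategory.Q.map ((hAdj N).counit.app R)) =
        (DCoh.restrictD V.ι).map (epsD N hN R) := ((DCoh.restrictD V.ι).map_comp _ _).symm
    exact IsIso.of_isIso_fac_left e
  exact (NatIso.isIso_map_iff (Scheme.Modules.restrictFunctor V.ι).mapDerivedCategoryFactors
    ((hAdj N).counit.app R)).1 h

include hN in
/-- Over the open where `N` is invertible, tensoring with `N` reflects quasi-isomorphisms. -/
theorem quasiIso_res_of_tensor {A B : CochainComplex X.Modules ℤ} (φ : A ⟶ B)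
    (h : QuasiIso ((resCx V.ι).map ((tenR N).map φ))) : QuasiIso ((resCx V.ι).map φ) := by
  let F := DCoh.LTensorCx ((resCx V.ι).obj N)
  have h1 : QuasiIso ((tenR ((resCx V.ι).obj N)).map ((resCx V.ι).map φ)) :=
    quasiIso_of_comm _ _ ((restrictTensorNat V.ι N).app A).symm ((restrictTensorNat V.ι N).app B).symm
      ((restrictTensorNat V.ι N).inv.naturality φ) h
  rw [← DerivedCategory.isIso_Q_map_iff_quasiIso] at h1 ⊢
  haveI : IsIso (F.map (DerivedCategory.Q.map ((resCx V.ι).map φ))) :=
    (NatIso.isIso_map_iff (lTensorQIso ((resCx V.ι).obj N) (isKFlat_resCx V.ι hN)) ((resCx V.ι).map φ)).2 h1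
  exact isIso_of_reflects_iso _ F

end Groth.Agent.DCohLib
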