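import Groth.Agent.DCohLib.SigmaSections
import Mathlib.CategoryTheory.Triangulated.Pretriangulated
import Groth.Prelude.Def_CohDer

/-!
# Maps factoring through finite partial sums
-/

set_option autoImplicit false
set_option linter.style.haveILetI false

universe w v u v' u'

open CategoryTheory CategoryTheory.Limits CategoryTheory.Pretriangulated

noncomputable section

namespace Groth.Agent.DCohLib

section

variable {C : Type u} [Category.{v} C] [Preadditive C] {D : Type u'} [Category.{v'} D] [Preadditive D]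
  {ι : Type w} {F : ι → C} {c : Cofan F} (hc : IsColimit c)

/-- Additive functors commute with partial sums. -/
theorem map_sigmaTrunc (G : C ⥤ D) [G.Additive] {c' : Cofan fun i => G.obj (F i)} (hc' : IsColimit c')
    (e : G.obj c.pt ≅ c'.pt) (he : ∀ i, G.map (c.inj i) ≫ e.hom = c'.inj i) (T : Finset ι) :
    G.map (sigmaTrunc hc T) ≫ e.hom = e.hom ≫ sigmaTrunc hc' T := by
  classical
  have he' : ∀ i, c'.inj i ≫ e.inv = G.map (c.inj i) := fun i => by
    rw [← he i, Category.assoc, e.hom_inv_id, Category.comp_id]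
  rw [← Iso.eq_comp_inv, Category.assoc, ← Iso.inv_comp_eq]
  refine Cofan.IsColimit.hom_ext hc' _ _ fun j => ?_
  rw [reassoc_of% (he' j), ← G.map_comp, inj_sigmaTrunc, ← Category.assoc (c'.inj j), inj_sigmaTrunc]
  split_ifs with h
  · exact (he' j).symm
  · rw [G.map_zero, zero_comp]

/-- Maps out of `x` into `Y` absorb some of the endomorphisms `P T`. -/
def Absorbs {Y : D} (P : Finset ι → (Y ⟶ Y)) (x : D) : Prop :=
  ∀ f : x ⟶ Y, ∃ T, f ≫ P T = f

variable {Y : D} {P : Finset ι → (Y ⟶ Y)}

theorem Absorbs.of_iso {x x' : D} (e : x ≅ x') (h : Absorbs P x) : Absorbs P x' := fun f => by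
  obtain ⟨T, hT⟩ := h (e.hom ≫ f)
  exact ⟨T, by rw [← cancel_epi e.hom, ← Category.assoc, hT]⟩

theorem absorbs_of_isZero {x : D} (h : IsZero x) : Absorbs P x := fun f => ⟨∅, h.eq_of_src _ _⟩

theorem absorbs_biprod {x x' : D} [HasBinaryBiproduct x x'] (hP : ∀ T T', T ⊆ T' → P T ≫ P T' = P T)
    (h : Absorbs P x) (h' : Absorbs P x') : Absorbs P (x ⊞ x') := fun f => by
  classical
  obtain ⟨T, hT⟩ := h (biprod.inl ≫ f)
  obtain ⟨T', hT'⟩ := h' (biprod.inr ≫ f)
  refine ⟨T ∪ T', biprod.hom_ext' _ _ ?_ ?_⟩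
  · conv_rhs => rw [← hT]
    conv_lhs => rw [← Category.assoc, ← hT, Category.assoc, hP _ _ Finset.subset_union_left]
  · conv_rhs => rw [← hT']
    conv_lhs => rw [← Category.assoc, ← hT', Category.assoc, hP _ _ Finset.subset_union_right]

end

section Triangulated

variable {D : Type u'} [Category.{v'} D] [Preadditive D] [HasZeroObject D] [HasShift D ℤ]
  [∀ n : ℤ, (shiftFunctor D n).Additive] [Pretriangulated D] {ι : Type w} {Y : D} {P : Finset ι → (Y ⟶ Y)}

/-- Absorption passes to extensions. -/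
theorem absorbs_obj₂ (hP : ∀ T T', T ⊆ T' → P T ≫ P T' = P T) (T : Triangle D) (hT : T ∈ distinguishedTriangles)
    (h₁ : Absorbs P T.obj₁) (h₃ : Absorbs P T.obj₃) : Absorbs P T.obj₂ := fun f => by
  classical
  obtain ⟨T₁, hT₁⟩ := h₁ (T.mor₁ ≫ f)
  obtain ⟨g, hg⟩ := Triangle.yoneda_exact₂ T hT (f - f ≫ P T₁)
    (by rw [Preadditive.comp_sub, ← Category.assoc, hT₁, sub_self])
  obtain ⟨T₃, hT₃⟩ := h₃ g
  refine ⟨T₁ ∪ T₃, ?_⟩
  have e : f = T.mor₂ ≫ g + f ≫ P T₁ := by rw [← hg, sub_add_cancel]
  conv_lhs => rw [e]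
  rw [Preadditive.add_comp, Category.assoc, Category.assoc, hP _ _ Finset.subset_union_left]
  conv_lhs => rw [← hT₃, Category.assoc, hP _ _ Finset.subset_union_right, hT₃]
  exact e.symm

end Triangulated

section Hom

variable {D : Type u'} [Category.{v'} D] [Preadditive D] (K : D) {ι : Type v'} (M : ι → D) [HasCoproduct M]

/-- The canonical map is injective, and surjective when maps absorb partial sums. -/
theorem bijective_homSumToHomCoprod
    (h : Absorbs (sigmaTrunc (coproductIsCoproduct M)) K) :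
    Function.Bijective (CohDer.homSumToHomCoprod K M) := by
  classical
  let π := fun i => sigmaProj (coproductIsCoproduct M) i
  have hof : ∀ i (g : K ⟶ M i), CohDer.homSumToHomCoprod K M (DirectSum.of (fun i => K ⟶ M i) i g) =
      g ≫ Sigma.ι M i := fun i g => by
    simp [CohDer.homSumToHomCoprod, Preadditive.rightComp]
  refine ⟨fun a b hab => ?_, fun f => ?_⟩
  · refine DFinsupp.ext fun i => ?_
    have key : ∀ z : DirectSum ι (fun i => K ⟶ M i), CohDer.homSumToHomCoprod K M z ≫ π i = z i := by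
      intro z
      induction z using DirectSum.induction_on with
      | zero => rw [map_zero, zero_comp]; rfl
      | of j g =>
        rw [hof, Category.assoc]
        by_cases hj : j = i
        · subst hj
          rw [DirectSum.of_eq_same]
          exact (congrArg (g ≫ ·) (inj_sigmaProj_self (coproductIsCoproduct M) j)).trans (Category.comp_id g)
        · rw [DirectSum.of_eq_of_ne _ _ _ (Ne.symm hj)]
          exact (congrArg (g ≫ ·) (inj_sigmaProj_ne (coproductIsCoproduct M) hj)).trans comp_zero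
      | add a b ha hb => rw [map_add, Preadditive.add_comp, ha, hb]; rfl
    rw [← key a, ← key b, hab]
  · obtain ⟨T, hT⟩ := h f
    refine ⟨∑ i ∈ T, DirectSum.of (fun i => K ⟶ M i) i (f ≫ π i), ?_⟩
    rw [map_sum]
    refine Eq.trans ?_ hT
    rw [sigmaTrunc, Preadditive.comp_sum]
    refine Finset.sum_congr rfl fun i _ => ?_
    rw [hof, Category.assoc]
    rfl

end Hom

end Groth.Agent.DCohLib
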