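import Groth.Agent.DCohLib.StalkRestrictFree
import Groth.Agent.PullbackMod.LimFree

/-!
# The locus where the cohomology of a perfect object is finite free
-/

set_option autoImplicit false
set_option backward.isDefEq.respectTransparency false
set_option linter.style.haveILetI false

universe u

open CategoryTheory CategoryTheory.Limits AlgebraicGeometry TopologicalSpace Opposite

attribute [local instance] HasDerivedCategory.standard

noncomputable section

namespace Groth.Agent.DCohLib

/-- In an exact sequence `0 → H → Q → F → R → 0` with `H`, `F`, `R` projective, `Q` is projective. -/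
theorem projective_of_exact_four {O H Q F R : Type u} [CommRing O] [AddCommGroup H] [Module O H]
    [AddCommGroup Q] [Module O Q] [AddCommGroup F] [Module O F] [AddCommGroup R] [Module O R]
    [Module.Projective O H] [Module.Projective O F] [Module.Projective O R]
    (ι : H →ₗ[O] Q) (f : Q →ₗ[O] F) (g : F →ₗ[O] R) (hι : Function.Injective ι)
    (hif : Function.Exact ι f) (hfg : Function.Exact f g) (hg : Function.Surjective g) :
    Module.Projective O Q := by
  have hgk : Function.Exact (LinearMap.ker g).subtype g := LinearMap.exact_subtype_ker_map g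
  obtain ⟨s, hs⟩ := Module.projective_lifting_property g LinearMap.id hg
  obtain ⟨r, hr⟩ := (hgk.split_tfae (Submodule.injective_subtype _) hg |>.out 0 1 rfl rfl).1 ⟨s, hs⟩
  haveI : Module.Projective O (LinearMap.ker g) := Module.Projective.of_split _ r hr
  let q : Q →ₗ[O] LinearMap.ker g := f.codRestrict _ fun z => hfg.apply_apply_eq_zero z
  have hq : Function.Surjective q := fun z => by
    obtain ⟨w, hw⟩ := (hfg z.1).1 z.2
    exact ⟨w, Subtype.ext hw⟩
  obtain ⟨t, ht⟩ := Module.projective_lifting_property q LinearMap.id hq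
  let Φ : H × LinearMap.ker g →ₗ[O] Q := ι.coprod t
  have ht' : ∀ z, f (t z) = z.1 := fun z => congrArg Subtype.val (LinearMap.congr_fun ht z)
  have hΦ : Function.Bijective Φ := by
    refine ⟨(injective_iff_map_eq_zero Φ).2 ?_, fun w => ?_⟩
    · rintro ⟨a, z⟩ (h : ι a + t z = 0)
      have hz : z = 0 := by
        have h2 := congrArg f h
        rw [map_add, hif.apply_apply_eq_zero, zero_add, ht', map_zero] at h2
        exact Subtype.ext h2
      subst hz
      rw [map_zero, add_zero, ← map_zero ι] at h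
      rw [hι h]; rfl
    · obtain ⟨a, ha⟩ := (hif (w - t (q w))).1 (by rw [map_sub, ht']; exact sub_self _)
      exact ⟨(a, q w), by show ι a + t (q w) = w; rw [ha, sub_add_cancel]⟩
  exact Module.Projective.of_equiv (LinearEquiv.ofBijective Φ hΦ)

variable {X U : Scheme.{u}}

theorem free_finite_stalk_congr {M N : X.Modules} (e : M ≅ N) (x : X)
    (h : Module.Free (X.presheaf.stalk x) (N.presheaf.stalk x) ∧ Module.Finite (X.presheaf.stalk x) (N.presheaf.stalk x)) :
    Module.Free (X.presheaf.stalk x) (M.presheaf.stalk x) ∧ Module.Finite (X.presheaf.stalk x) (M.presheaf.stalk x) := by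
  haveI := h.1; haveI := h.2
  let l : M.presheaf.stalk x ≃ₗ[X.presheaf.stalk x] N.presheaf.stalk x := ((stkF x).mapIso e).toLinearEquiv
  exact ⟨Module.Free.of_equiv l.symm, Module.Finite.equiv l.symm⟩

section Free

variable {P : CochainComplex U.Modules ℤ} (hP : ∀ n, FlatMod.IsFinLocFree (P.X n)) (w : U)

include hP in
theorem free_stalk_coker_step (i : ℤ)
    (hH : Module.Free (U.presheaf.stalk w) ((P.homology i).presheaf.stalk w) ∧
      Module.Finite (U.presheaf.stalk w) ((P.homology i).presheaf.stalk w))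
    (hR : Module.Free (U.presheaf.stalk w) ((cokernel (P.d i (i + 1))).presheaf.stalk w)) :
    Module.Free (U.presheaf.stalk w) ((cokernel (P.d (i - 1) i)).presheaf.stalk w) := by
  let f : cokernel (P.d (i - 1) i) ⟶ P.X (i + 1) :=
    cokernel.desc _ (P.d i (i + 1)) (P.d_comp_d _ _ _)
  let e : cokernel f ≅ cokernel (P.d i (i + 1)) :=
    (cokernelEpiComp (cokernel.π (P.d (i - 1) i)) f).symm ≪≫ cokernelIsoOfEq (cokernel.π_desc _ _ _)
  let S := P.sc' (i - 1) i (i + 1)
  let eH : kernel f ≅ P.homology i := S.homologyIsoKernelDesc.symm ≪≫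
    (P.homologyIsoSc' (i - 1) i (i + 1) (by simp) (by simp)).symm
  haveI := (free_finite_stalk_congr eH w hH).1
  haveI := (free_finite_stalk_of_flf (hP (i + 1)) w).1
  haveI := (free_finite_stalk_of_flf (hP (i + 1)) w).2
  haveI : Module.Free (U.presheaf.stalk w) ((cokernel f).presheaf.stalk w) := by
    let l : (cokernel f).presheaf.stalk w ≃ₗ[U.presheaf.stalk w]
      (cokernel (P.d i (i + 1))).presheaf.stalk w := ((stkF w).mapIso e).toLinearEquiv
    exact Module.Free.of_equiv l.symm
  haveI := isQCoh_coker_d hP (i - 1) i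
  haveI := FlatLocus.finite_stalk _ (isFP_coker_d hP (i - 1) i) w
  haveI : Module.Projective (U.presheaf.stalk w) ((cokernel (P.d (i - 1) i)).presheaf.stalk w) := by
    have h1 : (ShortComplex.mk (kernel.ι f) f (kernel.condition f)).Exact :=
      ShortComplex.exact_of_f_is_kernel _ (kernelIsKernel f)
    have h2 : (ShortComplex.mk f (cokernel.π f) (cokernel.condition f)).Exact :=
      ShortComplex.exact_of_g_is_cokernel _ (cokernelIsCokernel f)
    exact projective_of_exact_four (H := (kernel f).presheaf.stalk w) (F := (P.X (i + 1)).presheaf.stalk w)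
      (R := (cokernel f).presheaf.stalk w)
      ((stkF w).map (kernel.ι f)).hom ((stkF w).map f).hom ((stkF w).map (cokernel.π f)).hom
      ((ModuleCat.mono_iff_injective _).1 inferInstance)
      ((ShortComplex.ShortExact.moduleCat_exact_iff_function_exact _).1 (h1.map (stkF w)))
      ((ShortComplex.ShortExact.moduleCat_exact_iff_function_exact _).1 (h2.map (stkF w)))
      ((ModuleCat.epi_iff_surjective _).1 inferInstance)
  exact Module.free_of_flat_of_isLocalRing

include hP in
theorem free_stalk_coker (b : ℤ) (hb : ∀ i, b < i → IsZero (P.X i))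
    (hH : ∀ i, Module.Free (U.presheaf.stalk w) ((P.homology i).presheaf.stalk w) ∧
      Module.Finite (U.presheaf.stalk w) ((P.homology i).presheaf.stalk w)) :
    ∀ j, Module.Free (U.presheaf.stalk w) ((cokernel (P.d (j - 1) j)).presheaf.stalk w) := by
  have h : ∀ (n : ℕ) j, b < j + n → Module.Free (U.presheaf.stalk w) ((cokernel (P.d (j - 1) j)).presheaf.stalk w) := by
    intro n
    induction n with
    | zero =>
      intro j hj
      exact (free_finite_stalk_of_flf (isFinLocFree_of_isZero
        (IsZero.of_epi (cokernel.π (P.d (j - 1) j)) (hb j (by simpa using hj)))) w).1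
    | succ n ih =>
      intro j hj
      refine free_stalk_coker_step hP w j (hH j) ?_
      have h := ih (j + 1) (by push_cast at hj; omega)
      rwa [add_sub_cancel_right] at h
  exact fun j => h (b - j + 1).toNat j (by omega)

include hP in
theorem exists_nhd_flf_coker (j : ℤ)
    (h : Module.Free (U.presheaf.stalk w) ((cokernel (P.d (j - 1) j)).presheaf.stalk w)) :
    ∃ V : U.Opens, w ∈ V ∧ FlatMod.IsFinLocFree ((cokernel (P.d (j - 1) j)).restrict V.ι) := by
  haveI := isQCoh_coker_d hP (j - 1) j
  obtain ⟨V, n, hwV, ⟨e⟩⟩ := FlatLocus.exists_free_nhd _ (isFP_coker_d hP (j - 1) j) w Module.Flat.of_free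
  exact ⟨V, hwV, isFinLocFree_iso e.symm (isFinLocFree_freeMod n)⟩

include hP in
theorem exists_nhd_flf_homology {a b : ℤ} (hab : ∀ i, i < a ∨ b < i → IsZero (P.X i))
    (hH : ∀ i, Module.Free (U.presheaf.stalk w) ((P.homology i).presheaf.stalk w) ∧
      Module.Finite (U.presheaf.stalk w) ((P.homology i).presheaf.stalk w)) :
    ∃ V : U.Opens, w ∈ V ∧ ∀ i, FlatMod.IsFinLocFree (((resCx V.ι).obj P).homology i) := by
  classical
  have hfree := free_stalk_coker hP w b (fun i hi => hab i (Or.inr hi)) hH
  choose V hV hVf using fun j => exists_nhd_flf_coker hP w j (hfree j)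
  let W : U.Opens := (Finset.Icc a b).inf V
  have hwW : w ∈ W := by
    have : ∀ s : Finset ℤ, w ∈ s.inf V := fun s => by
      induction s using Finset.induction with
      | empty => simp
      | insert j s hj ih => rw [Finset.inf_insert]; exact ⟨hV j, ih⟩
    exact this _
  refine ⟨W, hwW, ?_⟩
  have hres : ∀ n, FlatMod.IsFinLocFree (((resCx W.ι).obj P).X n) := fun n => isFinLocFree_restrict W.ι (hP n)
  haveI : PreservesFiniteColimits (Scheme.Modules.restrictFunctor W.ι) := inferInstance
  have hC : ∀ j, FlatMod.IsFinLocFree (cokernel (((resCx W.ι).obj P).d (j - 1) j)) := fun j => by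
    by_cases hj : j ∈ Finset.Icc a b
    · refine isFinLocFree_iso (PreservesCokernel.iso (Scheme.Modules.restrictFunctor W.ι) (P.d (j - 1) j)) ?_
      have hle : W ≤ V j := Finset.inf_le hj
      exact isFinLocFree_iso
        (((Scheme.Modules.restrictFunctorComp (U.homOfLE hle) (V j).ι).symm ≪≫
          Scheme.Modules.restrictFunctorCongr (U.homOfLE_ι hle)).app _)
        (isFinLocFree_restrict (U.homOfLE hle) (hVf j))
    · refine isFinLocFree_of_isZero (IsZero.of_epi (cokernel.π _) ?_)
      exact (Scheme.Modules.restrictFunctor W.ι).map_isZero (hab j (by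
        rw [Finset.mem_Icc] at hj; omega))
  intro i
  refine isFinLocFree_homology hres (hC i) ?_
  have := hC (i + 1)
  rwa [add_sub_cancel_right] at this

end Free

/-- The locus where all cohomology sheaves of a perfect object are finite free. -/
theorem freeLocus_perfect {X : Scheme.{u}} (E : DCoh.D X) (hE : DCoh.IsPerfect E) :
    ∃ U : X.Opens,
      (U : Set X) = {x : X | ∀ i : ℤ, Module.Free (X.presheaf.stalk x) ((DCoh.HD E i).presheaf.stalk x) ∧
        Module.Finite (X.presheaf.stalk x) ((DCoh.HD E i).presheaf.stalk x)} ∧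
      (∀ i : ℤ, FlatMod.IsFinLocFree ((DCoh.HD E i).restrict U.ι)) ∧
      ∀ W : X.Opens, (∀ i : ℤ, FlatMod.IsFinLocFree ((DCoh.HD E i).restrict W.ι)) → W ≤ U := by
  classical
  let S : Set X := {x : X | ∀ i : ℤ, Module.Free (X.presheaf.stalk x) ((DCoh.HD E i).presheaf.stalk x) ∧
        Module.Finite (X.presheaf.stalk x) ((DCoh.HD E i).presheaf.stalk x)}
  have hmem : ∀ {Z : Scheme.{u}} (j : Z ⟶ X) [IsOpenImmersion j],
      (∀ i, FlatMod.IsFinLocFree ((Scheme.Modules.restrictFunctor j).obj (DCoh.HD E i))) → ∀ z, j z ∈ S :=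
    fun j _ h z i => (free_finite_stalk_restrict_iff j _ z).1 (free_finite_stalk_of_flf (h i) z)
  have hloc : ∀ x ∈ S, ∃ (Z : Scheme.{u}) (j : Z ⟶ X) (_ : IsOpenImmersion j) (z : Z), j z = x ∧
      ∀ i, FlatMod.IsFinLocFree ((Scheme.Modules.restrictFunctor j).obj (DCoh.HD E i)) := by
    intro x hx
    obtain ⟨V, hxV, P, hP, ⟨e⟩⟩ := (isPerfect_iff E).1 hE x
    let eH : ∀ i, P.homology i ≅ (Scheme.Modules.restrictFunctor V.ι).obj (DCoh.HD E i) := fun i =>
      ((DerivedCategory.homologyFunctorFactors _ i).app P).symm ≪≫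
        (DerivedCategory.homologyFunctor _ i).mapIso e ≪≫ restrictHDIso V.ι E i
    obtain ⟨a, b, hab⟩ := hP.1
    obtain ⟨W, hW, hf⟩ := exists_nhd_flf_homology hP.2 ⟨x, hxV⟩ hab fun i =>
      free_finite_stalk_congr (eH i) _ ((free_finite_stalk_restrict_iff V.ι _ ⟨x, hxV⟩).2 (hx i))
    refine ⟨W, W.ι ≫ V.ι, inferInstance, ⟨⟨x, hxV⟩, hW⟩, rfl, fun i => ?_⟩
    refine isFinLocFree_iso ?_ (hf i)
    exact ShortComplex.mapHomologyIso (P.sc i) (Scheme.Modules.restrictFunctor W.ι) ≪≫
      (Scheme.Modules.restrictFunctor W.ι).mapIso (eH i) ≪≫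
      ((Scheme.Modules.restrictFunctorComp W.ι V.ι).app _).symm
  have hopen : IsOpen S := isOpen_iff_forall_mem_open.2 fun x hx => by
    obtain ⟨Z, j, hj, z, rfl, h⟩ := hloc x hx
    exact ⟨Set.range j, Set.range_subset_iff.2 (hmem j h), j.isOpenEmbedding.isOpen_range, z, rfl⟩
  refine ⟨⟨S, hopen⟩, rfl, fun i => isFinLocFree_of_local fun y => ?_,
    fun W hW x hx => hmem W.ι hW ⟨x, hx⟩⟩
  obtain ⟨Z, j, hj, z, hz, h⟩ := hloc y.1 y.2
  let l : Z ⟶ (⟨S, hopen⟩ : X.Opens) := IsOpenImmersion.lift (Scheme.Opens.ι _) j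
    (by rw [Scheme.Opens.range_ι]; exact Set.range_subset_iff.2 (hmem j h))
  have hl : l ≫ Scheme.Opens.ι _ = j := IsOpenImmersion.lift_fac _ _ _
  haveI : IsOpenImmersion (l ≫ Scheme.Opens.ι (⟨S, hopen⟩ : X.Opens)) := hl ▸ hj
  haveI : IsOpenImmersion l := IsOpenImmersion.of_comp l (Scheme.Opens.ι _)
  refine ⟨Z, l, inferInstance, z, ?_, ?_⟩
  · apply (Scheme.Opens.ι _).isOpenEmbedding.injective
    rw [← Scheme.Hom.comp_apply, hl, hz]
    rfl
  · exact isFinLocFree_iso (((Scheme.Modules.restrictFunctorComp l _).symm ≪≫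
      Scheme.Modules.restrictFunctorCongr hl).app _).symm (h i)

end Groth.Agent.DCohLib
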