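import Groth.Agent.KFlat.ModSiteRes
import Groth.Agent.KFlat.QuasiIso

/-!
# Tensoring quasi-isomorphisms with K-flat complexes of sheaves of modules
-/

set_option linter.style.haveILetI false
set_option linter.unusedSectionVars false

universe u

open CategoryTheory Limits

noncomputable section

namespace Groth.Agent.KFlat

variable {C : Type u} [SmallCategory C] {J : GrothendieckTopology C} (O : Sheaf J CommRingCat.{u})

theorem goodObj_flip_mod {M : ModSite.Mod O} (hM : ModSite.IsFlat M) :
    GoodObj (ModSite.tensorBi O).flip M := fun S hS => by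
  have h := goodObj_of_isFlat O hM S hS
  exact ShortComplex.exact_of_iso (S.mapNatIso (Groth.Agent.ModTensor.tensorSymm O M)) h

theorem flatClassFlipMod : FlatClass (ModSite.tensorBi O).flip (fun M : ModSite.Mod O => ModSite.IsFlat M) where
  good _ hM := goodObj_flip_mod O hM
  iso e hM := (flatClassMod O).iso e hM
  zero hM := (flatClassMod O).zero hM
  biprod hM hM' := (flatClassMod O).biprod hM hM'
  seq K c hc h := (flatClassMod O).seq K c hc h
  cover X := (flatClassMod O).cover X

instance preservesColimitsOfShape_tensorBi_flip {I : Type} [SmallCategory I] (X : ModSite.Mod O) :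
    PreservesColimitsOfShape I ((ModSite.tensorBi O).flip.obj X) :=
  preservesColimitsOfShape_of_natIso (Groth.Agent.ModTensor.tensorSymm O X).symm

theorem exists_resolution_flip_mod (G : CochainComplex (ModSite.Mod O) ℤ) :
    ∃ (N : CochainComplex (ModSite.Mod O) ℤ) (c : N ⟶ G),
      IsKFlatFor (ModSite.tensorBi O).flip N ∧ QuasiIso c := by
  obtain ⟨N, c, h1, -, h3, -⟩ := exists_resolution (flatClassFlipMod O) G
  exact ⟨N, c, h1, h3⟩

theorem quasiIso_tensor_of_isKFlat_right (K : CochainComplex (ModSite.Mod O) ℤ) (hK : ModSite.IsKFlat K)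
    {F G : CochainComplex (ModSite.Mod O) ℤ} (f : F ⟶ G) [QuasiIso f] :
    QuasiIso (((ModSite.tensorCx O).map f).app K) :=
  quasiIso_totR_map (ModSite.tensorBi O) ((isKFlat_iff O K).1 hK) f

theorem quasiIso_tensor_of_isKFlat {P Q : CochainComplex (ModSite.Mod O) ℤ} (α : P ⟶ Q) [QuasiIso α]
    (hP : ModSite.IsKFlat P) (hQ : ModSite.IsKFlat Q) (F : CochainComplex (ModSite.Mod O) ℤ) :
    QuasiIso (((ModSite.tensorCx O).obj F).map α) :=
  quasiIso_tot_map (ModSite.tensorBi O) (exists_resolution_flip_mod O)
    ((isKFlat_iff O P).1 hP) ((isKFlat_iff O Q).1 hQ) α F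

end Groth.Agent.KFlat
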