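import Groth.Agent.DCohLib.ModResolution
import Groth.Agent.DCohLib.Flip

/-!
# Symmetry of K-flatness for sheaves of modules
-/

set_option linter.style.haveILetI false
set_option linter.unusedSectionVars false

universe v₁ v₂ v u₁ u₂ u

open CategoryTheory Limits

noncomputable section

namespace Groth.Agent.DCohLib

open Groth.Agent.KFlat

section Bifunctor

variable {C₁ : Type u₁} [Category.{v₁} C₁] {C₂ : Type u₂} [Category.{v₂} C₂]
  {D : Type u} [Category.{v} D] [Abelian C₁] [Abelian C₂] [Abelian D]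
  {F G : C₁ ⥤ C₂ ⥤ D} [F.Additive] [∀ X, (F.obj X).Additive] [G.Additive] [∀ X, (G.obj X).Additive]
  [∀ (K₁ : CochainComplex C₁ ℤ) (K₂ : CochainComplex C₂ ℤ), CochainComplex.HasMapBifunctor K₁ K₂ F]
  [∀ (K₁ : CochainComplex C₁ ℤ) (K₂ : CochainComplex C₂ ℤ), CochainComplex.HasMapBifunctor K₁ K₂ G]

/-- The bicomplexes of isomorphic bifunctors are isomorphic. -/
def bicomplexIso (τ : F ≅ G) (K₁ : CochainComplex C₁ ℤ) (K₂ : CochainComplex C₂ ℤ) :
    ((F.mapBifunctorHomologicalComplex (ComplexShape.up ℤ) (ComplexShape.up ℤ)).obj K₁).obj K₂ ≅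
      ((G.mapBifunctorHomologicalComplex (ComplexShape.up ℤ) (ComplexShape.up ℤ)).obj K₁).obj K₂ :=
  HomologicalComplex.Hom.isoOfComponents
    (fun p => HomologicalComplex.Hom.isoOfComponents (fun q => (τ.app (K₁.X p)).app (K₂.X q))
      fun q q' _ => ((τ.hom.app (K₁.X p)).naturality (K₂.d q q')).symm)
    fun p p' _ => by
      ext q
      exact (congr_app (τ.hom.naturality (K₁.d p p')) (K₂.X q)).symm

/-- The totals of isomorphic bifunctors are isomorphic. -/
def totIso (τ : F ≅ G) (K₁ : CochainComplex C₁ ℤ) (K₂ : CochainComplex C₂ ℤ) :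
    (tot F K₁).obj K₂ ≅ (tot G K₁).obj K₂ :=
  HomologicalComplex₂.total.mapIso (bicomplexIso τ K₁ K₂) (ComplexShape.up ℤ)

theorem isKFlatFor_of_natIso (τ : F ≅ G) {K : CochainComplex C₂ ℤ} (h : IsKFlatFor F K) : IsKFlatFor G K :=
  fun L hL i => (h L hL i).of_iso (totIso τ L K)

end Bifunctor

variable {C : Type u} [SmallCategory C] {J : GrothendieckTopology C} (O : Sheaf J CommRingCat.{u})

/-- The tensor product is symmetric as a bifunctor. -/
def symmIso : ModSite.tensorBi O ≅ (ModSite.tensorBi O).flip :=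
  NatIso.ofComponents (fun M => (Groth.Agent.ModTensor.tensorSymm O M).symm) fun {M M'} f => by
    ext N : 2
    exact ((Groth.Agent.ModTensor.shF O).map_comp _ _).symm.trans
      ((congr_arg (Groth.Agent.ModTensor.shF O).map
        (BraidedCategory.braiding_inv_naturality_left ((Groth.Agent.ModTensor.preFunctor O).map f)
          (Groth.Agent.ModTensor.pre O N))).trans ((Groth.Agent.ModTensor.shF O).map_comp _ _))

theorem isKFlatFor_flip_iff (K : CochainComplex (ModSite.Mod O) ℤ) :
    IsKFlatFor (ModSite.tensorBi O).flip K ↔ IsKFlatFor (ModSite.tensorBi O) K :=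
  ⟨isKFlatFor_of_natIso (symmIso O).symm, isKFlatFor_of_natIso (symmIso O)⟩

theorem isKFlatFor_flip_of_isKFlat {K : CochainComplex (ModSite.Mod O) ℤ} (h : ModSite.IsKFlat K) :
    IsKFlatFor (ModSite.tensorBi O).flip K :=
  (isKFlatFor_flip_iff O K).2 ((isKFlat_iff O K).1 h)

/-- A quasi-isomorphism of K-flat complexes stays one after tensoring on the right with any complex. -/
theorem quasiIso_tensor_left {P Q : CochainComplex (ModSite.Mod O) ℤ} (α : P ⟶ Q) [QuasiIso α]
    (hP : ModSite.IsKFlat P) (hQ : ModSite.IsKFlat Q) (E : CochainComplex (ModSite.Mod O) ℤ) :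
    QuasiIso (((ModSite.tensorCx O).map α).app E) := by
  have h := quasiIso_tot_map (ModSite.tensorBi O).flip (fun G =>
    ⟨(resF O).obj G, (resFπ O).app G, isKFlatFor_resF O G, quasiIso_resFπ O G⟩)
    (isKFlatFor_flip_of_isKFlat O hP) (isKFlatFor_flip_of_isKFlat O hQ) α E
  exact ((HomologicalComplex.quasiIso (ModSite.Mod O) (ComplexShape.up ℤ)).arrow_mk_iso_iff
    (((Functor.mapArrowFunctor _ _).mapIso (totRIso (ModSite.tensorBi O) E)).app (Arrow.mk α))).1 h

end Groth.Agent.DCohLib
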