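import Groth.Agent.DCohLib.Assoc

/-!
# Naturality of associativity in all three complexes
-/

set_option linter.style.haveILetI false
set_option linter.unusedSectionVars false

universe u

open CategoryTheory Limits MonoidalCategory Groth.Agent.ModTensor

noncomputable section

namespace Groth.Agent.DCohLib

variable {C : Type u} [SmallCategory C] {J : GrothendieckTopology C} (O : Sheaf J CommRingCat.{u})

theorem assocApp_natural {M M' N N' P P' : ModSite.Mod O} (f : M ⟶ M') (g : N ⟶ N') (h : P ⟶ P') :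
    ((ModSite.tensorBi O).map (((ModSite.tensorBi O).map f).app N ≫ ((ModSite.tensorBi O).obj M').map g)).app P ≫
        ((ModSite.tensorBi O).obj (tens O M' N')).map h ≫ (assocApp O M' N' P').hom =
      (assocApp O M N P).hom ≫ ((ModSite.tensorBi O).map f).app (tens O N P) ≫
        ((ModSite.tensorBi O).obj M').map
          (((ModSite.tensorBi O).map g).app P ≫ ((ModSite.tensorBi O).obj N').map h) := by
  erw [assocApp_right O M' N' h]
  rw [Functor.map_comp, NatTrans.comp_app, Functor.map_comp, Category.assoc]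
  erw [← Category.assoc (((ModSite.tensorBi O).map (((ModSite.tensorBi O).obj M').map g)).app P),
    assocApp_middle O M' g P, Category.assoc]
  erw [← Category.assoc, assocApp_left O f N P, Category.assoc]

theorem assocCx_natural₃ {A A' K K' L L' : CochainComplex (ModSite.Mod O) ℤ}
    (φ : A ⟶ A') (ψ : K ⟶ K') (χ : L ⟶ L') :
    HomologicalComplex.mapBifunctorMap
        (HomologicalComplex.mapBifunctorMap φ ψ (ModSite.tensorBi O) (ComplexShape.up ℤ)) χ
        (ModSite.tensorBi O) (ComplexShape.up ℤ) ≫ (assocCx O A' K' L').hom =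
      (assocCx O A K L).hom ≫
        HomologicalComplex.mapBifunctorMap φ
          (HomologicalComplex.mapBifunctorMap ψ χ (ModSite.tensorBi O) (ComplexShape.up ℤ))
          (ModSite.tensorBi O) (ComplexShape.up ℤ) := by
  let F := ModSite.tensorBi O
  let c := ComplexShape.up ℤ
  ext j : 1
  refine HomologicalComplex.mapBifunctor₁₂.hom_ext fun i₁ i₂ i₃ h => ?_
  let i₁₂ := i₁ + i₂
  let i₂₃ := i₂ + i₃
  have h' : i₁₂ + i₃ = j := h
  have h'' : i₁ + i₂₃ = j := (add_assoc i₁ i₂ i₃).symm.trans h'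
  have hL : ∀ (A K L : CochainComplex (ModSite.Mod O) ℤ),
      HomologicalComplex.mapBifunctor₁₂.ι F F A K L c c i₁ i₂ i₃ j h =
        (F.map (HomologicalComplex.ιMapBifunctor A K F c i₁ i₂ i₁₂ rfl)).app (L.X i₃) ≫
          HomologicalComplex.ιMapBifunctor (HomologicalComplex.mapBifunctor A K F c) L F c i₁₂ i₃ j h' :=
    fun _ _ _ => rfl
  have hR : ∀ (A K L : CochainComplex (ModSite.Mod O) ℤ),
      HomologicalComplex.mapBifunctor₂₃.ι F F A K L c c c i₁ i₂ i₃ j h =
        (F.obj (A.X i₁)).map (HomologicalComplex.ιMapBifunctor K L F c i₂ i₃ i₂₃ rfl) ≫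
          HomologicalComplex.ιMapBifunctor A (HomologicalComplex.mapBifunctor K L F c) F c i₁ i₂₃ j h'' :=
    fun _ _ _ => rfl
  let ψ₁ := HomologicalComplex.mapBifunctorMap φ ψ F c
  let ψ₂ := HomologicalComplex.mapBifunctorMap ψ χ F c
  have e1 : HomologicalComplex.mapBifunctor₁₂.ι F F A K L c c i₁ i₂ i₃ j h ≫
      (HomologicalComplex.mapBifunctorMap ψ₁ χ F c).f j =
      ((F.map ((F.map (φ.f i₁)).app (K.X i₂) ≫ (F.obj (A'.X i₁)).map (ψ.f i₂))).app (L.X i₃) ≫
        (F.obj ((F.obj (A'.X i₁)).obj (K'.X i₂))).map (χ.f i₃)) ≫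
        HomologicalComplex.mapBifunctor₁₂.ι F F A' K' L' c c i₁ i₂ i₃ j h := by
    rw [hL A, hL A', Category.assoc, HomologicalComplex.ι_mapBifunctorMap, Category.assoc,
      ← NatTrans.comp_app_assoc, ← F.map_comp]
    rw [show HomologicalComplex.ιMapBifunctor A K F c i₁ i₂ i₁₂ rfl ≫ ψ₁.f i₁₂ =
        ((F.map (φ.f i₁)).app (K.X i₂) ≫ (F.obj (A'.X i₁)).map (ψ.f i₂)) ≫
          HomologicalComplex.ιMapBifunctor A' K' F c i₁ i₂ i₁₂ rfl from
      (HomologicalComplex.ι_mapBifunctorMap φ ψ F c i₁ i₂ i₁₂ rfl).trans (Category.assoc _ _ _).symm]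
    rw [F.map_comp (((F.map (φ.f i₁)).app (K.X i₂) ≫ (F.obj (A'.X i₁)).map (ψ.f i₂))),
      NatTrans.comp_app, Category.assoc]
    exact congrArg (_ ≫ ·) ((reassoc_of% ((F.map
      (HomologicalComplex.ιMapBifunctor A' K' F c i₁ i₂ i₁₂ rfl)).naturality (χ.f i₃)).symm) _)
  have e2 : HomologicalComplex.mapBifunctor₂₃.ι F F A K L c c c i₁ i₂ i₃ j h ≫
      (HomologicalComplex.mapBifunctorMap φ ψ₂ F c).f j =
      ((F.map (φ.f i₁)).app ((F.obj (K.X i₂)).obj (L.X i₃)) ≫
        (F.obj (A'.X i₁)).map ((F.map (ψ.f i₂)).app (L.X i₃) ≫ (F.obj (K'.X i₂)).map (χ.f i₃))) ≫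
        HomologicalComplex.mapBifunctor₂₃.ι F F A' K' L' c c c i₁ i₂ i₃ j h := by
    rw [hR A, hR A', Category.assoc, HomologicalComplex.ι_mapBifunctorMap, Category.assoc]
    refine ((reassoc_of% ((F.map (φ.f i₁)).naturality
      (HomologicalComplex.ιMapBifunctor K L F c i₂ i₃ i₂₃ rfl))) _).trans ?_
    rw [← Functor.map_comp_assoc, ← Functor.map_comp_assoc]
    refine congrArg (fun k => _ ≫ (F.obj (A'.X i₁)).map k ≫ _) ?_
    exact (HomologicalComplex.ι_mapBifunctorMap ψ χ F c i₂ i₃ i₂₃ rfl).trans (Category.assoc _ _ _).symm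
  show HomologicalComplex.mapBifunctor₁₂.ι F F A K L c c i₁ i₂ i₃ j h ≫
      (HomologicalComplex.mapBifunctorMap ψ₁ χ F c).f j ≫
        (HomologicalComplex.mapBifunctorAssociatorX (assocTri O) A' K' L' c c c j).hom =
    HomologicalComplex.mapBifunctor₁₂.ι F F A K L c c i₁ i₂ i₃ j h ≫
      (HomologicalComplex.mapBifunctorAssociatorX (assocTri O) A K L c c c j).hom ≫
        (HomologicalComplex.mapBifunctorMap φ ψ₂ F c).f j
  rw [reassoc_of% e1, HomologicalComplex.ι_mapBifunctorAssociatorX_hom,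
    HomologicalComplex.ι_mapBifunctorAssociatorX_hom_assoc]
  refine Eq.trans ?_ (congr_arg ((assocApp O (A.X i₁) (K.X i₂) (L.X i₃)).hom ≫ ·) e2).symm
  refine Eq.trans ?_ (Category.assoc _ _ _)
  refine Eq.trans ?_ (congrArg (· ≫ _) (assocApp_natural O (φ.f i₁) (ψ.f i₂) (χ.f i₃)))
  simp only [Category.assoc]
  rfl

end Groth.Agent.DCohLib
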