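import Groth.Agent.QCohLib.Push
import Groth.Agent.DCohLib.StalkKFlat

/-!
# Every module over a local ring is the stalk of a quasi-coherent module
-/

set_option autoImplicit false
set_option backward.isDefEq.respectTransparency false
set_option linter.style.haveILetI false

universe u

open CategoryTheory CategoryTheory.Limits AlgebraicGeometry TopologicalSpace Opposite

noncomputable section

namespace Groth.Agent.DCohLib

variable {X : Scheme.{u}} (z : X)

theorem fromSpecStalk_preimage_eq_top (U : X.Opens) (hz : z ∈ U) : X.fromSpecStalk z ⁻¹ᵁ U = ⊤ := by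
  refine eq_top_iff.mpr fun p _ => ?_
  have hp : (X.fromSpecStalk z) p ∈ Set.range (X.fromSpecStalk z) := ⟨p, rfl⟩
  rw [Scheme.range_fromSpecStalk] at hp
  exact hp.mem_open U.2 hz

/-- The direct image of the sheaf associated to a module over the local ring. -/
abbrev pushTilde (M : ModuleCat.{u} (X.presheaf.stalk z)) : X.Modules :=
  (Scheme.Modules.pushforward (X.fromSpecStalk z)).obj (tilde M)

/-- A module element as a global section. -/
def pushSec (M : ModuleCat.{u} (X.presheaf.stalk z)) (U : X.Opens) (m : M) : Γ(pushTilde z M, U) :=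
  (tilde.toOpen M (X.fromSpecStalk z ⁻¹ᵁ U)).hom m

theorem pushSec_res (M : ModuleCat.{u} (X.presheaf.stalk z)) {U V : X.Opens} (h : V ≤ U) (m : M) :
    (pushTilde z M).presheaf.map (homOfLE h).op (pushSec z M U m) = pushSec z M V m := by
  have := tilde.toOpen_res M (X.fromSpecStalk z ⁻¹ᵁ U) (X.fromSpecStalk z ⁻¹ᵁ V)
    (homOfLE ((X.fromSpecStalk z).preimage_mono h))
  exact congrArg (fun g => g.hom m) this

theorem bijective_pushSec (M : ModuleCat.{u} (X.presheaf.stalk z)) (U : X.Opens) (hz : z ∈ U) :
    Function.Bijective (pushSec z M U) := by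
  show Function.Bijective fun m => (tilde.toOpen M (X.fromSpecStalk z ⁻¹ᵁ U)).hom m
  rw [fromSpecStalk_preimage_eq_top z U hz]
  exact ConcreteCategory.bijective_of_isIso (tilde.toOpen M ⊤)

theorem pushSec_smul (M : ModuleCat.{u} (X.presheaf.stalk z)) (U : X.Opens) (hz : z ∈ U)
    (a : Γ(X, U)) (m : M) :
    pushSec z M U (X.presheaf.germ U z hz a • m) = a • pushSec z M U m := by
  show (tilde.toOpen M (X.fromSpecStalk z ⁻¹ᵁ U)).hom (X.presheaf.germ U z hz a • m) =
    (X.fromSpecStalk z).app U a • (show Γ(tilde M, X.fromSpecStalk z ⁻¹ᵁ U) from pushSec z M U m)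
  rw [map_smul, Scheme.fromSpecStalk_app hz]
  exact Scheme.Modules.smul_Spec_def _ _

/-- The stalk at `z` of the direct image is the module. -/
def pushTildeStalkIso (M : ModuleCat.{u} (X.presheaf.stalk z)) :
    M ≅ (stkF z).obj (pushTilde z M) :=
  LinearEquiv.toModuleIso (LinearEquiv.ofBijective
    ({ toFun := fun m => (pushTilde z M).presheaf.germ ⊤ z (Opens.mem_top z) (pushSec z M ⊤ m)
       map_add' := fun m m' => by
        rw [← map_add]
        exact congrArg _ (map_add (tilde.toOpen M _).hom m m')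
       map_smul' := fun r m => by
        obtain ⟨U, hz, a, rfl⟩ := TopCat.Presheaf.exists_germ_eq X.presheaf r
        show (pushTilde z M).presheaf.germ ⊤ z (Opens.mem_top z) (pushSec z M ⊤ (X.presheaf.germ U z hz a • m)) =
          X.presheaf.germ U z hz a •
            (pushTilde z M).presheaf.germ ⊤ z (Opens.mem_top z) (pushSec z M ⊤ m)
        rw [← TopCat.Presheaf.germ_res_apply (pushTilde z M).presheaf (homOfLE (le_top : U ≤ ⊤)) z hz,
          ← TopCat.Presheaf.germ_res_apply (pushTilde z M).presheaf (homOfLE (le_top : U ≤ ⊤)) z hz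
            (pushSec z M ⊤ m), pushSec_res, pushSec_res, pushSec_smul]
        exact PresheafOfModules.germ_smul (R := X.presheaf) (pushTilde z M).val z U hz a (pushSec z M U m) } :
      M →ₗ[X.presheaf.stalk z] (pushTilde z M).presheaf.stalk z)
    ⟨fun m m' h => by
      obtain ⟨W, hW, iU, iV, e⟩ := TopCat.Presheaf.germ_eq (pushTilde z M).presheaf z
        (Opens.mem_top z) (Opens.mem_top z) _ _ h
      have e' : pushSec z M W m = pushSec z M W m' := by
        rw [← pushSec_res z M (le_top : W ≤ ⊤) m, ← pushSec_res z M (le_top : W ≤ ⊤) m']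
        exact e
      exact (bijective_pushSec z M W hW).1 e',
    fun t => by
      obtain ⟨U, hz, s, rfl⟩ := TopCat.Presheaf.exists_germ_eq (pushTilde z M).presheaf t
      obtain ⟨m, rfl⟩ := (bijective_pushSec z M U hz).2 s
      refine ⟨m, ?_⟩
      show (pushTilde z M).presheaf.germ ⊤ z (Opens.mem_top z) (pushSec z M ⊤ m) = _
      rw [← TopCat.Presheaf.germ_res_apply (pushTilde z M).presheaf (homOfLE (le_top : U ≤ ⊤)) z hz,
        pushSec_res]⟩)

theorem exists_qcoh_stalk_iso [QuasiSeparatedSpace ↥X] (M : ModuleCat.{u} (X.presheaf.stalk z)) :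
    ∃ F : X.Modules, Coh.IsQCoh F ∧ Nonempty ((stkF z).obj F ≅ M) := by
  haveI : QuasiCompact (X.fromSpecStalk z ≫ terminal.from X) := inferInstance
  haveI : QuasiCompact (X.fromSpecStalk z) := QuasiCompact.of_comp _ (terminal.from X)
  haveI : Coh.IsQCoh (tilde M) := inferInstanceAs ((tilde M).IsQuasicoherent)
  exact ⟨pushTilde z M, QCohLib.isQCoh_pushforward (M := tilde M) (X.fromSpecStalk z),
    ⟨(pushTildeStalkIso z M).symm⟩⟩

end Groth.Agent.DCohLib
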