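import Groth.Agent.DCohLib.BettiExact
import Groth.Agent.DCohLib.StalkPush
import Groth.Agent.DCohLib.QCohAbelian
import Groth.Agent.DCohLib.StalkRestrictFree
import Groth.Agent.DCohLib.SPerf

/-!
# Exactness of `M ↦ Hᵖ(M ⊗^L F)` forces `Hᵖ(F)` to be locally free
-/

set_option autoImplicit false
set_option backward.isDefEq.respectTransparency false
set_option linter.style.haveILetI false

universe u v

open CategoryTheory CategoryTheory.Limits AlgebraicGeometry MonoidalCategory TensorProduct

attribute [local instance] HasDerivedCategory.standard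

noncomputable section

namespace Groth.Agent.DCohLib

/-- If cycles modulo the maximal ideal lift to cycles, the cokernel is free. -/
theorem free_coker_of_lift {A : Type u} [CommRing A] [IsLocalRing A] {M N P : Type u}
    [AddCommGroup M] [Module A M] [Module.Finite A M]
    [AddCommGroup N] [Module A N] [Module.Finite A N] [Module.Free A N]
    [AddCommGroup P] [Module A P] (d : M →ₗ[A] N) (q : N →ₗ[A] P) (hq : Function.Surjective q)
    (hex : Function.Exact d q)
    (h : ∀ v, d v ∈ IsLocalRing.maximalIdeal A • (⊤ : Submodule A N) →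
      ∃ v', d v' = 0 ∧ v - v' ∈ IsLocalRing.maximalIdeal A • (⊤ : Submodule A M)) : Module.Free A P := by
  let k := IsLocalRing.ResidueField A
  refine Module.free_of_lTensor_residueField_injective (LinearMap.range d).subtype q hq
    (fun y => (hex y).trans ⟨fun ⟨x, hx⟩ => ⟨⟨y, x, hx⟩, rfl⟩, fun ⟨x, hx⟩ => hx ▸ x.2⟩) ?_
  rw [injective_iff_map_eq_zero]
  intro t ht
  obtain ⟨⟨_, v, rfl⟩, rfl⟩ := TensorProduct.mk_surjective A (LinearMap.range d) k
    Ideal.Quotient.mk_surjective t
  have hv : d v ∈ IsLocalRing.maximalIdeal A • (⊤ : Submodule A N) := by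
    rw [← LinearMap.ker_tensorProductMk]
    exact LinearMap.mem_ker.2 ht
  obtain ⟨v', hv', hvv⟩ := h v hv
  refine (LinearMap.mem_ker (f := TensorProduct.mk A k (LinearMap.range d) 1)).1 ?_
  refine (SetLike.ext_iff.1 (LinearMap.ker_tensorProductMk (R := A) (I := IsLocalRing.maximalIdeal A)
    (Q := LinearMap.range d)) _).2 ?_
  have e : (⟨d v, v, rfl⟩ : LinearMap.range d) = d.rangeRestrict (v - v') :=
    Subtype.ext (show d v = d (v - v') by rw [map_sub, hv', sub_zero])
  rw [e]
  have hm := Submodule.mem_map_of_mem (f := d.rangeRestrict) hvv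
  rw [Submodule.map_smul''] at hm
  exact Submodule.smul_mono le_rfl le_top hm

theorem exists_cycle_lift {A : Type u} [Ring A] {L L' : CochainComplex (ModuleCat.{u} A) ℤ} (g : L ⟶ L')
    (j : ℤ) (hH : Epi (HomologicalComplex.homologyMap g j)) (hg : Epi (g.f (j - 1)))
    (t : L'.X j) (ht : L'.d j (j + 1) t = 0) : ∃ c : L.X j, L.d j (j + 1) c = 0 ∧ g.f j c = t := by
  have htc : L.toCycles (j - 1) j ≫ HomologicalComplex.cyclesMap g j = g.f (j - 1) ≫ L'.toCycles (j - 1) j := by
    rw [← cancel_mono (L'.iCycles j)]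
    simp [HomologicalComplex.cyclesMap_i]
  haveI : Epi (HomologicalComplex.cyclesMap g j) := by
    refine Preadditive.epi_of_cancel_zero _ fun {Z} l hl => ?_
    have h1 : L'.toCycles (j - 1) j ≫ l = 0 := by
      rw [← cancel_epi (g.f (j - 1)), comp_zero, ← Category.assoc,
        ← htc, Category.assoc, hl, comp_zero]
    let hc := L'.homologyIsCokernel (j - 1) j (by simp)
    obtain ⟨l', hl'⟩ := CokernelCofork.IsColimit.desc' hc l h1
    have hl'' : L'.homologyπ j ≫ l' = l := hl'
    haveI := hH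
    have h2 : l' = 0 := by
      rw [← cancel_epi (HomologicalComplex.homologyMap g j), ← cancel_epi (L.homologyπ j),
        HomologicalComplex.homologyπ_naturality_assoc, hl'', hl, comp_zero, comp_zero]
    rw [← hl'', h2, comp_zero]
  have hex : (ShortComplex.mk (L'.iCycles j) (L'.d j (j + 1)) (L'.iCycles_d _ _)).Exact :=
    ShortComplex.exact_of_f_is_kernel _ (L'.cyclesIsKernel j (j + 1) (by simp))
  obtain ⟨z, hz⟩ := ((ShortComplex.ShortExact.moduleCat_exact_iff_function_exact _).1 hex t).1 ht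
  obtain ⟨w, hw⟩ := (ModuleCat.epi_iff_surjective (HomologicalComplex.cyclesMap g j)).1 inferInstance z
  refine ⟨L.iCycles j w, ?_, ?_⟩
  · show (L.iCycles j ≫ L.d j (j + 1)) w = 0
    rw [L.iCycles_d]; rfl
  · show (L.iCycles j ≫ g.f j) w = t
    rw [← HomologicalComplex.cyclesMap_i]
    show L'.iCycles j (HomologicalComplex.cyclesMap g j w) = t
    rw [hw]
    exact hz

variable {X U : Scheme.{u}}

/-- A short exact sequence testing freeness at a point. -/
structure IsTest (S : ShortComplex X.Modules) (x : X) : Prop where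
  shortExact : S.ShortExact
  gen : ∃ e : (stkF x).obj S.X₂, Function.Bijective fun a : X.presheaf.stalk x => a • e
  nontrivial : Nontrivial ((stkF x).obj S.X₃)
  kills : ∀ a ∈ IsLocalRing.maximalIdeal (X.presheaf.stalk x), ∀ t : (stkF x).obj S.X₃, a • t = 0

theorem pushTildeStalkIso_natural (x : X) {M N : ModuleCat.{u} (X.presheaf.stalk x)} (f : M ⟶ N) (m : M) :
    (stkF x).map ((Scheme.Modules.pushforward (X.fromSpecStalk x)).map (tilde.map f))
      ((pushTildeStalkIso x M).hom m) = (pushTildeStalkIso x N).hom (f m) := by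
  show Groth.Agent.FlatLocus.stalkHom ((Scheme.Modules.pushforward (X.fromSpecStalk x)).map (tilde.map f)) x
    ((pushTilde x M).presheaf.germ ⊤ x trivial (pushSec x M ⊤ m)) =
      (pushTilde x N).presheaf.germ ⊤ x trivial (pushSec x N ⊤ (f m))
  refine (TopCat.Presheaf.stalkFunctor_map_germ_apply _ _ _ _ _).trans ?_
  refine congrArg _ ?_
  exact congrArg (fun g => g.hom m) (tilde.toOpen_map_app f (X.fromSpecStalk x ⁻¹ᵁ ⊤))

/-- The residue map between direct images. -/
def testMap (x : X) :
    pushTilde x (ModuleCat.of (X.presheaf.stalk x) (X.presheaf.stalk x)) ⟶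
      pushTilde x (ModuleCat.of (X.presheaf.stalk x) (IsLocalRing.ResidueField (X.presheaf.stalk x))) :=
  (Scheme.Modules.pushforward (X.fromSpecStalk x)).map (tilde.map
    (ModuleCat.ofHom (Algebra.linearMap (X.presheaf.stalk x) (IsLocalRing.ResidueField (X.presheaf.stalk x)))))

/-- The testing sequence. -/
def testSC (x : X) : ShortComplex X.Modules :=
  ShortComplex.mk (kernel.ι (testMap x)) (cokernel.π (kernel.ι (testMap x))) (cokernel.condition _)

theorem shortExact_testSC (x : X) : (testSC x).ShortExact :=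
  { exact := ShortComplex.exact_of_g_is_cokernel _ (cokernelIsCokernel _)
    mono_f := inferInstanceAs (Mono (kernel.ι (testMap x)))
    epi_g := inferInstanceAs (Epi (cokernel.π (kernel.ι (testMap x)))) }

theorem isTest_testSC (x : X) : IsTest (testSC x) x := by
  let A := X.presheaf.stalk x
  let eA := pushTildeStalkIso x (ModuleCat.of A A)
  let eK := pushTildeStalkIso x (ModuleCat.of A (IsLocalRing.ResidueField A))
  have hlin : ∀ a : A, eA.hom a = a • eA.hom (1 : A) := fun a => by
    rw [← map_smul]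
    exact congrArg eA.hom (mul_one a).symm
  let r : (stkF x).obj (testSC x).X₃ ⟶ _ :=
    (stkF x).map (cokernel.desc (kernel.ι (testMap x)) (testMap x) (kernel.condition _))
  have hr : Function.Injective r.hom := by
    haveI : Mono (cokernel.desc (kernel.ι (testMap x)) (testMap x) (kernel.condition _)) :=
      inferInstanceAs (Mono (Abelian.factorThruCoimage (testMap x)))
    exact (ModuleCat.mono_iff_injective r).1 inferInstance
  have hg : Function.Surjective ((stkF x).map (testSC x).g).hom :=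
    haveI : Epi (testSC x).g := (shortExact_testSC x).epi_g
    (ModuleCat.epi_iff_surjective _).1 inferInstance
  have hcomp : ∀ y, r ((stkF x).map (testSC x).g y) = (stkF x).map (testMap x) y := fun y => by
    show ((stkF x).map (testSC x).g ≫ r) y = _
    rw [← Functor.map_comp]
    exact congrArg (fun φ => (stkF x).map φ y) (cokernel.π_desc _ _ _)
  refine ⟨shortExact_testSC x, ⟨eA.hom (1 : A), ?_⟩, ⟨⟨(stkF x).map (testSC x).g (eA.hom (1 : A)), 0, fun h0 => ?_⟩⟩,
    fun a ha t => hr ?_⟩
  · refine ⟨fun a b hab => ?_, fun y => ⟨eA.inv y, ?_⟩⟩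
    · exact (ConcreteCategory.bijective_of_isIso eA.hom).1 (((hlin a).trans hab).trans (hlin b).symm)
    · show eA.inv y • eA.hom (1 : A) = y
      rw [← hlin]
      exact Iso.inv_hom_id_apply eA y
  · have h1 := congrArg r h0
    rw [hcomp, map_zero, testMap, pushTildeStalkIso_natural] at h1
    have h2 := (ConcreteCategory.bijective_of_isIso eK.hom).1 (h1.trans (map_zero eK.hom.hom).symm)
    exact one_ne_zero ((map_one (algebraMap A (IsLocalRing.ResidueField A))).symm.trans h2)
  · obtain ⟨y, rfl⟩ := hg t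
    obtain ⟨b, rfl⟩ := (ConcreteCategory.bijective_of_isIso eA.hom).2 y
    show r (a • ((stkF x).map (testSC x).g (eA.hom b))) = r 0
    rw [map_smul, hcomp, map_zero, testMap, pushTildeStalkIso_natural, ← map_smul]
    refine (congrArg eK.hom ?_).trans (map_zero eK.hom.hom)
    show algebraMap A (IsLocalRing.ResidueField A) a * algebraMap A _ b = 0
    rw [show algebraMap A (IsLocalRing.ResidueField A) a = 0 from
      Ideal.Quotient.eq_zero_iff_mem.2 ha, zero_mul]

theorem isQCoh_testSC [QuasiSeparatedSpace ↥X] (x : X) :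
    Coh.IsQCoh (testSC x).X₁ ∧ Coh.IsQCoh (testSC x).X₂ ∧ Coh.IsQCoh (testSC x).X₃ := by
  haveI : QuasiCompact (X.fromSpecStalk x ≫ terminal.from X) := inferInstance
  haveI : QuasiCompact (X.fromSpecStalk x) := QuasiCompact.of_comp _ (terminal.from X)
  have h : ∀ M : ModuleCat.{u} (X.presheaf.stalk x), Coh.IsQCoh (pushTilde x M) := fun M => by
    haveI : Coh.IsQCoh (tilde M) := inferInstanceAs ((tilde M).IsQuasicoherent)
    exact QCohLib.isQCoh_pushforward (M := tilde M) (X.fromSpecStalk x)
  have hK := (Groth.Agent.QCohLib.isQCoh_image (testMap x) (h _) (h _)).1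
  exact ⟨hK, h _, (Groth.Agent.QCohLib.isQCoh_image (kernel.ι (testMap x)) hK (h _)).2⟩

theorem IsTest.restrict {S : ShortComplex X.Modules} (j : U ⟶ X) [IsOpenImmersion j] {w : U}
    (h : IsTest S (j w)) : IsTest (S.map (Scheme.Modules.restrictFunctor j)) w := by
  let σ := (asIso (j.stalkMap w)).commRingCatIsoToRingEquiv
  let e : ∀ M : X.Modules, ((Scheme.Modules.restrictFunctor j).obj M).presheaf.stalk w ≃+ M.presheaf.stalk (j w) :=
    fun M => ((Scheme.Modules.restrictStalkNatIso j w).app M).addCommGroupIsoToAddEquiv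
  have hs : ∀ M c m, e M (c • m) = σ.symm c • e M m := fun M c m => restrictStalk_smul j M w c m
  refine ⟨h.shortExact.map_of_exact _, ?_, ?_, ?_⟩
  · obtain ⟨u₀, hu⟩ := h.gen
    refine ⟨(e S.X₂).symm u₀, ?_⟩
    have hc : (fun a : U.presheaf.stalk w => a • (e S.X₂).symm u₀) =
        (e S.X₂).symm ∘ (fun a => a • (u₀ : S.X₂.presheaf.stalk (j w))) ∘ σ.symm := by
      funext a
      apply (e S.X₂).injective
      simp only [Function.comp_apply, hs, AddEquiv.apply_symm_apply]
    exact hc ▸ (e S.X₂).symm.bijective.comp (hu.comp σ.symm.bijective)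
  · haveI : Nontrivial (S.X₃.presheaf.stalk (j w)) := h.nontrivial
    exact (e S.X₃).toEquiv.nontrivial
  · intro a ha t
    refine (e S.X₃).injective ((hs _ a t).trans (Eq.trans ?_ (map_zero _).symm))
    refine h.kills (σ.symm a) ?_ _
    rw [IsLocalRing.mem_maximalIdeal, mem_nonunits_iff]
    intro hu
    exact ha (by simpa using hu.map σ)

theorem free_stalk_coker_of_test {G : CochainComplex U.Modules ℤ}
    (hG : ∀ n, FlatMod.IsFinLocFree (G.X n)) {S : ShortComplex U.Modules} {w : U} (hS : IsTest S w) {j : ℤ}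
    (h : Epi ((hT G j).map S.g)) :
    Module.Free (U.presheaf.stalk w) ((cokernel (G.d j (j + 1))).presheaf.stalk w) := by
  have hj := free_finite_stalk_of_flf (hG j) w
  have hj' := free_finite_stalk_of_flf (hG (j + 1)) w
  haveI : Module.Finite (U.presheaf.stalk w) ((stkF w).obj (G.X j)) := hj.2
  haveI : Module.Free (U.presheaf.stalk w) ((stkF w).obj (G.X (j + 1))) := hj'.1
  haveI : Module.Finite (U.presheaf.stalk w) ((stkF w).obj (G.X (j + 1))) := hj'.2
  let d := ((stkF w).map (G.d j (j + 1))).hom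
  have hex : Function.Exact d ((stkF w).map (cokernel.π (G.d j (j + 1)))).hom :=
    (ShortComplex.ShortExact.moduleCat_exact_iff_function_exact _).1
      ((ShortComplex.exact_of_g_is_cokernel (ShortComplex.mk _ _ (cokernel.condition (G.d j (j + 1))))
        (cokernelIsCokernel _)).map (stkF w))
  refine free_coker_of_lift (A := U.presheaf.stalk w) (M := (stkF w).obj (G.X j))
    (N := (stkF w).obj (G.X (j + 1))) (P := (stkF w).obj (cokernel (G.d j (j + 1)))) d _
    ((ModuleCat.epi_iff_surjective _).1 inferInstance) hex fun v hv => ?_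
  obtain ⟨e, he⟩ := hS.gen
  let Φ := (stkF w).mapHomologicalComplex (ComplexShape.up ℤ)
  let g := Φ.map ((tlF G).map S.g)
  haveI : Epi (HomologicalComplex.homologyMap g j) := by
    haveI := h
    have hn := (mapHomologyNatIso (stkF w) j).hom.naturality ((tlF G).map S.g)
    exact ((MorphismProperty.epimorphisms _).arrow_mk_iso_iff
      (Arrow.isoMk ((mapHomologyNatIso (stkF w) j).app _) ((mapHomologyNatIso (stkF w) j).app _) hn.symm)).2
      (inferInstanceAs (Epi ((stkF w).map ((hT G j).map S.g))))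
  haveI : Epi (g.f (j - 1)) :=
    ((shortExact_tlF_map (fun n => isFlat_of_flf (hG n)) hS.shortExact).map_of_exact
      (HomologicalComplex.eval U.Modules (ComplexShape.up ℤ) (j - 1) ⋙ stkF w)).epi_g
  let q := ((stkF w).map S.g).hom
  have hq : Function.Surjective q :=
    haveI := hS.shortExact.epi_g
    (ModuleCat.epi_iff_surjective _).1 inferInstance
  have hkill : ∀ {M : Type u} [AddCommGroup M] [Module (U.presheaf.stalk w) M] (m : M),
      m ∈ IsLocalRing.maximalIdeal (U.presheaf.stalk w) • (⊤ : Submodule (U.presheaf.stalk w) M) →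
      q e ⊗ₜ[U.presheaf.stalk w] m = 0 := by
    intro M _ _ m hm
    induction hm using Submodule.smul_induction_on' with
    | smul a ha n _ => rw [← smul_tmul, hS.kills a ha, zero_tmul]
    | add x _ y _ hx hy => rw [tmul_add, hx, hy, add_zero]
  let t : (Φ.obj ((tlF G).obj S.X₃)).X j := (stkT w S.X₃ (G.X j)).inv (q e ⊗ₜ v)
  have hdd : ∀ (N : U.Modules) (s : ((stkF w).obj N ⊗ (stkF w).obj (G.X j) : ModuleCat (U.presheaf.stalk w))),
      (Φ.obj ((tlF G).obj N)).d j (j + 1) ((stkT w N (G.X j)).inv s) =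
        (stkT w N (G.X (j + 1))).inv (((stkF w).obj N ◁ (stkF w).map (G.d j (j + 1))) s) := fun N s => by
    show ((stkT w N (G.X j)).inv ≫ (stkF w).map (((DCoh.tensorBi (X := U)).obj N).map (G.d j (j + 1)))) s =
      (((stkF w).obj N ◁ (stkF w).map (G.d j (j + 1))) ≫ (stkT w N (G.X (j + 1))).inv) s
    refine ConcreteCategory.congr_hom ?_ s
    rw [Iso.inv_comp_eq, ← Category.assoc, Iso.eq_comp_inv]
    exact stkT_natural_right w N (G.d j (j + 1))
  have ht : (Φ.obj ((tlF G).obj S.X₃)).d j (j + 1) t = 0 := by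
    rw [hdd]
    refine (congrArg (stkT w S.X₃ (G.X (j + 1))).inv ?_).trans (map_zero _)
    show q e ⊗ₜ[U.presheaf.stalk w] d v = 0
    exact hkill _ hv
  obtain ⟨c, hc, hct⟩ := exists_cycle_lift g j inferInstance inferInstance t ht
  obtain ⟨s, rfl⟩ := (ConcreteCategory.bijective_of_isIso (stkT w S.X₂ (G.X j)).inv).2 c
  let lE : U.presheaf.stalk w ≃ₗ[U.presheaf.stalk w] (stkF w).obj S.X₂ :=
    LinearEquiv.ofBijective (LinearMap.toSpanSingleton _ _ e) he
  have hgen : ∀ s : TensorProduct (U.presheaf.stalk w) ((stkF w).obj S.X₂) ((stkF w).obj (G.X j)),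
      ∃ v', e ⊗ₜ v' = s := fun s => by
    induction s using TensorProduct.induction_on with
    | zero => exact ⟨0, tmul_zero _ _⟩
    | tmul a b => exact ⟨lE.symm a • b, by
        rw [← smul_tmul]
        exact congrArg (· ⊗ₜ b) (lE.apply_symm_apply a)⟩
    | add x y hx hy =>
      obtain ⟨a, ha⟩ := hx; obtain ⟨b, hb⟩ := hy
      exact ⟨a + b, by rw [tmul_add, ha, hb]⟩
  obtain ⟨v', rfl⟩ := hgen s
  refine ⟨v', ?_, ?_⟩
  · rw [hdd] at hc
    have h1 : e ⊗ₜ[U.presheaf.stalk w] d v' = 0 :=
      (ConcreteCategory.bijective_of_isIso (stkT w S.X₂ (G.X (j + 1))).inv).1 (hc.trans (map_zero _).symm)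
    have h2 := congrArg (LinearEquiv.rTensor ((stkF w).obj (G.X (j + 1))) lE.symm ≪≫ₗ
      TensorProduct.lid (U.presheaf.stalk w) ((stkF w).obj (G.X (j + 1)))) h1
    rw [map_zero] at h2
    rw [show e = lE 1 by simp [lE]] at h2
    simpa using h2
  · have h1 : q e ⊗ₜ[U.presheaf.stalk w] v' = q e ⊗ₜ v := by
      apply (ConcreteCategory.bijective_of_isIso (stkT w S.X₃ (G.X j)).inv).1
      refine Eq.trans ?_ hct
      show _ = ((stkT w S.X₂ (G.X j)).inv ≫ (stkF w).map (((DCoh.tensorBi (X := U)).map S.g).app (G.X j))) _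
      rw [show (stkT w S.X₂ (G.X j)).inv ≫ (stkF w).map (((DCoh.tensorBi (X := U)).map S.g).app (G.X j)) =
        ((stkF w).map S.g ▷ (stkF w).obj (G.X j)) ≫ (stkT w S.X₃ (G.X j)).inv by
          rw [Iso.inv_comp_eq, ← Category.assoc, Iso.eq_comp_inv]
          exact stkT_natural_left w S.g (G.X j)]
      rfl
    let k := IsLocalRing.ResidueField (U.presheaf.stalk w)
    let l : k →ₗ[U.presheaf.stalk w] (stkF w).obj S.X₃ :=
      (IsLocalRing.maximalIdeal (U.presheaf.stalk w)).liftQ (LinearMap.toSpanSingleton _ _ (q e))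
        fun a ha => hS.kills a ha _
    have hl1 : l 1 = q e := one_smul (U.presheaf.stalk w) (q e)
    have hl : Function.Bijective l := by
      refine ⟨?_, fun t => ?_⟩
      · haveI := hS.nontrivial
        rw [injective_iff_map_eq_zero]
        intro z hz
        obtain ⟨a, rfl⟩ := Submodule.Quotient.mk_surjective _ z
        by_contra ha
        have hu : IsUnit a := by
          by_contra hn
          exact ha ((Submodule.Quotient.mk_eq_zero _).2 hn)
        have hqe : q e = 0 := by
          rw [← one_smul (U.presheaf.stalk w) (q e), ← hu.val_inv_mul, mul_smul]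
          exact (congrArg _ hz).trans (smul_zero _)
        obtain ⟨y, hy⟩ := exists_ne (0 : (stkF w).obj S.X₃)
        obtain ⟨x, rfl⟩ := hq y
        obtain ⟨b, rfl⟩ := he.2 x
        exact hy (by rw [map_smul, hqe, smul_zero])
      · obtain ⟨x, rfl⟩ := hq t
        obtain ⟨b, rfl⟩ := he.2 x
        exact ⟨Submodule.Quotient.mk b, (map_smul q b e).symm⟩
    rw [← hl1, show ∀ y, l 1 ⊗ₜ[U.presheaf.stalk w] y =
      LinearEquiv.rTensor ((stkF w).obj (G.X j)) (LinearEquiv.ofBijective l hl) ((1 : k) ⊗ₜ y) from fun y => rfl,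
      show ∀ y, l 1 ⊗ₜ[U.presheaf.stalk w] y =
      LinearEquiv.rTensor ((stkF w).obj (G.X j)) (LinearEquiv.ofBijective l hl) ((1 : k) ⊗ₜ y) from fun y => rfl] at h1
    have h2 := (LinearEquiv.rTensor ((stkF w).obj (G.X j)) (LinearEquiv.ofBijective l hl)).injective h1
    rw [← LinearMap.ker_tensorProductMk, LinearMap.mem_ker, map_sub, sub_eq_zero]
    exact h2.symm

theorem exists_approx_pair (F : CochainComplex X.Modules ℤ) {K : DCoh.D X}
    (e : DerivedCategory.Q.obj ((resX X).obj F) ≅ K) (p : ℤ) (hK : DCoh.IsPseudoCoherentD (p - 1) K) (x : X) :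
    ∃ (W : Scheme.{u}) (j : W ⟶ X) (_ : IsOpenImmersion j) (y : W), j y = x ∧
      ∃ (G : CochainComplex W.Modules ℤ) (β₁ : G ⟶ (resCx j).obj ((resX X).obj F)) (β₂ : G ⟶ resOpen j K),
        DCoh.IsStrictlyPerfect G ∧ MIso (p - 1) (DerivedCategory.Q.map β₁) ∧
          MIso (p - 1) (DerivedCategory.Q.map β₂) := by
  let P := (resX X).obj F
  obtain ⟨U₀, j₀, hj₀, y₀, rfl, G₀, β₀, hG₀, hβ₀⟩ := exists_approx hK x
  let R := (resX X).obj (DerivedCategory.Q.objPreimage K)
  let γ : DerivedCategory.Q.obj G₀ ⟶ DerivedCategory.Q.obj ((resCx j₀).obj P) :=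
    DerivedCategory.Q.map β₀ ≫ ((restrictDQ j₀ R).symm ≪≫
      (DCoh.restrictD j₀).mapIso (resXIso K ≪≫ e.symm) ≪≫ restrictDQ j₀ P).hom
  have hγ : MIso (p - 1) γ := hβ₀.comp (mIso_of_isIso _ _)
  obtain ⟨W, hW, β, hβ⟩ := exists_open_represent hG₀ γ y₀
  let j : (W : Scheme.{u}) ⟶ X := W.ι ≫ j₀
  let G := (resCx W.ι).obj G₀
  let β₁ : G ⟶ (resCx j).obj P := β ≫ (resCxComp W.ι j₀).inv.app P
  let β₂ : G ⟶ resOpen j K := (resCx W.ι).map β₀ ≫ (resCxComp W.ι j₀).inv.app R
  refine ⟨_, j, inferInstance, ⟨y₀, hW⟩, rfl, G, β₁, β₂, isStrictlyPerfect_restrict W.ι hG₀, ?_, ?_⟩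
  · have h1 : DerivedCategory.Q.map β = (restrictDQ W.ι G₀).inv ≫
        (DCoh.restrictD W.ι).map γ ≫ (restrictDQ W.ι _).hom := by
      rw [hβ]
      simp [restrictDQ]
    rw [Functor.map_comp, h1]
    exact ((mIso_of_isIso _ _).comp ((hγ.restrict W.ι).comp (mIso_of_isIso _ _))).comp (mIso_of_isIso _ _)
  · have h2 : DerivedCategory.Q.map ((resCx W.ι).map β₀) = (restrictDQ W.ι G₀).inv ≫
        (DCoh.restrictD W.ι).map (DerivedCategory.Q.map β₀) ≫ (restrictDQ W.ι _).hom := by
      rw [Iso.eq_inv_comp]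
      exact ((Scheme.Modules.restrictFunctor W.ι).mapDerivedCategoryFactors.hom.naturality β₀).symm
    rw [Functor.map_comp, h2]
    exact ((mIso_of_isIso _ _).comp ((hβ₀.restrict W.ι).comp (mIso_of_isIso _ _))).comp (mIso_of_isIso _ _)

theorem epi_hT_pred {G : CochainComplex U.Modules ℤ} (hG : ∀ n, FlatMod.IsFlat (G.X n))
    {S : ShortComplex U.Modules} (hS : S.ShortExact) (p : ℤ) (h : Mono ((hT G p).map S.f)) :
    Epi ((hT G (p - 1)).map S.g) := by
  have hG' := shortExact_tlF_map hG hS
  have hp : (ComplexShape.up ℤ).Rel (p - 1) p := by simp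
  have hδ : hG'.δ (p - 1) p hp = 0 := by
    haveI : Mono (HomologicalComplex.homologyMap (S.map (tlF G)).f p) := h
    rw [← cancel_mono (HomologicalComplex.homologyMap (S.map (tlF G)).f p), hG'.δ_comp, zero_comp]
  exact (hG'.homology_exact₃ (p - 1) p hp).epi_f hδ

variable [∀ x : X, DCoh.HasLpull (X.fromSpecResidueField x)]

/-- Exactness on the testing sequences forces local freeness and constancy of the Betti number. -/
theorem flf_homology_of_exact (F : CochainComplex X.Modules ℤ) (p : ℤ)
    (hK : DCoh.IsPseudoCoherentD (p - 1) (DCoh.toD X F))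
    (hmono : ∀ x, Mono ((hT ((resX X).obj F) p).map (testSC (X := X) x).f))
    (hepi : ∀ x, Epi ((hT ((resX X).obj F) p).map (testSC (X := X) x).g)) :
    FlatMod.IsFinLocFree (DCoh.HD (DCoh.toD X F) p) ∧
      IsLocallyConstant (fun x : X => PerfD.betti (DCoh.toD X F) x p) := by
  let P := (resX X).obj F
  let eK : DerivedCategory.Q.obj P ≅ DCoh.toD X F := @asIso _ _ _ _ _ (isIso_Q_resXπ F)
  have key : ∀ x : X, ∃ (W : Scheme.{u}) (j : W ⟶ X) (_ : IsOpenImmersion j) (y : W), j y = x ∧
      FlatMod.IsFinLocFree ((Scheme.Modules.restrictFunctor j).obj (P.homology p)) ∧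
      IsLocallyConstant (fun w : W => PerfD.betti (DCoh.toD X F) (j w) p) := by
    intro x
    obtain ⟨W, j, hj, y, hy, G, β₁, β₂, hG, hβ₁, hβ₂⟩ := exists_approx_pair F eK p hK x
    refine ⟨W, j, hj, y, hy, ?_⟩
    have hPj : DCoh.IsKFlat ((resCx j).obj P) := (isKFlat_resCx_resX j F).1
    let Θ := (hTIso β₁ hG hPj hβ₁ (show p - 1 < p by omega))
    have hfree : ∀ w : W, Module.Free (W.presheaf.stalk w) ((cokernel (G.d (p - 1) p)).presheaf.stalk w) ∧
        Module.Free (W.presheaf.stalk w) ((cokernel (G.d p (p + 1))).presheaf.stalk w) := by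
      intro w
      let x' := j w
      have hT' := (isTest_testSC x').restrict j
      have hm : Mono ((hT G p).map ((testSC x').map (Scheme.Modules.restrictFunctor j)).f) := by
        haveI := hmono x'
        haveI : Mono ((hT P p ⋙ Scheme.Modules.restrictFunctor j).map (testSC x').f) :=
          inferInstanceAs (Mono ((Scheme.Modules.restrictFunctor j).map ((hT P p).map (testSC x').f)))
        exact ((MorphismProperty.monomorphisms _).arrow_mk_iso_iff (Arrow.isoMk
          ((restrictHTIso j P p).app _ ≪≫ (Θ.app _).symm) ((restrictHTIso j P p).app _ ≪≫ (Θ.app _).symm)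
          ((NatTrans.naturality ((restrictHTIso j P p ≪≫ Functor.isoWhiskerLeft _ Θ.symm).hom)
            (testSC x').f).symm))).1 ‹_›
      have he : Epi ((hT G p).map ((testSC x').map (Scheme.Modules.restrictFunctor j)).g) := by
        haveI := hepi x'
        haveI : Epi ((hT P p ⋙ Scheme.Modules.restrictFunctor j).map (testSC x').g) :=
          inferInstanceAs (Epi ((Scheme.Modules.restrictFunctor j).map ((hT P p).map (testSC x').g)))
        exact ((MorphismProperty.epimorphisms _).arrow_mk_iso_iff (Arrow.isoMk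
          ((restrictHTIso j P p).app _ ≪≫ (Θ.app _).symm) ((restrictHTIso j P p).app _ ≪≫ (Θ.app _).symm)
          ((NatTrans.naturality ((restrictHTIso j P p ≪≫ Functor.isoWhiskerLeft _ Θ.symm).hom)
            (testSC x').g).symm))).1 ‹_›
      refine ⟨?_, free_stalk_coker_of_test hG.2 hT' he⟩
      have h1 := free_stalk_coker_of_test hG.2 hT'
        (epi_hT_pred (fun n => isFlat_of_flf (hG.2 n)) hT'.shortExact p hm)
      rw [sub_add_cancel] at h1
      exact h1
    have hflf : ∀ a b : ℤ, (∀ w : W, Module.Free (W.presheaf.stalk w) ((cokernel (G.d a b)).presheaf.stalk w)) →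
        FlatMod.IsFinLocFree (cokernel (G.d a b)) := fun a b h => by
      haveI := isQCoh_coker_d hG.2 a b
      exact (PullbackMod.isFinLocFree_iff _).mpr ⟨inferInstance, isFP_coker_d hG.2 _ _, fun w => by
        haveI := h w
        exact Module.Flat.of_free⟩
    have h₁ := hflf (p - 1) p fun w => (hfree w).1
    have h₂ := hflf p (p + 1) fun w => (hfree w).2
    refine ⟨?_, ?_⟩
    · haveI : IsIso (HomologicalComplex.homologyMap β₁ p) :=
        (map_homologyFunctor_Q _ p).1.1 (((mIso_iff (p - 1) _).1 hβ₁).1 p (by omega))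
      exact isFinLocFree_iso ((asIso (HomologicalComplex.homologyMap β₁ p)) ≪≫
        (mapHomologyNatIso (Scheme.Modules.restrictFunctor j) p).app P) (isFinLocFree_homology hG.2 h₁ h₂)
    · haveI := isQCoh_coker_d hG.2 (p - 1) p
      haveI := isQCoh_coker_d hG.2 p (p + 1)
      haveI := (PullbackMod.isQCoh_and_isFP_of_isFinLocFree _ (hG.2 (p + 1))).1
      have r₁ := PullbackMod.isFinLocFree_isLocallyConstant _ h₁
      have r₂ := PullbackMod.isFinLocFree_isLocallyConstant _ h₂
      have r₃ := PullbackMod.isFinLocFree_isLocallyConstant _ (hG.2 (p + 1))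
      have hb : (fun w : W => PerfD.betti (DCoh.toD X F) (j w) p) = fun w =>
          PullbackMod.fibreRank (cokernel (G.d (p - 1) p)) w +
            PullbackMod.fibreRank (cokernel (G.d p (p + 1))) w - PullbackMod.fibreRank (G.X (p + 1)) w := by
        funext w
        have := betti_add (DCoh.toD X F) j β₂ hG hβ₂ (show p - 1 < p by omega) w
        omega
      rw [hb]
      exact (r₁.comp₂ r₂ (· + ·)).comp₂ r₃ (· - ·)
  refine ⟨isFinLocFree_iso (((DerivedCategory.homologyFunctorFactors X.Modules p).app P).symm ≪≫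
    (DerivedCategory.homologyFunctor X.Modules p).mapIso eK) (isFinLocFree_of_local fun x => ?_), ?_⟩
  · obtain ⟨W, j, hj, y, hy, h, -⟩ := key x
    exact ⟨W, j, hj, y, hy, h⟩
  · refine (IsLocallyConstant.iff_exists_open _).2 fun x => ?_
    obtain ⟨W, j, hj, y, rfl, -, h⟩ := key x
    obtain ⟨O, hO, hyO, hc⟩ := (IsLocallyConstant.iff_exists_open _).1 h y
    exact ⟨j '' O, j.isOpenEmbedding.isOpenMap _ hO, ⟨y, hyO, rfl⟩, by
      rintro _ ⟨w, hw, rfl⟩
      exact hc w hw⟩

end Groth.Agent.DCohLib
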