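import Groth.Agent.DCohLib.DualPerf
import Groth.Agent.DCohLib.SymNat
import Groth.Agent.DCohLib.LTensorCongr

/-!
# Biduality for perfect complexes
-/

set_option autoImplicit false
set_option linter.style.haveILetI false

universe u

open CategoryTheory CategoryTheory.Limits AlgebraicGeometry TopologicalSpace
open Groth.Agent.KFlat

attribute [local instance] HasDerivedCategory.standard

noncomputable section

namespace Groth.Agent.DCohLib

variable {X : Scheme.{u}} {V : X.Opens} {J : CochainComplex X.Modules ℤ}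

/-- The biduality map attached to a map into an internal Hom complex. -/
def bidual {E P : CochainComplex X.Modules ℤ} (γ : P ⟶ (hCx E).obj J) : E ⟶ (hCx P).obj J :=
  (hAdj P).homEquiv E J ((symS E P).hom ≫ ((hAdj E).homEquiv P J).symm γ)

theorem tenR_map_bidual {E P : CochainComplex X.Modules ℤ} (γ : P ⟶ (hCx E).obj J) :
    (tenR P).map (bidual γ) ≫ (hAdj P).counit.app J = (symS E P).hom ≫ ((hAdj E).homEquiv P J).symm γ :=
  ((hAdj P).homEquiv_counit _ _ _).symm.trans (Equiv.symm_apply_apply _ _)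

theorem bidual_natural {E E' P P' : CochainComplex X.Modules ℤ} (β : E' ⟶ E) (κ : P ⟶ P')
    (γ : P ⟶ (hCx E).obj J) (γ' : P' ⟶ (hCx E').obj J) (sq : γ ≫ (hMap β).app J = κ ≫ γ') :
    β ≫ bidual γ = bidual γ' ≫ (hMap κ).app J := by
  apply ((hAdj P).homEquiv E' J).symm.injective
  rw [Adjunction.homEquiv_naturality_left_symm, hAdj_symm_hMap]
  simp only [bidual, Equiv.symm_apply_apply]
  refine (Category.assoc _ _ _).symm.trans ((congrArg (· ≫ _) (symS_natural_left β P)).trans ?_)
  refine Eq.trans ?_ ((Category.assoc _ _ _).symm.trans ((congrArg (· ≫ _) (symS_natural_right E' κ)))).symm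
  refine (Category.assoc _ _ _).trans (Eq.trans ?_ (Category.assoc _ _ _).symm)
  refine congrArg (_ ≫ ·) ?_
  rw [← hAdj_symm_hMap, sq, Adjunction.homEquiv_naturality_left_symm]
  rfl

/-- Short complexes with split evaluations preserve K-flatness. -/
theorem isKFlat_of_split (S : ShortComplex (CochainComplex X.Modules ℤ))
    (σ : ∀ q, (S.map (HomologicalComplex.eval X.Modules (ComplexShape.up ℤ) q)).Splitting) :
    (DCoh.IsKFlat S.X₁ → DCoh.IsKFlat S.X₂ → DCoh.IsKFlat S.X₃) ∧
      (DCoh.IsKFlat S.X₁ → DCoh.IsKFlat S.X₃ → DCoh.IsKFlat S.X₂) := by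
  have key : ∀ K : CochainComplex X.Modules ℤ, DCoh.IsKFlat K ↔ IsKFlatFor (DCoh.tensorBi (X := X)) K :=
    fun K => (isKFlatFor_iff_isZero_homology (DCoh.tensorBi (X := X)) K).symm
  have h := twoOfThree (DCoh.tensorBi (X := X)) S fun L => shortExact_tot_of_splitting _ L S σ
  simp only [key]
  exact ⟨h.1, h.2.1⟩

theorem isKFlat_of_isZero {K : CochainComplex X.Modules ℤ} (h : IsZero K) : DCoh.IsKFlat K := fun L _ i =>
  (HomologicalComplex.homologyFunctor _ _ i).map_isZero ((DCoh.tensorCx.obj L).map_isZero h)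

theorem quasiIso_res_of_quasiIso {A B : CochainComplex X.Modules ℤ} (f : A ⟶ B) (hf : QuasiIso f) :
    QuasiIso ((resCx V.ι).map f) := by
  haveI := hf
  infer_instance

section

variable [J.IsKInjective]

/-- The canonical biduality map. -/
abbrev bidualC (E : CochainComplex X.Modules ℤ) (J : CochainComplex X.Modules ℤ) :
    E ⟶ (hCx ((resX X).obj ((hCx E).obj J))).obj J :=
  bidual ((resXπ X).app ((hCx E).obj J))

theorem quasiIso_res_bidual_iff {E P : CochainComplex X.Modules ℤ} (hP : DCoh.IsKFlat P)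
    (γ : P ⟶ (hCx E).obj J) (hγ : QuasiIso γ) :
    QuasiIso ((resCx V.ι).map (bidual γ)) ↔ QuasiIso ((resCx V.ι).map (bidualC E J)) := by
  let γ'' := (resXπ X).app P ≫ γ
  have e1 : 𝟙 E ≫ bidual γ'' = bidual γ ≫ (hMap ((resXπ X).app P)).app J :=
    bidual_natural (𝟙 E) ((resXπ X).app P) γ'' γ (by rw [hMap_id, Category.comp_id])
  have e2 : 𝟙 E ≫ bidual γ'' = bidualC E J ≫ (hMap ((resX X).map γ)).app J :=
    bidual_natural (𝟙 E) ((resX X).map γ) γ'' _ (by
      rw [hMap_id, Category.comp_id]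
      exact ((resXπ X).naturality γ).symm)
  haveI h1 := quasiIso_res_hMap (V := V) ((resXπ X).app P) (isKFlat_resX P) hP
    (quasiIso_res_of_quasiIso _ (quasiIso_resXπ P)) J
  haveI h2 := quasiIso_res_hMap (V := V) ((resX X).map γ) (isKFlat_resX P) (isKFlat_resX _)
    (quasiIso_res_of_quasiIso _ (quasiIso_resX_map γ hγ)) J
  rw [Category.id_comp] at e1 e2
  have a1 := quasiIso_iff_comp_right ((resCx V.ι).map (bidual γ))
    ((resCx V.ι).map ((hMap ((resXπ X).app P)).app J))
  have a2 := quasiIso_iff_comp_right ((resCx V.ι).map (bidualC E J))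
    ((resCx V.ι).map ((hMap ((resX X).map γ)).app J))
  rw [← (resCx V.ι).map_comp, ← e1] at a1
  rw [← (resCx V.ι).map_comp, ← e2] at a2
  exact a1.symm.trans a2

theorem quasiIso_res_bidual_of_inv {N : CochainComplex X.Modules ℤ} (hN : DCoh.IsKFlat N)
    [(DCoh.LTensorCx ((resCx V.ι).obj N)).IsEquivalence] {P : CochainComplex X.Modules ℤ}
    (hP : DCoh.IsKFlat P) [(DCoh.LTensorCx ((resCx V.ι).obj P)).IsEquivalence]
    (γ : P ⟶ (hCx N).obj J) (hγ : QuasiIso γ) : QuasiIso ((resCx V.ι).map (bidual γ)) := by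
  refine quasiIso_res_of_tensor P hP _ ?_
  haveI := quasiIso_res_eps P hP J (V := V)
  haveI := quasiIso_res_eps N hN J (V := V)
  haveI : QuasiIso ((tenR N).map γ) :=
    @quasiIso_tensor_of_isKFlat_right _ _ _ X.sheaf N ((isKFlat_iff N).1 hN) _ _ γ hγ
  haveI : QuasiIso ((resCx V.ι).map ((tenR P).map (bidual γ)) ≫ (resCx V.ι).map ((hAdj P).counit.app J)) := by
    rw [← (resCx V.ι).map_comp, tenR_map_bidual, Adjunction.homEquiv_counit, (resCx V.ι).map_comp,
      (resCx V.ι).map_comp]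
    infer_instance
  exact quasiIso_of_comp_right _ ((resCx V.ι).map ((hAdj P).counit.app J))

variable (V J) in
/-- Biduality holds at a complex on an open. -/
def BidualGood (E : CochainComplex (V : Scheme.{u}).Modules ℤ) : Prop :=
  QuasiIso ((resCx V.ι).map (bidualC ((extCx V).obj E) J))

theorem bidualGood_split (S : ShortComplex (CochainComplex X.Modules ℤ))
    (σ : ∀ q, (S.map (HomologicalComplex.eval X.Modules (ComplexShape.up ℤ) q)).Splitting)
    (h1 : QuasiIso ((resCx V.ι).map (bidualC S.X₁ J))) (h3 : QuasiIso ((resCx V.ι).map (bidualC S.X₃ J))) :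
    QuasiIso ((resCx V.ι).map (bidualC S.X₂ J)) := by
  let π₂ := (resXπ X).app ((hCx S.X₂).obj J)
  let π₃ := (resXπ X).app ((hCx S.X₃).obj J)
  let φ := (resX X).map ((hMap S.g).app J)
  let P₃ := (resX X).obj ((hCx S.X₃).obj J)
  let P₂ := (resX X).obj ((hCx S.X₂).obj J)
  let C₀ := CochainComplex.mappingCone (𝟙 P₃)
  let ψ : P₃ ⟶ P₂ ⊞ C₀ := biprod.lift φ (CochainComplex.mappingCone.inr (𝟙 P₃))
  let T := ShortComplex.mk ψ (cokernel.π ψ) (cokernel.condition ψ)
  let r : ∀ n, (P₂ ⊞ C₀).X n ⟶ P₃.X n := fun n =>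
    (biprod.snd : P₂ ⊞ C₀ ⟶ C₀).f n ≫ (CochainComplex.mappingCone.snd (𝟙 P₃)).v n n (add_zero n)
  have hr : ∀ n, ψ.f n ≫ r n = 𝟙 _ := fun n => by
    rw [← Category.assoc, ← HomologicalComplex.comp_f, biprod.lift_snd,
      CochainComplex.mappingCone.inr_f_snd_v]
  haveI : Mono ψ := @HomologicalComplex.mono_of_mono_f _ _ _ _ _ _ _ ψ fun n =>
    (SplitMono.mk (r n) (hr n)).mono
  have hT : T.ShortExact := { exact := T.exact_of_g_is_cokernel (cokernelIsCokernel ψ) }
  have hTq : ∀ q, (T.map (HomologicalComplex.eval X.Modules (ComplexShape.up ℤ) q)).ShortExact :=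
    fun q => hT.map_of_exact _
  have τ : ∀ q, (T.map (HomologicalComplex.eval X.Modules (ComplexShape.up ℤ) q)).Splitting := fun q =>
    ShortComplex.Splitting.ofExactOfRetraction _ (hTq q).exact (r q) (hr q) (hTq q).epi_g
  have hC₀ : DCoh.IsKFlat C₀ := isKFlat_cone (𝟙 P₃) (isKFlat_resX _) (isKFlat_resX _)
  have hP₂' : DCoh.IsKFlat (P₂ ⊞ C₀) := (isKFlat_of_split (ShortComplex.mk (biprod.inl : P₂ ⟶ P₂ ⊞ C₀)
    biprod.snd biprod.inl_snd) fun q => (ShortComplex.Splitting.ofHasBinaryBiproduct P₂ C₀).map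
      (HomologicalComplex.eval X.Modules (ComplexShape.up ℤ) q)).2 (isKFlat_resX _) hC₀
  have hC : DCoh.IsKFlat T.X₃ := (isKFlat_of_split T τ).1 (isKFlat_resX _) hP₂'
  let π' : P₂ ⊞ C₀ ⟶ (hCx S.X₂).obj J := biprod.fst ≫ π₂
  have hfst : QuasiIso (biprod.fst : P₂ ⊞ C₀ ⟶ P₂) := by
    rw [← DerivedCategory.isIso_Q_map_iff_quasiIso]
    refine ⟨DerivedCategory.Q.map biprod.inl, ?_, ?_⟩
    · rw [← DerivedCategory.Q.map_comp, ← DerivedCategory.Q.map_id]
      refine DerivedCategory.Q_map_eq_of_homotopy _ (Homotopy.equivSubZero.symm ?_)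
      refine (Homotopy.ofEq ?_).trans ((((CochainComplex.mappingCone.homotopyToZeroOfId P₃).compLeft
        (biprod.snd : P₂ ⊞ C₀ ⟶ C₀)).compRight (-biprod.inr)).trans (Homotopy.ofEq (by simp)))
      rw [Category.comp_id, Preadditive.comp_neg, eq_neg_iff_add_eq_zero, sub_add_eq_add_sub, biprod.total, sub_self]
    · rw [← DerivedCategory.Q.map_comp, biprod.inl_fst, DerivedCategory.Q.map_id]
  have hπ' : QuasiIso π' := by
    haveI := hfst
    haveI := quasiIso_resXπ ((hCx S.X₂).obj J)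
    exact quasiIso_comp biprod.fst π₂
  have sq : ψ ≫ π' = π₃ ≫ (hMap S.g).app J := by
    rw [biprod.lift_fst_assoc]
    exact (resXπ X).naturality _
  let c : T.X₃ ⟶ (hCx S.X₁).obj J := cokernel.desc ψ (π' ≫ (hMap S.f).app J) (by
    rw [reassoc_of% sq, show (hMap S.g).app J ≫ (hMap S.f).app J = 0 from (hSeq S J).zero, comp_zero])
  have hc : QuasiIso c := HomologicalComplex.HomologySequence.quasiIso_τ₃
    (φ := ({ τ₁ := π₃, τ₂ := π', τ₃ := c, comm₁₂ := sq.symm, comm₂₃ := (cokernel.π_desc _ _ _).symm } :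
      T ⟶ hSeq S J)) hT (shortExact_hSeq σ J) (quasiIso_resXπ _) hπ'
  let S₁ := S.map (resCx V.ι)
  let S₂ := (hSeq T J).map (resCx V.ι)
  let ω : S₁ ⟶ S₂ :=
    { τ₁ := (resCx V.ι).map (bidual c)
      τ₂ := (resCx V.ι).map (bidual π')
      τ₃ := (resCx V.ι).map (bidual π₃)
      comm₁₂ := ((resCx V.ι).map_comp _ _).symm.trans ((congrArg (resCx V.ι).map
        (bidual_natural S.f (cokernel.π ψ) π' c (cokernel.π_desc _ _ _).symm).symm).trans
          ((resCx V.ι).map_comp _ _))
      comm₂₃ := ((resCx V.ι).map_comp _ _).symm.trans ((congrArg (resCx V.ι).map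
        (bidual_natural S.g ψ π₃ π' sq.symm).symm).trans ((resCx V.ι).map_comp _ _)) }
  have hS : S.ShortExact :=
    HomologicalComplex.shortExact_of_degreewise_shortExact _ fun q => (σ q).shortExact
  refine (quasiIso_res_bidual_iff hP₂' π' hπ').1 ?_
  exact quasiIso_τ₂ ω (shortExact_res hS) (shortExact_res (shortExact_hSeq τ J))
    ((quasiIso_res_bidual_iff hC c hc).2 h1) h3

theorem bidualGood_freeClosed (η : unitCx X ⟶ J) (hη : QuasiIso η) : FreeClosed (BidualGood V J) where
  iso {E E'} e h := by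
    let β := ((extCx V).mapIso e.symm)
    haveI := isIso_hMap β J
    let κ := (resX X).mapIso (asIso ((hMap β.hom).app J))
    haveI := isIso_hMap κ J
    have h' : QuasiIso ((resCx V.ι).map (bidualC ((extCx V).obj E) J)) := h
    haveI := h'
    show QuasiIso ((resCx V.ι).map (bidualC ((extCx V).obj E') J))
    haveI : QuasiIso ((resCx V.ι).map (bidualC ((extCx V).obj E') J) ≫
        (resCx V.ι).map ((hMap κ.hom).app J)) := by
      rw [← (resCx V.ι).map_comp, show bidualC ((extCx V).obj E') J ≫ (hMap κ.hom).app J =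
        β.hom ≫ bidualC ((extCx V).obj E) J from (bidual_natural β.hom κ.hom ((resXπ X).app _)
          ((resXπ X).app _) ((resXπ X).naturality _).symm).symm, (resCx V.ι).map_comp]
      infer_instance
    exact quasiIso_of_comp_right _ ((resCx V.ι).map ((hMap κ.hom).app J))
  zero E hE := by
    have h0 : IsZero ((extCx V).obj E) := (extCx V).map_isZero (isZero_of_X hE)
    let γ : (extCx V).obj E ⟶ (hCx ((extCx V).obj E)).obj J := 0
    refine (quasiIso_res_bidual_iff (isKFlat_of_isZero h0) γ (quasiIso_of_isZero γ h0 (isZero_hCx h0 J))).1 ?_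
    exact quasiIso_res_of_quasiIso _ (quasiIso_of_isZero _ h0 (isZero_hCx h0 J))
  unit a := by
    let N := extShiftUnit V a
    let P := (resX X).obj ((hCx N).obj J)
    haveI := isEquivalence_res_extShiftUnit (V := V) a
    obtain ⟨e⟩ := nonempty_res_hCx_extShiftUnit (V := V) η hη a
    haveI : IsIso (DerivedCategory.Q.map ((resCx V.ι).map ((resXπ X).app ((hCx N).obj J)))) :=
      (DerivedCategory.isIso_Q_map_iff_quasiIso (C := (V : Scheme.{u}).Modules) _).2
        (quasiIso_res_of_quasiIso _ (quasiIso_resXπ _))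
    obtain ⟨t⟩ := nonempty_lTensor_of_iso (E := shiftUnitCx (V : Scheme.{u}) (-a)) (E' := (resCx V.ι).obj P)
      (asIso (DerivedCategory.Q.map ((resCx V.ι).map ((resXπ X).app ((hCx N).obj J)))) ≪≫ e)
    haveI := isEquivalence_lTensor_shiftUnit (X := (V : Scheme.{u})) (-a)
    haveI : (DCoh.LTensorCx ((resCx V.ι).obj P)).IsEquivalence := Functor.isEquivalence_of_iso t.symm
    exact quasiIso_res_bidual_of_inv (isKFlat_extShiftUnit a) (isKFlat_resX _) _ (quasiIso_resXπ _)
  split S σ h1 h3 := bidualGood_split (S.map (extCx V)) (fun q => (σ q).map (CxOX.extZero V.ι)) h1 h3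

/-- Biduality for a perfect complex. -/
theorem quasiIso_bidual {K : CochainComplex X.Modules ℤ} (hK : DCoh.IsKFlat K)
    (hKp : DCoh.IsPerfect (DerivedCategory.Q.obj K)) (η : unitCx X ⟶ J) (hη : QuasiIso η) :
    QuasiIso (bidualC K J) := by
  refine quasiIso_of_local _ fun x => ?_
  obtain ⟨V, hx, E, β, hβ, hE, hfree⟩ := exists_local_free_map hKp x
  obtain ⟨⟨a, b, hab⟩, -⟩ := id hE
  refine ⟨V, hx, ?_⟩
  let β' := extAdjunct V β
  have hE' : DCoh.IsKFlat ((extCx V).obj E) := isKFlat_extCx V (isKFlat_of_strictlyPerfect hE)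
  haveI hβ' := quasiIso_res_extAdjunct V β hβ
  have hgood : QuasiIso ((resCx V.ι).map (bidualC ((extCx V).obj E) J)) :=
    (bidualGood_freeClosed (V := V) η hη).of_free hab hfree
  let κ := (resX X).map ((hMap β').app J)
  have hκ : QuasiIso ((resCx V.ι).map κ) := by
    haveI := quasiIso_res_hMap β' hE' hK hβ' J
    haveI := quasiIso_res_of_quasiIso (V := V) _ (quasiIso_resXπ ((hCx K).obj J))
    haveI := quasiIso_res_of_quasiIso (V := V) _ (quasiIso_resXπ ((hCx ((extCx V).obj E)).obj J))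
    haveI : QuasiIso ((resCx V.ι).map κ ≫ (resCx V.ι).map ((resXπ X).app ((hCx ((extCx V).obj E)).obj J))) := by
      rw [← (resCx V.ι).map_comp, (resXπ X).naturality, Functor.id_map, (resCx V.ι).map_comp]
      exact quasiIso_comp _ _
    exact quasiIso_of_comp_right _ ((resCx V.ι).map ((resXπ X).app ((hCx ((extCx V).obj E)).obj J)))
  haveI := quasiIso_res_hMap κ (isKFlat_resX _) (isKFlat_resX _) hκ J
  haveI := hgood
  haveI : QuasiIso ((resCx V.ι).map β' ≫ (resCx V.ι).map (bidualC K J)) := by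
    rw [← (resCx V.ι).map_comp, bidual_natural β' κ ((resXπ X).app ((hCx K).obj J))
      ((resXπ X).app ((hCx ((extCx V).obj E)).obj J)) ((resXπ X).naturality _).symm, (resCx V.ι).map_comp]
    exact quasiIso_comp _ _
  exact quasiIso_of_comp_left ((resCx V.ι).map β') _

end

end Groth.Agent.DCohLib
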