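import Groth.Agent.DCohLib.QcFlasque
import Groth.Agent.DCohLib.FinFactor
import Groth.Agent.DCohLib.FreeInd
import Groth.Agent.DCohLib.MVTriangle
import Mathlib.Algebra.Homology.Factorizations.CM5a

/-!
# Maps out of bounded complexes of finite free modules on a quasi-compact quasi-separated scheme
-/

set_option autoImplicit false
set_option linter.style.haveILetI false

universe u w

open CategoryTheory CategoryTheory.Limits AlgebraicGeometry TopologicalSpace
open CategoryTheory.Pretriangulated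

attribute [local instance] HasDerivedCategory.standard

noncomputable section

namespace Groth.Agent.DCohLib

variable {X Y : Scheme.{u}}

theorem exists_Q_map_kinj {A J : CochainComplex X.Modules ℤ} [J.IsKInjective]
    (k : DerivedCategory.Q.obj A ⟶ DerivedCategory.Q.obj J) : ∃ g : A ⟶ J, DerivedCategory.Q.map g = k := by
  obtain ⟨g', hg'⟩ := (CochainComplex.IsKInjective.Qh_map_bijective ((quotM X).obj A) J).surjective
    ((DerivedCategory.quotientCompQhIso X.Modules).hom.app A ≫ k ≫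
      (DerivedCategory.quotientCompQhIso X.Modules).inv.app J)
  obtain ⟨g, rfl⟩ := (quotM X).map_surjective g'
  refine ⟨g, ?_⟩
  rw [← cancel_epi ((DerivedCategory.quotientCompQhIso X.Modules).hom.app A),
    ← (DerivedCategory.quotientCompQhIso X.Modules).hom.naturality g]
  dsimp only [Functor.comp_map]
  rw [hg']
  simp

theorem qcFlasque_restrict (j : Y ⟶ X) [IsOpenImmersion j] {M : X.Modules} (hM : QcFlasque M) :
    QcFlasque ((Scheme.Modules.restrictFunctor j).obj M) := by
  intro W' W h hW' hW s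
  have hc : ∀ U : Y.Opens, IsCompact (U : Set Y) → IsCompact ((j ''ᵁ U : X.Opens) : Set X) :=
    fun U hU => hU.image j.continuous
  obtain ⟨t, ht⟩ := hM (j.opensFunctor.map (homOfLE h)).le (hc W' hW') (hc W hW) s
  exact ⟨t, ht⟩

theorem qcFlasque_cone {K L : CochainComplex X.Modules ℤ} (φ : K ⟶ L) (hK : ∀ n, QcFlasque (K.X n))
    (hL : ∀ n, QcFlasque (L.X n)) (n : ℤ) : QcFlasque ((CochainComplex.mappingCone φ).X n) :=
  qcFlasque_of_iso (HomologicalComplex.homotopyCofiber.XIsoBiprod φ n (n + 1) rfl).symm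
    (qcFlasque_biprod (hK (n + 1)) (hL n))

theorem isZero_cone_X {K L : CochainComplex X.Modules ℤ} (φ : K ⟶ L) (a : ℤ)
    (hK : ∀ n, n < a → IsZero (K.X n)) (hL : ∀ n, n < a → IsZero (L.X n)) (n : ℤ) (hn : n < a - 1) :
    IsZero ((CochainComplex.mappingCone φ).X n) :=
  ((biprod_isZero_iff _ _).2 ⟨hK (n + 1) (by omega), hL n (by omega)⟩).of_iso
    (HomologicalComplex.homotopyCofiber.XIsoBiprod φ n (n + 1) rfl)

variable [CompactSpace Y] [QuasiSeparatedSpace Y]

theorem quotM_eq_zero_shiftUnit {C : CochainComplex Y.Modules ℤ} (hC : C.Acyclic)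
    (hq : ∀ n, QcFlasque (C.X n)) (a : ℤ) (ha : ∀ n, n < a → IsZero (C.X n)) (n : ℤ)
    (φ : (HomologicalComplex.single Y.Modules (ComplexShape.up ℤ) (n + 1)).obj (Coh.structureModule Y) ⟶ C) :
    (quotM Y).map φ = 0 := by
  let e := HomologicalComplex.singleObjXSelf (ComplexShape.up ℤ) (n + 1) (Coh.structureModule Y)
  let t : Coh.structureModule Y ⟶ C.X (n + 1) := e.inv ≫ φ.f (n + 1)
  have ht : t ≫ C.d (n + 1) (n + 1 + 1) = 0 := by
    simp only [t, Category.assoc, φ.comm]
    refine (congrArg (e.inv ≫ ·) ((congrArg (· ≫ φ.f _) ?_).trans zero_comp)).trans comp_zero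
    exact HomologicalComplex.single_obj_d _ _ _ _ _
  obtain ⟨y, hy⟩ := exists_boundary hC hq a ha ⊤ isCompact_univ n (t.app ⊤ (1 : Γ(Y, ⊤)))
    ((congr(($ht).app ⊤ (1 : Γ(Y, ⊤)))).trans
      congr(($(Scheme.Modules.Hom.zero_app (M := Coh.structureModule Y) (N := C.X (n + 1 + 1)) (U := ⊤))) (1 : Γ(Y, ⊤))))
  have hv : secHom (C.X n) y ≫ C.d n (n + 1) = t := hom_unit_ext
    ((congrArg ((C.d n (n + 1)).app ⊤) ((secHom_app_one _ y ⊤).trans
      (congr(($((C.X n).presheaf.map_id _)) y)))).trans hy)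
  let S₁ := (HomologicalComplex.single Y.Modules (ComplexShape.up ℤ) (n + 1)).obj (Coh.structureModule Y)
  let h : ∀ i j, S₁.X i ⟶ C.X j := fun i j =>
    if hij : i = n + 1 ∧ j = n then
      eqToHom (by rw [hij.1]) ≫ e.hom ≫ secHom (C.X n) y ≫ eqToHom (by rw [hij.2]) else 0
  refine (HomotopyCategory.eq_of_homotopy φ 0 ⟨h, fun i j hij => ?_, fun i => ?_⟩).trans (Functor.map_zero _ _ _)
  · refine dif_neg ?_
    rintro ⟨rfl, rfl⟩
    exact hij rfl
  · rcases eq_or_ne i (n + 1) with rfl | hi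
    · rw [dNext_eq h (show (ComplexShape.up ℤ).Rel (n + 1) (n + 1 + 1) from rfl),
        prevD_eq h (show (ComplexShape.up ℤ).Rel n (n + 1) from rfl), HomologicalComplex.zero_f, add_zero]
      have hd : S₁.d (n + 1) (n + 1 + 1) = 0 := HomologicalComplex.single_obj_d _ _ _ _ _
      have hh : h (n + 1) n = e.hom ≫ secHom (C.X n) y := by
        simp [h]
      rw [hd, zero_comp, zero_add, hh, Category.assoc, hv]
      simp only [t]
      rw [e.hom_inv_id_assoc]
    · exact (HomologicalComplex.isZero_single_obj_X _ _ _ _ hi).eq_of_src _ _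

variable {ι : Type w}

/-- Maps from shifts of the unit into a bounded below complex of qc-flasque modules absorb endomorphisms
absorbing sections. -/
theorem absorbs_shiftUnit {L : CochainComplex Y.Modules ℤ} (hq : ∀ n, QcFlasque (L.X n)) (a : ℤ)
    (ha : ∀ n, n < a → IsZero (L.X n)) (P : Finset ι → (L ⟶ L))
    (hsec : ∀ n (s : Γ(L.X n, ⊤)), ∃ T, ((P T).f n).app ⊤ s = s) (m : ℤ) :
    Absorbs (fun T => DerivedCategory.Q.map (P T)) (DerivedCategory.Q.obj (shiftUnitCx Y m)) := by
  obtain ⟨n, rfl⟩ : ∃ n, m = n + 1 := ⟨m - 1, by omega⟩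
  intro f
  haveI : L.IsStrictlyGE a := (CochainComplex.isStrictlyGE_iff L a).2 fun i hi => ha i hi
  obtain ⟨J, s, hs, hJ, hJa⟩ := CochainComplex.Plus.modelCategoryQuillen.exists_quasiIso_injective L a
  haveI := hs
  haveI := hJ
  haveI := hJa
  haveI : J.IsKInjective := CochainComplex.isKInjective_of_injective J a
  obtain ⟨g', hg'⟩ := exists_Q_map_kinj (f ≫ DerivedCategory.Q.map s)
  let C := CochainComplex.mappingCone s
  let S := CochainComplex.mappingCone.triangleh s
  have h0 : (quotM Y).map g' ≫ S.mor₂ = 0 := by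
    show (quotM Y).map g' ≫ (quotM Y).map (CochainComplex.mappingCone.inr s) = 0
    rw [← Functor.map_comp]
    exact quotM_eq_zero_shiftUnit (Groth.Agent.KFlat.acyclic_cone_of_quasiIso s)
      (qcFlasque_cone s hq fun n => qcFlasque_of_injective _) (a - 1)
      (isZero_cone_X s a ha fun n hn => J.isZero_of_isStrictlyGE a n hn) n _
  obtain ⟨g₁, hg₁⟩ := Triangle.coyoneda_exact₂ S (HomotopyCategory.mappingCone_triangleh_distinguished s)
    ((quotM Y).map g') h0
  obtain ⟨g, rfl⟩ := (quotM Y).map_surjective (show (quotM Y).obj (shiftUnitCx Y (n + 1)) ⟶ (quotM Y).obj L from g₁)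
  haveI : IsIso (DerivedCategory.Q.map s) := (DerivedCategory.isIso_Q_map_iff_quasiIso (C := Y.Modules) s).2 hs
  have hg : DerivedCategory.Q.map g = f := by
    rw [← cancel_mono (DerivedCategory.Q.map s), ← hg', ← DerivedCategory.Q.map_comp]
    exact DerivedCategory.Q_map_eq_of_homotopy _ (HomotopyCategory.homotopyOfEq _ _
      (((quotM Y).map_comp g s).trans hg₁.symm))
  let e := HomologicalComplex.singleObjXSelf (ComplexShape.up ℤ) (n + 1) (Coh.structureModule Y)
  obtain ⟨T, hT⟩ := hsec (n + 1) ((e.inv ≫ g.f (n + 1)).app ⊤ (1 : Γ(Y, ⊤)))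
  refine ⟨T, ?_⟩
  show f ≫ DerivedCategory.Q.map (P T) = f
  rw [← hg, ← DerivedCategory.Q.map_comp]
  congr 1
  refine HomologicalComplex.hom_ext _ _ fun i => ?_
  rcases eq_or_ne i (n + 1) with rfl | hi
  · exact (cancel_epi e.inv).1 (hom_unit_ext hT)
  · exact (HomologicalComplex.isZero_single_obj_X _ _ _ _ hi).eq_of_src _ _

theorem absorbs_free {L : CochainComplex Y.Modules ℤ} (hq : ∀ n, QcFlasque (L.X n)) (a : ℤ)
    (ha : ∀ n, n < a → IsZero (L.X n)) (P : Finset ι → (L ⟶ L))
    (hP : ∀ T T', T ⊆ T' → P T ≫ P T' = P T)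
    (hsec : ∀ n (s : Γ(L.X n, ⊤)), ∃ T, ((P T).f n).app ⊤ s = s) :
    FreeClosed fun E => Absorbs (fun T => DerivedCategory.Q.map (P T)) (DerivedCategory.Q.obj E) where
  iso e h := h.of_iso (DerivedCategory.Q.mapIso e)
  zero E hE := absorbs_of_isZero (DerivedCategory.Q.map_isZero ((IsZero.iff_id_eq_zero _).2
    (HomologicalComplex.hom_ext _ _ fun n => (hE n).eq_of_src _ _)))
  unit m := absorbs_shiftUnit hq a ha P hsec m
  split S σ h1 h3 := absorbs_obj₂
    (fun T T' h => by rw [← DerivedCategory.Q.map_comp, hP T T' h]) _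
    (DerivedCategory.triangleOfSES_distinguished
      (HomologicalComplex.shortExact_of_degreewise_shortExact S fun q => (σ q).shortExact)) h1 h3

end Groth.Agent.DCohLib
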