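import Mathlib

/-!
# The five lemma for short exact sequences of complexes
-/

set_option autoImplicit false
set_option linter.style.haveILetI false

universe v u

open CategoryTheory CategoryTheory.Limits HomologicalComplex CategoryTheory.ComposableArrows CategoryTheory.Abelian

noncomputable section

namespace Groth.Agent.DCohLib

/-- The middle map of a map of short exact sequences is a quasi-isomorphism if the outer ones are. -/
theorem quasiIso_τ₂ {C : Type u} [Category.{v} C] [Abelian C] {S₁ S₂ : ShortComplex (CochainComplex C ℤ)}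
    (φ : S₁ ⟶ S₂) (hS₁ : S₁.ShortExact) (hS₂ : S₂.ShortExact) (h₁ : QuasiIso φ.τ₁) (h₃ : QuasiIso φ.τ₃) :
    QuasiIso φ.τ₂ := by
  refine ⟨fun i => (quasiIsoAt_iff_isIso_homologyMap φ.τ₂ i).2 ?_⟩
  have g₁ : ∀ j, IsIso (homologyMap φ.τ₁ j) := fun j => (quasiIsoAt_iff_isIso_homologyMap φ.τ₁ j).1 (h₁.quasiIsoAt j)
  have g₃ : ∀ j, IsIso (homologyMap φ.τ₃ j) := fun j => (quasiIsoAt_iff_isIso_homologyMap φ.τ₃ j).1 (h₃.quasiIsoAt j)
  haveI : Mono (homologyMap φ.τ₂ i) := by
    have r : (ComplexShape.up ℤ).Rel (i - 1) i := by simp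
    apply Abelian.mono_of_epi_of_mono_of_mono
      ((δ₀Functor ⋙ δ₀Functor).map (HomologySequence.mapComposableArrows₅ φ hS₁ hS₂ (i - 1) i r))
    · exact (HomologySequence.composableArrows₅_exact hS₁ (i - 1) i r).δ₀.δ₀
    · exact (HomologySequence.composableArrows₅_exact hS₂ (i - 1) i r).δ₀.δ₀
    · exact @IsIso.epi_of_iso _ _ _ _ _ (g₃ (i - 1))
    · exact @IsIso.mono_of_iso _ _ _ _ _ (g₁ i)
    · exact @IsIso.mono_of_iso _ _ _ _ _ (g₃ i)
  haveI : Epi (homologyMap φ.τ₂ i) := by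
    have r : (ComplexShape.up ℤ).Rel i (i + 1) := rfl
    apply Abelian.epi_of_epi_of_epi_of_mono
      ((δlastFunctor ⋙ δlastFunctor).map (HomologySequence.mapComposableArrows₅ φ hS₁ hS₂ i (i + 1) r))
    · exact (HomologySequence.composableArrows₅_exact hS₁ i (i + 1) r).δlast.δlast
    · exact (HomologySequence.composableArrows₅_exact hS₂ i (i + 1) r).δlast.δlast
    · exact @IsIso.epi_of_iso _ _ _ _ _ (g₁ i)
    · exact @IsIso.epi_of_iso _ _ _ _ _ (g₃ i)
    · exact @IsIso.mono_of_iso _ _ _ _ _ (g₁ (i + 1))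
  exact isIso_of_mono_of_epi _

end Groth.Agent.DCohLib
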