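import Groth.Agent.DCohLib.HtpAdj
import Groth.Agent.DCohLib.FiveCx
import Groth.Agent.DCohLib.AssocNat
import Groth.Agent.DCohLib.TensorInj
import Groth.Agent.DCohLib.Bridge
import Groth.Agent.DCohLib.Adjoint

/-!
# The internal Hom complex
-/

set_option autoImplicit false
set_option linter.style.haveILetI false

universe u

open CategoryTheory CategoryTheory.Limits AlgebraicGeometry
open Groth.Agent.KFlat

attribute [local instance] HasDerivedCategory.standard

noncomputable section

namespace Groth.Agent.DCohLib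

variable {X : Scheme.{u}}

/-- Tensoring with a complex on the right. -/
abbrev tenR (K : CochainComplex X.Modules ℤ) : CochainComplex X.Modules ℤ ⥤ CochainComplex X.Modules ℤ :=
  (DCoh.tensorCx (X := X)).flip.obj K

theorem isLeftAdjoint_tenR_site {C : Type u} [SmallCategory C] {J : GrothendieckTopology C}
    (O : Sheaf J CommRingCat.{u}) (K : CochainComplex (ModSite.Mod O) ℤ) :
    ((ModSite.tensorCx O).flip.obj K).IsLeftAdjoint := by
  haveI : HasColimitsOfSize.{u, u} (ModSite.Mod O) := inferInstance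
  haveI : ∀ (I : Type u) [SmallCategory I],
      PreservesColimitsOfShape I ((ModSite.tensorCx O).flip.obj K) := fun I _ =>
    haveI : ∀ M : ModSite.Mod O, PreservesColimitsOfShape I ((ModSite.tensorBi O).flip.obj M) :=
      fun M => (Groth.Agent.ModTensor.preservesColimitsOfSize_tensorBi O M).preservesColimitsOfShape
    haveI := preservesColimitsOfShape_tot (ModSite.tensorBi O).flip K I
    preservesColimitsOfShape_of_natIso (totRIso (ModSite.tensorBi O) K)
  haveI : PreservesColimitsOfSize.{u, u} ((ModSite.tensorCx O).flip.obj K) := ⟨fun {I} _ => inferInstance⟩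
  haveI : IsGrothendieckAbelian.{u} (CochainComplex (ModSite.Mod O) ℤ) :=
    HomologicalComplex.isGrothendieckAbelian (C := ModSite.Mod O) (c := ComplexShape.up ℤ)
  obtain ⟨G, hG⟩ : ∃ G : CochainComplex (ModSite.Mod O) ℤ, IsSeparator G := HasSeparator.hasSeparator
  haveI : WellPowered.{u} (CochainComplex (ModSite.Mod O) ℤ) :=
    IsGrothendieckAbelian.wellPowered (C := CochainComplex (ModSite.Mod O) ℤ)
  haveI : WellPowered.{u} (CochainComplex (ModSite.Mod O) ℤ)ᵒᵖ :=
    CategoryTheory.Abelian.wellPowered_opposite (C := CochainComplex (ModSite.Mod O) ℤ)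
  exact isLeftAdjoint_of_preservesColimits_of_isSeparating (P := ObjectProperty.singleton G) hG _

instance isLeftAdjoint_tenR (K : CochainComplex X.Modules ℤ) : (tenR K).IsLeftAdjoint :=
  isLeftAdjoint_tenR_site X.sheaf K

/-- The internal Hom complex. -/
def hCx (K : CochainComplex X.Modules ℤ) : CochainComplex X.Modules ℤ ⥤ CochainComplex X.Modules ℤ :=
  (tenR K).rightAdjoint

/-- The adjunction of the internal Hom complex. -/
def hAdj (K : CochainComplex X.Modules ℤ) : tenR K ⊣ hCx K :=
  Adjunction.ofIsLeftAdjoint _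

/-- Contravariance of the internal Hom complex. -/
def hMap {K K' : CochainComplex X.Modules ℤ} (β : K' ⟶ K) : hCx K ⟶ hCx K' :=
  conjugateEquiv (hAdj K) (hAdj K') ((DCoh.tensorCx (X := X)).flip.map β)

theorem hMap_eps {K K' : CochainComplex X.Modules ℤ} (β : K' ⟶ K) (J : CochainComplex X.Modules ℤ) :
    (DCoh.tensorCx.map ((hMap β).app J)).app K' ≫ (hAdj K').counit.app J =
      (DCoh.tensorCx.obj ((hCx K).obj J)).map β ≫ (hAdj K).counit.app J :=
  conjugateEquiv_counit (hAdj K) (hAdj K') ((DCoh.tensorCx (X := X)).flip.map β) J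

theorem hAdj_symm_hMap {K K' : CochainComplex X.Modules ℤ} (β : K' ⟶ K) {M J : CochainComplex X.Modules ℤ}
    (g : M ⟶ (hCx K).obj J) :
    ((hAdj K').homEquiv M J).symm (g ≫ (hMap β).app J) =
      (DCoh.tensorCx.obj M).map β ≫ ((hAdj K).homEquiv M J).symm g := by
  rw [Adjunction.homEquiv_counit, Adjunction.homEquiv_counit, Functor.map_comp, Category.assoc]
  exact (congrArg (_ ≫ ·) (hMap_eps β J)).trans ((reassoc_of% ((DCoh.tensorCx.map g).naturality β).symm) _)

theorem hMap_app_comp {K K' K'' : CochainComplex X.Modules ℤ} (β : K' ⟶ K) (β' : K'' ⟶ K')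
    (J : CochainComplex X.Modules ℤ) :
    (hMap β).app J ≫ (hMap β').app J = (hMap (β' ≫ β)).app J := by
  refine ((hAdj K'').homEquiv _ J).symm.injective ?_
  rw [hAdj_symm_hMap]
  refine Eq.trans ?_ (conjugateEquiv_counit (hAdj K) (hAdj K'') ((DCoh.tensorCx (X := X)).flip.map (β' ≫ β)) J).symm |>.trans
    ((hAdj K'').homEquiv_counit _ _ _).symm
  rw [Adjunction.homEquiv_counit]
  refine (congrArg (_ ≫ ·) (hMap_eps β J)).trans ?_
  exact (Category.assoc _ _ _).symm.trans
    (congrArg (· ≫ _) ((DCoh.tensorCx.obj ((hCx K).obj J)).map_comp β' β).symm)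

theorem hMap_id (K J : CochainComplex X.Modules ℤ) : (hMap (𝟙 K)).app J = 𝟙 _ := by
  rw [hMap, CategoryTheory.Functor.map_id, conjugateEquiv_id]
  rfl

theorem isIso_hMap {K K' : CochainComplex X.Modules ℤ} (β : K' ≅ K) (J : CochainComplex X.Modules ℤ) :
    IsIso ((hMap β.hom).app J) :=
  ⟨(hMap β.inv).app J, by rw [hMap_app_comp, β.inv_hom_id, hMap_id],
    by rw [hMap_app_comp, β.hom_inv_id, hMap_id]⟩

attribute [irreducible] hCx hAdj hMap

/-- Tensoring on the right respects homotopies and the relevant splittings. -/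
theorem htpCompat (K : CochainComplex X.Modules ℤ) : HtpCompat (hAdj K) where
  map {M N} f hf := by
    obtain ⟨h⟩ := hf
    refine ⟨(HomologicalComplex.mapBifunctorMapHomotopy₁ h (𝟙 K) (DCoh.tensorBi (X := X)) (ComplexShape.up ℤ)).trans
      (Homotopy.ofEq ?_)⟩
    refine HomologicalComplex.hom_ext _ _ fun n => HomologicalComplex.mapBifunctor.hom_ext fun p q hpq => ?_
    refine (HomologicalComplex.ι_mapBifunctorMap (0 : M ⟶ N) (𝟙 K) _ _ p q n hpq).trans ?_
    simp only [HomologicalComplex.zero_f, comp_zero, Functor.map_zero, zero_app, zero_comp]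
    exact comp_zero.symm
  split M := by
    refine ⟨fun n => HomologicalComplex.mapBifunctorDesc fun p q h =>
      ((DCoh.tensorBi (X := X)).map ((CochainComplex.mappingCone.snd (𝟙 M)).v p p (add_zero p))).app (K.X q) ≫
        HomologicalComplex.ιMapBifunctor M K (DCoh.tensorBi (X := X)) _ p q n h, fun n => ?_⟩
    refine HomologicalComplex.mapBifunctor.hom_ext fun p q h => ?_
    show HomologicalComplex.ιMapBifunctor M K (DCoh.tensorBi (X := X)) _ p q n h ≫
      (HomologicalComplex.mapBifunctorMap (CochainComplex.mappingCone.inr (𝟙 M)) (𝟙 K) (DCoh.tensorBi (X := X))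
        (ComplexShape.up ℤ)).f n ≫ _ = _
    rw [HomologicalComplex.ι_mapBifunctorMap_assoc, HomologicalComplex.ι_mapBifunctorDesc]
    simp only [HomologicalComplex.id_f, CategoryTheory.Functor.map_id, Category.id_comp]
    rw [← Category.assoc, ← NatTrans.comp_app, ← Functor.map_comp,
      CochainComplex.mappingCone.inr_f_snd_v, CategoryTheory.Functor.map_id, NatTrans.id_app,
      Category.id_comp]
    exact (Category.comp_id _).symm

theorem isKInjective_hCx {K : CochainComplex X.Modules ℤ} (hK : DCoh.IsKFlat K)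
    (J : CochainComplex X.Modules ℤ) [J.IsKInjective] : ((hCx K).obj J).IsKInjective :=
  (htpCompat K).isKInjective (fun M hM i => by
    rw [HomologicalComplex.exactAt_iff_isZero_homology]
    exact hK M (fun j => (HomologicalComplex.exactAt_iff_isZero_homology _ _).1 (hM j)) i) J

instance additive_tenR (K : CochainComplex X.Modules ℤ) : (tenR K).Additive :=
  inferInstanceAs (totR (DCoh.tensorBi (X := X)) K).Additive

theorem quotient_symm_eq_iff {K : CochainComplex X.Modules ℤ} {M J : CochainComplex X.Modules ℤ}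
    (f g : M ⟶ (hCx K).obj J) :
    (HomotopyCategory.quotient _ (ComplexShape.up ℤ)).map f = (HomotopyCategory.quotient _ _).map g ↔
      (HomotopyCategory.quotient _ (ComplexShape.up ℤ)).map (((hAdj K).homEquiv M J).symm f) =
        (HomotopyCategory.quotient _ _).map (((hAdj K).homEquiv M J).symm g) := by
  have e : ((hAdj K).homEquiv M J).symm (f - g) =
      ((hAdj K).homEquiv M J).symm f - ((hAdj K).homEquiv M J).symm g := by
    simp only [Adjunction.homEquiv_counit, Functor.map_sub, Preadditive.sub_comp]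
  have key : ∀ {A B : CochainComplex X.Modules ℤ} (a b : A ⟶ B),
      (HomotopyCategory.quotient _ (ComplexShape.up ℤ)).map a = (HomotopyCategory.quotient _ _).map b ↔
        Nonempty (Homotopy (a - b) 0) := fun a b =>
    ⟨fun h => ⟨Homotopy.equivSubZero (HomotopyCategory.homotopyOfEq _ _ h)⟩,
      fun ⟨h⟩ => HomotopyCategory.eq_of_homotopy _ _ (Homotopy.equivSubZero.symm h)⟩
  rw [key, key, (htpCompat K).null_iff, e]

section Split

variable {S : ShortComplex (CochainComplex X.Modules ℤ)}
  (σ : ∀ q, (S.map (HomologicalComplex.eval X.Modules (ComplexShape.up ℤ) q)).Splitting)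
  (J : CochainComplex X.Modules ℤ)

include σ in
theorem shortExact_tenL (M : CochainComplex X.Modules ℤ) : (S.map (DCoh.tensorCx.obj M)).ShortExact :=
  shortExact_tot_of_splitting (DCoh.tensorBi (X := X)) M S σ

theorem tenL_map_zero (M : CochainComplex X.Modules ℤ) {K K' : CochainComplex X.Modules ℤ} :
    (DCoh.tensorCx.obj M).map (0 : K ⟶ K') = 0 :=
  (tot (DCoh.tensorBi (X := X)) M).map_zero _ _

instance preservesZeroMorphisms_tenL (M : CochainComplex X.Modules ℤ) :
    (DCoh.tensorCx.obj M).PreservesZeroMorphisms :=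
  ⟨fun _ _ => (tot (DCoh.tensorBi (X := X)) M).map_zero _ _⟩

/-- The internal Hom complexes out of a short complex. -/
def hSeq (S : ShortComplex (CochainComplex X.Modules ℤ)) (J : CochainComplex X.Modules ℤ) :
    ShortComplex (CochainComplex X.Modules ℤ) :=
  ShortComplex.mk ((hMap S.g).app J) ((hMap S.f).app J) (by
    refine ((hAdj S.X₁).homEquiv _ J).symm.injective ?_
    rw [hAdj_symm_hMap, Adjunction.homEquiv_counit, Adjunction.homEquiv_counit, Functor.map_zero, zero_comp]
    refine (congrArg (_ ≫ ·) (hMap_eps S.g J)).trans ?_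
    refine (Category.assoc _ _ _).symm.trans ?_
    rw [← Functor.map_comp, S.zero]
    exact (congrArg (· ≫ _) (tenL_map_zero _)).trans zero_comp)

include σ in
theorem mono_hMap_g : Mono ((hMap S.g).app J) := Preadditive.mono_of_cancel_zero _ fun {M} g hg => by
  haveI : Epi ((DCoh.tensorCx.obj M).map S.g) := (shortExact_tenL σ M).epi_g
  apply ((hAdj S.X₃).homEquiv M J).symm.injective
  rw [Adjunction.homEquiv_counit _ _ _ (0 : M ⟶ _), Functor.map_zero, zero_comp,
    ← cancel_epi ((DCoh.tensorCx.obj M).map S.g), comp_zero, ← hAdj_symm_hMap, hg, Adjunction.homEquiv_counit,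
    Functor.map_zero, zero_comp]

/-- A contractible complex mapping epimorphically. -/
theorem exists_contractible_epi (N : CochainComplex X.Modules ℤ) :
    ∃ (C : CochainComplex X.Modules ℤ) (p : C ⟶ N), Epi p ∧ Nonempty (Homotopy p 0) := by
  let M := N⟦(-1 : ℤ)⟧
  have hC : Epi (CochainComplex.mappingCone.triangle (𝟙 M)).mor₃ :=
    (HomologicalComplex.shortExact_of_degreewise_shortExact _ fun n =>
      (CochainComplex.mappingCone.triangleRotateShortComplexSplitting (𝟙 M) n).shortExact).epi_g
  let e := ((shiftEquiv (CochainComplex X.Modules ℤ) (1 : ℤ)).counitIso.app N).hom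
  let p := (CochainComplex.mappingCone.triangle (𝟙 M)).mor₃ ≫ e
  refine ⟨_, p, @epi_comp _ _ _ _ _ (CochainComplex.mappingCone.triangle (𝟙 M)).mor₃ hC e inferInstance, ⟨?_⟩⟩
  exact (Homotopy.ofEq (Category.id_comp p).symm).trans
    (((CochainComplex.mappingCone.homotopyToZeroOfId M).compRight p).trans (Homotopy.ofEq zero_comp))

include σ in
theorem epi_hMap_f : Epi ((hMap S.f).app J) := by
  obtain ⟨C, p, hp, hp0⟩ := exists_contractible_epi ((hCx S.X₁).obj J)
  haveI := hp
  obtain ⟨h0⟩ := ((htpCompat S.X₁).null_iff p).1 hp0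
  obtain ⟨g, hg⟩ := exists_extension_of_homotopy ((DCoh.tensorCx.obj C).map S.f)
    (fun n => (totSplitting _ C S σ n).r) (fun n => (totSplitting _ C S σ n).f_r) _ h0
  have e : ((hAdj S.X₂).homEquiv C J g) ≫ (hMap S.f).app J = p := by
    apply ((hAdj S.X₁).homEquiv C J).symm.injective
    rw [hAdj_symm_hMap, Equiv.symm_apply_apply]
    exact hg
  exact epi_of_epi_fac e

theorem exists_desc_map {C D : Type*} [Category C] [Category D] [Abelian D] [HasZeroMorphisms C] (G : C ⥤ D)
    [G.PreservesZeroMorphisms] (T : ShortComplex C) (hT : (T.map G).ShortExact) {J : D} (k : G.obj T.X₂ ⟶ J)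
    (h0 : G.map T.f ≫ k = 0) : ∃ l : G.obj T.X₃ ⟶ J, G.map T.g ≫ l = k :=
  haveI := hT.epi_g
  ⟨hT.exact.desc k h0, hT.exact.g_desc k h0⟩

include σ in
theorem exists_lift_hMap {M : CochainComplex X.Modules ℤ} (g : M ⟶ (hCx S.X₂).obj J)
    (hg : g ≫ (hMap S.f).app J = 0) : ∃ l : M ⟶ (hCx S.X₃).obj J, l ≫ (hMap S.g).app J = g := by
  have h0 : (DCoh.tensorCx.obj M).map S.f ≫ ((hAdj S.X₂).homEquiv M J).symm g = 0 := by
    rw [← hAdj_symm_hMap, hg, Adjunction.homEquiv_counit, Functor.map_zero, zero_comp]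
  obtain ⟨l, hl⟩ := exists_desc_map (C := CochainComplex X.Modules ℤ) (D := CochainComplex X.Modules ℤ) (J := J)
    (DCoh.tensorCx.obj M) S (shortExact_tenL σ M) (((hAdj S.X₂).homEquiv M J).symm g) h0
  refine Exists.intro ((hAdj S.X₃).homEquiv M J l) ?_
  apply ((hAdj S.X₂).homEquiv M J).symm.injective
  rw [hAdj_symm_hMap, Equiv.symm_apply_apply]
  exact hl

include σ in
/-- A degreewise split short exact sequence gives a short exact sequence of internal Hom complexes. -/
theorem shortExact_hSeq : (hSeq S J).ShortExact := by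
  haveI : Mono (hSeq S J).f := mono_hMap_g σ J
  refine { exact := ?_, mono_f := ‹_›, epi_g := epi_hMap_f σ J }
  exact ShortComplex.exact_of_f_is_kernel _ (KernelFork.IsLimit.ofι' _ _ fun {M} g hg =>
    ⟨(exists_lift_hMap σ J g hg).choose, (exists_lift_hMap σ J g hg).choose_spec⟩)

end Split

/-- Associativity of tensor products of complexes on a scheme. -/
def assocS (A K L : CochainComplex X.Modules ℤ) :
    (tenR L).obj ((DCoh.tensorCx.obj A).obj K) ≅ (DCoh.tensorCx.obj A).obj ((DCoh.tensorCx.obj K).obj L) :=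
  assocCx X.sheaf A K L

theorem assocS_natural_middle (A : CochainComplex X.Modules ℤ) {K K' : CochainComplex X.Modules ℤ} (ψ : K ⟶ K')
    (L : CochainComplex X.Modules ℤ) :
    (tenR L).map ((DCoh.tensorCx.obj A).map ψ) ≫ (assocS A K' L).hom =
      (assocS A K L).hom ≫ (DCoh.tensorCx.obj A).map ((DCoh.tensorCx.map ψ).app L) :=
  assocCx_natural₃ X.sheaf (𝟙 A) ψ (𝟙 L)

theorem assocS_natural_right (A K : CochainComplex X.Modules ℤ) {L L' : CochainComplex X.Modules ℤ} (χ : L ⟶ L') :
    (DCoh.tensorCx.obj ((DCoh.tensorCx.obj A).obj K)).map χ ≫ (assocS A K L').hom =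
      (assocS A K L).hom ≫ (DCoh.tensorCx.obj A).map ((DCoh.tensorCx.obj K).map χ) := by
  refine Eq.trans (congrArg (· ≫ _) ?_) (assocCx_natural₃ X.sheaf (𝟙 A) (𝟙 K) χ)
  refine congrArg (fun k => HomologicalComplex.mapBifunctorMap k χ (DCoh.tensorBi (X := X)) (ComplexShape.up ℤ)) ?_
  exact ((tot (DCoh.tensorBi (X := X)) A).map_id _).symm

attribute [irreducible] assocS

section Theta

variable (A : CochainComplex X.Modules ℤ) {J R : CochainComplex X.Modules ℤ}
  (φ : (DCoh.tensorCx.obj A).obj J ⟶ R)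

/-- The evaluation map tensored with a complex. -/
def thetaPre (K : CochainComplex X.Modules ℤ) :
    (tenR K).obj ((DCoh.tensorCx.obj A).obj ((hCx K).obj J)) ⟶ R :=
  (assocS A ((hCx K).obj J) K).hom ≫ (DCoh.tensorCx.obj A).map ((hAdj K).counit.app J) ≫ φ

/-- The comparison `A ⊗ Hom(K, J) ⟶ Hom(K, R)`. -/
def theta (K : CochainComplex X.Modules ℤ) :
    (DCoh.tensorCx.obj A).obj ((hCx K).obj J) ⟶ (hCx K).obj R :=
  (hAdj K).homEquiv _ _ (thetaPre A φ K)

theorem thetaPre_natural {K K' : CochainComplex X.Modules ℤ} (β : K' ⟶ K) :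
    (tenR K').map ((DCoh.tensorCx.obj A).map ((hMap β).app J)) ≫ thetaPre A φ K' =
      (DCoh.tensorCx.obj ((DCoh.tensorCx.obj A).obj ((hCx K).obj J))).map β ≫ thetaPre A φ K := by
  have e1 := assocS_natural_middle A ((hMap β).app J) K'
  have e2 := assocS_natural_right A ((hCx K).obj J) β
  simp only [thetaPre]
  rw [reassoc_of% e1, reassoc_of% e2]
  refine congrArg (_ ≫ ·) ?_
  exact ((Category.assoc _ _ _).symm.trans (congrArg (· ≫ φ) (((DCoh.tensorCx.obj A).map_comp _ _).symm.trans
    ((congrArg (DCoh.tensorCx.obj A).map (hMap_eps β J)).trans ((DCoh.tensorCx.obj A).map_comp _ _))))).trans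
      (Category.assoc _ _ _)

theorem theta_natural {K K' : CochainComplex X.Modules ℤ} (β : K' ⟶ K) :
    (DCoh.tensorCx.obj A).map ((hMap β).app J) ≫ theta A φ K' = theta A φ K ≫ (hMap β).app R := by
  apply ((hAdj K').homEquiv _ _).symm.injective
  rw [Adjunction.homEquiv_naturality_left_symm, hAdj_symm_hMap]
  simp only [theta, Equiv.symm_apply_apply]
  exact thetaPre_natural A φ β

end Theta

end Groth.Agent.DCohLib
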