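import Groth.Agent.DCohLib.DualBase
import Groth.Agent.DCohLib.FreeInd
import Groth.Agent.DCohLib.PerfCrit
import Groth.Agent.DCohLib.Flip

/-!
# Duality for perfect complexes
-/

set_option autoImplicit false
set_option linter.style.haveILetI false

universe u

open CategoryTheory CategoryTheory.Limits AlgebraicGeometry TopologicalSpace
open Groth.Agent.PullbackMod Groth.Agent.KFlat

attribute [local instance] HasDerivedCategory.standard

noncomputable section

namespace Groth.Agent.DCohLib

variable {X : Scheme.{u}} (V : X.Opens)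

theorem subsingleton_stalk_homology_extTensor (P₀ : CochainComplex (V : Scheme.{u}).Modules ℤ)
    (K : CochainComplex X.Modules ℤ) (i : ℤ) (x : X) (hx : x ∉ V) :
    Subsingleton ((((DCoh.tensorCx.obj ((extCx V).obj P₀)).obj K).homology i).presheaf.stalk x) := by
  haveI : PreservesFiniteColimits (CxOX.extZero V.ι) := by
    haveI : PreservesColimitsOfSize.{u, u} (CxOX.extZero V.ι) :=
      (CxOX.extZeroAdj V.ι).leftAdjoint_preservesColimits
    exact PreservesColimitsOfSize.preservesFiniteColimits _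
  let L := (DCoh.tensorCx.obj P₀).obj ((resCx V.ι).obj K)
  let e : ((DCoh.tensorCx.obj ((extCx V).obj P₀)).obj K).homology i ≅ (CxOX.extZero V.ι).obj (L.homology i) :=
    (HomologicalComplex.homologyFunctor _ _ i).mapIso (extTensorCxIso V P₀ K).symm ≪≫
      (L.sc i).mapHomologyIso (CxOX.extZero V.ι)
  exact (((Scheme.Modules.toPresheaf _ ⋙ TopCat.Presheaf.stalkFunctor _ x).mapIso
    e).addCommGroupIsoToAddEquiv.toEquiv.subsingleton_congr).2 (subsingleton_stalk_extZero V _ x hx)

/-- Tensoring an extension by zero with a map that is a quasi-isomorphism on the open. -/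
theorem quasiIso_extTensor (P₀ : CochainComplex (V : Scheme.{u}).Modules ℤ)
    {K' K : CochainComplex X.Modules ℤ} (β : K' ⟶ K) (hK' : DCoh.IsKFlat K') (hK : DCoh.IsKFlat K)
    (h : QuasiIso ((resCx V.ι).map β)) : QuasiIso ((DCoh.tensorCx.obj ((extCx V).obj P₀)).map β) := by
  have h1 := quasiIso_res_tensor_map V.ι ((extCx V).obj P₀) β hK' hK h
  let φ := (DCoh.tensorCx.obj ((extCx V).obj P₀)).map β
  refine ⟨fun i => (quasiIsoAt_iff_isIso_homologyMap φ i).2 ((isIso_iff_stalk _).2 fun x => ?_)⟩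
  by_cases hx : x ∈ V
  · haveI := isIso_restrict_homologyMap V.ι φ i h1
    let y : (V : Scheme.{u}) := ⟨x, hx⟩
    have h2 := (NatIso.isIso_map_iff (Scheme.Modules.restrictStalkNatIso V.ι y)
      (HomologicalComplex.homologyMap φ i)).1
      (@Functor.map_isIso _ _ _ _ _ _ (Scheme.Modules.toPresheaf _ ⋙ TopCat.Presheaf.stalkFunctor _ y) _
        (isIso_restrict_homologyMap V.ι φ i h1))
    exact @ConcreteCategory.bijective_of_isIso _ _ _ _ _ _ _ _
      ((Scheme.Modules.toPresheaf _ ⋙ TopCat.Presheaf.stalkFunctor _ x).map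
        (HomologicalComplex.homologyMap φ i)) h2
  · exact ⟨fun a b _ => (subsingleton_stalk_homology_extTensor V P₀ K' i x hx).elim a b,
      fun b => ⟨0, (subsingleton_stalk_homology_extTensor V P₀ K i x hx).elim _ _⟩⟩

variable {V}

theorem bijective_quotM_precomp {P Q R : CochainComplex X.Modules ℤ} [R.IsKInjective] (α : P ⟶ Q)
    (hα : QuasiIso α) :
    Function.Bijective (fun g : (quotM X).obj Q ⟶ (quotM X).obj R => (quotM X).map α ≫ g) := by
  haveI : IsIso (DerivedCategory.Q.map α) := (DerivedCategory.isIso_Q_map_iff_quasiIso (C := X.Modules) α).2 hα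
  refine ⟨fun a b hab => ?_, fun k => ?_⟩
  · obtain ⟨a, rfl⟩ := (quotM X).map_surjective a
    obtain ⟨b, rfl⟩ := (quotM X).map_surjective b
    dsimp only at hab
    rw [← Functor.map_comp, ← Functor.map_comp, ← Q_map_eq_iff, DerivedCategory.Q.map_comp,
      DerivedCategory.Q.map_comp, cancel_epi, Q_map_eq_iff] at hab
    exact hab
  · obtain ⟨k, rfl⟩ := (quotM X).map_surjective k
    obtain ⟨g, hg⟩ := exists_Q_map (inv (DerivedCategory.Q.map α) ≫ DerivedCategory.Q.map k)
    refine ⟨(quotM X).map g, ?_⟩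
    dsimp only
    rw [← Functor.map_comp, ← Q_map_eq_iff, DerivedCategory.Q.map_comp, hg, IsIso.hom_inv_id_assoc]

/-- A quasi-isomorphism on an open gives one of internal Hom complexes there. -/
theorem quasiIso_res_hMap {K' K : CochainComplex X.Modules ℤ} (β : K' ⟶ K) (hK' : DCoh.IsKFlat K')
    (hK : DCoh.IsKFlat K) (h : QuasiIso ((resCx V.ι).map β)) (R : CochainComplex X.Modules ℤ)
    [R.IsKInjective] : QuasiIso ((resCx V.ι).map ((hMap β).app R)) := by
  let f := (hMap β).app R
  let adjK := Groth.Agent.KInj.homotopyAdjunction (CxOX.extZeroAdj V.ι)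
  let qV := quotM (V : Scheme.{u})
  have key : IsIso (((Scheme.Modules.restrictFunctor V.ι).mapHomotopyCategory (ComplexShape.up ℤ)).map
      ((quotM X).map f)) := by
    rw [isIso_iff_yoneda_map_bijective]
    intro B
    obtain ⟨P₀⟩ := B
    let Z := (quotM X).obj ((hCx K).obj R)
    let Z' := (quotM X).obj ((hCx K').obj R)
    have h0 : Function.Bijective (fun g : (quotM X).obj ((extCx V).obj P₀) ⟶ Z => g ≫ (quotM X).map f) := by
      have hb := bijective_quotM_precomp (R := R) _ (quasiIso_extTensor V P₀ β hK' hK h)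
      refine ⟨fun a b hab => ?_, fun k => ?_⟩
      · obtain ⟨a, rfl⟩ := (quotM X).map_surjective a
        obtain ⟨b, rfl⟩ := (quotM X).map_surjective b
        dsimp only at hab
        rw [← Functor.map_comp, ← Functor.map_comp, quotient_symm_eq_iff, hAdj_symm_hMap, hAdj_symm_hMap,
          Functor.map_comp, Functor.map_comp] at hab
        exact (quotient_symm_eq_iff a b).2 (hb.injective hab)
      · obtain ⟨k, rfl⟩ := (quotM X).map_surjective k
        obtain ⟨g, hg⟩ := hb.surjective ((quotM X).map (((hAdj K').homEquiv _ R).symm k))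
        obtain ⟨g, rfl⟩ := (quotM X).map_surjective g
        refine ⟨(quotM X).map ((hAdj K).homEquiv _ R g), ?_⟩
        dsimp only at hg ⊢
        rw [← Functor.map_comp] at hg ⊢
        rw [quotient_symm_eq_iff, hAdj_symm_hMap, Equiv.symm_apply_apply]
        exact hg
    have e : (fun k => k ≫ ((Scheme.Modules.restrictFunctor V.ι).mapHomotopyCategory (ComplexShape.up ℤ)).map
        ((quotM X).map f)) ∘ adjK.homEquiv (qV.obj P₀) Z =
        adjK.homEquiv (qV.obj P₀) Z' ∘ (fun g => g ≫ (quotM X).map f) := by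
      funext g
      exact (adjK.homEquiv_naturality_right g ((quotM X).map f)).symm
    exact ((adjK.homEquiv (qV.obj P₀) Z).bijective.of_comp_iff _).1
      (e ▸ (adjK.homEquiv (qV.obj P₀) Z').bijective.comp h0)
  rw [← DerivedCategory.isIso_Q_map_iff_quasiIso]
  haveI : IsIso (qV.map ((resCx V.ι).map f)) := key
  exact (NatIso.isIso_map_iff (DerivedCategory.quotientCompQhIso (V : Scheme.{u}).Modules)
    ((resCx V.ι).map f)).1 (inferInstanceAs (IsIso (DerivedCategory.Qh.map (qV.map ((resCx V.ι).map f)))))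

theorem shortExact_res {S : ShortComplex (CochainComplex X.Modules ℤ)} (hS : S.ShortExact) :
    (S.map (resCx V.ι)).ShortExact := by
  refine HomologicalComplex.shortExact_of_degreewise_shortExact _ fun n => ?_
  exact (hS.map_of_exact (HomologicalComplex.eval X.Modules (ComplexShape.up ℤ) n)).map_of_exact
    (Scheme.Modules.restrictFunctor V.ι)

theorem shortExact_tenL_of_flat_site {C : Type u} [SmallCategory C] {J : GrothendieckTopology C}
    (O : Sheaf J CommRingCat.{u}) {M : ModSite.Mod O} (hM : ModSite.IsFlat M)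
    {S : ShortComplex (ModSite.Mod O)} (hS : S.ShortExact) : (S.map ((ModSite.tensorBi O).obj M)).ShortExact := by
  haveI := hM.1
  haveI := hM.2
  haveI : PreservesFiniteColimits ((ModSite.tensorBi O).obj M) :=
    preservesFiniteColimits_of_natIso (Groth.Agent.ModTensor.tensorSymm O M)
  haveI : PreservesFiniteLimits ((ModSite.tensorBi O).obj M) :=
    preservesFiniteLimits_of_natIso (Groth.Agent.ModTensor.tensorSymm O M)
  exact hS.map_of_exact _

theorem shortExact_tenL_of_flat {A : CochainComplex X.Modules ℤ} (hfl : ∀ i, FlatMod.IsFlat (A.X i))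
    {S : ShortComplex (CochainComplex X.Modules ℤ)} (hS : S.ShortExact) :
    (S.map (DCoh.tensorCx.obj A)).ShortExact :=
  shortExact_tot (DCoh.tensorBi (X := X)) A S fun p q =>
    shortExact_tenL_of_flat_site X.sheaf ((isFlat_iff _).1 (hfl p))
      (hS.map_of_exact (HomologicalComplex.eval X.Modules (ComplexShape.up ℤ) q))

theorem isZero_hCx {K : CochainComplex X.Modules ℤ} (hK : IsZero K) (J : CochainComplex X.Modules ℤ) :
    IsZero ((hCx K).obj J) := by
  rw [IsZero.iff_id_eq_zero]
  apply ((hAdj K).homEquiv _ J).symm.injective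
  exact ((DCoh.tensorCx.obj ((hCx K).obj J)).map_isZero hK).eq_of_src _ _

theorem isZero_of_X {L : CochainComplex X.Modules ℤ} (h : ∀ n, IsZero (L.X n)) : IsZero L :=
  (IsZero.iff_id_eq_zero _).2 (HomologicalComplex.hom_ext _ _ fun n => (h n).eq_of_src _ _)

theorem quasiIso_of_isZero {C : Type*} [Category C] [Abelian C] {P Q : CochainComplex C ℤ} (f : P ⟶ Q)
    (hP : IsZero P) (hQ : IsZero Q) : QuasiIso f := by
  haveI : IsIso f := ⟨0, hP.eq_of_src _ _, hQ.eq_of_src _ _⟩
  infer_instance

variable {A J R : CochainComplex X.Modules ℤ} (φ : (DCoh.tensorCx.obj A).obj J ⟶ R)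

theorem quasiIso_res_thetaPre (hA : DCoh.IsKFlat A) (hφ : QuasiIso φ) [J.IsKInjective]
    (N : CochainComplex X.Modules ℤ) (hN : DCoh.IsKFlat N)
    [(DCoh.LTensorCx ((resCx V.ι).obj N)).IsEquivalence] :
    QuasiIso ((resCx V.ι).map (thetaPre A φ N)) := by
  haveI h1 := quasiIso_res_tensor_map_of_isKFlat V.ι hA ((hAdj N).counit.app J) (quasiIso_res_eps N hN J)
  haveI := hφ
  haveI h2 : QuasiIso ((resCx V.ι).map φ) := inferInstance
  simp only [thetaPre, Functor.map_comp]
  infer_instance

/-- The base case: the evaluation is a quasi-isomorphism where the complex is invertible. -/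
theorem quasiIso_res_theta_of_inv (hA : DCoh.IsKFlat A) (hφ : QuasiIso φ) [J.IsKInjective] [R.IsKInjective]
    (N : CochainComplex X.Modules ℤ) (hN : DCoh.IsKFlat N)
    [(DCoh.LTensorCx ((resCx V.ι).obj N)).IsEquivalence] :
    QuasiIso ((resCx V.ι).map (theta A φ N)) := by
  refine quasiIso_res_of_tensor N hN _ ?_
  haveI := quasiIso_res_eps N hN R (V := V)
  haveI h : QuasiIso ((resCx V.ι).map ((tenR N).map (theta A φ N)) ≫ (resCx V.ι).map ((hAdj N).counit.app R)) := by
    rw [← (resCx V.ι).map_comp]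
    have e : (tenR N).map (theta A φ N) ≫ (hAdj N).counit.app R = thetaPre A φ N :=
      ((hAdj N).homEquiv_counit _ _ _).symm.trans (Equiv.symm_apply_apply _ _)
    rw [e]
    exact quasiIso_res_thetaPre φ hA hφ N hN
  exact quasiIso_of_comp_right _ ((resCx V.ι).map ((hAdj N).counit.app R))

variable (V) in
/-- The unit complex shifted and extended by zero from an open. -/
abbrev extShiftUnit (a : ℤ) : CochainComplex X.Modules ℤ := (extCx V).obj (shiftUnitCx (V : Scheme.{u}) a)

theorem isKFlat_extShiftUnit (a : ℤ) : DCoh.IsKFlat (extShiftUnit V a) :=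
  isKFlat_extCx V (isKFlat_of_strictlyPerfect (isStrictlyPerfect_shiftUnitCx a))

theorem isEquivalence_res_extShiftUnit (a : ℤ) :
    (DCoh.LTensorCx ((resCx V.ι).obj (extShiftUnit V a))).IsEquivalence := by
  haveI := isEquivalence_lTensor_shiftUnit (X := (V : Scheme.{u})) a
  exact Functor.isEquivalence_of_iso (lTensorCongr (shiftUnitCx (V : Scheme.{u}) a) _
    (isKFlat_of_strictlyPerfect (isStrictlyPerfect_shiftUnitCx a))
    (isKFlat_resCx V.ι (isKFlat_extShiftUnit a))
    (Functor.isoWhiskerRight ((DCoh.tensorCx (X := (V : Scheme.{u}))).flip.mapIso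
      (extUnit V (shiftUnitCx (V : Scheme.{u}) a))) DerivedCategory.Q))

variable (V) in
/-- Good behaviour of duality at a complex on an open. -/
def DualGood (E : CochainComplex (V : Scheme.{u}).Modules ℤ) : Prop :=
  QuasiIso ((resCx V.ι).map (theta A φ ((extCx V).obj E))) ∧
    DCoh.IsPerfect (DerivedCategory.Q.obj ((resCx V.ι).obj ((hCx ((extCx V).obj E)).obj J)))

/-- The restriction of the unit complex. -/
def resUnitCxIso : (resCx V.ι).obj (unitCx X) ≅ unitCx (V : Scheme.{u}) :=
  (HomologicalComplex.singleMapHomologicalComplex (Scheme.Modules.restrictFunctor V.ι) (ComplexShape.up ℤ) 0).app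
      (Coh.structureModule X) ≪≫
    (HomologicalComplex.single (V : Scheme.{u}).Modules (ComplexShape.up ℤ) 0).mapIso
      (Scheme.Modules.restrictUnitIso V.ι)

theorem nonempty_res_hCx_extShiftUnit [J.IsKInjective] (η : unitCx X ⟶ J) (hη : QuasiIso η) (a : ℤ) :
    Nonempty (DerivedCategory.Q.obj ((resCx V.ι).obj ((hCx (extShiftUnit V a)).obj J)) ≅
      DerivedCategory.Q.obj (shiftUnitCx (V : Scheme.{u}) (-a))) := by
  let N := extShiftUnit V a
  have hN := isKFlat_extShiftUnit (V := V) a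
  haveI := isEquivalence_res_extShiftUnit (V := V) a
  let F := DCoh.LTensorCx ((resCx V.ι).obj N)
  let H := (hCx N).obj J
  haveI := quasiIso_res_eps N hN J (V := V)
  haveI := hη
  haveI h2 : QuasiIso ((resCx V.ι).map η) := inferInstance
  haveI : IsIso (DerivedCategory.Q.map ((resCx V.ι).map ((hAdj N).counit.app J))) :=
    (DerivedCategory.isIso_Q_map_iff_quasiIso (C := (V : Scheme.{u}).Modules) _).2 ‹_›
  haveI : IsIso (DerivedCategory.Q.map ((resCx V.ι).map η)) :=
    (DerivedCategory.isIso_Q_map_iff_quasiIso (C := (V : Scheme.{u}).Modules) _).2 h2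
  let e₁ : F.obj (DerivedCategory.Q.obj ((resCx V.ι).obj H)) ≅
      DerivedCategory.Q.obj (unitCx (V : Scheme.{u})) :=
    (lTensorQIso ((resCx V.ι).obj N) (isKFlat_resCx V.ι hN)).app ((resCx V.ι).obj H) ≪≫
      DerivedCategory.Q.mapIso ((restrictTensorNat V.ι N).app H).symm ≪≫
      asIso (DerivedCategory.Q.map ((resCx V.ι).map ((hAdj N).counit.app J))) ≪≫
      (asIso (DerivedCategory.Q.map ((resCx V.ι).map η))).symm ≪≫
      DerivedCategory.Q.mapIso resUnitCxIso
  let B := shiftUnitCx (V : Scheme.{u}) (-a)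
  obtain ⟨t⟩ : Nonempty ((DCoh.tensorCx.obj B).obj (shiftUnitCx (V : Scheme.{u}) a) ≅ unitCx (V : Scheme.{u})) := by
    have h := shiftUnitTensorIso (X := (V : Scheme.{u})) (-a)
    rw [neg_neg] at h
    exact ⟨h⟩
  let e₂ : F.obj (DerivedCategory.Q.obj B) ≅ DerivedCategory.Q.obj (unitCx (V : Scheme.{u})) :=
    (lTensorQIso ((resCx V.ι).obj N) (isKFlat_resCx V.ι hN)).app B ≪≫
      DerivedCategory.Q.mapIso ((DCoh.tensorCx.obj B).mapIso (extUnit V (shiftUnitCx (V : Scheme.{u}) a)).symm ≪≫ t)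
  exact ⟨F.preimageIso (e₁ ≪≫ e₂.symm)⟩

theorem isPerfect_res_hCx_extShiftUnit [J.IsKInjective] (η : unitCx X ⟶ J) (hη : QuasiIso η) (a : ℤ) :
    DCoh.IsPerfect (DerivedCategory.Q.obj ((resCx V.ι).obj ((hCx (extShiftUnit V a)).obj J))) := by
  obtain ⟨e⟩ := nonempty_res_hCx_extShiftUnit (V := V) η hη a
  exact isPerfect_iso e.symm (isPerfect_of_perfOn ⟨_, isStrictlyPerfect_shiftUnitCx (-a), ⟨Iso.refl _⟩⟩)

theorem dualGood_freeClosed (hA : DCoh.IsKFlat A) (hfl : ∀ i, FlatMod.IsFlat (A.X i)) (hφ : QuasiIso φ)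
    [J.IsKInjective] [R.IsKInjective] (η : unitCx X ⟶ J) (hη : QuasiIso η) :
    FreeClosed (DualGood V φ) where
  iso {E E'} e h := by
    obtain ⟨h1, h2⟩ := h
    let β := ((extCx V).mapIso e.symm)
    haveI := isIso_hMap β J
    haveI := isIso_hMap β R
    haveI := h1
    refine ⟨?_, isPerfect_iso (DerivedCategory.Q.mapIso ((resCx V.ι).mapIso (asIso ((hMap β.hom).app J)))) h2⟩
    haveI : QuasiIso ((resCx V.ι).map ((DCoh.tensorCx.obj A).map ((hMap β.hom).app J)) ≫
        (resCx V.ι).map (theta A φ ((extCx V).obj E'))) := by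
      rw [← (resCx V.ι).map_comp, theta_natural A φ β.hom, (resCx V.ι).map_comp]
      infer_instance
    exact quasiIso_of_comp_left ((resCx V.ι).map ((DCoh.tensorCx.obj A).map ((hMap β.hom).app J))) _
  zero E hE := by
    have h0 : IsZero ((extCx V).obj E) := (extCx V).map_isZero (isZero_of_X hE)
    exact ⟨quasiIso_of_isZero _ ((resCx V.ι).map_isZero ((DCoh.tensorCx.obj A).map_isZero (isZero_hCx h0 J)))
      ((resCx V.ι).map_isZero (isZero_hCx h0 R)),
      isPerfect_of_perfOn (perfOn_of_isZero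
        (DerivedCategory.Q.map_isZero ((resCx V.ι).map_isZero (isZero_hCx h0 J))))⟩
  unit a :=
    haveI := isEquivalence_res_extShiftUnit (V := V) a
    ⟨quasiIso_res_theta_of_inv φ hA hφ _ (isKFlat_extShiftUnit a),
      isPerfect_res_hCx_extShiftUnit η hη a⟩
  split S σ h1 h3 := by
    let S' := S.map (extCx V)
    have σ' : ∀ q, (S'.map (HomologicalComplex.eval X.Modules (ComplexShape.up ℤ) q)).Splitting :=
      fun q => (σ q).map (CxOX.extZero V.ι)
    refine ⟨?_, ?_⟩
    · let S₁ := ((hSeq S' J).map (DCoh.tensorCx.obj A)).map (resCx V.ι)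
      let S₂ := (hSeq S' R).map (resCx V.ι)
      let ψ : S₁ ⟶ S₂ :=
        { τ₁ := (resCx V.ι).map (theta A φ S'.X₃)
          τ₂ := (resCx V.ι).map (theta A φ S'.X₂)
          τ₃ := (resCx V.ι).map (theta A φ S'.X₁)
          comm₁₂ := ((resCx V.ι).map_comp _ _).symm.trans
            ((congrArg (resCx V.ι).map (theta_natural A φ S'.g).symm).trans ((resCx V.ι).map_comp _ _))
          comm₂₃ := ((resCx V.ι).map_comp _ _).symm.trans
            ((congrArg (resCx V.ι).map (theta_natural A φ S'.f).symm).trans ((resCx V.ι).map_comp _ _)) }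
      exact quasiIso_τ₂ ψ (shortExact_res (shortExact_tenL_of_flat hfl (shortExact_hSeq σ' J)))
        (shortExact_res (shortExact_hSeq σ' R)) h3.1 h1.1
    · have hS := shortExact_res (V := V) (shortExact_hSeq σ' J)
      exact isPerfect_obj₂ _ (DerivedCategory.triangleOfSES_distinguished hS) h3.2 h1.2

/-- Evaluation is a quasi-isomorphism for a perfect complex. -/
theorem quasiIso_theta {K : CochainComplex X.Modules ℤ} (hK : DCoh.IsKFlat K)
    (hKp : DCoh.IsPerfect (DerivedCategory.Q.obj K)) (hA : DCoh.IsKFlat A)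
    (hfl : ∀ i, FlatMod.IsFlat (A.X i)) (hφ : QuasiIso φ) [J.IsKInjective] [R.IsKInjective]
    (η : unitCx X ⟶ J) (hη : QuasiIso η) : QuasiIso (theta A φ K) := by
  refine quasiIso_of_local _ fun x => ?_
  obtain ⟨V, hx, E, β, hβ, hE, hfree⟩ := exists_local_free_map hKp x
  obtain ⟨⟨a, b, hab⟩, -⟩ := id hE
  refine ⟨V, hx, ?_⟩
  let β' := extAdjunct V β
  have hE' : DCoh.IsKFlat ((extCx V).obj E) := isKFlat_extCx V (isKFlat_of_strictlyPerfect hE)
  have hβ' := quasiIso_res_extAdjunct V β hβ
  haveI h1 := ((dualGood_freeClosed (V := V) φ hA hfl hφ η hη).of_free hab hfree).1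
  haveI h2 := quasiIso_res_tensor_map_of_isKFlat V.ι hA ((hMap β').app J)
    (quasiIso_res_hMap β' hE' hK hβ' J)
  haveI h3 := quasiIso_res_hMap β' hE' hK hβ' R
  haveI : QuasiIso ((resCx V.ι).map (theta A φ K) ≫ (resCx V.ι).map ((hMap β').app R)) := by
    rw [← (resCx V.ι).map_comp, ← theta_natural A φ β', (resCx V.ι).map_comp]
    infer_instance
  exact quasiIso_of_comp_right _ ((resCx V.ι).map ((hMap β').app R))

/-- The internal Hom complex into a K-injective complex computes the derived internal Hom. -/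
theorem nonempty_rSheafHom_hCx (K : CochainComplex X.Modules ℤ) (hK : DCoh.IsKFlat K) [DCoh.HasLTensorCx K]
    [DCoh.HasRSheafHom K] (R : CochainComplex X.Modules ℤ) [R.IsKInjective] :
    Nonempty (DerivedCategory.Q.obj ((hCx K).obj R) ≅ (DCoh.RSheafHom K).obj (DerivedCategory.Q.obj R)) := by
  let adj := DCoh.RSheafHomAdj K
  let h := adj.homEquiv _ _ (epsD K hK R)
  haveI : IsIso h := by
    rw [isIso_iff_yoneda_map_bijective]
    intro B
    have e : (fun g : B ⟶ DerivedCategory.Q.obj ((hCx K).obj R) => g ≫ h) =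
        adj.homEquiv B _ ∘ (fun g => (DCoh.LTensorCx K).map g ≫ epsD K hK R) := by
      funext g
      exact (adj.homEquiv_naturality_left g (epsD K hK R)).symm
    rw [e]
    exact (adj.homEquiv B _).bijective.comp (bijective_epsD K hK R B)
  exact ⟨asIso h⟩

/-- The dual of a perfect complex is perfect. -/
theorem isPerfect_hCx {K : CochainComplex X.Modules ℤ} (hK : DCoh.IsKFlat K)
    (hKp : DCoh.IsPerfect (DerivedCategory.Q.obj K)) [J.IsKInjective] (η : unitCx X ⟶ J) (hη : QuasiIso η) :
    DCoh.IsPerfect (DerivedCategory.Q.obj ((hCx K).obj J)) := by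
  refine isPerfect_of_local fun x => ?_
  obtain ⟨V, hx, E, β, hβ, hE, hfree⟩ := exists_local_free_map hKp x
  obtain ⟨⟨a, b, hab⟩, -⟩ := id hE
  refine ⟨V, V.ι, inferInstance, ⟨x, hx⟩, rfl, ?_⟩
  let A := (resX X).obj (unitCx X)
  obtain ⟨R, φ, hR, hφ⟩ := hres_modules X ((DCoh.tensorCx.obj A).obj J)
  haveI := hR
  have h1 := ((dualGood_freeClosed (V := V) φ (isKFlat_resX _) (isFlat_resX _) hφ η hη).of_free hab hfree).2
  haveI := quasiIso_res_hMap (extAdjunct V β) (isKFlat_extCx V (isKFlat_of_strictlyPerfect hE)) hK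
    (quasiIso_res_extAdjunct V β hβ) J
  haveI : IsIso (DerivedCategory.Q.map ((resCx V.ι).map ((hMap (extAdjunct V β)).app J))) :=
    (DerivedCategory.isIso_Q_map_iff_quasiIso (C := (V : Scheme.{u}).Modules) _).2 ‹_›
  exact isPerfect_iso ((asIso (DerivedCategory.Q.map ((resCx V.ι).map ((hMap (extAdjunct V β)).app J)))).symm ≪≫
    (restrictDQ V.ι ((hCx K).obj J)).symm) h1

/-- The structure module in degree zero, in the derived category. -/
def unitDIso : (DerivedCategory.singleFunctor X.Modules 0).obj (Coh.structureModule X) ≅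
    DerivedCategory.Q.obj (unitCx X) :=
  (DerivedCategory.singleFunctorIsoCompQ X.Modules 0).app (Coh.structureModule X)

/-- The dual of a perfect object is perfect. -/
theorem isPerfect_rSheafHom_unit (K : CochainComplex X.Modules ℤ) (hK : DCoh.IsKFlat K)
    (hKp : DCoh.IsPerfect (DerivedCategory.Q.obj K)) [DCoh.HasLTensorCx K] [DCoh.HasRSheafHom K] :
    DCoh.IsPerfect ((DCoh.RSheafHom K).obj
      ((DerivedCategory.singleFunctor X.Modules 0).obj (Coh.structureModule X))) := by
  obtain ⟨J, η, hJ, hη⟩ := hres_modules X (unitCx X)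
  haveI := hJ
  haveI : IsIso (DerivedCategory.Q.map η) := (DerivedCategory.isIso_Q_map_iff_quasiIso (C := X.Modules) _).2 hη
  obtain ⟨e⟩ := nonempty_rSheafHom_hCx K hK J
  exact isPerfect_iso (e ≪≫ (DCoh.RSheafHom K).mapIso ((asIso (DerivedCategory.Q.map η)).symm ≪≫ unitDIso.symm))
    (isPerfect_hCx hK hKp η hη)

/-- Tensoring with the dual of a perfect complex computes the derived internal Hom. -/
theorem nonempty_lTensor_dual (K : CochainComplex X.Modules ℤ) (hK : DCoh.IsKFlat K)
    (hKp : DCoh.IsPerfect (DerivedCategory.Q.obj K)) [DCoh.HasLTensorCx K] [DCoh.HasRSheafHom K]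
    (D : CochainComplex X.Modules ℤ) (hD : DCoh.IsKFlat D)
    (eD : DerivedCategory.Q.obj D ≅ (DCoh.RSheafHom K).obj
      ((DerivedCategory.singleFunctor X.Modules 0).obj (Coh.structureModule X)))
    [DCoh.HasLTensorCx D] (M : DCoh.D X) :
    Nonempty ((DCoh.LTensorCx D).obj M ≅ (DCoh.RSheafHom K).obj M) := by
  obtain ⟨J, η, hJ, hη⟩ := hres_modules X (unitCx X)
  haveI := hJ
  haveI : IsIso (DerivedCategory.Q.map η) := (DerivedCategory.isIso_Q_map_iff_quasiIso (C := X.Modules) _).2 hη
  let A := (resX X).obj (DerivedCategory.Q.objPreimage M)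
  obtain ⟨R, φ, hR, hφ⟩ := hres_modules X ((DCoh.tensorCx.obj A).obj J)
  haveI := hR
  haveI : IsIso (DerivedCategory.Q.map φ) := (DerivedCategory.isIso_Q_map_iff_quasiIso (C := X.Modules) _).2 hφ
  haveI : IsIso (DerivedCategory.Q.map (theta A φ K)) :=
    (DerivedCategory.isIso_Q_map_iff_quasiIso (C := X.Modules) _).2
      (quasiIso_theta φ hK hKp (isKFlat_resX _) (isFlat_resX _) hφ η hη)
  obtain ⟨eJ⟩ := nonempty_rSheafHom_hCx K hK J
  obtain ⟨eR⟩ := nonempty_rSheafHom_hCx K hK R
  obtain ⟨c⟩ := nonempty_tensorCx_congr (isKFlat_resX (DerivedCategory.Q.objPreimage M))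
    (eD ≪≫ (DCoh.RSheafHom K).mapIso (unitDIso ≪≫ asIso (DerivedCategory.Q.map η)) ≪≫ eJ.symm)
  obtain ⟨c'⟩ := nonempty_tensorCx_congr (isKFlat_resX (DerivedCategory.Q.objPreimage M))
    (asIso (DerivedCategory.Q.map η))
  let eA : DerivedCategory.Q.obj R ≅ M := (asIso (DerivedCategory.Q.map φ)).symm ≪≫ c'.symm ≪≫
    DerivedCategory.Q.mapIso (tensorUnitCxIso.app A) ≪≫ resXIso M
  exact ⟨(DCoh.LTensorCx D).mapIso (resXIso M).symm ≪≫ (lTensorQIso D hD).app A ≪≫ c ≪≫
    asIso (DerivedCategory.Q.map (theta A φ K)) ≪≫ eR ≪≫ (DCoh.RSheafHom K).mapIso eA⟩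

end Groth.Agent.DCohLib
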