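import Groth.Agent.DCohLib.StalkKFlat
import Groth.Agent.PullbackMod.FibreRank
import Groth.Agent.FlatCx.Fiber
import Mathlib.Algebra.Homology.ShortComplex.ModuleCat
import Mathlib.LinearAlgebra.FiniteDimensional.Basic
import Groth.Prelude.Def_PerfD

/-!
# Dimensions of modules at field valued points
-/

set_option autoImplicit false
set_option backward.isDefEq.respectTransparency false
set_option linter.style.haveILetI false

universe u

open CategoryTheory CategoryTheory.Limits AlgebraicGeometry TopologicalSpace Opposite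

noncomputable section

namespace Groth.Agent.DCohLib

/-- Cohomology and cokernels of a complex of vector spaces. -/
theorem finrank_homology_add {k : Type u} [CommRing k] (hk : IsField k)
    (P : CochainComplex (ModuleCat.{u} k) ℤ) (hP : ∀ i, Module.Finite k (P.X i)) (i : ℤ) :
    Module.finrank k (P.homology i) + Module.finrank k (P.X (i + 1)) =
      Module.finrank k (cokernel (P.d (i - 1) i) : ModuleCat.{u} k) +
        Module.finrank k (cokernel (P.d i (i + 1)) : ModuleCat.{u} k) := by
  letI := hk.toField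
  let S := P.sc' (i - 1) i (i + 1)
  haveI : Module.Finite k S.X₁ := hP (i - 1)
  haveI : Module.Finite k S.X₂ := hP i
  haveI : Module.Finite k S.X₃ := hP (i + 1)
  show Module.finrank k (P.homology i) + Module.finrank k S.X₃ =
    Module.finrank k (cokernel S.f : ModuleCat.{u} k) + Module.finrank k (cokernel S.g : ModuleCat.{u} k)
  let e := (P.homologyIsoSc' (i - 1) i (i + 1) (by simp) (by simp) ≪≫ S.moduleCatHomologyIso).toLinearEquiv
  have hr : Module.finrank k (LinearMap.range S.moduleCatToCycles) =
      Module.finrank k (LinearMap.range S.f.hom) := by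
    have h : (LinearMap.range S.moduleCatToCycles).map (LinearMap.ker S.g.hom).subtype =
        LinearMap.range S.f.hom := by
      rw [← LinearMap.range_comp]
      rfl
    rw [← h]
    exact (Submodule.finrank_map_subtype_eq _ _).symm
  have h1 := Submodule.finrank_quotient_add_finrank (LinearMap.range S.moduleCatToCycles)
  have h2 := LinearMap.finrank_range_add_finrank_ker S.g.hom
  have h3 := Submodule.finrank_quotient_add_finrank (LinearMap.range S.f.hom)
  have h4 := Submodule.finrank_quotient_add_finrank (LinearMap.range S.g.hom)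
  have eh : Module.finrank k (P.homology i) =
      Module.finrank k (LinearMap.ker S.g.hom ⧸ LinearMap.range S.moduleCatToCycles) := e.finrank_eq
  have ef : Module.finrank k (cokernel S.f : ModuleCat.{u} k) =
      Module.finrank k (S.X₂ ⧸ LinearMap.range S.f.hom) :=
    (ModuleCat.cokernelIsoRangeQuotient S.f).toLinearEquiv.finrank_eq
  have eg : Module.finrank k (cokernel S.g : ModuleCat.{u} k) =
      Module.finrank k (S.X₃ ⧸ LinearMap.range S.g.hom) :=
    (ModuleCat.cokernelIsoRangeQuotient S.g).toLinearEquiv.finrank_eq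
  omega

variable {Z : Scheme.{u}} (z : Z)

/-- The dimension of a stalk. -/
def sdim (M : Z.Modules) : ℕ := Module.finrank (Z.presheaf.stalk z) (M.presheaf.stalk z)

theorem sdim_congr {M N : Z.Modules} (e : M ≅ N) : sdim z M = sdim z N :=
  ((stkF z).mapIso e).toLinearEquiv.finrank_eq

theorem sdim_of_isZero [Nontrivial (Z.presheaf.stalk z)] {M : Z.Modules} (h : IsZero M) :
    sdim z M = 0 := by
  haveI : Subsingleton (M.presheaf.stalk z) :=
    ModuleCat.subsingleton_of_isZero ((stkF z).map_isZero h)
  exact Module.finrank_zero_of_subsingleton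

theorem sdim_homology_add (hz : IsField (Z.presheaf.stalk z)) (P : CochainComplex Z.Modules ℤ)
    (hP : ∀ i, Module.Finite (Z.presheaf.stalk z) ((P.X i).presheaf.stalk z)) (i : ℤ) :
    sdim z (P.homology i) + sdim z (P.X (i + 1)) =
      sdim z (cokernel (P.d (i - 1) i)) + sdim z (cokernel (P.d i (i + 1))) := by
  haveI : (stkF z).PreservesHomology := inferInstance
  let S := ((stkF z).mapHomologicalComplex (ComplexShape.up ℤ)).obj P
  have h := finrank_homology_add hz S hP i
  have e₁ : Module.finrank (Z.presheaf.stalk z) (S.homology i) = sdim z (P.homology i) :=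
    ((P.sc i).mapHomologyIso (stkF z)).toLinearEquiv.finrank_eq
  have e₂ : ∀ a b : ℤ, Module.finrank (Z.presheaf.stalk z) (cokernel (S.d a b) : ModuleCat.{u} _) =
      sdim z (cokernel (P.d a b)) := fun a b =>
    (PreservesCokernel.iso (stkF z) (P.d a b)).toLinearEquiv.finrank_eq.symm
  rw [e₁, e₂, e₂] at h
  exact h

section Point

variable [Subsingleton Z]

theorem eq_top_of_mem (U : Z.Opens) (hz : z ∈ U) : U = ⊤ :=
  eq_top_iff.mpr fun w _ => Subsingleton.elim z w ▸ hz

theorem bijective_germ_top (F : TopCat.Presheaf Ab.{u} Z.toTopCat) :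
    Function.Bijective (F.germ ⊤ z (Opens.mem_top z)) := by
  refine ⟨fun a b h => ?_, fun t => ?_⟩
  · obtain ⟨W, hW, iU, iV, hab⟩ :=
      TopCat.Presheaf.germ_eq F z (Opens.mem_top z) (Opens.mem_top z) a b h
    obtain rfl := eq_top_of_mem z W hW
    rw [Subsingleton.elim iU (𝟙 _), Subsingleton.elim iV (𝟙 _)] at hab
    simpa using hab
  · obtain ⟨U, hU, s, rfl⟩ := TopCat.Presheaf.exists_germ_eq F t
    obtain rfl := eq_top_of_mem z U hU
    exact ⟨s, rfl⟩

/-- Global sections and stalk over a one point scheme. -/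
theorem finrank_sections_top (M : Z.Modules) :
    Module.finrank (Coh.Γtop Z) (M.val.obj (op ⊤)) = sdim z M := by
  have hb : Function.Bijective (Z.presheaf.germ ⊤ z (Opens.mem_top z)).hom := by
    refine ⟨fun a b h => ?_, fun t => ?_⟩
    · obtain ⟨W, hW, iU, iV, hab⟩ :=
        TopCat.Presheaf.germ_eq Z.presheaf z (Opens.mem_top z) (Opens.mem_top z) a b h
      obtain rfl := eq_top_of_mem z W hW
      rw [Subsingleton.elim iU (𝟙 _), Subsingleton.elim iV (𝟙 _)] at hab
      simpa using hab
    · obtain ⟨U, hU, s, rfl⟩ := TopCat.Presheaf.exists_germ_eq Z.presheaf t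
      obtain rfl := eq_top_of_mem z U hU
      exact ⟨s, rfl⟩
  let j : (M.presheaf.obj (op ⊤)) ≃+ M.presheaf.stalk z :=
    AddEquiv.ofBijective (M.presheaf.germ ⊤ z (Opens.mem_top z)).hom (bijective_germ_top z M.presheaf)
  have h := rank_eq_of_equiv_equiv (R := Coh.Γtop Z) (M := M.val.obj (op ⊤))
    (Z.presheaf.germ ⊤ z (Opens.mem_top z)).hom j hb
    (fun r m => PresheafOfModules.germ_smul (R := Z.presheaf) M.val z ⊤ (Opens.mem_top z) r m)
  exact congrArg Cardinal.toNat h

end Point

/-- The dimension of the inverse image at a field valued point is the fibre rank. -/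
theorem sdim_pullback {U : Scheme.{u}} (g : Z ⟶ U) (hz : IsField (Z.presheaf.stalk z)) (M : U.Modules)
    [Coh.IsQCoh M] :
    sdim z ((Scheme.Modules.pullback g).obj M) = PullbackMod.fibreRank M (g z) := by
  let O := U.presheaf.stalk (g z)
  let L := Z.presheaf.stalk z
  let κ := IsLocalRing.ResidueField O
  letI : Algebra O L := (g.stalkMap z).hom.toAlgebra
  letI := Module.compHom (((Scheme.Modules.pullback g).obj M).presheaf.stalk z) (g.stalkMap z).hom
  haveI : IsScalarTower O L (((Scheme.Modules.pullback g).obj M).presheaf.stalk z) :=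
    .of_algebraMap_smul fun _ _ => rfl
  have e := (PullbackMod.isBaseChange_pullStalkL g M z).equiv
  have hker : IsLocalRing.maximalIdeal O ≤ RingHom.ker (algebraMap O L) := by
    intro a ha
    rw [RingHom.mem_ker]
    by_contra hne
    obtain ⟨b, hb⟩ := hz.mul_inv_cancel hne
    have hu : IsUnit ((g.stalkMap z).hom a) := IsUnit.of_mul_eq_one _ hb
    exact (IsLocalRing.mem_maximalIdeal a).mp ha (isUnit_of_map_unit (g.stalkMap z).hom a hu)
  let φ : κ →+* L := Ideal.Quotient.lift _ (algebraMap O L) hker
  letI : Algebra κ L := φ.toAlgebra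
  haveI : IsScalarTower O κ L := .of_algebraMap_eq fun _ => rfl
  haveI : Nontrivial L := hz.nontrivial
  show Module.finrank L _ = _
  rw [← e.finrank_eq, ← (TensorProduct.AlgebraTensorModule.cancelBaseChange O κ L L
    (M.presheaf.stalk (g z))).finrank_eq, PullbackMod.fibreRank, Module.finrank_baseChange]

theorem finite_stalk_pullback {U : Scheme.{u}} (g : Z ⟶ U) (M : U.Modules) [Coh.IsQCoh M]
    (hM : CohB1.IsFP M) :
    Module.Finite (Z.presheaf.stalk z) (((Scheme.Modules.pullback g).obj M).presheaf.stalk z) := by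
  letI : Algebra (U.presheaf.stalk (g z)) (Z.presheaf.stalk z) := (g.stalkMap z).hom.toAlgebra
  letI := Module.compHom (((Scheme.Modules.pullback g).obj M).presheaf.stalk z) (g.stalkMap z).hom
  haveI : IsScalarTower (U.presheaf.stalk (g z)) (Z.presheaf.stalk z)
      (((Scheme.Modules.pullback g).obj M).presheaf.stalk z) := .of_algebraMap_smul fun _ _ => rfl
  haveI := FlatLocus.finite_stalk M hM (g z)
  exact Module.Finite.equiv (PullbackMod.isBaseChange_pullStalkL g M z).equiv

/-- The fibre rank of a finitely presented module is upper semicontinuous. -/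
theorem exists_nhd_fibreRank_le {X : Scheme.{u}} (M : X.Modules) [Coh.IsQCoh M] (hM : CohB1.IsFP M)
    (x : X) : ∃ N : X.Opens, x ∈ N ∧ ∀ y ∈ N, PullbackMod.fibreRank M y ≤ PullbackMod.fibreRank M x := by
  obtain ⟨_, ⟨W : X.Opens, (hW : IsAffineOpen W), rfl⟩, hx, -⟩ :=
    X.isBasis_affineOpens.exists_subset_of_mem_open (Set.mem_univ x) isOpen_univ
  haveI : Module.FinitePresentation Γ(X, W) Γ(M, W) := QCohLib.finitePresentation_sections M hM hW
  obtain ⟨p, rfl⟩ : x ∈ Set.range hW.fromSpec := by rwa [hW.range_fromSpec]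
  obtain ⟨N, hN, hpN, h⟩ := FlatCx.exists_nhd_fdim_le (A := Γ(X, W)) Γ(M, W) p
  refine ⟨⟨hW.fromSpec '' N, hW.fromSpec.isOpenEmbedding.isOpenMap N hN⟩, ⟨p, hpN, rfl⟩, ?_⟩
  rintro _ ⟨q, hq, rfl⟩
  rw [← PullbackMod.fibreRank_fromSpec M hW q, ← PullbackMod.fibreRank_fromSpec M hW p]
  exact h q hq

end Groth.Agent.DCohLib
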