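import Groth.Agent.DCohLib.Symm
import Groth.Agent.ModTensor.FlatAcyclic

/-!
# Cycles of acyclic K-flat complexes with flat terms
-/

set_option linter.style.haveILetI false
set_option linter.unusedSectionVars false

universe v₁ v₂ v u₁ u₂ u

open CategoryTheory Limits

noncomputable section

namespace Groth.Agent.DCohLib

section General

variable {C : Type u₁} [Category.{v₁} C] [Abelian C] {D : Type u₂} [Category.{v₂} D] [Abelian D]
  (K : CochainComplex C ℤ)

/-- The short complex of cycles of a cochain complex. -/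
def cyclesSeqZ (i j : ℤ) : ShortComplex C :=
  ShortComplex.mk (K.iCycles i) (K.toCycles i j) (by
    rw [← cancel_mono (K.iCycles j), Category.assoc, zero_comp, K.toCycles_i, K.iCycles_d])

theorem epi_toCycles_of_acyclic (hac : K.Acyclic) (i j : ℤ) (hij : i + 1 = j) : Epi (K.toCycles i j) := by
  obtain rfl : i = (ComplexShape.up ℤ).prev j := by
    rw [(ComplexShape.up ℤ).prev_eq' (show (ComplexShape.up ℤ).Rel i j from hij)]
  exact ((K.exactAt_iff _).1 (hac _)).epi_toCycles

theorem shortExact_cyclesSeqZ (hac : K.Acyclic) (i j : ℤ) (hij : i + 1 = j) :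
    (cyclesSeqZ K i j).ShortExact := by
  let T : ShortComplex C := ShortComplex.mk (K.iCycles i) (K.d i j) (K.iCycles_d i j)
  have hT : T.Exact := ShortComplex.exact_of_f_is_kernel _
    (K.cyclesIsKernel i j ((ComplexShape.up ℤ).next_eq' hij))
  let φ : cyclesSeqZ K i j ⟶ T :=
    { τ₁ := 𝟙 _
      τ₂ := 𝟙 _
      τ₃ := K.iCycles j
      comm₁₂ := (Category.id_comp _).trans (Category.comp_id _).symm
      comm₂₃ := (Category.id_comp _).trans (K.toCycles_i i j).symm }
  haveI : Epi φ.τ₁ := inferInstanceAs (Epi (𝟙 _))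
  haveI : IsIso φ.τ₂ := inferInstanceAs (IsIso (𝟙 _))
  haveI : Mono φ.τ₃ := inferInstanceAs (Mono (K.iCycles j))
  exact { exact := (ShortComplex.exact_iff_of_epi_of_isIso_of_mono φ).2 hT
          mono_f := inferInstanceAs (Mono (K.iCycles i))
          epi_g := epi_toCycles_of_acyclic K hac i j hij }

/-- A functor exact on the cycle sequences preserves acyclicity. -/
theorem acyclic_map_of_cycles (t : C ⥤ D) [t.Additive]
    (h : ∀ i j, i + 1 = j → ((cyclesSeqZ K i j).map t).ShortExact) :
    ((t.mapHomologicalComplex (ComplexShape.up ℤ)).obj K).Acyclic := by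
  intro i
  rw [HomologicalComplex.exactAt_iff' _ (i - 1) i (i + 1) (by simp) (by simp)]
  have hS := h i (i + 1) rfl
  haveI hmono : Mono (t.map (K.iCycles (i + 1))) := (h (i + 1) (i + 1 + 1) rfl).mono_f
  have hepi : Epi (t.map (K.toCycles (i - 1) i)) := (h (i - 1) i (by omega)).epi_g
  let mid : ShortComplex D := ShortComplex.mk
    (t.map (K.toCycles (i - 1) i) ≫ t.map (K.iCycles i)) (t.map (K.toCycles i (i + 1))) (by
      rw [Category.assoc, ← t.map_comp, show K.iCycles i ≫ K.toCycles i (i + 1) = 0 from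
        (cyclesSeqZ K i (i + 1)).zero, t.map_zero, comp_zero])
  let φ : mid ⟶ (cyclesSeqZ K i (i + 1)).map t :=
    { τ₁ := t.map (K.toCycles (i - 1) i)
      τ₂ := 𝟙 _
      τ₃ := 𝟙 _
      comm₁₂ := (Category.comp_id _).symm
      comm₂₃ := (Category.id_comp _).trans (Category.comp_id _).symm }
  haveI : Epi φ.τ₁ := hepi
  haveI : IsIso φ.τ₂ := inferInstanceAs (IsIso (𝟙 _))
  haveI : Mono φ.τ₃ := inferInstanceAs (Mono (𝟙 _))
  have hmid : mid.Exact := (ShortComplex.exact_iff_of_epi_of_isIso_of_mono φ).2 hS.exact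
  let ψ : mid ⟶ ((t.mapHomologicalComplex (ComplexShape.up ℤ)).obj K).sc' (i - 1) i (i + 1) :=
    { τ₁ := 𝟙 _
      τ₂ := 𝟙 _
      τ₃ := t.map (K.iCycles (i + 1))
      comm₁₂ := (Category.id_comp _).trans (((congr_arg t.map (K.toCycles_i (i - 1) i)).symm.trans
        (t.map_comp _ _)).trans (Category.comp_id _).symm)
      comm₂₃ := (Category.id_comp _).trans ((congr_arg t.map (K.toCycles_i i (i + 1))).symm.trans
        (t.map_comp _ _)) }
  haveI : Epi ψ.τ₁ := inferInstanceAs (Epi (𝟙 _))
  haveI : IsIso ψ.τ₂ := inferInstanceAs (IsIso (𝟙 _))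
  haveI : Mono ψ.τ₃ := hmono
  exact (ShortComplex.exact_iff_of_epi_of_isIso_of_mono ψ).1 hmid

/-- A right exact functor keeping a complex acyclic keeps the inclusions of the cycles monic. -/
theorem mono_map_iCycles (t : C ⥤ D) [t.Additive] [PreservesFiniteColimits t] (hac : K.Acyclic)
    (htac : ((t.mapHomologicalComplex (ComplexShape.up ℤ)).obj K).Acyclic) (n : ℤ) :
    Mono (t.map (K.iCycles n)) := by
  refine Preadditive.mono_of_cancel_zero _ fun {W} x hx => ?_
  haveI := epi_toCycles_of_acyclic K hac (n - 1) n (by omega)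
  obtain ⟨W₁, π₁, _, y, hy⟩ := surjective_up_to_refinements_of_epi (t.map (K.toCycles (n - 1) n)) x
  have hT : (((t.mapHomologicalComplex (ComplexShape.up ℤ)).obj K).sc' (n - 2) (n - 1) n).Exact :=
    ((HomologicalComplex.exactAt_iff' _ (n - 2) (n - 1) n (by simp; omega) (by simp)).1 (htac _))
  obtain ⟨W₂, π₂, _, z, hz⟩ := hT.exact_up_to_refinements y (by
    show y ≫ t.map (K.d (n - 1) n) = 0
    rw [← K.toCycles_i (n - 1) n, t.map_comp, ← reassoc_of% hy, hx, comp_zero])
  change π₂ ≫ y = z ≫ t.map (K.d (n - 2) (n - 1)) at hz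
  rw [← cancel_epi π₁, ← cancel_epi π₂, hy, reassoc_of% hz, comp_zero, comp_zero]
  have h0 : K.d (n - 2) (n - 1) ≫ K.toCycles (n - 1) n = 0 := by
    rw [← cancel_mono (K.iCycles n), Category.assoc, K.toCycles_i, K.d_comp_d, zero_comp]
  exact (congr_arg (z ≫ ·) ((t.map_comp _ _).symm.trans ((congr_arg t.map h0).trans (t.map_zero _ _)))).trans
    comp_zero

end General

section Tensor

open Groth.Agent.KFlat

variable {C : Type u} [SmallCategory C] {J : GrothendieckTopology C} (O : Sheaf J CommRingCat.{u})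

theorem acyclic_tensor_module {K : CochainComplex (ModSite.Mod O) ℤ} (hac : K.Acyclic)
    (hK : IsKFlatFor (ModSite.tensorBi O) K) (G : ModSite.Mod O) :
    ((((ModSite.tensorBi O).flip.obj G).mapHomologicalComplex (ComplexShape.up ℤ)).obj K).Acyclic := by
  let F := ModSite.tensorBi O
  let S := (HomologicalComplex.single (ModSite.Mod O) (ComplexShape.up ℤ) 0).obj G
  have h1 : ((tot F.flip S).obj K).Acyclic :=
    acyclic_tot_of_acyclic_of_isKFlatFor F.flip
      (fun M => ⟨(resF O).obj M, (resFπ O).app M, isKFlatFor_resF O M, quasiIso_resFπ O M⟩) S hac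
      ((isKFlatFor_flip_iff O K).2 hK)
  have h2 : ((tot F K).obj S).Acyclic := fun i =>
    (h1 i).of_iso (HomologicalComplex.mapBifunctorFlipIso K S F (ComplexShape.up ℤ))
  intro n
  haveI := isIso_singleι F K 0 G (n - 1) (n - 1) (by omega)
  haveI := isIso_singleι F K 0 G n n (by omega)
  haveI := isIso_singleι F K 0 G (n + 1) (n + 1) (by omega)
  rw [HomologicalComplex.exactAt_iff' _ (n - 1) n (n + 1) (by simp) (by simp)]
  let e₁ : (F.flip.obj G).obj (K.X (n - 1)) ≅ _ := asIso (singleι F K 0 G (n - 1) (n - 1) _)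
  let e₂ : (F.flip.obj G).obj (K.X n) ≅ _ := asIso (singleι F K 0 G n n _)
  let e₃ : (F.flip.obj G).obj (K.X (n + 1)) ≅ _ := asIso (singleι F K 0 G (n + 1) (n + 1) _)
  exact ShortComplex.exact_of_iso
    (S₂ := (((F.flip.obj G).mapHomologicalComplex (ComplexShape.up ℤ)).obj K).sc' (n - 1) n (n + 1))
    (S₁ := ((tot F K).obj S).sc' (n - 1) n (n + 1))
    (ShortComplex.isoMk e₁ e₂ e₃
      (singleι_d F K 0 G (n - 1) n (n - 1) n (by omega) (by omega) (by omega))
      (singleι_d F K 0 G n (n + 1) n (n + 1) (by omega) (by omega) (by omega))).symm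
    ((HomologicalComplex.exactAt_iff' _ (n - 1) n (n + 1) (by simp) (by simp)).1 (h2 n))

/-- The cycles of an acyclic K-flat complex with flat terms are flat. -/
theorem isFlat_cycles_of_isKFlatFor {K : CochainComplex (ModSite.Mod O) ℤ} (hac : K.Acyclic)
    (hK : IsKFlatFor (ModSite.tensorBi O) K) (hfl : ∀ i, ModSite.IsFlat (K.X i)) (n : ℤ) :
    ModSite.IsFlat (K.cycles n) := by
  refine (Groth.Agent.ModTensor.isFlat_iff_preservesMono O _).2 fun {A B} f _ => ?_
  let t := ((ModSite.tensorBi O).flip.obj A)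
  haveI h1 : Mono (t.map (K.iCycles n)) :=
    mono_map_iCycles K t hac (acyclic_tensor_module O hac hK A) n
  haveI : Mono (((ModSite.tensorBi O).obj A).map (K.iCycles n)) :=
    ((MorphismProperty.monomorphisms (ModSite.Mod O)).arrow_mk_iso_iff
      (((Functor.mapArrowFunctor _ _).mapIso (Groth.Agent.ModTensor.tensorSymm O A)).app
        (Arrow.mk (K.iCycles n)))).1 h1
  haveI : Mono (((ModSite.tensorBi O).map f).app (K.X n)) :=
    (Groth.Agent.ModTensor.isFlat_iff_preservesMono O _).1 (hfl n) f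
  haveI : Mono (((ModSite.tensorBi O).map f).app (K.cycles n) ≫
      ((ModSite.tensorBi O).obj B).map (K.iCycles n)) := by
    rw [Groth.Agent.ModTensor.tensor_exchange O f (K.iCycles n)]
    exact mono_comp _ _
  exact mono_of_mono (((ModSite.tensorBi O).map f).app (K.cycles n))
    (((ModSite.tensorBi O).obj B).map (K.iCycles n))

end Tensor

end Groth.Agent.DCohLib
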