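import Groth.Agent.DCohLib.BettiConverse
import Groth.Agent.TwistShriek.Theta
import Groth.Agent.TwistShriek.RelPush
import Groth.Agent.DCohMore.RpushPerf

/-!
# `M ↦ Rᵖf_*(Lf^*M ⊗^L F)` is `M ↦ Hᵖ(M ⊗^L G)` for a model `G` of `Rf_*F`
-/

set_option autoImplicit false
set_option backward.isDefEq.respectTransparency false
set_option linter.style.haveILetI false
set_option maxHeartbeats 800000

universe u

open CategoryTheory CategoryTheory.Limits AlgebraicGeometry

attribute [local instance] HasDerivedCategory.standard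

noncomputable section

namespace Groth.Agent.DCohLib

variable {X Y : Scheme.{u}}

theorem betti_congr [∀ x : X, DCoh.HasLpull (X.fromSpecResidueField x)] {E E' : DCoh.D X} (e : E ≅ E')
    (x : X) (i : ℤ) : PerfD.betti E x i = PerfD.betti E' x i := by
  let g := ((DerivedCategory.homologyFunctor _ i).mapIso ((DCoh.Lpull (X.fromSpecResidueField x)).mapIso e))
  let a := (SheafOfModules.evaluation _ (Opposite.op ⊤)).mapIso g
  exact a.toLinearEquiv.finrank_eq

/-- A model on the base, all degrees at once. -/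
theorem exists_hdir_model_all (f : X ⟶ Y) [QuasiCompact f] [QuasiSeparated f]
    (F : CochainComplex X.Modules ℤ) [DCoh.HasLpull f] [DCoh.HasLTensorCx F] [DCoh.HasRpush f]
    (hqF : DCoh.IsQCohD (DCoh.toD X F)) :
    ∃ G : CochainComplex Y.Modules ℤ,
      Nonempty (DCoh.toD Y G ≅ (DCoh.Rpush f).obj (DCoh.toD X F)) ∧
      ∀ p : ℤ, Nonempty ((QCohCat.isQCoh Y).ι ⋙ DerivedCategory.singleFunctor Y.Modules 0 ⋙ DCoh.Lpull f ⋙
          DCoh.LTensorCx F ⋙ DCoh.Rpush f ⋙ DerivedCategory.homologyFunctor Y.Modules p ≅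
        (QCohCat.isQCoh Y).ι ⋙ DerivedCategory.singleFunctor Y.Modules 0 ⋙ DCoh.LTensorCx G ⋙
          DerivedCategory.homologyFunctor Y.Modules p) := by
  obtain ⟨I, φ, hI, hφ⟩ := hres_modules X F
  haveI := hI
  haveI : IsIso (DerivedCategory.Q.map φ) := (DerivedCategory.isIso_Q_map_iff_quasiIso (C := X.Modules) φ).2 hφ
  let eFI : DCoh.toD X F ≅ DerivedCategory.Q.obj I := asIso (DerivedCategory.Q.map φ)
  have hqI : DCoh.IsQCohD (DerivedCategory.Q.obj I) := TildeD.isQCohD_of_iso eFI hqF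
  obtain ⟨α⟩ := nonempty_lTensor_of_qis (E := I) (E' := F) φ hφ
  let ιN : QCohCat.QCoh Y ⥤ DCoh.DQCoh Y :=
    ObjectProperty.lift _ ((QCohCat.isQCoh Y).ι ⋙ DerivedCategory.singleFunctor Y.Modules 0)
      fun M => TildeD.isQCohD_of_iso
        ((DerivedCategory.singleFunctorIsoCompQ Y.Modules 0).app M.obj).symm (DCohMore.isQCohD_sgl₀ M.obj M.property)
  let P := Functor.whiskerLeft (ObjectProperty.ι (DCoh.IsQCohD (X := Y))) (TwistShriek.projD f I)
  haveI : ∀ N, IsIso (P.app N) := TwistShriek.isIso_projD f I hqI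
  haveI := NatIso.isIso_of_isIso_app P
  refine ⟨(pfCx f).obj I, ⟨rpushInjIso f I ≪≫ (DCoh.Rpush f).mapIso eFI.symm⟩, fun p => ⟨?_⟩⟩
  exact (Functor.isoWhiskerRight (Functor.isoWhiskerLeft ιN (asIso P) ≪≫
      Functor.isoWhiskerLeft ((QCohCat.isQCoh Y).ι ⋙ DerivedCategory.singleFunctor Y.Modules 0)
        (Functor.isoWhiskerLeft (DCoh.Lpull f) (Functor.isoWhiskerRight α.symm (DCoh.Rpush f))))
    (DerivedCategory.homologyFunctor Y.Modules p)).symm

/-- A model on the base, given pseudo-coherence of the direct image. -/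
theorem exists_hdir_model_of_pc (f : X ⟶ Y) [QuasiCompact f] [QuasiSeparated f]
    (F : CochainComplex X.Modules ℤ) [DCoh.HasLpull f] [DCoh.HasLTensorCx F] [DCoh.HasRpush f]
    (hqF : DCoh.IsQCohD (DCoh.toD X F))
    (hpc : ∀ m, DCoh.IsPseudoCoherentD m ((DCoh.Rpush f).obj (DCoh.toD X F))) (p : ℤ) :
    ∃ G : CochainComplex Y.Modules ℤ, (∀ m, DCoh.IsPseudoCoherentD m (DCoh.toD Y G)) ∧
      Nonempty (DCoh.toD Y G ≅ (DCoh.Rpush f).obj (DCoh.toD X F)) ∧
      Nonempty ((QCohCat.isQCoh Y).ι ⋙ DerivedCategory.singleFunctor Y.Modules 0 ⋙ DCoh.Lpull f ⋙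
          DCoh.LTensorCx F ⋙ DCoh.Rpush f ⋙ DerivedCategory.homologyFunctor Y.Modules p ≅
        (QCohCat.isQCoh Y).ι ⋙ DerivedCategory.singleFunctor Y.Modules 0 ⋙ DCoh.LTensorCx G ⋙
          DerivedCategory.homologyFunctor Y.Modules p) := by
  obtain ⟨G, ⟨eG⟩, h⟩ := exists_hdir_model_all f F hqF
  exact ⟨G, fun m => isPseudoCoherentD_iso eG.symm (hpc m), ⟨eG⟩, h p⟩

/-- A model on the base of a relatively pseudo-coherent object. -/
theorem exists_hdir_model [IsLocallyNoetherian Y] (f : X ⟶ Y) [IsProper f]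
    (F : CochainComplex X.Modules ℤ) (a : ℤ) [(DCoh.toD X F).IsGE a]
    (hF : DerSch.IsPseudoCoherentRelAll f (DCoh.toD X F)) (p : ℤ) [DCoh.HasLpull f] [DCoh.HasLTensorCx F]
    [DCoh.HasRpush f] :
    ∃ G : CochainComplex Y.Modules ℤ, (∀ m, DCoh.IsPseudoCoherentD m (DCoh.toD Y G)) ∧
      Nonempty (DCoh.toD Y G ≅ (DCoh.Rpush f).obj (DCoh.toD X F)) ∧
      Nonempty ((QCohCat.isQCoh Y).ι ⋙ DerivedCategory.singleFunctor Y.Modules 0 ⋙ DCoh.Lpull f ⋙
          DCoh.LTensorCx F ⋙ DCoh.Rpush f ⋙ DerivedCategory.homologyFunctor Y.Modules p ≅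
        (QCohCat.isQCoh Y).ι ⋙ DerivedCategory.singleFunctor Y.Modules 0 ⋙ DCoh.LTensorCx G ⋙
          DerivedCategory.homologyFunctor Y.Modules p) := by
  have habs : ∀ m, DCoh.IsPseudoCoherentD m (DCoh.toD X F) := fun m => (TwistShriek.rel_iff_abs f m _).1 (hF m)
  haveI : IsLocallyNoetherian X := LocallyOfFiniteType.isLocallyNoetherian f
  exact exists_hdir_model_of_pc f F (fun i => (TensorCohLib.isCohD_of_pc _ habs i).1)
    (TwistShriek.pc_rpush_proper f (DCoh.toD X F) a habs) p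

end Groth.Agent.DCohLib
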