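import Mathlib

/-!
# Adjunctions of functors on cochain complexes and homotopies
-/

set_option autoImplicit false
set_option linter.style.haveILetI false

universe v v' u u'

open CategoryTheory CategoryTheory.Limits HomologicalComplex

noncomputable section

namespace Groth.Agent.DCohLib

variable {A : Type u} [Category.{v} A] [Abelian A] {B : Type u'} [Category.{v'} B] [Abelian B]

/-- Null-homotopic maps extend along degreewise split monomorphisms. -/
theorem exists_extension_of_homotopy {M N J : CochainComplex B ℤ} (i : M ⟶ N) (r : ∀ n, N.X n ⟶ M.X n)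
    (hr : ∀ n, i.f n ≫ r n = 𝟙 _) (f : M ⟶ J) (h : Homotopy f 0) :
    ∃ g : N ⟶ J, i ≫ g = f := by
  refine ⟨Homotopy.nullHomotopicMap fun p q => r p ≫ h.hom p q, ?_⟩
  rw [Homotopy.comp_nullHomotopicMap]
  ext n
  have := h.comm n
  simp only [HomologicalComplex.zero_f, add_zero] at this
  rw [this, Homotopy.nullHomotopicMap_f (c := ComplexShape.up ℤ) (k₂ := n - 1) (k₁ := n) (k₀ := n + 1)
    (by simp) (by simp), dNext_eq h.hom (show (ComplexShape.up ℤ).Rel n (n + 1) from rfl),
    prevD_eq h.hom (show (ComplexShape.up ℤ).Rel (n - 1) n by simp)]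
  rw [reassoc_of% hr n, reassoc_of% hr (n + 1)]

/-- Homotopy-compatibility of an adjunction between categories of complexes. -/
structure HtpCompat {F : CochainComplex A ℤ ⥤ CochainComplex B ℤ} {G : CochainComplex B ℤ ⥤ CochainComplex A ℤ}
    (adj : F ⊣ G) : Prop where
  map : ∀ {M N : CochainComplex A ℤ} (f : M ⟶ N), Nonempty (Homotopy f 0) → Nonempty (Homotopy (F.map f) 0)
  split : ∀ (M : CochainComplex A ℤ), ∃ r : ∀ n, (F.obj (CochainComplex.mappingCone (𝟙 M))).X n ⟶ (F.obj M).X n,
    ∀ n, (F.map (CochainComplex.mappingCone.inr (𝟙 M))).f n ≫ r n = 𝟙 _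

variable {F : CochainComplex A ℤ ⥤ CochainComplex B ℤ} {G : CochainComplex B ℤ ⥤ CochainComplex A ℤ}
  {adj : F ⊣ G}

theorem HtpCompat.null_iff (h : HtpCompat adj) {M : CochainComplex A ℤ} {J : CochainComplex B ℤ}
    (f : M ⟶ G.obj J) : Nonempty (Homotopy f 0) ↔ Nonempty (Homotopy ((adj.homEquiv M J).symm f) 0) := by
  constructor
  · intro hf
    obtain ⟨hh⟩ := h.map f hf
    rw [Adjunction.homEquiv_counit]
    exact ⟨(hh.compRight _).trans (Homotopy.ofEq zero_comp)⟩
  · rintro ⟨hf⟩
    obtain ⟨r, hr⟩ := h.split M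
    obtain ⟨g, hg⟩ := exists_extension_of_homotopy _ r hr _ hf
    have e : f = CochainComplex.mappingCone.inr (𝟙 M) ≫ adj.homEquiv _ _ g := by
      rw [← adj.homEquiv_naturality_left, hg, Equiv.apply_symm_apply]
    have h0 : Homotopy (CochainComplex.mappingCone.inr (𝟙 M)) 0 :=
      (Homotopy.ofEq (Category.comp_id _).symm).trans
        (((CochainComplex.mappingCone.homotopyToZeroOfId M).compLeft _).trans (Homotopy.ofEq comp_zero))
    exact ⟨(Homotopy.ofEq e).trans ((h0.compRight _).trans (Homotopy.ofEq zero_comp))⟩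

/-- The right adjoint preserves K-injectivity if the left adjoint preserves acyclicity. -/
theorem HtpCompat.isKInjective (h : HtpCompat adj) (hF : ∀ M : CochainComplex A ℤ, M.Acyclic → (F.obj M).Acyclic)
    (J : CochainComplex B ℤ) [J.IsKInjective] : (G.obj J).IsKInjective :=
  ⟨fun {M} f hM => (h.null_iff f).2 ⟨CochainComplex.IsKInjective.homotopyZero _ (hF M hM)⟩⟩

end Groth.Agent.DCohLib
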