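import Groth.Agent.DCohLib.DualCx
import Groth.Agent.DCohLib.TensorEval
import Groth.Agent.DCohLib.CompactD

/-!
# The derived tensor product commutes with coproducts
-/

set_option autoImplicit false
set_option linter.style.haveILetI false

universe u

open CategoryTheory CategoryTheory.Limits AlgebraicGeometry

attribute [local instance] HasDerivedCategory.standard

noncomputable section

namespace Groth.Agent.DCohLib

variable {X : Scheme.{u}}

theorem isIso_sigmaComparison_lTensorCx (D : CochainComplex X.Modules ℤ) [DCoh.HasLTensorCx D]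
    {ι : Type u} (C : ι → DCoh.D X) [HasCoproduct C]
    [HasCoproduct fun i => (DCoh.LTensorCx D).obj (C i)] :
    IsIso (sigmaComparison (DCoh.LTensorCx D) C) := by
  let P := (resX X).obj D
  let e := lTensorCxIsoQ D P ((resXπ X).app D) (quasiIso_resXπ D) (isKFlat_resX D)
  let T := tenR P
  let F := fun i => DerivedCategory.Q.objPreimage (C i)
  let eF := fun i => (DerivedCategory.Q.objObjPreimageIso (C i)).symm
  let c₀ : Cofan F := Cofan.mk (∐ F) (Sigma.ι F)
  let hc₀ : IsColimit c₀ := coproductIsCoproduct F
  haveI : PreservesColimit (Discrete.functor F) T :=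
    (Adjunction.ofIsLeftAdjoint T).leftAdjoint_preservesColimits.preservesColimitsOfShape.preservesColimit
  let hT : IsColimit (Cofan.mk (T.obj (∐ F)) fun i => T.map (Sigma.ι F i)) :=
    isColimitCofanMkObjOfIsColimit T _ _ hc₀
  obtain ⟨hQ⟩ := nonempty_isColimit_Q C hc₀ eF
  obtain ⟨hQ'⟩ := nonempty_isColimit_Q (fun i => (DCoh.LTensorCx D).obj (C i)) hT
    fun i => (DCoh.LTensorCx D).mapIso (eF i) ≪≫ e.app (F i)
  haveI : PreservesColimit (Discrete.functor C) (DCoh.LTensorCx D) :=
    preservesColimit_of_preserves_colimit_cocone hQ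
      ((isColimitMapCoconeCofanMkEquiv (DCoh.LTensorCx D) _ _).symm
        (IsColimit.ofIsoColimit hQ' (Cofan.ext (e.app (∐ F)).symm fun i => by
          simp only [cofan_mk_inj, Iso.trans_hom, Functor.mapIso_hom, Iso.app_hom, Category.assoc,
            Iso.symm_hom, Iso.app_inv, Functor.map_comp]
          congr 1
          rw [show DerivedCategory.Q.map (T.map (Sigma.ι F i)) ≫ e.inv.app (∐ F) =
            e.inv.app (F i) ≫ (DCoh.LTensorCx D).map (DerivedCategory.Q.map (Sigma.ι F i)) from
              e.inv.naturality (Sigma.ι F i), ← Category.assoc, Iso.hom_inv_id_app]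
          exact Category.id_comp _)))
  infer_instance

end Groth.Agent.DCohLib
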