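import Mathlib.Algebra.Homology.DerivedCategory.HomologySequence
import Mathlib.Algebra.Homology.DerivedCategory.TStructure
import Mathlib.CategoryTheory.Triangulated.Triangulated

/-!
# Morphisms inducing isomorphisms on cohomology above a degree and a surjection in that degree
-/

set_option autoImplicit false
set_option linter.style.haveILetI false

universe w v u

open CategoryTheory CategoryTheory.Limits CategoryTheory.Pretriangulated

noncomputable section

namespace Groth.Agent.DCohLib

open DerivedCategory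

variable {C : Type u} [Category.{v} C] [Abelian C] [HasDerivedCategory.{w} C]

/-- The cohomology vanishes in degrees `≥ m`. -/
def AboveZero (m : ℤ) (K : DerivedCategory C) : Prop :=
  ∀ i, m ≤ i → IsZero ((homologyFunctor C i).obj K)

theorem AboveZero.mono {m m' : ℤ} {K : DerivedCategory C} (h : AboveZero m K) (hm : m ≤ m') :
    AboveZero m' K := fun i hi => h i (hm.trans hi)

theorem AboveZero.of_iso {m : ℤ} {K L : DerivedCategory C} (h : AboveZero m K) (e : L ≅ K) :
    AboveZero m L := fun i hi => (h i hi).of_iso ((homologyFunctor C i).mapIso e)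

theorem aboveZero_shift_iff (m n : ℤ) (K : DerivedCategory C) :
    AboveZero m (K⟦n⟧) ↔ AboveZero (n + m) K := by
  have e : ∀ i, (homologyFunctor C i).obj (K⟦n⟧) ≅ (homologyFunctor C (n + i)).obj K := fun i =>
    ((homologyFunctor C 0).shiftIso n i (n + i) rfl).app K
  refine ⟨fun h i hi => ?_, fun h i hi => (h (n + i) (by omega)).of_iso (e i)⟩
  obtain ⟨j, rfl⟩ : ∃ j, i = n + j := ⟨i - n, by omega⟩
  exact (h j (by omega)).of_iso (e j).symm

theorem AboveZero.ext₂ {m : ℤ} (T : Triangle (DerivedCategory C)) (hT : T ∈ distTriang _)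
    (h₁ : AboveZero m T.obj₁) (h₃ : AboveZero m T.obj₃) : AboveZero m T.obj₂ := fun i hi =>
  (HomologySequence.exact₂ T hT i).isZero_X₂ ((h₁ i hi).eq_of_src _ _) ((h₃ i hi).eq_of_tgt _ _)

theorem aboveZero_zero (m : ℤ) {K : DerivedCategory C} (h : IsZero K) : AboveZero m K :=
  fun i _ => (homologyFunctor C i).map_isZero h

/-- A morphism inducing isomorphisms on cohomology in degrees `> m` and an epimorphism in degree
`m`, phrased through its cone. -/
def MIso (m : ℤ) {K L : DerivedCategory C} (α : K ⟶ L) : Prop :=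
  ∃ (D : DerivedCategory C) (g : L ⟶ D) (h : D ⟶ K⟦(1 : ℤ)⟧),
    Triangle.mk α g h ∈ distTriang _ ∧ AboveZero m D

theorem MIso.cone {m : ℤ} (T : Triangle (DerivedCategory C)) (hT : T ∈ distTriang _)
    (h : MIso m T.mor₁) : AboveZero m T.obj₃ := by
  obtain ⟨D, g, k, hT', hD⟩ := h
  exact hD.of_iso (Triangle.π₃.mapIso
    (isoTriangleOfIso₁₂ T (Triangle.mk T.mor₁ g k) hT hT' (Iso.refl _) (Iso.refl _)
      (show T.mor₁ ≫ 𝟙 _ = 𝟙 _ ≫ T.mor₁ by rw [Category.comp_id, Category.id_comp])))

theorem MIso.mono {m m' : ℤ} {K L : DerivedCategory C} {α : K ⟶ L} (h : MIso m α) (hm : m ≤ m') :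
    MIso m' α := by
  obtain ⟨D, g, k, hT, hD⟩ := h
  exact ⟨D, g, k, hT, hD.mono hm⟩

theorem mIso_iff (m : ℤ) {K L : DerivedCategory C} (α : K ⟶ L) :
    MIso m α ↔ (∀ i, m < i → IsIso ((homologyFunctor C i).map α)) ∧
      Epi ((homologyFunctor C m).map α) := by
  obtain ⟨D, g, k, hT⟩ := distinguished_cocone_triangle α
  constructor
  · intro h
    have hD : AboveZero m D := h.cone _ hT
    have hepi : ∀ i, m ≤ i → Epi ((homologyFunctor C i).map α) := fun i hi =>
      (HomologySequence.epi_homologyMap_mor₁_iff _ hT i).2 ((hD i hi).eq_of_tgt _ _)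
    refine ⟨fun i hi => ?_, hepi m le_rfl⟩
    haveI := hepi i hi.le
    haveI : Mono ((homologyFunctor C i).map α) :=
      (HomologySequence.mono_homologyMap_mor₁_iff _ hT (i - 1) i (by omega)).2
        ((hD (i - 1) (by omega)).eq_of_src _ _)
    exact isIso_of_mono_of_epi _
  · rintro ⟨hiso, hepi⟩
    refine ⟨D, g, k, hT, fun i hi => ?_⟩
    refine (HomologySequence.exact₃ _ hT i (i + 1) rfl).isZero_X₂
      ((HomologySequence.epi_homologyMap_mor₁_iff _ hT i).1 ?_)
      ((HomologySequence.mono_homologyMap_mor₁_iff _ hT i (i + 1) rfl).1 ?_)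
    · rcases eq_or_lt_of_le hi with rfl | hlt
      · exact hepi
      · haveI := hiso i hlt
        exact inferInstanceAs (Epi ((homologyFunctor C i).map α))
    · haveI := hiso (i + 1) (by omega)
      exact inferInstanceAs (Mono ((homologyFunctor C (i + 1)).map α))

theorem mIso_of_isIso (m : ℤ) {K L : DerivedCategory C} (α : K ⟶ L) [IsIso α] : MIso m α :=
  (mIso_iff m α).2 ⟨fun _ _ => inferInstance, inferInstance⟩

theorem MIso.comp {m : ℤ} {K L M : DerivedCategory C} {α : K ⟶ L} {β : L ⟶ M} (h : MIso m α)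
    (h' : MIso m β) : MIso m (α ≫ β) := by
  obtain ⟨A, gA, kA, hA, hA0⟩ := h
  obtain ⟨B, gB, kB, hB, hB0⟩ := h'
  obtain ⟨D, g, k, hD⟩ := distinguished_cocone_triangle (α ≫ β)
  exact ⟨D, g, k, hD, AboveZero.ext₂ _
    (Triangulated.someOctahedron rfl hA hB hD).mem hA0 hB0⟩

theorem aboveZero_of_mIso_zero {m : ℤ} {K L : DerivedCategory C} (α : K ⟶ L) (h : MIso m α)
    (hK : AboveZero m K) : AboveZero m L := fun i hi => by
  obtain ⟨D, g, k, hT, hD⟩ := h
  exact AboveZero.ext₂ _ hT hK hD i hi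

end Groth.Agent.DCohLib
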