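import Groth.Agent.DCohLib.MVOpen
import Groth.Agent.DCohLib.StalkKFlat

/-!
# The Mayer-Vietoris short exact sequence
-/

set_option autoImplicit false
set_option linter.style.haveILetI false

universe u

open CategoryTheory CategoryTheory.Limits AlgebraicGeometry TopologicalSpace Opposite
open Groth.Agent.PullbackMod

noncomputable section

namespace Groth.Agent.DCohLib

variable {X : Scheme.{u}}

/-- `M ↦ j_* (M|_W)`. -/
abbrev jj (W : X.Opens) : X.Modules ⥤ X.Modules :=
  Scheme.Modules.restrictFunctor W.ι ⋙ Scheme.Modules.pushforward W.ι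

/-- Restriction from `W` to `W' ≤ W`. -/
def rho {W' W : X.Opens} (h : W' ≤ W) : jj W ⟶ jj W' where
  app M :=
    { val := PresheafOfModules.homMk
        { app := fun O => M.presheaf.map (homOfLE (show W'.ι ''ᵁ W'.ι ⁻¹ᵁ O.unop ≤ W.ι ''ᵁ W.ι ⁻¹ᵁ O.unop by
            rw [Scheme.Hom.image_preimage_eq_opensRange_inf, Scheme.Hom.image_preimage_eq_opensRange_inf,
              Scheme.Opens.opensRange_ι, Scheme.Opens.opensRange_ι]
            exact inf_le_inf_right _ h)).op
          naturality := fun {O O'} i => by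
            have hle : W'.ι ''ᵁ W'.ι ⁻¹ᵁ O.unop ≤ W.ι ''ᵁ W.ι ⁻¹ᵁ O.unop := by
              rw [Scheme.Hom.image_preimage_eq_opensRange_inf, Scheme.Hom.image_preimage_eq_opensRange_inf,
                Scheme.Opens.opensRange_ι, Scheme.Opens.opensRange_ι]
              exact inf_le_inf_right _ h
            have hle' : W'.ι ''ᵁ W'.ι ⁻¹ᵁ O'.unop ≤ W.ι ''ᵁ W.ι ⁻¹ᵁ O'.unop := by
              rw [Scheme.Hom.image_preimage_eq_opensRange_inf, Scheme.Hom.image_preimage_eq_opensRange_inf,
                Scheme.Opens.opensRange_ι, Scheme.Opens.opensRange_ι]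
              exact inf_le_inf_right _ h
            let a := (W.ι.opensFunctor.map ((Opens.map W.ι.base).map i.unop)).op
            let a' := (W'.ι.opensFunctor.map ((Opens.map W'.ι.base).map i.unop)).op
            exact ((M.presheaf.map_comp a (homOfLE hle').op).symm.trans
              (congrArg M.presheaf.map
                (Subsingleton.elim (a ≫ (homOfLE hle').op) ((homOfLE hle).op ≫ a')))).trans
                  (M.presheaf.map_comp (homOfLE hle).op a') }
        fun O (r : Γ(X, O.unop)) (m : Γ(M, W.ι ''ᵁ W.ι ⁻¹ᵁ O.unop)) => by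
          refine (Scheme.Modules.map_smul M _ _ _).trans ?_
          refine congrArg (· • _) ?_
          simp only [Scheme.Opens.ι_appIso, Iso.refl_inv, Scheme.Opens.ι_app]
          exact (congr(($(X.presheaf.map_comp _ _)) r)).symm }
  naturality {M N} g := by
    refine Scheme.Modules.hom_ext _ _ fun O => ?_
    exact (g.mapPresheaf.naturality _).symm

/-- The unit `M ⟶ j_* (M|_W)`. -/
abbrev jjUnit (W : X.Opens) : 𝟭 X.Modules ⟶ jj W := (Scheme.Modules.restrictAdjunction W.ι).unit

theorem rho_unit {W' W : X.Opens} (h : W' ≤ W) : jjUnit W ≫ rho h = jjUnit W' := by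
  refine NatTrans.ext (funext fun M => Scheme.Modules.hom_ext _ _ fun O => ?_)
  exact (M.presheaf.map_comp _ _).symm

/-- The middle term of the Mayer-Vietoris sequence. -/
def mvMid (U V : X.Opens) : X.Modules ⥤ X.Modules where
  obj M := (jj U).obj M ⊞ (jj V).obj M
  map g := biprod.map ((jj U).map g) ((jj V).map g)
  map_id M := by apply biprod.hom_ext <;> simp
  map_comp g g' := by apply biprod.hom_ext <;> simp

/-- The first map of the Mayer-Vietoris sequence. -/
def mvA (U V : X.Opens) : 𝟭 X.Modules ⟶ mvMid U V where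
  app M := biprod.lift ((jjUnit U).app M) ((jjUnit V).app M)
  naturality {M N} g := by
    apply biprod.hom_ext <;> simp [mvMid]

/-- The second map of the Mayer-Vietoris sequence. -/
def mvB (U V : X.Opens) : mvMid U V ⟶ jj (U ⊓ V) where
  app M := biprod.desc ((rho inf_le_left).app M) (-(rho inf_le_right).app M)
  naturality {M N} g := by
    have h1 := (rho (inf_le_left : U ⊓ V ≤ U)).naturality g
    have h2 := (rho (inf_le_right : U ⊓ V ≤ V)).naturality g
    simp only [Functor.comp_map] at h1 h2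
    apply biprod.hom_ext' <;> simp [mvMid, h1, h2]

theorem mvA_mvB (U V : X.Opens) : mvA U V ≫ mvB U V = 0 := by
  refine NatTrans.ext (funext fun M => ?_)
  have h1 := congr_app (rho_unit (inf_le_left : U ⊓ V ≤ U)) M
  have h2 := congr_app (rho_unit (inf_le_right : U ⊓ V ≤ V)) M
  simp only [NatTrans.comp_app] at h1 h2
  simp only [NatTrans.comp_app, mvA, mvB, NatTrans.app_zero]
  exact biprod.lift_desc.trans (by
    rw [Preadditive.comp_neg]
    exact (sub_eq_add_neg _ _).symm.trans (sub_eq_zero.2 (h1.trans h2.symm)))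

/-- The Mayer-Vietoris sequence of a module. -/
abbrev mvSeq (U V : X.Opens) (M : X.Modules) : ShortComplex X.Modules :=
  ShortComplex.mk ((mvA U V).app M) ((mvB U V).app M) (congr_app (mvA_mvB U V) M)

theorem app_biprod_total {A B : X.Modules} (O : X.Opens) (s : Γ(A ⊞ B, O)) :
    (biprod.inl : A ⟶ A ⊞ B).app O ((biprod.fst : A ⊞ B ⟶ A).app O s) +
      (biprod.inr : B ⟶ A ⊞ B).app O ((biprod.snd : A ⊞ B ⟶ B).app O s) = s :=
  (congr(($(biprod.total (X := A) (Y := B))).app O s))

/-- The Mayer-Vietoris sequence is left exact on sections. -/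
theorem mvSeq_sections (U V : X.Opens) (hUV : U ⊔ V = ⊤) (M : X.Modules) (O : X.Opens)
    (s : Γ((jj U).obj M ⊞ (jj V).obj M, O))
    (hs : (biprod.desc ((rho (inf_le_left : U ⊓ V ≤ U)).app M)
      (-(rho (inf_le_right : U ⊓ V ≤ V)).app M)).app O s = 0) :
    ∃ t : Γ(M, O), (biprod.lift ((jjUnit U).app M) ((jjUnit V).app M)).app O t = s := by
  let W : Bool → X.Opens := fun b => cond b (U.ι ''ᵁ U.ι ⁻¹ᵁ O) (V.ι ''ᵁ V.ι ⁻¹ᵁ O)
  let a : Γ(M, W true) := (biprod.fst : (jj U).obj M ⊞ (jj V).obj M ⟶ _).app O s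
  let b : Γ(M, W false) := (biprod.snd : (jj U).obj M ⊞ (jj V).obj M ⟶ _).app O s
  have hW : ∀ c, W c = cond c (U ⊓ O) (V ⊓ O) := by
    intro c
    cases c <;> simp [W, Scheme.Hom.image_preimage_eq_opensRange_inf]
  have hab : ∀ (O' : X.Opens) (h₁ : O' ≤ W true) (h₂ : O' ≤ W false),
      M.presheaf.map (homOfLE h₁).op a = M.presheaf.map (homOfLE h₂).op b := by
    intro O' h₁ h₂
    have e := hs
    rw [← app_biprod_total (A := (jj U).obj M) (B := (jj V).obj M) O s, map_add] at e
    have e1 := congr(($(biprod.inl_desc ((rho (inf_le_left : U ⊓ V ≤ U)).app M)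
      (-(rho (inf_le_right : U ⊓ V ≤ V)).app M))).app O a)
    have e2 := congr(($(biprod.inr_desc ((rho (inf_le_left : U ⊓ V ≤ U)).app M)
      (-(rho (inf_le_right : U ⊓ V ≤ V)).app M))).app O b)
    have e3 : ((rho (inf_le_left : U ⊓ V ≤ U)).app M).app O a -
        ((rho (inf_le_right : U ⊓ V ≤ V)).app M).app O b = 0 := by
      refine Eq.trans ?_ e
      exact (sub_eq_add_neg _ _).trans (congrArg₂ (· + ·) e1.symm e2.symm)
    have hO' : O' ≤ (U ⊓ V).ι ''ᵁ (U ⊓ V).ι ⁻¹ᵁ O := by
      rw [Scheme.Hom.image_preimage_eq_opensRange_inf, Scheme.Opens.opensRange_ι]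
      rw [hW] at h₁ h₂
      exact le_inf (le_inf (h₁.trans inf_le_left) (h₂.trans inf_le_left)) (h₁.trans inf_le_right)
    have e4 := congrArg (M.presheaf.map (homOfLE hO').op) (sub_eq_zero.1 e3)
    refine Eq.trans ?_ (e4.trans ?_)
    · exact (congr(($(M.presheaf.map_comp _ _)) a))
    · exact (congr(($(M.presheaf.map_comp _ _)) b)).symm
  obtain ⟨t, ht, -⟩ := TopCat.Sheaf.existsUnique_gluing' ⟨M.presheaf, M.isSheaf⟩ W O
    (fun c => homOfLE (by rw [hW]; cases c <;> exact inf_le_right))
    (by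
      intro x hx
      have hx' : x ∈ (⊤ : X.Opens) := trivial
      rw [← hUV] at hx'
      rcases hx' with hx' | hx'
      · exact Opens.mem_iSup.2 ⟨true, (hW true).ge ⟨hx', hx⟩⟩
      · exact Opens.mem_iSup.2 ⟨false, (hW false).ge ⟨hx', hx⟩⟩)
    (fun c => match c with | true => a | false => b)
    (fun c c' => by
      cases c <;> cases c'
      · rfl
      · exact (hab _ inf_le_right inf_le_left).symm
      · exact hab _ inf_le_left inf_le_right
      · rfl)
  refine ⟨t, ?_⟩
  rw [← app_biprod_total (A := (jj U).obj M) (B := (jj V).obj M) O s,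
    ← app_biprod_total (A := (jj U).obj M) (B := (jj V).obj M) O ((biprod.lift ((jjUnit U).app M) ((jjUnit V).app M)).app O t)]
  refine congrArg₂ (· + ·) (congrArg _ ?_) (congrArg _ ?_)
  · exact (congr(($(biprod.lift_fst ((jjUnit U).app M) ((jjUnit V).app M))).app O t)).trans (ht true)
  · exact (congr(($(biprod.lift_snd ((jjUnit U).app M) ((jjUnit V).app M))).app O t)).trans (ht false)

theorem mono_mvA (U V : X.Opens) (hUV : U ⊔ V = ⊤) (M : X.Modules) : Mono ((mvA U V).app M) := by
  refine (mono_iff_stalk _).2 fun x => (injective_iff_map_eq_zero _).2 fun z hz => ?_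
  obtain ⟨O, hx, s, rfl⟩ := TopCat.Presheaf.exists_germ_eq M.presheaf z
  have hz := (stalkLin_germ ((mvA U V).app M) x hx s).symm.trans hz
  obtain ⟨O', hx', i, i', hss⟩ := ((mvMid U V).obj M).presheaf.germ_eq x hx hx _ 0 (hz.trans (map_zero _).symm)
  have h0 : ((mvA U V).app M).app O' (M.presheaf.map i.op s) = 0 :=
    (ConcreteCategory.congr_hom (((mvA U V).app M).mapPresheaf.naturality i.op) s).trans
      (hss.trans (map_zero _))
  have ha := congr(($(biprod.lift_fst ((jjUnit U).app M) ((jjUnit V).app M))).app O' (M.presheaf.map i.op s))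
  have hb := congr(($(biprod.lift_snd ((jjUnit U).app M) ((jjUnit V).app M))).app O' (M.presheaf.map i.op s))
  have ha' := ha.symm.trans ((congrArg _ h0).trans
    (map_zero ((biprod.fst : (jj U).obj M ⊞ (jj V).obj M ⟶ _).app O').hom))
  have hb' := hb.symm.trans ((congrArg _ h0).trans
    (map_zero ((biprod.snd : (jj U).obj M ⊞ (jj V).obj M ⟶ _).app O').hom))
  rw [← TopCat.Presheaf.germ_res_apply M.presheaf i x hx' s]
  generalize M.presheaf.map i.op s = t at ha' hb'
  have ht : t = 0 := by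
    refine TopCat.Sheaf.eq_of_locally_eq' ⟨M.presheaf, M.isSheaf⟩
      (fun c => cond c (U.ι ''ᵁ U.ι ⁻¹ᵁ O') (V.ι ''ᵁ V.ι ⁻¹ᵁ O')) O'
      (fun c => homOfLE (by cases c <;> exact Scheme.Hom.image_preimage_le _ _)) ?_ t 0 ?_
    · intro y hy
      have hy' : y ∈ (⊤ : X.Opens) := trivial
      rw [← hUV] at hy'
      simp only [Scheme.Hom.image_preimage_eq_opensRange_inf, Scheme.Opens.opensRange_ι]
      rcases hy' with hy' | hy'
      · exact Opens.mem_iSup.2 ⟨true, ⟨hy', hy⟩⟩
      · exact Opens.mem_iSup.2 ⟨false, ⟨hy', hy⟩⟩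
    · intro c
      cases c
      · exact hb'.trans (map_zero _).symm
      · exact ha'.trans (map_zero _).symm
  rw [ht, map_zero]

/-- The Mayer-Vietoris sequence is exact. -/
theorem exact_mvSeq (U V : X.Opens) (hUV : U ⊔ V = ⊤) (M : X.Modules) : (mvSeq U V M).Exact := by
  refine (exact_iff_stkF _).2 fun x => ?_
  rw [ShortComplex.moduleCat_exact_iff]
  intro (z : ((mvMid U V).obj M).presheaf.stalk x) hz
  obtain ⟨O, hx, s, rfl⟩ := TopCat.Presheaf.exists_germ_eq ((mvMid U V).obj M).presheaf z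
  have hz' := (stalkLin_germ ((mvB U V).app M) x hx s).symm.trans hz
  obtain ⟨O', hx', i, i', hss⟩ := ((jj (U ⊓ V)).obj M).presheaf.germ_eq x hx hx _ 0 (by rw [hz', map_zero]; rfl)
  have h0 : ((mvB U V).app M).app O' (((mvMid U V).obj M).presheaf.map i.op s) = 0 :=
    (ConcreteCategory.congr_hom (((mvB U V).app M).mapPresheaf.naturality i.op) s).trans
      (hss.trans (map_zero _))
  obtain ⟨t, ht⟩ := mvSeq_sections U V hUV M O' _ h0
  refine ⟨M.presheaf.germ O' x hx' t, ?_⟩
  refine (stalkLin_germ ((mvA U V).app M) x hx' t).trans ?_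
  exact (congrArg _ ht).trans (TopCat.Presheaf.germ_res_apply _ i x hx' s)

/-- The Mayer-Vietoris sequence of an injective module is short exact. -/
theorem shortExact_mvSeq (U V : X.Opens) (hUV : U ⊔ V = ⊤) (M : X.Modules) [Injective M] :
    (mvSeq U V M).ShortExact where
  exact := exact_mvSeq U V hUV M
  mono_f := mono_mvA U V hUV M
  epi_g := by
    refine (epi_iff_stalk _).2 fun x z => ?_
    obtain ⟨O, hx, s, rfl⟩ := TopCat.Presheaf.exists_germ_eq ((jj (U ⊓ V)).obj M).presheaf z
    obtain ⟨w, hw⟩ := surjective_res_injective' M (show (U ⊓ V).ι ''ᵁ (U ⊓ V).ι ⁻¹ᵁ O ≤ U.ι ''ᵁ U.ι ⁻¹ᵁ O by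
      simp only [Scheme.Hom.image_preimage_eq_opensRange_inf, Scheme.Opens.opensRange_ι]
      exact inf_le_inf_right _ inf_le_left) s
    refine ⟨((mvMid U V).obj M).presheaf.germ O x hx ((biprod.inl : _ ⟶ (jj U).obj M ⊞ (jj V).obj M).app O w), ?_⟩
    refine (stalkLin_germ ((mvB U V).app M) x hx _).trans ?_
    refine congrArg _ ?_
    exact (congr(($(biprod.inl_desc ((rho (inf_le_left : U ⊓ V ≤ U)).app M)
      (-(rho (inf_le_right : U ⊓ V ≤ V)).app M))).app O w)).trans hw

end Groth.Agent.DCohLib
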