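import Groth.Agent.DCohLib.FunctRes
import Groth.Agent.KFlat.ModSiteRes

/-!
# Functorial K-flat resolutions of complexes of sheaves of modules
-/

set_option linter.style.haveILetI false
set_option linter.unusedSectionVars false

universe u

open CategoryTheory Limits Opposite

noncomputable section

namespace Groth.Agent.DCohLib

open Groth.Agent.ModTensor

variable {C : Type u} [SmallCategory C] {J : GrothendieckTopology C} (O : Sheaf J CommRingCat.{u})

/-- The index of the cover of a module: all its sections. -/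
abbrev covIdx (M : ModSite.Mod O) : Type u := Σ U : C, (pre O M).obj (op U)

/-- The summands of the cover of a module. -/
abbrev covTerm (M : ModSite.Mod O) (s : covIdx O M) : ModSite.Mod O := (shF O).obj (freeAt O s.1)

/-- The map of a summand. -/
def covLeg (M : ModSite.Mod O) (s : covIdx O M) : covTerm O M s ⟶ M :=
  ((PresheafOfModules.sheafificationAdjunction (𝟙 (ModSite.ringSh O).obj)).homEquiv (freeAt O s.1) M).symm
    (PresheafOfModules.freeYonedaEquiv.symm s.2 : freeAt O s.1 ⟶ pre O M)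

/-- The image of an index. -/
def covIdxMap {M N : ModSite.Mod O} (φ : M ⟶ N) (s : covIdx O M) : covIdx O N :=
  ⟨s.1, ((preFunctor O).map φ).app (op s.1) s.2⟩

theorem covLeg_natural {M N : ModSite.Mod O} (φ : M ⟶ N) (s : covIdx O M) :
    covLeg O N (covIdxMap O φ s) = covLeg O M s ≫ φ := by
  refine Eq.trans ?_ ((PresheafOfModules.sheafificationAdjunction (𝟙 (ModSite.ringSh O).obj)).homEquiv_naturality_right_symm
    (PresheafOfModules.freeYonedaEquiv.symm s.2 : freeAt O s.1 ⟶ pre O M) φ)
  refine congr_arg _ (PresheafOfModules.freeYonedaEquiv.injective ?_)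
  rw [Equiv.apply_symm_apply]
  refine Eq.trans ?_ (PresheafOfModules.freeYonedaEquiv_comp (PresheafOfModules.freeYonedaEquiv.symm s.2) _).symm
  rw [Equiv.apply_symm_apply]
  rfl

/-- The cover functor. -/
def cov : ModSite.Mod O ⥤ ModSite.Mod O where
  obj M := ∐ covTerm O M
  map {M N} φ := Sigma.desc fun s => Sigma.ι (covTerm O N) (covIdxMap O φ s)
  map_id M := Sigma.hom_ext _ _ fun s => by
    rw [Sigma.ι_desc, Category.comp_id]
    rfl
  map_comp φ ψ := Sigma.hom_ext _ _ fun s => by
    rw [Sigma.ι_desc, Sigma.ι_desc_assoc]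
    exact (Sigma.ι_desc (fun t => Sigma.ι _ (covIdxMap O ψ t)) (covIdxMap O φ s)).symm

/-- The cover. -/
def covNat : cov O ⟶ 𝟭 (ModSite.Mod O) where
  app M := Sigma.desc (covLeg O M)
  naturality M N φ := Sigma.hom_ext _ _ fun s => by
    show Sigma.ι _ s ≫ (Sigma.desc fun t => Sigma.ι (covTerm O N) (covIdxMap O φ t)) ≫ Sigma.desc (covLeg O N) =
      Sigma.ι _ s ≫ Sigma.desc (covLeg O M) ≫ φ
    rw [Sigma.ι_desc_assoc, Sigma.ι_desc, Sigma.ι_desc_assoc, covLeg_natural]

theorem isFlat_cov (M : ModSite.Mod O) : ModSite.IsFlat ((cov O).obj M) :=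
  isFlat_sigma O _ fun s => isFlat_sheafify_freeAt O s.1

instance epi_covNat_app (M : ModSite.Mod O) : Epi ((covNat O).app M) := by
  refine ⟨fun {W} g h hgh => ?_⟩
  apply SheafOfModules.hom_ext
  refine PresheafOfModules.freeYoneda.isSeparating _ _ _ fun P hP a => ?_
  obtain ⟨U⟩ := hP
  obtain ⟨s, rfl⟩ := PresheafOfModules.freeYonedaEquiv.symm.surjective a
  have h0 : covLeg O M ⟨U, s⟩ ≫ g = covLeg O M ⟨U, s⟩ ≫ h := by
    have e : Sigma.ι (covTerm O M) ⟨U, s⟩ ≫ (covNat O).app M = covLeg O M ⟨U, s⟩ := Sigma.ι_desc _ _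
    rw [← e]
    exact (Category.assoc _ _ _).trans ((congr_arg (Sigma.ι (covTerm O M) ⟨U, s⟩ ≫ ·) hgh).trans (Category.assoc _ _ _).symm)
  let adj := PresheafOfModules.sheafificationAdjunction (𝟙 (ModSite.ringSh O).obj)
  have h1 := congr_arg (adj.homEquiv (freeAt O U) W) h0
  rw [adj.homEquiv_naturality_right, adj.homEquiv_naturality_right, covLeg, Equiv.apply_symm_apply] at h1
  exact h1

instance epi_covπ (M : ModSite.Mod O) : Epi (covπ (cov O) (covNat O) M) := epi_covNat_app O M

/-- The functorial K-flat resolution. -/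
def resF : CochainComplex (ModSite.Mod O) ℤ ⥤ CochainComplex (ModSite.Mod O) ℤ :=
  res (cov O) (covNat O)

/-- The map from the functorial K-flat resolution. -/
def resFπ : resF O ⟶ 𝟭 (CochainComplex (ModSite.Mod O) ℤ) := resπ (cov O) (covNat O)

instance quasiIso_resFπ (K : CochainComplex (ModSite.Mod O) ℤ) : QuasiIso ((resFπ O).app K) :=
  quasiIso_resπ (cov O) (covNat O) K

theorem isFlat_resF (K : CochainComplex (ModSite.Mod O) ℤ) (n : ℤ) : ModSite.IsFlat (((resF O).obj K).X n) :=
  res_X_flat (cov O) (covNat O) (Groth.Agent.KFlat.flatClassMod O) (isFlat_cov O) K n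

theorem isKFlatFor_resF (K : CochainComplex (ModSite.Mod O) ℤ) :
    Groth.Agent.KFlat.IsKFlatFor (ModSite.tensorBi O) ((resF O).obj K) :=
  isKFlatFor_res (cov O) (covNat O) (Groth.Agent.KFlat.flatClassMod O) (isFlat_cov O) K

theorem isKFlat_resF (K : CochainComplex (ModSite.Mod O) ℤ) : ModSite.IsKFlat ((resF O).obj K) :=
  (Groth.Agent.KFlat.isKFlat_iff O _).2 (isKFlatFor_resF O K)

end Groth.Agent.DCohLib
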