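import Groth.Agent.DCohLib.LocHtp
import Groth.Agent.DCohLib.MIso
import Groth.Agent.DCohLib.SPerf

/-!
# Perfect and pseudo-coherent objects: the basic predicates, restriction, locality
-/

set_option autoImplicit false
set_option linter.style.haveILetI false

universe u

open CategoryTheory CategoryTheory.Limits AlgebraicGeometry TopologicalSpace Opposite
open CategoryTheory.Pretriangulated

attribute [local instance] HasDerivedCategory.standard

noncomputable section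

namespace Groth.Agent.DCohLib

variable {X Y U V : Scheme.{u}}

/-- Restriction in the derived category is computed termwise. -/
def restrictDQ (j : U ⟶ X) [IsOpenImmersion j] (F : CochainComplex X.Modules ℤ) :
    (DCoh.restrictD j).obj (DerivedCategory.Q.obj F) ≅ DerivedCategory.Q.obj ((resCx j).obj F) :=
  (Scheme.Modules.restrictFunctor j).mapDerivedCategoryFactors.app F

/-- Restriction in the derived category is compatible with composition. -/
def restrictDComp (i : V ⟶ U) (j : U ⟶ X) [IsOpenImmersion i] [IsOpenImmersion j] :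
    DCoh.restrictD (i ≫ j) ≅ DCoh.restrictD j ⋙ DCoh.restrictD i :=
  letI : Localization.Lifting DerivedCategory.Q
      (HomologicalComplex.quasiIso X.Modules (ComplexShape.up ℤ))
      (resCx (i ≫ j) ⋙ DerivedCategory.Q) (DCoh.restrictD (i ≫ j)) :=
    ⟨(Scheme.Modules.restrictFunctor (i ≫ j)).mapDerivedCategoryFactors⟩
  letI : Localization.Lifting DerivedCategory.Q
      (HomologicalComplex.quasiIso X.Modules (ComplexShape.up ℤ))
      ((resCx j ⋙ resCx i) ⋙ DerivedCategory.Q) (DCoh.restrictD j ⋙ DCoh.restrictD i) :=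
    ⟨(Functor.associator _ _ _).symm ≪≫
      Functor.isoWhiskerRight (Scheme.Modules.restrictFunctor j).mapDerivedCategoryFactors _ ≪≫
      Functor.associator _ _ _ ≪≫
      Functor.isoWhiskerLeft _ (Scheme.Modules.restrictFunctor i).mapDerivedCategoryFactors ≪≫
      (Functor.associator _ _ _).symm⟩
  Localization.liftNatIso DerivedCategory.Q
    (HomologicalComplex.quasiIso X.Modules (ComplexShape.up ℤ)) _ _ _ _
    (Functor.isoWhiskerRight (resCxComp i j) DerivedCategory.Q)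

/-- Restriction in the derived category only depends on the morphism. -/
def restrictDCongr {i j : U ⟶ X} (h : i = j) [IsOpenImmersion i] [IsOpenImmersion j] :
    DCoh.restrictD i ≅ DCoh.restrictD j := by
  subst h
  exact Iso.refl _

/-- Restriction along an inclusion of opens. -/
def restrictDLE {W V : X.Opens} (h : W ≤ V) :
    DCoh.restrictD W.ι ≅ DCoh.restrictD V.ι ⋙ DCoh.restrictD (X.homOfLE h) :=
  restrictDCongr (X.homOfLE_ι h).symm ≪≫ restrictDComp (X.homOfLE h) V.ι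

theorem AboveZero.restrict (j : U ⟶ X) [IsOpenImmersion j] {m : ℤ} {K : DCoh.D X}
    (h : AboveZero m K) : AboveZero m ((DCoh.restrictD j).obj K) := by
  intro i hi
  let F := DerivedCategory.Q.objPreimage K
  have e : DerivedCategory.Q.obj F ≅ K := DerivedCategory.Q.objObjPreimageIso K
  have hF : F.ExactAt i := (HomologicalComplex.exactAt_iff_isZero_homology _ _).2
    (((h i hi).of_iso ((DerivedCategory.homologyFunctor _ i).mapIso e)).of_iso
      ((DerivedCategory.homologyFunctorFactors _ i).app F).symm)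
  exact ((HomologicalComplex.exactAt_iff_isZero_homology _ _).1 (exactAt_resCx j hF)).of_iso
    ((DerivedCategory.homologyFunctor _ i).mapIso
      (((DCoh.restrictD j).mapIso e).symm ≪≫ restrictDQ j F) ≪≫
      (DerivedCategory.homologyFunctorFactors _ i).app _)

theorem MIso.restrict (j : U ⟶ X) [IsOpenImmersion j] {m : ℤ} {K L : DCoh.D X} {α : K ⟶ L}
    (h : MIso m α) : MIso m ((DCoh.restrictD j).map α) := by
  obtain ⟨D, g, k, hT, hD⟩ := h
  exact ⟨_, _, _, (DCoh.restrictD j).map_distinguished _ hT, hD.restrict j⟩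

theorem MIso.shift {m : ℤ} {K L : DCoh.D X} {α : K ⟶ L} (h : MIso m α) (n : ℤ) :
    MIso (m - n) (α⟦n⟧') := by
  rw [mIso_iff] at h ⊢
  let e := fun i => Arrow.isoMk
    (f := Arrow.mk ((DerivedCategory.homologyFunctor X.Modules i).map (α⟦n⟧')))
    (g := Arrow.mk ((DerivedCategory.homologyFunctor X.Modules (n + i)).map α))
    (((DerivedCategory.homologyFunctor X.Modules 0).shiftIso n i (n + i) rfl).app K)
    (((DerivedCategory.homologyFunctor X.Modules 0).shiftIso n i (n + i) rfl).app L)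
    (((DerivedCategory.homologyFunctor X.Modules 0).shiftIso n i (n + i) rfl).hom.naturality α).symm
  refine ⟨fun i hi => ((MorphismProperty.isomorphisms _).arrow_mk_iso_iff (e i)).2 (h.1 _ (by omega)),
    ((MorphismProperty.epimorphisms _).arrow_mk_iso_iff (e (m - n))).2 ?_⟩
  rw [add_sub_cancel]
  exact h.2

/-- `m`-approximation by a strictly perfect complex. -/
def PCOn (m : ℤ) (K : DCoh.D U) : Prop :=
  ∃ (E : CochainComplex U.Modules ℤ) (α : DerivedCategory.Q.obj E ⟶ K),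
    DCoh.IsStrictlyPerfect E ∧ MIso m α

/-- Isomorphic to a strictly perfect complex. -/
def PerfOn (K : DCoh.D U) : Prop :=
  ∃ E : CochainComplex U.Modules ℤ, DCoh.IsStrictlyPerfect E ∧
    Nonempty (DerivedCategory.Q.obj E ≅ K)

theorem PCOn.of_iso {m : ℤ} {K L : DCoh.D U} (h : PCOn m K) (e : K ≅ L) : PCOn m L := by
  obtain ⟨E, α, hE, hα⟩ := h
  exact ⟨E, α ≫ e.hom, hE, hα.comp (mIso_of_isIso m e.hom)⟩

theorem PerfOn.of_iso {K L : DCoh.D U} (h : PerfOn K) (e : K ≅ L) : PerfOn L := by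
  obtain ⟨E, hE, ⟨i⟩⟩ := h
  exact ⟨E, hE, ⟨i ≪≫ e⟩⟩

theorem PCOn.mono {m m' : ℤ} {K : DCoh.D U} (h : PCOn m K) (hm : m ≤ m') : PCOn m' K := by
  obtain ⟨E, α, hE, hα⟩ := h
  exact ⟨E, α, hE, hα.mono hm⟩

theorem PerfOn.pcOn {K : DCoh.D U} (h : PerfOn K) (m : ℤ) : PCOn m K := by
  obtain ⟨E, hE, ⟨i⟩⟩ := h
  exact ⟨E, i.hom, hE, mIso_of_isIso m i.hom⟩

theorem PCOn.exists_brutal {m : ℤ} {K : DCoh.D U} (h : PCOn m K) :
    ∃ (E : CochainComplex U.Modules ℤ) (α : DerivedCategory.Q.obj E ⟶ K),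
      DCoh.IsStrictlyPerfect E ∧ (∀ i, i < m → IsZero (E.X i)) ∧ MIso m α := by
  obtain ⟨E, α, hE, hα⟩ := h
  refine ⟨brutalGE E m, DerivedCategory.Q.map (brutalGEι E m) ≫ α, isStrictlyPerfect_brutalGE hE m,
    isZero_brutalGE_X E m, MIso.comp ((mIso_iff m _).2 ⟨fun i hi => ?_, ?_⟩) hα⟩
  · exact (map_homologyFunctor_Q _ i).1.2 (isIso_homologyMap_brutalGEι E m i hi)
  · exact (map_homologyFunctor_Q _ m).2.1.2 (epi_homologyMap_brutalGEι E m)

theorem PCOn.restrict (j : V ⟶ U) [IsOpenImmersion j] {m : ℤ} {K : DCoh.D U} (h : PCOn m K) :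
    PCOn m ((DCoh.restrictD j).obj K) := by
  obtain ⟨E, α, hE, hα⟩ := h
  exact ⟨_, (restrictDQ j E).inv ≫ (DCoh.restrictD j).map α, isStrictlyPerfect_restrict j hE,
    (mIso_of_isIso m _).comp (hα.restrict j)⟩

theorem PerfOn.restrict (j : V ⟶ U) [IsOpenImmersion j] {K : DCoh.D U} (h : PerfOn K) :
    PerfOn ((DCoh.restrictD j).obj K) := by
  obtain ⟨E, hE, ⟨i⟩⟩ := h
  exact ⟨_, isStrictlyPerfect_restrict j hE, ⟨(restrictDQ j E).symm ≪≫ (DCoh.restrictD j).mapIso i⟩⟩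

theorem PCOn.shift {m : ℤ} {K : DCoh.D U} (h : PCOn m K) (n : ℤ) : PCOn (m - n) (K⟦n⟧) := by
  obtain ⟨E, α, hE, hα⟩ := h
  exact ⟨E⟦n⟧, ((DerivedCategory.Q).commShiftIso n).hom.app E ≫ α⟦n⟧', isStrictlyPerfect_shift hE n,
    (mIso_of_isIso _ _).comp (hα.shift n)⟩

theorem PerfOn.shift {K : DCoh.D U} (h : PerfOn K) (n : ℤ) : PerfOn (K⟦n⟧) := by
  obtain ⟨E, hE, ⟨i⟩⟩ := h
  exact ⟨E⟦n⟧, isStrictlyPerfect_shift hE n,
    ⟨((DerivedCategory.Q).commShiftIso n).app E ≪≫ (shiftFunctor (DCoh.D U) n).mapIso i⟩⟩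

theorem pcOn_mono_open {m : ℤ} {K : DCoh.D X} {W V : X.Opens} (h : W ≤ V)
    (hK : PCOn m ((DCoh.restrictD V.ι).obj K)) : PCOn m ((DCoh.restrictD W.ι).obj K) :=
  (hK.restrict (X.homOfLE h)).of_iso ((restrictDLE h).app K).symm

theorem perfOn_mono_open {K : DCoh.D X} {W V : X.Opens} (h : W ≤ V)
    (hK : PerfOn ((DCoh.restrictD V.ι).obj K)) : PerfOn ((DCoh.restrictD W.ι).obj K) :=
  (hK.restrict (X.homOfLE h)).of_iso ((restrictDLE h).app K).symm

theorem isPseudoCoherentD_iff (m : ℤ) (K : DCoh.D X) : DCoh.IsPseudoCoherentD m K ↔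
    ∀ x : X, ∃ V : X.Opens, x ∈ V ∧ PCOn m ((DCoh.restrictD V.ι).obj K) := by
  refine forall_congr' fun x => exists_congr fun V => and_congr_right fun _ => ?_
  constructor
  · intro h
    obtain ⟨E, α, hE, h1, h2⟩ := h _ ⟨DerivedCategory.Q.objObjPreimageIso K⟩
    refine ⟨E, α ≫ (restrictDQ V.ι _).inv ≫
      (DCoh.restrictD V.ι).map (DerivedCategory.Q.objObjPreimageIso K).hom, hE, ?_⟩
    exact ((mIso_iff m α).2 ⟨h1, h2⟩).comp (mIso_of_isIso m _)
  · rintro ⟨E, α, hE, hα⟩ F ⟨e⟩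
    refine ⟨E, α ≫ (DCoh.restrictD V.ι).map e.inv ≫ (restrictDQ V.ι F).hom, hE, ?_⟩
    exact (mIso_iff m _).1 (hα.comp (mIso_of_isIso m _))

theorem isPerfect_iff (K : DCoh.D X) : DCoh.IsPerfect K ↔
    ∀ x : X, ∃ V : X.Opens, x ∈ V ∧ PerfOn ((DCoh.restrictD V.ι).obj K) := by
  refine forall_congr' fun x => exists_congr fun V => and_congr_right fun _ => ?_
  constructor
  · intro h
    obtain ⟨E, hE, ⟨i⟩⟩ := h _ ⟨DerivedCategory.Q.objObjPreimageIso K⟩
    exact ⟨E, hE, ⟨i.symm ≪≫ (restrictDQ V.ι _).symm ≪≫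
      (DCoh.restrictD V.ι).mapIso (DerivedCategory.Q.objObjPreimageIso K)⟩⟩
  · rintro ⟨E, hE, ⟨i⟩⟩ F ⟨e⟩
    exact ⟨E, hE, ⟨(restrictDQ V.ι F).symm ≪≫ (DCoh.restrictD V.ι).mapIso e ≪≫ i.symm⟩⟩

theorem pcOn_opensRange (j : U ⟶ X) [IsOpenImmersion j] {m : ℤ} {K : DCoh.D X}
    (h : PCOn m ((DCoh.restrictD j).obj K)) :
    PCOn m ((DCoh.restrictD j.opensRange.ι).obj K) :=
  (h.restrict j.isoOpensRange.inv).of_iso
    ((restrictDCongr j.isoOpensRange_inv_comp.symm ≪≫ restrictDComp _ j).app K).symm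

theorem perfOn_opensRange (j : U ⟶ X) [IsOpenImmersion j] {K : DCoh.D X}
    (h : PerfOn ((DCoh.restrictD j).obj K)) : PerfOn ((DCoh.restrictD j.opensRange.ι).obj K) :=
  (h.restrict j.isoOpensRange.inv).of_iso
    ((restrictDCongr j.isoOpensRange_inv_comp.symm ≪≫ restrictDComp _ j).app K).symm

/-- Pseudo-coherence is local. -/
theorem isPseudoCoherentD_of_local {m : ℤ} {K : DCoh.D X}
    (h : ∀ x : X, ∃ (U : Scheme.{u}) (j : U ⟶ X) (_ : IsOpenImmersion j) (y : U), j y = x ∧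
      DCoh.IsPseudoCoherentD m ((DCoh.restrictD j).obj K)) : DCoh.IsPseudoCoherentD m K := by
  rw [isPseudoCoherentD_iff]
  intro x
  obtain ⟨U, j, hj, y, rfl, hK⟩ := h x
  obtain ⟨V, hy, hV⟩ := (isPseudoCoherentD_iff m _).1 hK y
  exact ⟨(V.ι ≫ j).opensRange, ⟨⟨y, hy⟩, rfl⟩,
    pcOn_opensRange (V.ι ≫ j) (hV.of_iso ((restrictDComp V.ι j).app K).symm)⟩

/-- Perfectness is local. -/
theorem isPerfect_of_local {K : DCoh.D X}
    (h : ∀ x : X, ∃ (U : Scheme.{u}) (j : U ⟶ X) (_ : IsOpenImmersion j) (y : U), j y = x ∧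
      DCoh.IsPerfect ((DCoh.restrictD j).obj K)) : DCoh.IsPerfect K := by
  rw [isPerfect_iff]
  intro x
  obtain ⟨U, j, hj, y, rfl, hK⟩ := h x
  obtain ⟨V, hy, hV⟩ := (isPerfect_iff _).1 hK y
  exact ⟨(V.ι ≫ j).opensRange, ⟨⟨y, hy⟩, rfl⟩,
    perfOn_opensRange (V.ι ≫ j) (hV.of_iso ((restrictDComp V.ι j).app K).symm)⟩

theorem isPseudoCoherentD_restrict (j : U ⟶ X) [IsOpenImmersion j] {m : ℤ} {K : DCoh.D X}
    (h : DCoh.IsPseudoCoherentD m K) : DCoh.IsPseudoCoherentD m ((DCoh.restrictD j).obj K) := by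
  rw [isPseudoCoherentD_iff] at h ⊢
  intro y
  obtain ⟨V, hy, hV⟩ := h (j y)
  let W : U.Opens := j ⁻¹ᵁ V
  refine ⟨W, hy, PCOn.of_iso ?_ ((restrictDComp W.ι j).app K)⟩
  exact (hV.restrict (j ∣_ V)).of_iso
    (((restrictDComp (j ∣_ V) V.ι).app K).symm ≪≫
      (restrictDCongr (morphismRestrict_ι j V)).app K)

theorem isPerfect_restrict (j : U ⟶ X) [IsOpenImmersion j] {K : DCoh.D X}
    (h : DCoh.IsPerfect K) : DCoh.IsPerfect ((DCoh.restrictD j).obj K) := by
  rw [isPerfect_iff] at h ⊢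
  intro y
  obtain ⟨V, hy, hV⟩ := h (j y)
  refine ⟨j ⁻¹ᵁ V, hy, PerfOn.of_iso ?_ ((restrictDComp (j ⁻¹ᵁ V).ι j).app K)⟩
  exact (hV.restrict (j ∣_ V)).of_iso
    (((restrictDComp (j ∣_ V) V.ι).app K).symm ≪≫
      (restrictDCongr (morphismRestrict_ι j V)).app K)

end Groth.Agent.DCohLib
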