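import Groth.Agent.DCohLib.HDirExact

/-!
# On quasi-coherent modules `Hᵖ(- ⊗ P)` is right exact iff `Hᵖ⁺¹(- ⊗ P)` is left exact
-/

set_option autoImplicit false
set_option backward.isDefEq.respectTransparency false
set_option linter.style.haveILetI false

universe u

open CategoryTheory CategoryTheory.Limits AlgebraicGeometry

noncomputable section

namespace Groth.Agent.DCohLib

variable {Y : Scheme.{u}}

theorem preservesFiniteColimits_qcoh_hT_iff (P : CochainComplex Y.Modules ℤ) (hP : ∀ n, FlatMod.IsFlat (P.X n))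
    (p : ℤ) :
    PreservesFiniteColimits ((QCohCat.isQCoh Y).ι ⋙ hT P p) ↔
      PreservesFiniteLimits ((QCohCat.isQCoh Y).ι ⋙ hT P (p + 1)) := by
  let ι := (QCohCat.isQCoh Y).ι
  rw [Functor.preservesFiniteColimits_iff_forall_exact_map_and_epi,
    Functor.preservesFiniteLimits_iff_forall_exact_map_and_mono]
  refine forall_congr' fun S => forall_congr' fun hS => ?_
  have hG := shortExact_tlF_map hP (hS.map_of_exact ι)
  have hp : (ComplexShape.up ℤ).Rel p (p + 1) := by simp
  refine ⟨fun h => ⟨hG.homology_exact₂ (p + 1), ?_⟩, fun h => ⟨hG.homology_exact₂ p, ?_⟩⟩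
  · haveI : Epi (HomologicalComplex.homologyMap ((S.map ι).map (tlF P)).g p) := h.2
    have hδ : hG.δ p (p + 1) hp = 0 := by
      rw [← cancel_epi (HomologicalComplex.homologyMap ((S.map ι).map (tlF P)).g p), hG.comp_δ, comp_zero]
    exact (hG.homology_exact₁ p (p + 1) hp).mono_g hδ
  · haveI : Mono (HomologicalComplex.homologyMap ((S.map ι).map (tlF P)).f (p + 1)) := h.2
    have hδ : hG.δ p (p + 1) hp = 0 := by
      rw [← cancel_mono (HomologicalComplex.homologyMap ((S.map ι).map (tlF P)).f (p + 1)), hG.δ_comp, zero_comp]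
    exact (hG.homology_exact₃ p (p + 1) hp).epi_f hδ

end Groth.Agent.DCohLib
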