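import Groth.Agent.KFlat.MapTot
import Groth.Agent.KFlat.QuasiIso

/-!
# Comparison maps of total complexes, splittings, and K-injectivity
-/

set_option linter.style.haveILetI false
set_option linter.unusedSectionVars false

universe v₁ v₂ v v' u₁ u₂ u u'

open CategoryTheory Limits HomologicalComplex

noncomputable section

namespace Groth.Agent.KFlat

section Nat

variable {C₁ : Type u₁} [Category.{v₁} C₁] {C₂ : Type u₂} [Category.{v₂} C₂]
  {D : Type u} [Category.{v} D] {D' : Type u'} [Category.{v'} D']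
  [Abelian C₁] [Abelian C₂] [Abelian D] [Abelian D']
  {F : C₁ ⥤ C₂ ⥤ D} [F.Additive] [∀ X, (F.obj X).Additive]
  [∀ (K₁ : CochainComplex C₁ ℤ) (K₂ : CochainComplex C₂ ℤ), CochainComplex.HasMapBifunctor K₁ K₂ F]
  {F' : C₁ ⥤ C₂ ⥤ D'} [F'.Additive] [∀ X, (F'.obj X).Additive]
  [∀ (K₁ : CochainComplex C₁ ℤ) (K₂ : CochainComplex C₂ ℤ), CochainComplex.HasMapBifunctor K₁ K₂ F']
  {G : D ⥤ D'} [G.Additive] (τ : F' ⟶ F ⋙ (Functor.whiskeringRight _ _ _).obj G)
  (L : CochainComplex C₁ ℤ) (K : CochainComplex C₂ ℤ)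

/-- The comparison map given by a natural transformation, in each degree. -/
def mapTotHomX (n : ℤ) : (mapBifunctor L K F' (ComplexShape.up ℤ)).X n ⟶
    G.obj ((mapBifunctor L K F (ComplexShape.up ℤ)).X n) :=
  mapBifunctorDesc fun p q h => (τ.app (L.X p)).app (K.X q) ≫
    G.map (ιMapBifunctor L K F (ComplexShape.up ℤ) p q n h)

theorem ι_mapTotHomX (p q n : ℤ)
    (h : ComplexShape.π (ComplexShape.up ℤ) (ComplexShape.up ℤ) (ComplexShape.up ℤ) (p, q) = n) :
    ιMapBifunctor L K F' (ComplexShape.up ℤ) p q n h ≫ mapTotHomX τ L K n =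
      (τ.app (L.X p)).app (K.X q) ≫ G.map (ιMapBifunctor L K F (ComplexShape.up ℤ) p q n h) :=
  ι_mapBifunctorDesc _ p q h

theorem mapTotHomX_comm (n n' : ℤ) (hn : n + 1 = n') :
    mapTotHomX τ L K n ≫ G.map ((mapBifunctor L K F (ComplexShape.up ℤ)).d n n') =
      (mapBifunctor L K F' (ComplexShape.up ℤ)).d n n' ≫ mapTotHomX τ L K n' := by
  refine mapBifunctor.hom_ext fun p q h => ?_
  have h' : p + q = n := h
  have hp : (p + 1) + q = n' := by omega
  have hq : p + (q + 1) = n' := by omega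
  rw [← Category.assoc, ι_mapTotHomX, Category.assoc, ← G.map_comp, mapBifunctor.d_eq,
    mapBifunctor.d_eq, Preadditive.comp_add, mapBifunctor.ι_D₁, mapBifunctor.ι_D₂,
    Preadditive.add_comp, Preadditive.comp_add, mapBifunctor.ι_D₁_assoc, mapBifunctor.ι_D₂_assoc,
    mapBifunctor.d₁_eq L K F (ComplexShape.up ℤ) (i₁' := p + 1) rfl q n' hp,
    mapBifunctor.d₂_eq L K F (ComplexShape.up ℤ) p (i₂' := q + 1) rfl n' hq,
    mapBifunctor.d₁_eq L K F' (ComplexShape.up ℤ) (i₁' := p + 1) rfl q n' hp,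
    mapBifunctor.d₂_eq L K F' (ComplexShape.up ℤ) p (i₂' := q + 1) rfl n' hq]
  simp only [G.map_add, Preadditive.comp_add, Linear.units_smul_comp, Category.assoc, ι_mapTotHomX,
    Units.smul_def, G.map_zsmul, Preadditive.comp_zsmul, Preadditive.zsmul_comp]
  refine congrArg₂ (· + ·) (congrArg _ ?_) (congrArg _ ?_)
  · rw [G.map_comp, ← Category.assoc, ← Category.assoc]
    exact congrArg (· ≫ _) (congr_app (τ.naturality (L.d p (p + 1))) (K.X q)).symm
  · rw [G.map_comp, ← Category.assoc, ← Category.assoc]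
    exact congrArg (· ≫ _) ((τ.app (L.X p)).naturality (K.d q (q + 1))).symm

/-- The comparison map of total complexes given by a natural transformation. -/
def mapTotHom : (tot F' L).obj K ⟶ (G.mapHomologicalComplex (ComplexShape.up ℤ)).obj ((tot F L).obj K) where
  f := mapTotHomX τ L K
  comm' n n' hn := mapTotHomX_comm τ L K n n' hn

theorem mapTotHom_natural {K K' : CochainComplex C₂ ℤ} (ψ : K ⟶ K') :
    (tot F' L).map ψ ≫ mapTotHom τ L K' =
      mapTotHom τ L K ≫ (G.mapHomologicalComplex (ComplexShape.up ℤ)).map ((tot F L).map ψ) := by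
  refine HomologicalComplex.hom_ext _ _ fun n => mapBifunctor.hom_ext fun p q h => ?_
  show ιMapBifunctor L K F' _ p q n h ≫ (mapBifunctorMap (𝟙 L) ψ F' (ComplexShape.up ℤ)).f n ≫ mapTotHomX τ L K' n =
    ιMapBifunctor L K F' _ p q n h ≫ mapTotHomX τ L K n ≫ G.map ((mapBifunctorMap (𝟙 L) ψ F (ComplexShape.up ℤ)).f n)
  rw [ι_mapBifunctorMap_assoc, ι_mapTotHomX, ← Category.assoc (ιMapBifunctor L K F' _ p q n h), ι_mapTotHomX,
    Category.assoc, ← G.map_comp, ι_mapBifunctorMap]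
  simp only [HomologicalComplex.id_f, CategoryTheory.Functor.map_id, NatTrans.id_app, Category.id_comp, G.map_comp]
  rw [← Category.assoc, ← Category.assoc]
  exact congrArg (· ≫ _) ((τ.app (L.X p)).naturality (ψ.f q))

open Classical in
/-- An additive functor preserves coproducts with finitely many nonzero summands. -/
theorem isIso_sigmaComparison_of_finite {ι : Type} (H : D ⥤ D') [H.Additive] (f : ι → D) [HasCoproduct f]
    [HasCoproduct fun i => H.obj (f i)] (s : Finset ι) (hs : ∀ i ∉ s, IsZero (f i)) :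
    IsIso (sigmaComparison H f) := by
  have key : ∀ {T : D'} (g : ∀ i, H.obj (f i) ⟶ T) (i : ι),
      H.map (Sigma.ι f i) ≫ (∑ j ∈ s, H.map (Sigma.π f j) ≫ g j) = g i := by
    intro T g i
    by_cases hi : i ∈ s
    · rw [Preadditive.comp_sum, Finset.sum_eq_single i]
      · rw [← Category.assoc, ← H.map_comp, Sigma.ι_π_eq_id, H.map_id, Category.id_comp]
      · intro j _ hj
        rw [← Category.assoc, ← H.map_comp, Sigma.ι_π_of_ne f (Ne.symm hj), H.map_zero, zero_comp]
      · exact fun h => absurd hi h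
    · exact (H.map_isZero (hs i hi)).eq_of_src _ _
  have h1 : 𝟙 (∐ f) = ∑ j ∈ s, Sigma.π f j ≫ Sigma.ι f j := by
    refine Sigma.hom_ext _ _ fun i => ?_
    by_cases hi : i ∈ s
    · rw [Category.comp_id, Preadditive.comp_sum, Finset.sum_eq_single i]
      · rw [← Category.assoc, Sigma.ι_π_eq_id, Category.id_comp]
      · intro j _ hj
        rw [← Category.assoc, Sigma.ι_π_of_ne f (Ne.symm hj), zero_comp]
      · exact fun h => absurd hi h
    · exact (hs i hi).eq_of_src _ _
  refine ⟨∑ j ∈ s, H.map (Sigma.π f j) ≫ Sigma.ι (fun i => H.obj (f i)) j, ?_, ?_⟩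
  · refine Sigma.hom_ext _ _ fun i => ?_
    rw [ι_comp_sigmaComparison_assoc, key, Category.comp_id]
  · rw [Preadditive.sum_comp, ← H.map_id, h1, H.map_sum]
    refine Finset.sum_congr rfl fun j _ => ?_
    rw [Category.assoc, ι_comp_sigmaComparison, H.map_comp]

/-- After a colimit-preserving functor, the comparison map is an isomorphism if it is one on the summands
and the second complex is bounded. -/
theorem isIso_map_mapTotHom {E : Type*} [Category E] [Abelian E] (R : D' ⥤ E) [R.Additive]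
    [∀ n : ℤ, PreservesColimitsOfShape (Discrete (Idx n)) R]
    [∀ n : ℤ, HasColimitsOfShape (Discrete (Idx n)) D] [∀ n : ℤ, HasColimitsOfShape (Discrete (Idx n)) D']
    [∀ n : ℤ, HasColimitsOfShape (Discrete (Idx n)) E]
    (a b : ℤ) (hK : ∀ q, q < a ∨ b < q → IsZero (K.X q))
    (h : ∀ p q, IsIso (R.map ((τ.app (L.X p)).app (K.X q)))) :
    IsIso ((R.mapHomologicalComplex (ComplexShape.up ℤ)).map (mapTotHom τ L K)) := by
  haveI : ∀ n, IsIso (((R.mapHomologicalComplex (ComplexShape.up ℤ)).map (mapTotHom τ L K)).f n) := fun n => by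
    show IsIso (R.map (mapTotHomX τ L K n))
    let f : Idx n → D := fun i => (F.obj (L.X i.1.1)).obj (K.X i.1.2)
    let f' : Idx n → D' := fun i => (F'.obj (L.X i.1.1)).obj (K.X i.1.2)
    let α : ∀ i : Idx n, R.obj (f' i) ≅ R.obj (G.obj (f i)) := fun i =>
      @asIso _ _ _ _ (R.map ((τ.app (L.X i.1.1)).app (K.X i.1.2))) (h _ _)
    let s : Finset (Idx n) := (Finset.Icc a b).image fun q => ⟨(n - q, q), by
      show n - q + q = n
      omega⟩
    have hs : ∀ i ∉ s, IsZero (f i) := fun i hi => by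
      refine (F.obj (L.X i.1.1)).map_isZero (hK i.1.2 ?_)
      by_contra hb
      apply hi
      simp only [s, Finset.mem_image, Finset.mem_Icc]
      refine ⟨i.1.2, by omega, Subtype.ext (Prod.ext ?_ rfl)⟩
      have := i.2
      simp only [Set.mem_preimage, Set.mem_singleton_iff, ComplexShape.π] at this ⊢
      change i.1.1 + i.1.2 = n at this
      show n - i.1.2 = i.1.1
      omega
    haveI h1 : IsIso (sigmaComparison R f') := Iso.isIso_inv (PreservesCoproduct.iso R f')
    haveI h2 : IsIso (sigmaComparison (G ⋙ R) f) := isIso_sigmaComparison_of_finite (G ⋙ R) f s hs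
    have : sigmaComparison R f' ≫ R.map (mapTotHomX τ L K n) =
        (Limits.Sigma.mapIso α).hom ≫ sigmaComparison (G ⋙ R) f := by
      refine Sigma.hom_ext _ _ fun i => ?_
      refine Eq.trans ?_ (Limits.Sigma.ι_mapIso_hom_assoc α i _).symm
      refine Eq.trans ?_ (congrArg (_ ≫ ·) (ι_comp_sigmaComparison (G ⋙ R) f i)).symm
      refine (Category.assoc _ _ _).symm.trans ((congrArg (· ≫ _) (ι_comp_sigmaComparison R f' i)).trans ?_)
      refine (R.map_comp _ _).symm.trans ((congrArg R.map (ι_mapTotHomX τ L K i.1.1 i.1.2 n i.2)).trans ?_)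
      exact R.map_comp _ _
    exact @IsIso.of_isIso_fac_left _ _ _ _ _ _ _ _ h1 (IsIso.comp_isIso' (Iso.isIso_hom _) h2) this
  exact HomologicalComplex.Hom.isIso_of_components _

end Nat

section Split

variable {C₁ : Type u₁} [Category.{v₁} C₁] {C₂ : Type u₂} [Category.{v₂} C₂]
  {D : Type u} [Category.{v} D] [Abelian C₁] [Abelian C₂] [Abelian D]
  (F : C₁ ⥤ C₂ ⥤ D) [F.Additive] [∀ X, (F.obj X).Additive]
  [∀ (K₁ : CochainComplex C₁ ℤ) (K₂ : CochainComplex C₂ ℤ), CochainComplex.HasMapBifunctor K₁ K₂ F]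
  (L : CochainComplex C₁ ℤ) (S : ShortComplex (CochainComplex C₂ ℤ))

theorem ι_totMap {K K' : CochainComplex C₂ ℤ} (φ : K ⟶ K') (p q n : ℤ)
    (h : ComplexShape.π (ComplexShape.up ℤ) (ComplexShape.up ℤ) (ComplexShape.up ℤ) (p, q) = n) :
    ιMapBifunctor L K F (ComplexShape.up ℤ) p q n h ≫ (mapBifunctorMap (𝟙 L) φ F (ComplexShape.up ℤ)).f n =
      (F.obj (L.X p)).map (φ.f q) ≫ ιMapBifunctor L K' F (ComplexShape.up ℤ) p q n h := by
  rw [ι_mapBifunctorMap]
  simp only [HomologicalComplex.id_f, CategoryTheory.Functor.map_id, NatTrans.id_app, Category.id_comp]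

/-- A degreewise map of the second complex induces a degreewise map of total complexes. -/
def totDeg {K K' : CochainComplex C₂ ℤ} (φ : ∀ q, K.X q ⟶ K'.X q) (n : ℤ) :
    (mapBifunctor L K F (ComplexShape.up ℤ)).X n ⟶ (mapBifunctor L K' F (ComplexShape.up ℤ)).X n :=
  mapBifunctorDesc fun p q h => (F.obj (L.X p)).map (φ q) ≫ ιMapBifunctor L K' F _ p q n h

theorem ι_totDeg {K K' : CochainComplex C₂ ℤ} (φ : ∀ q, K.X q ⟶ K'.X q) (p q n : ℤ)
    (h : ComplexShape.π (ComplexShape.up ℤ) (ComplexShape.up ℤ) (ComplexShape.up ℤ) (p, q) = n) :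
    ιMapBifunctor L K F (ComplexShape.up ℤ) p q n h ≫ totDeg F L φ n =
      (F.obj (L.X p)).map (φ q) ≫ ιMapBifunctor L K' F (ComplexShape.up ℤ) p q n h :=
  ι_mapBifunctorDesc _ p q h

theorem totDeg_add {K K' : CochainComplex C₂ ℤ} (φ ψ : ∀ q, K.X q ⟶ K'.X q) (n : ℤ) :
    totDeg F L φ n + totDeg F L ψ n = totDeg F L (fun q => φ q + ψ q) n :=
  mapBifunctor.hom_ext fun p q h => by
    rw [Preadditive.comp_add, ι_totDeg, ι_totDeg, ι_totDeg, Functor.map_add, Preadditive.add_comp]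

theorem totDeg_comp {K K' K'' : CochainComplex C₂ ℤ} (φ : ∀ q, K.X q ⟶ K'.X q) (ψ : ∀ q, K'.X q ⟶ K''.X q) (n : ℤ) :
    totDeg F L φ n ≫ totDeg F L ψ n = totDeg F L (fun q => φ q ≫ ψ q) n :=
  mapBifunctor.hom_ext fun p q h => by
    rw [← Category.assoc, ι_totDeg, Category.assoc, ι_totDeg, ι_totDeg, Functor.map_comp, Category.assoc]

theorem totDeg_id {K : CochainComplex C₂ ℤ} (n : ℤ) :
    totDeg F L (fun q => 𝟙 (K.X q)) n = 𝟙 _ :=
  mapBifunctor.hom_ext fun p q h => by
    rw [ι_totDeg, CategoryTheory.Functor.map_id, Category.id_comp, Category.comp_id]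

theorem totMap_eq {K K' : CochainComplex C₂ ℤ} (φ : K ⟶ K') (n : ℤ) :
    (mapBifunctorMap (𝟙 L) φ F (ComplexShape.up ℤ)).f n = totDeg F L φ.f n :=
  mapBifunctor.hom_ext fun p q h => by rw [ι_totMap, ι_totDeg]

/-- Total complexes preserve degreewise splittings. -/
def totSplitting (σ : ∀ q, (S.map (HomologicalComplex.eval C₂ (ComplexShape.up ℤ) q)).Splitting) (n : ℤ) :
    ((S.map (tot F L)).map (HomologicalComplex.eval D (ComplexShape.up ℤ) n)).Splitting where
  r := totDeg F L (fun q => (σ q).r) n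
  s := totDeg F L (fun q => (σ q).s) n
  f_r := ((congrArg (· ≫ totDeg F L _ n) (totMap_eq F L S.f n)).trans (totDeg_comp F L _ _ n)).trans
    ((congrArg (fun φ => totDeg F L φ n) (funext fun q => (σ q).f_r)).trans (totDeg_id F L n))
  s_g := ((congrArg (totDeg F L _ n ≫ ·) (totMap_eq F L S.g n)).trans (totDeg_comp F L _ _ n)).trans
    ((congrArg (fun φ => totDeg F L φ n) (funext fun q => (σ q).s_g)).trans (totDeg_id F L n))
  id := (congrArg₂ (· + ·) ((congrArg (totDeg F L _ n ≫ ·) (totMap_eq F L S.f n)).trans (totDeg_comp F L _ _ n))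
      ((congrArg (· ≫ totDeg F L _ n) (totMap_eq F L S.g n)).trans (totDeg_comp F L _ _ n))).trans
    ((totDeg_add F L _ _ n).trans
      ((congrArg (fun φ => totDeg F L φ n) (funext fun q => (σ q).id)).trans (totDeg_id F L n)))

variable {C₀ : Type*} [Category C₀] [Abelian C₀]

theorem tot_map_left (G : C₀ ⥤ C₁) [G.Additive] [∀ X, ((G ⋙ F).obj X).Additive]
    [∀ (K₁ : CochainComplex C₀ ℤ) (K₂ : CochainComplex C₂ ℤ), CochainComplex.HasMapBifunctor K₁ K₂ (G ⋙ F)]
    (L : CochainComplex C₀ ℤ) {K K' : CochainComplex C₂ ℤ} (ψ : K ⟶ K') :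
    (tot (G ⋙ F) L).map ψ = (tot F ((G.mapHomologicalComplex (ComplexShape.up ℤ)).obj L)).map ψ :=
  HomologicalComplex.hom_ext _ _ fun n => mapBifunctor.hom_ext fun p q h =>
    (ι_totMap (G ⋙ F) L ψ p q n h).trans
      (ι_totMap F ((G.mapHomologicalComplex (ComplexShape.up ℤ)).obj L) ψ p q n h).symm

theorem tot_map_right (G : C₀ ⥤ C₂) [G.Additive]
    [∀ X, ((F ⋙ (Functor.whiskeringLeft _ _ _).obj G).obj X).Additive]
    [∀ (K₁ : CochainComplex C₁ ℤ) (K₂ : CochainComplex C₀ ℤ),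
      CochainComplex.HasMapBifunctor K₁ K₂ (F ⋙ (Functor.whiskeringLeft _ _ _).obj G)]
    {K K' : CochainComplex C₀ ℤ} (ψ : K ⟶ K') :
    (tot (F ⋙ (Functor.whiskeringLeft _ _ _).obj G) L).map ψ =
      (tot F L).map ((G.mapHomologicalComplex (ComplexShape.up ℤ)).map ψ) :=
  HomologicalComplex.hom_ext _ _ fun n => mapBifunctor.hom_ext fun p q h =>
    (ι_totMap (F ⋙ (Functor.whiskeringLeft _ _ _).obj G) L ψ p q n h).trans
      (ι_totMap F L ((G.mapHomologicalComplex (ComplexShape.up ℤ)).map ψ) p q n h).symm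

theorem tot_map_both {C₀' : Type*} [Category C₀'] [Abelian C₀'] (G : C₀ ⥤ C₁) (G' : C₀' ⥤ C₂) [G.Additive] [G'.Additive]
    [∀ X, ((G ⋙ F ⋙ (Functor.whiskeringLeft _ _ _).obj G').obj X).Additive]
    [∀ (K₁ : CochainComplex C₀ ℤ) (K₂ : CochainComplex C₀' ℤ),
      CochainComplex.HasMapBifunctor K₁ K₂ (G ⋙ F ⋙ (Functor.whiskeringLeft _ _ _).obj G')]
    (L : CochainComplex C₀ ℤ) {K K' : CochainComplex C₀' ℤ} (ψ : K ⟶ K') :
    (tot (G ⋙ F ⋙ (Functor.whiskeringLeft _ _ _).obj G') L).map ψ =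
      (tot F ((G.mapHomologicalComplex (ComplexShape.up ℤ)).obj L)).map
        ((G'.mapHomologicalComplex (ComplexShape.up ℤ)).map ψ) :=
  HomologicalComplex.hom_ext _ _ fun n => mapBifunctor.hom_ext fun p q h =>
    (ι_totMap (G ⋙ F ⋙ (Functor.whiskeringLeft _ _ _).obj G') L ψ p q n h).trans
      (ι_totMap F ((G.mapHomologicalComplex (ComplexShape.up ℤ)).obj L) ((G'.mapHomologicalComplex (ComplexShape.up ℤ)).map ψ) p q n h).symm

section Left

variable {C₀ C₀' : Type*} [Category C₀] [Abelian C₀] [Category C₀'] [Abelian C₀'] (G : C₀ ⥤ C₁) (G' : C₀' ⥤ C₂)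
  [G.Additive] [G'.Additive] [∀ X, ((G ⋙ F ⋙ (Functor.whiskeringLeft _ _ _).obj G').obj X).Additive]
  [∀ (K₁ : CochainComplex C₀ ℤ) (K₂ : CochainComplex C₀' ℤ),
    CochainComplex.HasMapBifunctor K₁ K₂ (G ⋙ F ⋙ (Functor.whiskeringLeft _ _ _).obj G')]

theorem map₂_map_both {L L' : CochainComplex C₀ ℤ} (φ : L ⟶ L') (N : CochainComplex C₀' ℤ) :
    ((G ⋙ F ⋙ (Functor.whiskeringLeft _ _ _).obj G').map₂CochainComplex.map φ).app N =
      (F.map₂CochainComplex.map ((G.mapHomologicalComplex (ComplexShape.up ℤ)).map φ)).app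
        ((G'.mapHomologicalComplex (ComplexShape.up ℤ)).obj N) :=
  HomologicalComplex.hom_ext _ _ fun n => mapBifunctor.hom_ext fun p q h => by
    refine (ι_mapBifunctorMap φ (𝟙 N) (G ⋙ F ⋙ (Functor.whiskeringLeft _ _ _).obj G') _ p q n h).trans ?_
    refine Eq.trans ?_ (ι_mapBifunctorMap ((G.mapHomologicalComplex (ComplexShape.up ℤ)).map φ)
      (𝟙 ((G'.mapHomologicalComplex (ComplexShape.up ℤ)).obj N)) F _ p q n h).symm
    simp only [HomologicalComplex.id_f, CategoryTheory.Functor.map_id, Category.id_comp]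
    rfl

end Left

end Split

section KInjective

variable {A : Type u} [Category.{v} A] [Abelian A]

/-- An extension of K-injective complexes that splits in each degree is K-injective. -/
theorem isKInjective_of_degreewiseSplit (S : ShortComplex (CochainComplex A ℤ))
    (σ : ∀ n, (S.map (HomologicalComplex.eval A (ComplexShape.up ℤ) n)).Splitting)
    (h₁ : CochainComplex.IsKInjective S.X₁) (h₃ : CochainComplex.IsKInjective S.X₃) :
    CochainComplex.IsKInjective S.X₂ := by
  rw [CochainComplex.isKInjective_iff_rightOrthogonal] at h₁ h₃ ⊢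
  exact ObjectProperty.ext_of_isTriangulatedClosed₂ _ (CochainComplex.trianglehOfDegreewiseSplit S σ)
    ((HomotopyCategory.distinguished_iff_iso_trianglehOfDegreewiseSplit _).2 ⟨S, σ, ⟨Iso.refl _⟩⟩) h₁ h₃

end KInjective

end Groth.Agent.KFlat
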